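import Groth.Prelude.Def_Coh

/-!
# `H^0(X, M) ≅ Γ(X, M)` linearly (helper17)
-/

set_option autoImplicit false
universe u
open CategoryTheory CategoryTheory.Limits AlgebraicGeometry TopologicalSpace Opposite

namespace Groth.Agent.Lib.Helper17.HZero

variable {X : Scheme.{u}} (M : X.Modules)

/-- `H^0(X, M) ≃+ Γ(X, M)`. -/
noncomputable def hh0Equiv : Coh.HH X M 0 ≃+ Γ(M, ⊤) :=
  CategoryTheory.Sheaf.H.equiv₀ (Coh.toAb M)
    (CategoryTheory.Limits.isTerminalTop (α := TopologicalSpace.Opens X))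

theorem hh0Equiv_smul (ρ : Coh.Γtop X) (x : Coh.HH X M 0) :
    hh0Equiv M (ρ • x) =
      @HSMul.hSMul (X.ringCatSheaf.obj.obj (op ⊤)) (M.val.obj (op ⊤)) (M.val.obj (op ⊤)) _ ρ
        (hh0Equiv M x) := by
  have h1 : ρ • x = Sheaf.H.map (Coh.smulAb M ρ) 0 x := rfl
  rw [h1]
  have h2 := CategoryTheory.Sheaf.H.equiv₀_naturality
    (CategoryTheory.Limits.isTerminalTop (α := TopologicalSpace.Opens X)) (Coh.smulAb M ρ) x
  refine h2.symm.trans ?_
  refine (Coh.smulAb_app M ρ (op ⊤) _).trans ?_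
  have h3 : Coh.resTop X (op ⊤) ρ = ρ := by
    change (X.ringCatSheaf.obj.map (𝟙 (op (⊤ : Opens X)))).hom ρ = ρ
    rw [CategoryTheory.Functor.map_id]
    rfl
  rw [h3]
  rfl

end Groth.Agent.Lib.Helper17.HZero
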