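import Groth.Agent.Lib.Helper17.VeryAmpleRel

/-!
# Projective space over a base is proper (helper17)
-/

set_option autoImplicit false
set_option linter.unusedSectionVars false
set_option linter.style.haveILetI false
universe u
open AlgebraicGeometry CategoryTheory Limits TopologicalSpace Opposite

namespace Groth.Agent.Lib.Helper17.ProjSpaceProper

theorem isScalarTower_polyGrading (n : ℕ) (R : Type u) [CommRing R] :
    IsScalarTower R (CohB1.polyGrading n R 0) (MvPolynomial (Fin (n+1)) R) :=
  IsScalarTower.of_algebraMap_eq (R := R) (S := CohB1.polyGrading n R 0)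
    (A := MvPolynomial (Fin (n+1)) R) (fun _ => rfl)

theorem finiteType_polyGrading_zero (n : ℕ) (R : Type u) [CommRing R] :
    Algebra.FiniteType (CohB1.polyGrading n R 0) (MvPolynomial (Fin (n+1)) R) := by
  have : Algebra.FiniteType R (MvPolynomial (Fin (n+1)) R) := inferInstance
  have := isScalarTower_polyGrading n R
  exact Algebra.FiniteType.of_restrictScalars_finiteType R _ _

theorem algebraMap_polyGrading_zero_surjective (n : ℕ) (R : Type u) [CommRing R] :
    Function.Surjective (algebraMap R ↥(CohB1.polyGrading n R 0)) := by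
  rintro ⟨p, hp⟩
  have hp' : p.IsHomogeneous 0 := hp
  refine ⟨p.coeff 0, Subtype.ext ?_⟩
  change MvPolynomial.C (p.coeff 0) = p
  by_cases h0 : p = 0
  · simp [h0]
  · have := hp'.totalDegree h0
    exact (MvPolynomial.totalDegree_eq_zero_iff_eq_C.mp this).symm

/-- `P^n_R ⟶ Spec R` is proper. -/
theorem isProper_toSpec (n : ℕ) (R : Type u) [CommRing R] :
    IsProper (CohB1.ProjSpace.toSpec n R) := by
  unfold CohB1.ProjSpace.toSpec
  haveI := finiteType_polyGrading_zero n R
  have h1 : IsProper (Proj.toSpecZero (CohB1.polyGrading n R)) := inferInstance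
  have h2 : IsClosedImmersion (Spec.map (CommRingCat.ofHom
      (algebraMap R ↥(CohB1.polyGrading n R 0)))) :=
    IsClosedImmersion.spec_of_surjective _ (algebraMap_polyGrading_zero_surjective n R)
  have h3 : IsProper (Spec.map (CommRingCat.ofHom
      (algebraMap R ↥(CohB1.polyGrading n R 0)))) := inferInstance
  exact MorphismProperty.comp_mem _ _ _ h1 h3

/-- `P^n_S ⟶ S` is proper. -/
theorem isProper_toBase (n : ℕ) (S : Scheme.{u}) :
    IsProper (CohB1.ProjSpaceOver.toBase n S) := by
  unfold CohB1.ProjSpaceOver.toBase
  exact MorphismProperty.pullback_snd _ _ (isProper_toSpec n _)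

end Groth.Agent.Lib.Helper17.ProjSpaceProper
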