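import Groth.Prelude.Def_CohB1
import Mathlib.AlgebraicGeometry.Morphisms.UnderlyingMap
import Mathlib.AlgebraicGeometry.Morphisms.IsIso

/-! Helper lemmas about `CohB1.ProjSpace` (helper17). Only append to this file. -/

set_option autoImplicit false
universe u
open CategoryTheory CategoryTheory.Limits AlgebraicGeometry HomogeneousLocalization

namespace Groth.Agent.Lib.Helper17

section
variable (n : ℕ) (R : Type u) [CommRing R]

/-- The first coordinate `T₀`. -/
noncomputable abbrev T0 : MvPolynomial (Fin (n + 1)) R := MvPolynomial.X 0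

theorem T0_mem : T0 n R ∈ CohB1.polyGrading n R 1 := MvPolynomial.isHomogeneous_X R 0

/-- Evaluation at `(1, …, 1)`. -/
noncomputable abbrev ev1 : MvPolynomial (Fin (n + 1)) R →+* R := MvPolynomial.eval (fun _ => 1)

theorem ev1_T0_isUnit : IsUnit (ev1 n R (T0 n R)) := by simp [ev1, T0]

/-- The retraction `R[T]_(T₀) → R` given by evaluation at `(1, …, 1)`. -/
noncomputable def awayRetr : Away (CohB1.polyGrading n R) (T0 n R) →+* R :=
  (IsLocalization.Away.lift (S := Localization.Away (T0 n R)) (T0 n R) (g := ev1 n R)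
    (ev1_T0_isUnit n R)).comp
    (algebraMap (Away (CohB1.polyGrading n R) (T0 n R)) (Localization.Away (T0 n R)))

theorem awayRetr_comp :
    (awayRetr n R).comp ((fromZeroRingHom (CohB1.polyGrading n R) (Submonoid.powers (T0 n R))).comp
      (algebraMap R (CohB1.polyGrading n R 0))) = RingHom.id R := by
  ext r
  simp only [awayRetr, RingHom.comp_apply, RingHom.id_apply]
  have h1 : algebraMap (Away (CohB1.polyGrading n R) (T0 n R)) (Localization.Away (T0 n R))
      (fromZeroRingHom (CohB1.polyGrading n R) (Submonoid.powers (T0 n R))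
        (algebraMap R (CohB1.polyGrading n R 0) r)) =
      algebraMap (MvPolynomial (Fin (n + 1)) R) (Localization.Away (T0 n R))
        (MvPolynomial.C r) := by
    rw [HomogeneousLocalization.algebraMap_apply]
    change Localization.mk (MvPolynomial.C r) (1 : Submonoid.powers (T0 n R)) = _
    rw [Localization.mk_one_eq_algebraMap]
  rw [h1, IsLocalization.Away.lift_eq]
  simp [ev1]

/-- A section of the structure morphism of projective space. -/
noncomputable def projSpaceSection' : Spec (CommRingCat.of R) ⟶ Proj (CohB1.polyGrading n R) :=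
  Spec.map (CommRingCat.ofHom (awayRetr n R)) ≫
    Proj.awayι (CohB1.polyGrading n R) (T0 n R) (T0_mem n R) one_pos

theorem projSpaceSection'_toSpec : projSpaceSection' n R ≫
    (Proj.toSpecZero (CohB1.polyGrading n R) ≫
      Spec.map (CommRingCat.ofHom (algebraMap R (CohB1.polyGrading n R 0)))) = 𝟙 _ := by
  rw [projSpaceSection', Category.assoc, Proj.awayι_toSpecZero_assoc,
    ← Spec.map_comp, ← Spec.map_comp, ← CommRingCat.ofHom_comp, ← CommRingCat.ofHom_comp,
    awayRetr_comp]
  simp

/-- A section of the structure morphism of projective space. -/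
noncomputable def projSpaceSection : Spec (CommRingCat.of R) ⟶ CohB1.ProjSpace n R :=
  projSpaceSection' n R

theorem projSpaceSection_toSpec : projSpaceSection n R ≫ CohB1.ProjSpace.toSpec n R = 𝟙 _ :=
  projSpaceSection'_toSpec n R

instance projSpace_toSpec_surjective : Surjective (CohB1.ProjSpace.toSpec n R) := by
  have : Surjective (projSpaceSection n R ≫ CohB1.ProjSpace.toSpec n R) := by
    rw [projSpaceSection_toSpec]; infer_instance
  exact Surjective.of_comp (projSpaceSection n R) _

end

section
variable (R : Type u) [CommRing R]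

/-- A homogeneous polynomial of degree `k` in one variable is `c * T₀ ^ k`. -/
theorem eq_C_mul_X_pow_of_mem {k : ℕ} {p : MvPolynomial (Fin 1) R}
    (hp : p ∈ CohB1.polyGrading 0 R k) :
    p = MvPolynomial.C (MvPolynomial.coeff (Finsupp.single 0 k) p) * T0 0 R ^ k := by
  have hp' : p.IsHomogeneous k := hp
  ext d
  rw [T0, MvPolynomial.X_pow_eq_monomial, MvPolynomial.C_mul_monomial, mul_one,
    MvPolynomial.coeff_monomial]
  split_ifs with h
  · rw [h]
  · apply hp'.coeff_eq_zero
    intro hd
    apply h
    ext i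
    have hi : i = 0 := Fin.fin_one_eq_zero i
    subst hi
    rw [Finsupp.single_eq_same, ← hd, Finsupp.degree_eq_sum]
    simp

theorem irrelevant_le_span_T0 :
    (HomogeneousIdeal.irrelevant (CohB1.polyGrading 0 R)).toIdeal ≤
      Ideal.span (Set.range fun _ : Unit => T0 0 R) := by
  rw [HomogeneousIdeal.toIdeal_irrelevant_le]
  intro i hi p hp
  have hp' : p ∈ CohB1.polyGrading 0 R i := hp
  rw [eq_C_mul_X_pow_of_mem R hp']
  obtain ⟨j, rfl⟩ : ∃ j, i = j + 1 := ⟨i - 1, by omega⟩
  rw [pow_succ, ← mul_assoc]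
  exact Ideal.mul_mem_left _ _ (Ideal.subset_span ⟨(), rfl⟩)

theorem basicOpen_T0_eq_top : Proj.basicOpen (CohB1.polyGrading 0 R) (T0 0 R) = ⊤ := by
  have := Proj.iSup_basicOpen_eq_top (CohB1.polyGrading 0 R) (fun _ : Unit => T0 0 R)
    (irrelevant_le_span_T0 R)
  simpa using this

instance isIso_awayι_T0 :
    IsIso (Proj.awayι (CohB1.polyGrading 0 R) (T0 0 R) (T0_mem 0 R) one_pos) := by
  rw [isIso_iff_isOpenImmersion_and_surjective]
  refine ⟨inferInstance, ⟨?_⟩⟩
  rw [← Set.range_eq_univ]
  have h := Proj.opensRange_awayι (CohB1.polyGrading 0 R) (T0 0 R) (T0_mem 0 R) one_pos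
  rw [basicOpen_T0_eq_top] at h
  exact congrArg (fun U : (Proj (CohB1.polyGrading 0 R)).Opens =>
    (U : Set (Proj (CohB1.polyGrading 0 R)))) h

/-- The structure map `R → R[T₀]_(T₀)`. -/
noncomputable def toAway0 : R →+* Away (CohB1.polyGrading 0 R) (T0 0 R) :=
  (fromZeroRingHom (CohB1.polyGrading 0 R) (Submonoid.powers (T0 0 R))).comp
      (algebraMap R (CohB1.polyGrading 0 R 0))

theorem toAway0_bijective : Function.Bijective (toAway0 R) := by
  constructor
  · intro a b hab
    have := congrArg (awayRetr 0 R) hab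
    have h := awayRetr_comp 0 R
    have ha := congrArg (fun φ => φ a) h
    have hb := congrArg (fun φ => φ b) h
    simp only [RingHom.comp_apply, RingHom.id_apply] at ha hb
    rw [← ha, ← hb]
    exact this
  · intro x
    obtain ⟨k, a, ha, rfl⟩ := Away.mk_surjective (CohB1.polyGrading 0 R) (T0_mem 0 R) x
    have ha' : a ∈ CohB1.polyGrading 0 R k := by simpa using ha
    refine ⟨MvPolynomial.coeff (Finsupp.single 0 k) a, ?_⟩
    apply HomogeneousLocalization.val_injective
    rw [Away.val_mk]
    change Localization.mk (MvPolynomial.C _) (1 : Submonoid.powers (T0 0 R)) = _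
    rw [Localization.mk_eq_mk_iff, Localization.r_iff_exists]
    refine ⟨1, ?_⟩
    simp only [OneMemClass.coe_one, one_mul]
    conv_rhs => rw [eq_C_mul_X_pow_of_mem R ha']
    ring

theorem isIso_projSpace_zero_toSpec : IsIso (CohB1.ProjSpace.toSpec 0 R) := by
  have h1 : Proj.awayι (CohB1.polyGrading 0 R) (T0 0 R) (T0_mem 0 R) one_pos ≫
      (Proj.toSpecZero (CohB1.polyGrading 0 R) ≫
        Spec.map (CommRingCat.ofHom (algebraMap R (CohB1.polyGrading 0 R 0)))) =
      Spec.map (CommRingCat.ofHom (toAway0 R)) := by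
    rw [Proj.awayι_toSpecZero_assoc, ← Spec.map_comp, ← CommRingCat.ofHom_comp]
    rfl
  have h2 : IsIso (CommRingCat.ofHom (toAway0 R)) := by
    rw [ConcreteCategory.isIso_iff_bijective]
    exact toAway0_bijective R
  have h3 : IsIso (Spec.map (CommRingCat.ofHom (toAway0 R))) := inferInstance
  rw [← h1] at h3
  exact @IsIso.of_isIso_comp_left _ _ _ _ _
    (Proj.awayι (CohB1.polyGrading 0 R) (T0 0 R) (T0_mem 0 R) one_pos)
    (Proj.toSpecZero (CohB1.polyGrading 0 R) ≫
        Spec.map (CommRingCat.ofHom (algebraMap R (CohB1.polyGrading 0 R 0)))) _ h3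

end

end Groth.Agent.Lib.Helper17
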