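import Groth.Agent.Lib.Helper17.LerayNat

/-!
# Elementwise homology of cochain complexes of abelian groups (helper17)

`homologyEquiv`: identify `K.homology j` with a group `N` through an additive map `Φ : K.X j →+ N`
killing boundaries, detecting boundaries among cocycles and surjective on cocycles;
`homologyEquiv_map`: compatibility with endomorphisms of the complex.
-/

set_option autoImplicit false
universe u
open CategoryTheory CategoryTheory.Limits

namespace Groth.Agent.Lib.Helper17.AbHomology

open Groth.Agent.S0464 Groth.Agent.Lib.Helper17.LerayNat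

variable (K : HomologicalComplex AddCommGrpCat.{u} (ComplexShape.up ℕ)) (i j : ℕ)

theorem iCycles_injective : Function.Injective (K.iCycles j) :=
  (AddCommGrpCat.mono_iff_injective _).1 inferInstance

theorem homologyπ_surjective : Function.Surjective (K.homologyπ j) :=
  (AddCommGrpCat.epi_iff_surjective _).1 inferInstance

theorem iCycles_toCycles (b : K.X i) : K.iCycles j (K.toCycles i j b) = K.d i j b := by
  rw [← ConcreteCategory.comp_apply, HomologicalComplex.toCycles_i]

theorem d_iCycles (z : K.cycles j) (k : ℕ) : K.d j k (K.iCycles j z) = 0 := by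
  rw [← ConcreteCategory.comp_apply, HomologicalComplex.iCycles_d]
  rfl

/-- cocycles lift to `K.cycles`. -/
theorem exists_cycle (c : K.X j) (hc : K.d j (j + 1) c = 0) : ∃ z : K.cycles j, K.iCycles j z = c := by
  have hex : (ShortComplex.mk (K.iCycles j) (K.d j (j + 1)) (K.iCycles_d j (j + 1))).Exact :=
    ShortComplex.exact_of_f_is_kernel _ (K.cyclesIsKernel j (j + 1) (by simp))
  exact (ShortComplex.ab_exact_iff _).1 hex c hc

/-- the kernel of `homologyπ` consists of the boundaries. -/
theorem homologyπ_eq_zero_iff (hi : (ComplexShape.up ℕ).prev j = i) (z : K.cycles j) :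
    K.homologyπ j z = 0 ↔ ∃ b : K.X i, K.d i j b = K.iCycles j z := by
  have hex : (ShortComplex.mk (K.toCycles i j) (K.homologyπ j)
      (K.toCycles_comp_homologyπ i j)).Exact :=
    ShortComplex.exact_of_g_is_cokernel _ (K.homologyIsCokernel i j hi)
  constructor
  · intro hz
    obtain ⟨b, hb⟩ := (ShortComplex.ab_exact_iff _).1 hex z hz
    exact ⟨b, by rw [← hb]; exact (iCycles_toCycles K i j b).symm⟩
  · rintro ⟨b, hb⟩
    have hz : z = K.toCycles i j b := by
      apply iCycles_injective K j
      rw [iCycles_toCycles, hb]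
    rw [hz, ← ConcreteCategory.comp_apply, HomologicalComplex.toCycles_comp_homologyπ]
    rfl

section Equiv

variable {N : Type*} [AddCommGroup N] (Φ : K.X j →+ N)
  (hi : (ComplexShape.up ℕ).prev j = i)
  (h1 : ∀ b : K.X i, Φ (K.d i j b) = 0)
  (h2 : ∀ c : K.X j, K.d j (j + 1) c = 0 → Φ c = 0 → ∃ b : K.X i, K.d i j b = c)
  (h3 : ∀ y : N, ∃ c : K.X j, K.d j (j + 1) c = 0 ∧ Φ c = y)

/-- `Φ` on cycles. -/
noncomputable def onCycles : K.cycles j →+ N := Φ.comp (K.iCycles j).hom

include h3 in
theorem onCycles_surjective : Function.Surjective (onCycles K j Φ) := by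
  intro y
  obtain ⟨c, hc, hy⟩ := h3 y
  obtain ⟨z, rfl⟩ := exists_cycle K j c hc
  exact ⟨z, hy⟩

include hi h1 h2 in
theorem ker_eq : (K.homologyπ j).hom.ker = (onCycles K j Φ).ker := by
  ext z
  rw [AddMonoidHom.mem_ker, AddMonoidHom.mem_ker]
  change K.homologyπ j z = 0 ↔ Φ (K.iCycles j z) = 0
  rw [homologyπ_eq_zero_iff K i j hi]
  constructor
  · rintro ⟨b, hb⟩
    rw [← hb, h1]
  · intro hz
    exact h2 _ (d_iCycles K j z _) hz

/-- the homology is identified with `N` through `Φ`. -/
noncomputable def homologyEquiv : K.homology j ≃+ N :=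
  addEquivOfKerEq (K.homologyπ j).hom (onCycles K j Φ) (homologyπ_surjective K j)
    (onCycles_surjective K j Φ h3) (ker_eq K i j Φ hi h1 h2)

theorem homologyEquiv_π (z : K.cycles j) :
    homologyEquiv K i j Φ hi h1 h2 h3 (K.homologyπ j z) = Φ (K.iCycles j z) :=
  addEquivOfKerEq_apply _ _ _ _ _ z

/-- compatibility with an endomorphism of the complex. -/
theorem homologyEquiv_map (f : K ⟶ K) (τ : N →+ N) (hf : ∀ c : K.X j, Φ (f.f j c) = τ (Φ c))
    (h : K.homology j) :
    homologyEquiv K i j Φ hi h1 h2 h3 (HomologicalComplex.homologyMap f j h) =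
      τ (homologyEquiv K i j Φ hi h1 h2 h3 h) := by
  obtain ⟨z, rfl⟩ := homologyπ_surjective K j h
  have e1 : HomologicalComplex.homologyMap f j (K.homologyπ j z) =
      K.homologyπ j (HomologicalComplex.cyclesMap f j z) := by
    rw [← ConcreteCategory.comp_apply, HomologicalComplex.homologyπ_naturality]
    rfl
  have e2 : K.iCycles j (HomologicalComplex.cyclesMap f j z) = f.f j (K.iCycles j z) := by
    rw [← ConcreteCategory.comp_apply, HomologicalComplex.cyclesMap_i]
    rfl
  rw [e1, homologyEquiv_π, homologyEquiv_π, e2, hf]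

end Equiv

end Groth.Agent.Lib.Helper17.AbHomology
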