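import Groth.Agent.Lib.Helper17.LerayNat
import Groth.Agent.Lib.Helper1.ShCohTop
import Groth.Agent.Lib.Helper1.AffineVanishing
import Groth.Prelude.Def_Coh

/-!
# Čech cohomology computes `Coh.HH` linearly over global functions (helper17)

`cechToHH M U hU h p : Ȟ^p(U, M) ≃+ H^p(X, M)` for quasi-coherent `M` and a cover `U` with affine
finite intersections, with `cechToHH_smul`: multiplication by a global function `ρ` on `H^p` is
induced by `Coh.smulAb M ρ` on Čech cohomology.
-/

set_option autoImplicit false
universe u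
open CategoryTheory CategoryTheory.Limits AlgebraicGeometry TopologicalSpace Opposite Abelian

namespace Groth.Agent.Lib.Helper17.CechHHLin

open Groth.Agent.S0463 Groth.Agent.S0464 Groth.Agent.Lib.Helper17.LerayNat Groth.Agent.Lib.Helper1
  Groth.Agent.Lib.Lead

section Top

variable {X : TopCat.{u}} {ι : Type u} (U : ι → Opens X) (hU : iSup U = ⊤)

/-- the free sheaf on the union is the constant sheaf when the family covers. -/
noncomputable def freeIso : freeSheaf (iSup U) ≅ constZ X :=
  eqToIso (by rw [hU]) ≪≫ (constZIsoFree X).symm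

/-- **Čech cohomology of an acyclic cover computes sheaf cohomology**, as a definite map. -/
noncomputable def cechToH (p : ℕ) (F : CohTop.Ab X) (hF : Acyc U F) :
    CohTop.cechH F.obj U p ≃+ CohTop.H F p :=
  (leray U p F hF).trans (extIsoLeft (freeIso U hU) F p)

theorem cechToH_naturality (p : ℕ) {F G : CohTop.Ab X} (ψ : F ⟶ G) (hF : Acyc U F)
    (hG : Acyc U G) (x : CohTop.cechH F.obj U p) :
    cechToH U hU p G hG (cechHMap U ψ p x) = Sheaf.H.map ψ p (cechToH U hU p F hF x) := by
  change (Ext.mk₀ (freeIso U hU).inv).comp (leray U p G hG (cechHMap U ψ p x)) (zero_add p) =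
    ((Ext.mk₀ (freeIso U hU).inv).comp (leray U p F hF x) (zero_add p)).comp (Ext.mk₀ ψ)
      (add_zero p)
  rw [leray_naturality U p ψ hF hG]
  exact (Ext.comp_assoc _ _ _ (zero_add p) (add_zero p) (by omega : 0 + p + 0 = p)).symm

end Top

section Scheme

variable {X : Scheme.{u}} (M : X.Modules) [M.IsQuasicoherent] {ι : Type u} (U : ι → X.Opens)

theorem acyc_of_isAffineOpen
    (h : ∀ (p : ℕ) (a : Fin (p + 1) → ι), IsAffineOpen (⨅ k, U (a k))) :
    Acyc (X := X.toTopCat) U (Coh.toAb M) := by
  intro n x q
  have h1 : Subsingleton (CohTop.HU (X := X.toTopCat) (Coh.toAb M) (q + 1) (⨅ k, U (x k))) :=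
    subsingleton_HU_of_isAffineOpen M _ (h n x) q
  rw [← cechOpen_eq (X := X.toTopCat) U x] at h1
  exact h1

variable (hU : iSup U = ⊤)
  (h : ∀ (p : ℕ) (a : Fin (p + 1) → ι), IsAffineOpen (⨅ k, U (a k)))

/-- Čech cohomology of a quasi-coherent module for an affine cover with affine finite
intersections computes its cohomology. -/
noncomputable def cechToHH (p : ℕ) :
    CohTop.cechH (X := X.toTopCat) (Coh.toAb M).obj U p ≃+ Coh.HH X M p :=
  cechToH (X := X.toTopCat) U hU p (Coh.toAb M) (acyc_of_isAffineOpen M U h)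

/-- **The comparison is linear over global functions.** -/
theorem cechToHH_smul (p : ℕ) (ρ : Coh.Γtop X)
    (c : CohTop.cechH (X := X.toTopCat) (Coh.toAb M).obj U p) :
    cechToHH M U hU h p (cechHMap (X := X.toTopCat) U (Coh.smulAb M ρ) p c) =
      ρ • cechToHH M U hU h p c :=
  cechToH_naturality (X := X.toTopCat) U hU p (Coh.smulAb M ρ) _ _ c

end Scheme

end Groth.Agent.Lib.Helper17.CechHHLin
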