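import Mathlib

/-!
# Uniqueness of "δ-functors" vanishing on projectives (helper17)

`IsDeltaLite T` : a sequence of functors `T n : C ⥤ D` with connecting morphisms for every short
exact sequence (existence form, exactness at the two places next to the connecting morphism)
which vanish on projectives in positive degrees.  Two such sequences agreeing (naturally) in degree
`0` agree objectwise in all degrees (dimension shifting).
-/

set_option autoImplicit false
universe v v' u u'
open CategoryTheory CategoryTheory.Limits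

namespace Groth.Agent.Lib.Helper17

variable {C : Type u} [Category.{v} C] [Abelian C] [EnoughProjectives C]
  {D : Type u'} [Category.{v'} D] [Abelian D]

/-- A sequence of functors with long exact sequences (existence form) vanishing on projectives. -/
structure IsDeltaLite (T : ℕ → C ⥤ D) : Prop where
  les : ∀ {S : ShortComplex C} (_ : S.ShortExact) (n : ℕ),
    ∃ (δ : (T (n + 1)).obj S.X₃ ⟶ (T n).obj S.X₁)
      (w₁ : (T (n + 1)).map S.g ≫ δ = 0) (w₂ : δ ≫ (T n).map S.f = 0),
      (ShortComplex.mk _ δ w₁).Exact ∧ (ShortComplex.mk δ _ w₂).Exact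
  vanish : ∀ (P : C) [Projective P] (n : ℕ), IsZero ((T (n + 1)).obj P)

/-- The canonical short exact sequence `0 → K → P → X → 0` with `P` projective. -/
noncomputable def projSC (X : C) : ShortComplex C :=
  ShortComplex.mk (kernel.ι (Projective.π X)) (Projective.π X) (kernel.condition _)

theorem projSC_shortExact (X : C) : (projSC X).ShortExact :=
  { exact := ShortComplex.exact_of_f_is_kernel _ (kernelIsKernel _)
    mono_f := by dsimp [projSC]; infer_instance
    epi_g := by dsimp [projSC]; infer_instance }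

instance (X : C) : Projective (projSC X).X₂ := inferInstanceAs (Projective (Projective.over X))

namespace IsDeltaLite

variable {T T' : ℕ → C ⥤ D}

/-- `T (n+2) X ≅ T (n+1) K`. -/
theorem nonempty_iso_succ (hT : IsDeltaLite T) (X : C) (n : ℕ) :
    Nonempty ((T (n + 2)).obj X ≅ (T (n + 1)).obj (projSC X).X₁) := by
  obtain ⟨δ, w₁, w₂, h₁, h₂⟩ := hT.les (projSC_shortExact X) (n + 1)
  have hmono : Mono δ := h₁.mono_g ((hT.vanish (projSC X).X₂ (n + 1)).eq_of_src _ _)
  have hepi : Epi δ := h₂.epi_f ((hT.vanish (projSC X).X₂ n).eq_of_tgt _ _)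
  have hiso : IsIso δ := isIso_of_mono_of_epi δ
  exact ⟨@asIso _ _ _ _ δ hiso⟩

/-- `T 1 X ≅ ker (T 0 K ⟶ T 0 P)`. -/
theorem nonempty_iso_one (hT : IsDeltaLite T) (X : C) :
    Nonempty ((T 1).obj X ≅ kernel ((T 0).map (projSC X).f)) := by
  obtain ⟨δ, w₁, w₂, h₁, h₂⟩ := hT.les (projSC_shortExact X) 0
  have hmono : Mono δ := h₁.mono_g ((hT.vanish (projSC X).X₂ 0).eq_of_src _ _)
  have hker := h₂.fIsKernel
  exact ⟨IsLimit.conePointUniqueUpToIso hker (limit.isLimit _)⟩

theorem nonempty_iso (hT : IsDeltaLite T) (hT' : IsDeltaLite T') (e₀ : T 0 ≅ T' 0) :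
    ∀ (n : ℕ) (X : C), Nonempty ((T n).obj X ≅ (T' n).obj X) := by
  intro n
  induction n using Nat.strong_induction_on with
  | _ n ih =>
    intro X
    match n, ih with
    | 0, _ => exact ⟨e₀.app X⟩
    | 1, _ =>
      obtain ⟨e⟩ := hT.nonempty_iso_one X
      obtain ⟨e'⟩ := hT'.nonempty_iso_one X
      refine ⟨e ≪≫ kernel.mapIso _ _ (e₀.app _) (e₀.app _) ?_ ≪≫ e'.symm⟩
      simp
    | (n + 2), ih =>
      obtain ⟨e⟩ := hT.nonempty_iso_succ X n
      obtain ⟨e'⟩ := hT'.nonempty_iso_succ X n
      obtain ⟨e''⟩ := ih (n + 1) (by omega) (projSC X).X₁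
      exact ⟨e ≪≫ e'' ≪≫ e'.symm⟩

end IsDeltaLite

end Groth.Agent.Lib.Helper17
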