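import Groth.Prelude.Def_Coh

/-!
# Cohomology is invariant under isomorphism of modules (helper17)
-/

set_option autoImplicit false
universe u
open CategoryTheory AlgebraicGeometry

namespace Groth.Agent.Lib.Helper17.HHIso

variable {X : Scheme.{u}}

/-- the map on cohomology induced by a morphism of modules. -/
noncomputable def hhMap {M N : X.Modules} (φ : M ⟶ N) (n : ℕ) : Coh.HH X M n →+ Coh.HH X N n :=
  Sheaf.H.map ((SheafOfModules.toSheaf X.ringCatSheaf).map φ) n

theorem hhMap_id (M : X.Modules) (n : ℕ) (x : Coh.HH X M n) : hhMap (𝟙 M) n x = x := by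
  have h : (SheafOfModules.toSheaf X.ringCatSheaf).map (𝟙 M) = 𝟙 (Coh.toAb M) :=
    (SheafOfModules.toSheaf X.ringCatSheaf).map_id M
  unfold hhMap
  exact (congrArg (fun f => Sheaf.H.map f n x) h).trans (Sheaf.H.map_id_apply x)

theorem hhMap_comp {M N P : X.Modules} (φ : M ⟶ N) (ψ : N ⟶ P) (n : ℕ) (x : Coh.HH X M n) :
    hhMap (φ ≫ ψ) n x = hhMap ψ n (hhMap φ n x) := by
  have h : (SheafOfModules.toSheaf X.ringCatSheaf).map (φ ≫ ψ) =
      (SheafOfModules.toSheaf X.ringCatSheaf).map φ ≫ (SheafOfModules.toSheaf X.ringCatSheaf).map ψ :=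
    (SheafOfModules.toSheaf X.ringCatSheaf).map_comp φ ψ
  unfold hhMap
  exact (congrArg (fun f => Sheaf.H.map f n x) h).trans (Sheaf.H.map_comp_apply _ _ x)

/-- isomorphic modules have isomorphic cohomology. -/
noncomputable def hhEquiv {M N : X.Modules} (e : M ≅ N) (n : ℕ) : Coh.HH X M n ≃+ Coh.HH X N n where
  toFun := hhMap e.hom n
  invFun := hhMap e.inv n
  left_inv x := by rw [← hhMap_comp, e.hom_inv_id, hhMap_id]
  right_inv x := by rw [← hhMap_comp, e.inv_hom_id, hhMap_id]
  map_add' := map_add _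

theorem subsingleton_of_iso {M N : X.Modules} (e : M ≅ N) (n : ℕ)
    [h : Subsingleton (Coh.HH X M n)] : Subsingleton (Coh.HH X N n) :=
  (hhEquiv e n).symm.toEquiv.subsingleton

end Groth.Agent.Lib.Helper17.HHIso
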