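import Groth.Agent.Lib.Helper17.VeryAmpleTensor
import Groth.Agent.Lib.Helper11.GlobalGen
import Groth.Agent.Lib.Helper11.AmpleBasis

/-!
# Ample modules are eventually very ample (helper17)

`eventually_isRelVeryAmplePn`: for `f : X ⟶ S` locally of finite type, `L` ample on `X` and `L'`
invertible, `L^n ⊗ L'` is `RelAmple.IsRelVeryAmplePn f` for all large `n`.
`exists_veryAmple_data`: the sections of a power of `L` satisfying the criterion of `VeryAmpleCrit`.
-/

set_option autoImplicit false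
set_option linter.unusedSectionVars false
set_option linter.style.haveILetI false
universe u
open AlgebraicGeometry CategoryTheory Limits TopologicalSpace Opposite

namespace Groth.Agent.Lib.Helper17.AmpleVeryAmple
open Groth.Agent.Lib.Helper11 Groth.Agent.Lib.Helper11.GenLocus Groth.Agent.Lib.Helper45
  Groth.Agent.Lib.Helper49 Groth.Agent.Lib.Helper17.UPGen Groth.Agent.Lib.Helper17.UPCoef
  Groth.Agent.Lib.Helper17.VeryAmpleCrit Groth.Agent.Lib.Helper17.RatioGen
  Groth.Agent.Lib.Helper17.VeryAmpleTensor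

section chart
variable {X : Scheme.{u}} {P : X.Modules}

/-- the section `1 ⊗ σ^N` of `O ⊗ P^N`, as a morphism. -/
noncomputable def twHom (σ : Coh.structureModule X ⟶ P) (N : ℕ) :
    Coh.structureModule X ⟶ CohB1.tensorMod (Coh.structureModule X) (CohB1.tensorPow P N) :=
  SecTwist.tmulHom (𝟙 _) (SecTwist.powHom σ N)

/-- the global section `1 ⊗ σ^N` of `O ⊗ P^N`. -/
noncomputable def twSec (σ : Coh.structureModule X ⟶ P) (N : ℕ) :
    Γ(CohB1.tensorMod (Coh.structureModule X) (CohB1.tensorPow P N), ⊤) :=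
  sec (twHom σ N) ⊤

theorem loc_twSec (hP : PicF.IsInvertible P) (σ : Coh.structureModule X ⟶ P) (N : ℕ) :
    loc (twSec σ (N + 1)) = CohB1.genLocus P σ := by
  unfold UPCoef.loc twSec
  rw [homOfSection_sec_top]
  unfold twHom
  rw [genLocus_tmulHom X _ _ (isInvertible_structureModule X) (isInvertible_tensorPow hP (N + 1)),
    genLocus_id, top_inf_eq, genLocus_powHom hP σ N]

theorem twist_eq_smul (σ : Coh.structureModule X ⟶ P) (N : ℕ) (U : X.Opens) (b : Γ(X, U)) :
    toΓ _ _ (SecTwist.twist σ N (Coh.structureModule X) U (toO U b)) = b • resT U (twSec σ N) := by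
  have h1 : resT U (twSec σ N) = tm (Coh.structureModule X) (CohB1.tensorPow P N) U
      (sec (𝟙 (Coh.structureModule X)) U) (sec (SecTwist.powHom σ N) U) := by
    unfold resT twSec
    rw [sec_mres, twHom, sec_tmulHom]
  rw [h1, ← tm_smul_left]
  have h2 : toO U b = b • sec (𝟙 (Coh.structureModule X)) U := by
    have : sec (𝟙 (Coh.structureModule X)) U = toO U 1 := rfl
    rw [this, toO_smul, mul_one]
  rw [← h2]
  change tm _ _ U (toO U b) (toΓ _ U (SecTwist.pow σ N U)) = _
  rw [← SecTwist.val_powHom]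
  rfl


/-- extension of `b ⊗ σ^N` from `X_σ` to a global section of `O ⊗ P^N`. -/
theorem exists_ext [CompactSpace X] [QuasiSeparatedSpace X] (hP : PicF.IsInvertible P)
    (σ : Coh.structureModule X ⟶ P) (b : Γ(X, CohB1.genLocus P σ)) :
    ∃ N₀ : ℕ, ∀ N, N₀ ≤ N → ∃ t' : Γ(CohB1.tensorMod (Coh.structureModule X) (CohB1.tensorPow P N), ⊤),
      resT (CohB1.genLocus P σ) t' = b • resT (CohB1.genLocus P σ) (twSec σ N) := by
  haveI : (Coh.structureModule X).IsQuasicoherent :=
    isQuasicoherent_of_isInvertible (isInvertible_structureModule X)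
  obtain ⟨N₀, h⟩ := exists_twist_extends_ge X P hP σ (Coh.structureModule X)
    (toO (CohB1.genLocus P σ) b)
  refine ⟨N₀, fun N hN => ?_⟩
  obtain ⟨t', ht'⟩ := h N hN
  exact ⟨t', ht'.trans (twist_eq_smul σ N _ b)⟩

theorem coef_twSec_of_ext (hP : PicF.IsInvertible P) (σ : Coh.structureModule X ⟶ P) (N : ℕ)
    (b : Γ(X, CohB1.genLocus P σ))
    (t' : Γ(CohB1.tensorMod (Coh.structureModule X) (CohB1.tensorPow P (N + 1)), ⊤))
    (ht' : resT (CohB1.genLocus P σ) t' = b • resT (CohB1.genLocus P σ) (twSec σ (N + 1))) :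
    coef (twSec σ (N + 1)) t' = fres (loc_twSec hP σ N).le b := by
  symm
  apply coef_unique
  have h := congrArg (mres _ (loc_twSec hP σ N).le) ht'
  rw [mres_smul, mres_resT, mres_resT] at h
  exact h.symm

end chart

/-- transport of a generating set along the restriction between two equal opens. -/
theorem closure_transport {X : Scheme.{u}} {U U' : X.Opens} (h : U' ≤ U) (h' : U ≤ U')
    (T : Set Γ(X, U)) (hT : Subring.closure T = ⊤) (T' : Set Γ(X, U'))
    (hTT' : ∀ z ∈ T, fres h z ∈ Subring.closure T') : Subring.closure T' = ⊤ := by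
  apply top_unique
  intro y _
  have hz : fres h' y ∈ Subring.closure T := by rw [hT]; trivial
  have key : ∀ z ∈ Subring.closure T, fres h z ∈ Subring.closure T' := by
    intro z hz
    induction hz using Subring.closure_induction with
    | mem z hz => exact hTT' z hz
    | zero => rw [map_zero]; exact Subring.zero_mem _
    | one => rw [map_one]; exact Subring.one_mem _
    | add x y _ _ hx hy => rw [map_add]; exact Subring.add_mem _ hx hy
    | neg x _ hx => rw [map_neg]; exact Subring.neg_mem _ hx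
    | mul x y _ _ hx hy => rw [map_mul]; exact Subring.mul_mem _ hx hy
  have := key _ hz
  rwa [fres_fres, fres_self] at this


/-- finitely many generators of the coordinate ring of an affine chart over the base. -/
theorem exists_finset_gen {X S : Scheme.{u}} (f : X ⟶ S) [LocallyOfFiniteType f] {V : S.Opens}
    {U : X.Opens} (hV : IsAffineOpen V) (hU : IsAffineOpen U) (e : U ≤ f ⁻¹ᵁ V) :
    ∃ T : Finset Γ(X, U),
      Subring.closure (Set.range (f.appLE V U e).hom ∪ (T : Set Γ(X, U))) = ⊤ := by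
  have h := f.finiteType_appLE hV hU e
  letI := (f.appLE V U e).hom.toAlgebra
  obtain ⟨T, hT⟩ := (h : Algebra.FiniteType Γ(S, V) Γ(X, U))
  refine ⟨T, ?_⟩
  have h2 := Algebra.adjoin_eq_ring_closure (R := Γ(S, V)) (T : Set Γ(X, U))
  rw [hT] at h2
  exact h2.symm


/-- **Very ample data on a power of an ample module**, relative to a morphism locally of finite
type. -/
theorem exists_veryAmple_data {X S : Scheme.{u}} (f : X ⟶ S) [LocallyOfFiniteType f]
    (L : X.Modules) (hL : CohB1.IsAmple L) :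
    ∃ (M : ℕ) (A : X.Modules) (_ : PicF.IsInvertible A) (_ : Nonempty (A ≅ CohB1.tensorPow L M))
      (ι κ : Type u) (_ : Fintype ι) (a : ι → Γ(A, ⊤)) (jA : κ → ι) (V : κ → S.Opens)
      (hle : ∀ k, loc (a (jA k)) ≤ f ⁻¹ᵁ V k),
      (∀ x : X, ∃ k, x ∈ loc (a (jA k))) ∧ (∀ k, IsAffineOpen (V k)) ∧
      (∀ k, IsAffineOpen (loc (a (jA k)))) ∧
      ∀ k, Subring.closure (Set.range (f.appLE (V k) (loc (a (jA k))) (hle k)).hom ∪
        Set.range (fun i => coef (a (jA k)) (a i))) = ⊤ := by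
  classical
  have hqs : QuasiSeparatedSpace X := quasiSeparatedSpace_of_isAmple hL
  obtain ⟨hinv, hc, hamp⟩ := hL
  haveI : CompactSpace X := hc
  -- Step 1: local charts
  have h1 : ∀ x : X, ∃ (V : S.Opens) (n : ℕ)
      (σ : Coh.structureModule X ⟶ CohB1.tensorPow L (n + 1)), IsAffineOpen V ∧
      x ∈ CohB1.genLocus _ σ ∧ CohB1.genLocus _ σ ≤ f ⁻¹ᵁ V ∧
      IsAffineOpen (CohB1.genLocus _ σ) := by
    intro x
    obtain ⟨_, ⟨V, hV, rfl⟩, hxV, -⟩ :=
      S.isBasis_affineOpens.exists_subset_of_mem_open (Set.mem_univ (f x)) isOpen_univ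
    obtain ⟨k, s, hxG, hA⟩ := hamp x
    obtain ⟨N, σ, hxσ, hσU, hσA⟩ :=
      exists_genLocus_le_of_affine_genLocus L hinv k s hA (f ⁻¹ᵁ V) x hxV hxG
    exact ⟨V, N, σ, hV, hxσ, hσU, hσA⟩
  choose V n σ hV hxσ hσle hσaff using h1
  -- Step 2: finite subcover
  obtain ⟨T, hT⟩ := isCompact_univ.elim_finite_subcover
    (fun x => ((CohB1.genLocus _ (σ x) : X.Opens) : Set X))
    (fun x => (CohB1.genLocus _ (σ x)).isOpen) (fun x _ => Set.mem_iUnion.mpr ⟨x, hxσ x⟩)
  -- Step 3: common degree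
  obtain ⟨D, hD⟩ : ∃ D, ∏ x ∈ T, (n x + 1) = D + 1 :=
    Nat.exists_eq_succ_of_ne_zero (Finset.prod_ne_zero_iff.mpr fun x _ => Nat.succ_ne_zero _)
  have h3 : ∀ x : T, ∃ σ' : Coh.structureModule X ⟶ CohB1.tensorPow L (D + 1),
      CohB1.genLocus _ σ' = CohB1.genLocus _ (σ x) := by
    rintro ⟨x, hx⟩
    obtain ⟨q, hq⟩ := Finset.dvd_prod_of_mem (fun x => n x + 1) hx
    obtain ⟨j, rfl⟩ : ∃ j, q = j + 1 := by
      refine Nat.exists_eq_succ_of_ne_zero ?_
      rintro rfl
      rw [hD] at hq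
      simp at hq
    exact exists_pow_section hinv (n x) j D (by rw [← hD, hq]) (σ x)
  choose σ' hσ' using h3
  have hP : PicF.IsInvertible (CohB1.tensorPow L (D + 1)) := isInvertible_tensorPow hinv (D + 1)
  -- Step 4: generators
  have haff' : ∀ k : T, IsAffineOpen (CohB1.genLocus _ (σ' k)) := fun k => by
    rw [hσ']; exact hσaff k
  have hle' : ∀ k : T, CohB1.genLocus _ (σ' k) ≤ f ⁻¹ᵁ V k := fun k => by
    rw [hσ']; exact hσle k
  choose gens hgens using fun k : T => exists_finset_gen f (hV k) (haff' k) (hle' k)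
  -- Step 5: extensions
  choose N₀ hN₀ using fun (k : T) (b : Γ(X, CohB1.genLocus _ (σ' k))) => exists_ext hP (σ' k) b
  let N : ℕ := Finset.univ.sup (fun k : T => (gens k).sup (fun b => N₀ k b))
  have hN : ∀ (k : T) (b : Γ(X, CohB1.genLocus _ (σ' k))), b ∈ gens k → N₀ k b ≤ N + 1 := by
    intro k b hb
    have h1 : N₀ k b ≤ (gens k).sup (fun b => N₀ k b) := Finset.le_sup (f := fun b => N₀ k b) hb
    have h2 : (gens k).sup (fun b => N₀ k b) ≤ N :=
      Finset.le_sup (f := fun k : T => (gens k).sup (fun b => N₀ k b)) (Finset.mem_univ k)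
    omega
  choose t' ht' using fun (k : T) (b : gens k) => hN₀ k b.1 (N + 1) (hN k b.1 b.2)
  -- the data
  let A : X.Modules := CohB1.tensorMod (Coh.structureModule X)
    (CohB1.tensorPow (CohB1.tensorPow L (D + 1)) (N + 1))
  let a : (Σ k : T, Option (gens k)) → Γ(A, ⊤) := fun i =>
    i.2.elim (twSec (σ' i.1) (N + 1)) (fun b => t' i.1 b)
  have hloc : ∀ k : T, loc (a ⟨k, none⟩) = CohB1.genLocus _ (σ' k) := fun k =>
    loc_twSec hP (σ' k) N
  refine ⟨(D + 1) * (N + 1), A,
    isInvertible_tensorMod (isInvertible_structureModule X) (isInvertible_tensorPow hP (N + 1)),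
    ⟨unitTensorIso _ ≪≫ tensorPowMul L (D + 1) (N + 1)⟩,
    (Σ k : T, Option (gens k)), T, inferInstance, a, fun k => ⟨k, none⟩, fun k => V k,
    fun k => (hloc k).le.trans (hle' k), ?_, fun k => hV k, fun k => ?_, fun k => ?_⟩
  · intro x
    obtain ⟨y, hy, hxy⟩ := Set.mem_iUnion₂.mp (hT (Set.mem_univ x))
    refine ⟨⟨y, hy⟩, ?_⟩
    rw [hloc, hσ']
    exact hxy
  · rw [hloc]
    exact haff' k
  · refine closure_transport (hloc k).le (hloc k).ge _ (hgens k) _ ?_
    rintro z (⟨z0, rfl⟩ | hz)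
    · rw [fres_appLE]
      exact Subring.subset_closure (Or.inl ⟨z0, rfl⟩)
    · refine Subring.subset_closure (Or.inr ⟨⟨k, some ⟨z, hz⟩⟩, ?_⟩)
      exact coef_twSec_of_ext hP (σ' k) N z (t' k ⟨z, hz⟩) (ht' k ⟨z, hz⟩)


theorem isRelVeryAmplePn_of_iso {X S : Scheme.{u}} (f : X ⟶ S) {L L' : X.Modules} (e : L ≅ L')
    (h : RelAmple.IsRelVeryAmplePn f L) : RelAmple.IsRelVeryAmplePn f L' := by
  obtain ⟨n, i, hi, hcomp, ⟨φ⟩⟩ := h
  exact ⟨n, i, hi, hcomp, ⟨e.symm ≪≫ φ⟩⟩

/-- **An ample module is eventually very ample** (EGA II 4.6.11 / 4.6.13): for `f` locally of finite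
type, `L` ample and `L'` invertible, `L^n ⊗ L'` is very ample relative to `f` for all large `n`. -/
theorem eventually_isRelVeryAmplePn {X S : Scheme.{u}} (f : X ⟶ S) [LocallyOfFiniteType f]
    (L L' : X.Modules) (hL : CohB1.IsAmple L) (hL' : PicF.IsInvertible L') :
    ∃ n₀ : ℕ, ∀ n, n₀ ≤ n →
      RelAmple.IsRelVeryAmplePn f (CohB1.tensorMod (CohB1.tensorPow L n) L') := by
  classical
  obtain ⟨M, A, hA, ⟨eA⟩, ι, κ, _, a, jA, V, hle, hcov, hV, hU, hgen⟩ :=
    exists_veryAmple_data f L hL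
  haveI : CompactSpace X := hL.2.1
  have hcoh : Coh.IsCoh L' :=
    ⟨isQuasicoherent_of_isInvertible hL', isFiniteType_of_isInvertible hL'⟩
  obtain ⟨N₁, hN₁⟩ := eventually_genOn_top X L hL L' hcoh
  refine ⟨M + N₁, fun n hn => ?_⟩
  obtain ⟨m, rfl, hm⟩ : ∃ m, n = M + m ∧ N₁ ≤ m := ⟨n - M, by omega, by omega⟩
  have hG : PicF.IsInvertible (CohB1.tensorMod L' (CohB1.tensorPow L m)) :=
    isInvertible_tensorMod hL' (isInvertible_tensorPow hL.1 m)
  have hgen' := hN₁ m hm
  choose s hs using fun x => exists_mem_genLocus_of_genOn hG hgen' x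
  obtain ⟨T, hT⟩ := isCompact_univ.elim_finite_subcover
    (fun x => ((CohB1.genLocus _ (s x) : X.Opens) : Set X))
    (fun x => (CohB1.genLocus _ (s x)).isOpen) (fun x _ => Set.mem_iUnion.mpr ⟨x, hs x⟩)
  have key := isRelVeryAmplePn_tensor f hA hG a jA hcov V hV hU hle hgen
    (fun l : T => sec (s l) ⊤) (fun x => by
      obtain ⟨y, hy, hxy⟩ := Set.mem_iUnion₂.mp (hT (Set.mem_univ x))
      refine ⟨⟨y, hy⟩, ?_⟩
      unfold UPCoef.loc
      rw [homOfSection_sec_top]
      exact hxy)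
  refine isRelVeryAmplePn_of_iso f ?_ key
  exact tensorModCongr eA (tensorModBraid _ _) ≪≫ (tensorModAssoc _ _ _).symm ≪≫
    tensorModCongr (tensorPowAdd L M m).symm (Iso.refl _)

end Groth.Agent.Lib.Helper17.AmpleVeryAmple
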