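import Groth.Agent.Lib.Helper17.VeryAmpleRel
import Groth.Agent.Lib.Helper17.AmpleVeryAmple

/-!
# Loci of sections of an ample module on a universally closed scheme are affine (helper17)

* `isAffineOpen_loc_of_cover`: `f : X ⟶ Y` universally closed, `Y` affine, `w_0, …, w_n` sections
  of a module `P` such that the affine ones among the loci `X_{w_c}` cover `X`: then every
  `X_{w_c}` is affine.  (The morphism `X ⟶ P^n_Y` is affine: over the charts it is a morphism of
  affine schemes, and its image is closed.)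
* `exists_common_power`: for `L` ample, finitely many sections of one power `L^{D+1}` with affine
  loci covering `X`.
* `isAffineOpen_genLocus_of_universallyClosed`: EGA II 5.5.7 over an affine base.
* `isAffineHom_genLocus_of_universallyClosed`: EGA II 5.5.7.
-/

set_option autoImplicit false
set_option linter.unusedSectionVars false
set_option linter.style.haveILetI false
universe u
open AlgebraicGeometry CategoryTheory Limits TopologicalSpace Opposite

namespace Groth.Agent.Lib.Helper17.AffineLocus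
open Groth.Agent.Lib.Helper11 Groth.Agent.Lib.Helper11.GenLocus Groth.Agent.Lib.Helper45
  Groth.Agent.Lib.Helper49 Groth.Agent.Lib.Helper17.UPGen Groth.Agent.Lib.Helper17.UPCoef
  Groth.Agent.Lib.Helper17.VeryAmpleCrit Groth.Agent.Lib.Helper17.RatioGen
  Groth.Agent.Lib.Helper17.VeryAmpleTensor Groth.Agent.Lib.Helper17.PnSections
  Groth.Agent.Lib.Helper17.VeryAmpleRel

theorem isAffineOpen_loc_of_cover {X Y : Scheme.{u}} [IsAffine Y] (f : X ⟶ Y)
    [UniversallyClosed f] (P : X.Modules) (n : ℕ) (w : Fin (n + 1) → Γ(P, ⊤))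
    (hcov : ∀ x : X, ∃ c, x ∈ loc (w c) ∧ IsAffineOpen (loc (w c))) (c₀ : Fin (n + 1)) :
    IsAffineOpen (loc (w c₀)) := by
  classical
  obtain ⟨r, -, τ, hτ⟩ := UPExist.exists_to_projSpace_of_cover (R := ULift.{u} ℤ) n
    (specULiftZIsTerminal.from X) P w (fun x => let ⟨c, hc, _⟩ := hcov x; ⟨c, hc⟩)
  obtain ⟨i, hi1, hi2⟩ : ∃ i : X ⟶ pullback (CohB1.ProjSpace.toSpec n (ULift.{u} ℤ))
        (specULiftZIsTerminal.from Y),
      i ≫ pullback.fst (CohB1.ProjSpace.toSpec n (ULift.{u} ℤ)) (specULiftZIsTerminal.from Y) = r ∧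
      i ≫ pullback.snd (CohB1.ProjSpace.toSpec n (ULift.{u} ℤ)) (specULiftZIsTerminal.from Y) = f :=
    ⟨pullback.lift r f (specULiftZIsTerminal.hom_ext _ _), pullback.lift_fst _ _ _,
      pullback.lift_snd _ _ _⟩
  haveI : UniversallyClosed (i ≫ pullback.snd (CohB1.ProjSpace.toSpec n (ULift.{u} ℤ))
      (specULiftZIsTerminal.from Y)) := by rw [hi2]; infer_instance
  haveI : UniversallyClosed i := UniversallyClosed.of_comp_of_isSeparated i
    (pullback.snd (CohB1.ProjSpace.toSpec n (ULift.{u} ℤ)) (specULiftZIsTerminal.from Y))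
  have hpre : ∀ c, i ⁻¹ᵁ (pullback.fst (CohB1.ProjSpace.toSpec n (ULift.{u} ℤ))
      (specULiftZIsTerminal.from Y) ⁻¹ᵁ D (ULift.{u} ℤ) n c) = loc (w c) := by
    intro c
    rw [← Scheme.Hom.comp_preimage, hi1, loc_eq n r τ w hτ c]
  have haffD : ∀ c, IsAffineOpen (pullback.fst (CohB1.ProjSpace.toSpec n (ULift.{u} ℤ))
      (specULiftZIsTerminal.from Y) ⁻¹ᵁ D (ULift.{u} ℤ) n c) := by
    intro c
    have h := isAffineOpen_inf_preimage (CohB1.ProjSpace.toSpec n (ULift.{u} ℤ))
      (specULiftZIsTerminal.from Y) (D (ULift.{u} ℤ) n c) ⊤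
      (Proj.isAffineOpen_basicOpen (CohB1.polyGrading n (ULift.{u} ℤ)) _
        (T_mem n (ULift.{u} ℤ) c) one_pos) (isAffineOpen_top Y)
    simpa using h
  haveI : IsAffineHom i := by
    apply isAffineHom_of_forall_exists_isAffineOpen
    intro p
    by_cases hp : p ∈ Set.range i
    · obtain ⟨x, rfl⟩ := hp
      obtain ⟨c, hc, haff⟩ := hcov x
      refine ⟨_, ?_, haffD c, ?_⟩
      · have : x ∈ i ⁻¹ᵁ (pullback.fst (CohB1.ProjSpace.toSpec n (ULift.{u} ℤ))
            (specULiftZIsTerminal.from Y) ⁻¹ᵁ D (ULift.{u} ℤ) n c) := by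
          rw [hpre]
          exact hc
        exact this
      · rw [hpre]
        exact haff
    · have hcl : IsClosed (Set.range i) := i.isClosedMap.isClosed_range
      obtain ⟨_, ⟨U, hU, rfl⟩, hpU, hUle⟩ :=
        (pullback (CohB1.ProjSpace.toSpec n (ULift.{u} ℤ))
          (specULiftZIsTerminal.from Y)).isBasis_affineOpens.exists_subset_of_mem_open hp
          hcl.isOpen_compl
      refine ⟨U, hpU, hU, ?_⟩
      have : i ⁻¹ᵁ U = ⊥ := by
        apply le_bot_iff.mp
        intro x hx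
        exact (hUle hx ⟨x, rfl⟩).elim
      rw [this]
      exact isAffineOpen_bot X
  rw [← hpre c₀]
  exact (haffD c₀).preimage i

/-- the same for a family indexed by a finite type. -/
theorem isAffineOpen_loc_of_cover_fintype {X Y : Scheme.{u}} [IsAffine Y] (f : X ⟶ Y)
    [UniversallyClosed f] (P : X.Modules) {ι : Type*} [Fintype ι] (w : ι → Γ(P, ⊤))
    (hcov : ∀ x : X, ∃ c, x ∈ loc (w c) ∧ IsAffineOpen (loc (w c))) (c₀ : ι) :
    IsAffineOpen (loc (w c₀)) := by
  classical
  obtain ⟨n, hn⟩ : ∃ n, Fintype.card ι = n + 1 :=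
    Nat.exists_eq_succ_of_ne_zero (haveI : Nonempty ι := ⟨c₀⟩; Fintype.card_ne_zero)
  let e : Fin (n + 1) ≃ ι := (Fintype.equivFinOfCardEq hn).symm
  have := isAffineOpen_loc_of_cover f P n (w ∘ e) (fun x => by
    obtain ⟨c, hc, haff⟩ := hcov x
    exact ⟨e.symm c, by simpa using hc, by simpa using haff⟩) (e.symm c₀)
  simpa using this

/-- sections of one power of an ample module with affine loci covering `X`. -/
theorem exists_common_power {X : Scheme.{u}} (L : X.Modules) (hL : CohB1.IsAmple L) :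
    ∃ (D : ℕ) (T : Type u) (_ : Fintype T)
      (σ : T → (Coh.structureModule X ⟶ CohB1.tensorPow L (D + 1))),
      (∀ x : X, ∃ k, x ∈ CohB1.genLocus _ (σ k)) ∧ ∀ k, IsAffineOpen (CohB1.genLocus _ (σ k)) := by
  classical
  obtain ⟨hinv, hc, hamp⟩ := hL
  haveI : CompactSpace X := hc
  choose n σ hxσ hσaff using hamp
  obtain ⟨T, hT⟩ := isCompact_univ.elim_finite_subcover
    (fun x => ((CohB1.genLocus _ (σ x) : X.Opens) : Set X))
    (fun x => (CohB1.genLocus _ (σ x)).isOpen) (fun x _ => Set.mem_iUnion.mpr ⟨x, hxσ x⟩)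
  obtain ⟨D, hD⟩ : ∃ D, ∏ x ∈ T, (n x + 1) = D + 1 :=
    Nat.exists_eq_succ_of_ne_zero (Finset.prod_ne_zero_iff.mpr fun x _ => Nat.succ_ne_zero _)
  have h3 : ∀ x : T, ∃ σ' : Coh.structureModule X ⟶ CohB1.tensorPow L (D + 1),
      CohB1.genLocus _ σ' = CohB1.genLocus _ (σ x) := by
    rintro ⟨x, hx⟩
    obtain ⟨q, hq⟩ := Finset.dvd_prod_of_mem (fun x => n x + 1) hx
    obtain ⟨j, rfl⟩ : ∃ j, q = j + 1 := by
      refine Nat.exists_eq_succ_of_ne_zero ?_
      rintro rfl
      rw [hD] at hq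
      simp at hq
    exact exists_pow_section hinv (n x) j D (by rw [← hD, hq]) (σ x)
  choose σ' hσ' using h3
  refine ⟨D, T, inferInstance, σ', fun x => ?_, fun k => ?_⟩
  · obtain ⟨y, hy, hxy⟩ := Set.mem_iUnion₂.mp (hT (Set.mem_univ x))
    refine ⟨⟨y, hy⟩, ?_⟩
    rw [hσ']
    exact hxy
  · rw [hσ']
    exact hσaff k

/-- **EGA II 5.5.7 over an affine base**: for `f : X ⟶ Y` universally closed with `Y` affine, `L`
ample on `X` and `s` a global section of `L`, the open `X_s` is affine. -/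
theorem isAffineOpen_genLocus_of_universallyClosed {X Y : Scheme.{u}} [IsAffine Y] (f : X ⟶ Y)
    [UniversallyClosed f] (L : X.Modules) (hL : CohB1.IsAmple L)
    (s : Coh.structureModule X ⟶ L) : IsAffineOpen (CohB1.genLocus L s) := by
  classical
  obtain ⟨D, T, _, σ, hcov, haff⟩ := exists_common_power L hL
  have hinv := hL.1
  have e1 : L ≅ CohB1.tensorPow L (0 + 1) := (unitTensorIso L).symm
  obtain ⟨s0, hs0⟩ := exists_pow_section hinv 0 D D (by simp) (s ≫ e1.hom)
  rw [genLocus_comp_iso s e1] at hs0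
  let w : Option T → Γ(CohB1.tensorPow L (D + 1), ⊤) := fun o =>
    o.elim (sec s0 ⊤) (fun k => sec (σ k) ⊤)
  have hloc : ∀ k, loc (w (some k)) = CohB1.genLocus _ (σ k) := by
    intro k
    unfold UPCoef.loc
    rw [show w (some k) = sec (σ k) ⊤ from rfl, homOfSection_sec_top]
  have hloc0 : loc (w none) = CohB1.genLocus L s := by
    unfold UPCoef.loc
    rw [show w none = sec s0 ⊤ from rfl, homOfSection_sec_top, hs0]
  rw [← hloc0]
  refine isAffineOpen_loc_of_cover_fintype f _ w (fun x => ?_) none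
  obtain ⟨k, hk⟩ := hcov x
  exact ⟨some k, by rw [hloc]; exact hk, by rw [hloc]; exact haff k⟩

end Groth.Agent.Lib.Helper17.AffineLocus
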