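import Groth.Agent.Lib.Helper17.LeftUnit
import Groth.Agent.Lib.Helper17.AffineLocus

/-!
# Normally generated ample modules are very ample (helper17)

For `L` invertible on `X` (qcqs) such that the sections of `L^{n+1} = L^n ⊗ L` are sums of products
`m ⊗ s` (`n ≥ 1`):
* `fres_coef_pow_mem`: every ratio `y / t^k` (`y` a section of `L^k`, `t` of `L`) lies in the subring
  generated by the ratios `t' / t`.
* `mem_closure_coef`: every function on `X_t` lies in that subring.
* `exists_gen_mem_loc`: among additive generators of the sections of an invertible module, one is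
  nonzero at a given point where some section is.
* `isRelVeryAmplePn_of_normGen`: if moreover `L` is ample and `f : X ⟶ S` is universally closed and
  locally of finite type with `S` affine, `L` is very ample relative to `f`.
-/

set_option autoImplicit false
set_option linter.unusedSectionVars false
set_option linter.style.haveILetI false
universe u
open AlgebraicGeometry CategoryTheory Limits TopologicalSpace Opposite

namespace Groth.Agent.Lib.Helper17.NormalGen
open Groth.Agent.Lib.Helper11 Groth.Agent.Lib.Helper11.GenLocus Groth.Agent.Lib.Helper45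
  Groth.Agent.Lib.Helper49 Groth.Agent.Lib.Helper17.UPGen Groth.Agent.Lib.Helper17.UPCoef
  Groth.Agent.Lib.Helper17.VeryAmpleCrit Groth.Agent.Lib.Helper17.RatioGen
  Groth.Agent.Lib.Helper17.VeryAmpleTensor Groth.Agent.Lib.Helper17.AmpleVeryAmple
  Groth.Agent.Lib.Helper17.LeftUnit Groth.Agent.Lib.Helper17.AffineLocus

variable {X : Scheme.{u}}

/-- the unit section of the structure module. -/
noncomputable def one (X : Scheme.{u}) : Γ(Coh.structureModule X, ⊤) := toO ⊤ 1

theorem homOfSection_one : homOfSection (Coh.structureModule X) (one X) = 𝟙 _ := by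
  apply hom_ext_of_sec_top
  rw [sec_homOfSection_top]
  rfl

theorem loc_one : loc (one X) = ⊤ := by
  unfold UPCoef.loc
  rw [homOfSection_one, genLocus_id]

section coefHom
variable {P : X.Modules}

/-- `coef t` as an additive map. -/
noncomputable def coefHom (t : Γ(P, ⊤)) : Γ(P, ⊤) →+ Γ(X, loc t) :=
  AddMonoidHom.mk' (coef t) (coef_add t)

theorem coefHom_apply (t y : Γ(P, ⊤)) : coefHom t y = coef t y := rfl

/-- among additive generators of the global sections of `P`, one does not vanish at `x` if some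
section does not. -/
theorem exists_gen_mem_loc (G : Set Γ(P, ⊤)) (hG : AddSubgroup.closure G = ⊤) (x : X)
    (y₀ : Γ(P, ⊤)) (hx : x ∈ loc y₀) : ∃ g ∈ G, x ∈ loc g := by
  by_contra hne
  push Not at hne
  let φ : Γ(P, ⊤) →+ X.presheaf.stalk x :=
    (X.presheaf.germ (loc y₀) x hx).hom.toAddMonoidHom.comp (coefHom y₀)
  let I : AddSubgroup (X.presheaf.stalk x) :=
    (IsLocalRing.maximalIdeal (X.presheaf.stalk x)).toAddSubgroup
  have hGI : G ⊆ (I.comap φ : Set Γ(P, ⊤)) := by
    intro g hg
    have h1 : x ∉ loc g := hne g hg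
    have h2 := loc_inf_eq_basicOpen g y₀ (le_refl (loc y₀))
    have h3 : x ∉ X.basicOpen (fres (le_refl (loc y₀)) (coef y₀ g)) := by
      rw [← h2]
      exact fun h => h1 h.1
    rw [fres_self, X.mem_basicOpen _ x hx] at h3
    exact h3
  have hle : AddSubgroup.closure G ≤ I.comap φ := (AddSubgroup.closure_le _).mpr hGI
  rw [hG] at hle
  have h4 : φ y₀ ∈ I := hle (AddSubgroup.mem_top y₀)
  have h5 : φ y₀ = 1 := by
    change (X.presheaf.germ (loc y₀) x hx).hom (coef y₀ y₀) = 1
    rw [coef_self, map_one]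
  rw [h5] at h4
  exact (IsLocalRing.maximalIdeal (X.presheaf.stalk x)).ne_top_iff_one.mp
    (IsLocalRing.maximalIdeal.isMaximal _).ne_top h4

end coefHom

variable {L : X.Modules}

/-- the `k`-th power of a section of `L`. -/
noncomputable def pw (t : Γ(L, ⊤)) : (k : ℕ) → Γ(CohB1.tensorPow L k, ⊤)
  | 0 => one X
  | k + 1 => ts (pw t k) t

theorem pw_eq (t : Γ(L, ⊤)) : ∀ k : ℕ, pw t k = sec (SecTwist.powHom (homOfSection L t) k) ⊤
  | 0 => rfl
  | k + 1 => by
    change ts (pw t k) t =
      sec (SecTwist.tmulHom (SecTwist.powHom (homOfSection L t) k) (homOfSection L t)) ⊤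
    rw [sec_tmulHom, sec_homOfSection_top, ← pw_eq t k]
    rfl

theorem le_loc_pw (hL : PicF.IsInvertible L) (t : Γ(L, ⊤)) : ∀ k : ℕ, loc t ≤ loc (pw t k)
  | 0 => by
    change loc t ≤ loc (one X)
    rw [loc_one]
    exact le_top
  | k + 1 => by
    change loc t ≤ loc (ts (pw t k) t)
    rw [loc_ts (isInvertible_tensorPow hL k) hL]
    exact le_inf (le_loc_pw hL t k) le_rfl

theorem le_loc_ts (hL : PicF.IsInvertible L) (t : Γ(L, ⊤)) (k : ℕ) :
    loc t ≤ loc (ts (pw t k) t) := le_loc_pw hL t (k + 1)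

/-- `L` is normally generated: sections of `L^{n+1}` are sums of products. -/
def NormGen (L : X.Modules) : Prop :=
  ∀ n : ℕ, 1 ≤ n → AddSubgroup.closure
    {y : Γ(CohB1.tensorMod (CohB1.tensorPow L n) L, ⊤) |
      ∃ (m : Γ(CohB1.tensorPow L n, ⊤)) (s : Γ(L, ⊤)), y = ts m s} = ⊤

/-- the subring of functions on `X_t` generated by the ratios `t' / t`. -/
noncomputable def C (t : Γ(L, ⊤)) : Subring Γ(X, loc t) := Subring.closure (Set.range (coef t))

theorem eq_ts_one (M : X.Modules) (y : Γ(CohB1.tensorMod (Coh.structureModule X) M, ⊤)) :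
    ∃ m : Γ(M, ⊤), y = ts (one X) m :=
  ⟨_, eq_tm_one M ⊤ y⟩

theorem fres_coef_congr {P : X.Modules} {t₁ t₂ y₁ y₂ : Γ(P, ⊤)} (ht : t₁ = t₂) (hy : y₁ = y₂)
    {W : X.Opens} (h₁ : W ≤ loc t₁) (h₂ : W ≤ loc t₂) :
    fres h₁ (coef t₁ y₁) = fres h₂ (coef t₂ y₂) := by
  subst ht hy
  rfl

theorem fres_coef_zero {P : X.Modules} (t : Γ(P, ⊤)) {W : X.Opens} (h : W ≤ loc t) :
    fres h (coef t 0) = 0 := by
  have := (coefHom t).map_zero
  rw [coefHom_apply] at this
  rw [this, map_zero]

theorem fres_coef_neg {P : X.Modules} (t a : Γ(P, ⊤)) {W : X.Opens} (h : W ≤ loc t) :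
    fres h (coef t (-a)) = -fres h (coef t a) := by
  have := (coefHom t).map_neg a
  rw [coefHom_apply, coefHom_apply] at this
  rw [this, map_neg]

theorem fres_coef_add {P : X.Modules} (t a b : Γ(P, ⊤)) {W : X.Opens} (h : W ≤ loc t) :
    fres h (coef t (a + b)) = fres h (coef t a) + fres h (coef t b) := by
  rw [coef_add, map_add]

theorem fres_coef_pow_mem (hL : PicF.IsInvertible L) (hng : NormGen L) (t : Γ(L, ⊤)) :
    ∀ (k : ℕ) (y : Γ(CohB1.tensorMod (CohB1.tensorPow L k) L, ⊤)),
      fres (le_loc_ts hL t k) (coef (ts (pw t k) t) y) ∈ C t := by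
  intro k
  induction k with
  | zero =>
    intro y
    obtain ⟨m, hm⟩ := eq_ts_one L y
    have hW : loc t ≤ loc (ts (one X) t) := le_loc_ts hL t 0
    have key := coef_ts (one X) (one X) t m hW (by rw [loc_one]; exact le_top) (le_refl _)
    rw [coef_self, map_one, one_mul, fres_self] at key
    have h2 : fres (le_loc_ts hL t 0) (coef (ts (pw t 0) t) y) = coef t m := by
      subst hm
      exact key
    rw [h2]
    exact Subring.subset_closure ⟨m, rfl⟩
  | succ k ih =>
    intro y
    have hy : y ∈ AddSubgroup.closure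
        {y : Γ(CohB1.tensorMod (CohB1.tensorPow L (k + 1)) L, ⊤) |
          ∃ (m : Γ(CohB1.tensorPow L (k + 1), ⊤)) (s : Γ(L, ⊤)), y = ts m s} := by
      rw [hng (k + 1) (by omega)]
      exact AddSubgroup.mem_top _
    induction hy using AddSubgroup.closure_induction with
    | mem z hz =>
      obtain ⟨m, s, rfl⟩ := hz
      rw [coef_ts (pw t (k + 1)) m t s (le_loc_ts hL t (k + 1)) (le_loc_pw hL t (k + 1))
        (le_refl _), fres_self]
      exact Subring.mul_mem _ (ih m) (Subring.subset_closure ⟨s, rfl⟩)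
    | zero =>
      rw [fres_coef_zero]
      exact Subring.zero_mem _
    | add a b _ _ ha hb =>
      rw [fres_coef_add]
      exact Subring.add_mem _ ha hb
    | neg a _ ha =>
      rw [fres_coef_neg]
      exact Subring.neg_mem _ ha

theorem twSec_eq (t : Γ(L, ⊤)) (N : ℕ) :
    twSec (homOfSection L t) N = ts (one X) (pw t N) := by
  unfold twSec twHom
  rw [sec_tmulHom, ← pw_eq]
  rfl

/-- every function on `X_t` is a polynomial in the ratios `t' / t`. -/
theorem mem_closure_coef [CompactSpace X] [QuasiSeparatedSpace X] (hL : PicF.IsInvertible L)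
    (hng : NormGen L) (t : Γ(L, ⊤)) (b : Γ(X, loc t)) : b ∈ C t := by
  obtain ⟨N₀, hN₀⟩ := exists_ext hL (homOfSection L t) b
  obtain ⟨t'', ht''⟩ := hN₀ (N₀ + 1) (Nat.le_succ _)
  have h1 := coef_twSec_of_ext hL (homOfSection L t) N₀ b t'' ht''
  obtain ⟨y', hy'⟩ := eq_ts_one (CohB1.tensorPow L (N₀ + 1)) t''
  have hW' : loc t ≤ loc (twSec (homOfSection L t) (N₀ + 1)) := (loc_twSec hL _ N₀).ge
  have hW : loc t ≤ loc (ts (one X) (pw t (N₀ + 1))) := by
    rw [← twSec_eq]
    exact hW'
  have e1 : fres hW' (coef (twSec (homOfSection L t) (N₀ + 1)) t'') = b := by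
    rw [h1, fres_fres]
    exact fres_self b
  have e2 : fres hW' (coef (twSec (homOfSection L t) (N₀ + 1)) t'') =
      fres hW (coef (ts (one X) (pw t (N₀ + 1))) (ts (one X) y')) :=
    fres_coef_congr (twSec_eq t (N₀ + 1)) hy' _ _
  rw [← e1, e2, coef_ts (one X) (one X) (pw t (N₀ + 1)) y' hW (by rw [loc_one]; exact le_top)
    (le_loc_pw hL t (N₀ + 1)), coef_self, map_one, one_mul]
  exact fres_coef_pow_mem hL hng t N₀ y'

/-- a normally generated ample module is generated by its global sections. -/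
theorem exists_mem_loc (hLa : CohB1.IsAmple L) (hng : NormGen L) (x : X) :
    ∃ t : Γ(L, ⊤), x ∈ loc t := by
  have hL := hLa.1
  obtain ⟨n, s, hxs, -⟩ := hLa.2.2 x
  have hloc : ∀ (k : ℕ) (σ : Coh.structureModule X ⟶ CohB1.tensorPow L k),
      loc (sec σ ⊤) = CohB1.genLocus _ σ := by
    intro k σ
    unfold UPCoef.loc
    rw [homOfSection_sec_top]
  cases n with
  | zero =>
    obtain ⟨m, hm⟩ := eq_ts_one L (sec s ⊤)
    refine ⟨m, ?_⟩
    have h1 : x ∈ loc (ts (one X) m) := by
      rw [← hm]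
      exact (hloc 1 s).ge hxs
    rw [loc_ts (isInvertible_structureModule X) hL] at h1
    exact h1.2
  | succ k =>
    obtain ⟨g, ⟨m, s', rfl⟩, hg⟩ := exists_gen_mem_loc _ (hng (k + 1) (by omega)) x (sec s ⊤)
      ((hloc (k + 1 + 1) s).ge hxs)
    rw [loc_ts (isInvertible_tensorPow hL (k + 1)) hL] at hg
    exact ⟨s', hg.2⟩

/-- an element of the subring generated by a family lies in the subring generated by finitely
many members. -/
theorem exists_finset_of_mem_closure {A : Type*} [Ring A] {ι : Type*} (g : ι → A) (x : A)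
    (hx : x ∈ Subring.closure (Set.range g)) :
    ∃ F : Finset ι, x ∈ Subring.closure (g '' (F : Set ι)) := by
  classical
  induction hx using Subring.closure_induction with
  | mem z hz =>
    obtain ⟨i, rfl⟩ := hz
    exact ⟨{i}, Subring.subset_closure ⟨i, by simp, rfl⟩⟩
  | zero => exact ⟨∅, Subring.zero_mem _⟩
  | one => exact ⟨∅, Subring.one_mem _⟩
  | add a b _ _ ha hb =>
    obtain ⟨F, hF⟩ := ha
    obtain ⟨F', hF'⟩ := hb
    refine ⟨F ∪ F', Subring.add_mem _ ?_ ?_⟩
    · exact Subring.closure_mono (Set.image_mono (by simp)) hF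
    · exact Subring.closure_mono (Set.image_mono (by simp)) hF'
  | neg a _ ha =>
    obtain ⟨F, hF⟩ := ha
    exact ⟨F, Subring.neg_mem _ hF⟩
  | mul a b _ _ ha hb =>
    obtain ⟨F, hF⟩ := ha
    obtain ⟨F', hF'⟩ := hb
    refine ⟨F ∪ F', Subring.mul_mem _ ?_ ?_⟩
    · exact Subring.closure_mono (Set.image_mono (by simp)) hF
    · exact Subring.closure_mono (Set.image_mono (by simp)) hF'

/-- the criterion for a finite family, with the chart sections named separately. -/
theorem isRelVeryAmplePn_of_fintype_aux {X S : Scheme.{u}} (f : X ⟶ S) (L : X.Modules)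
    {ι : Type*} [Fintype ι] (w : ι → Γ(L, ⊤))
    {κ : Type*} (j : κ → ι) (c : κ → Γ(L, ⊤)) (hc : ∀ k, c k = w (j k))
    (hcov : ∀ x : X, ∃ k, x ∈ loc (c k))
    (V : κ → S.Opens) (hV : ∀ k, IsAffineOpen (V k))
    (hU : ∀ k, IsAffineOpen (loc (c k)))
    (hle : ∀ k, loc (c k) ≤ f ⁻¹ᵁ V k)
    (hgen : ∀ k, Subring.closure (Set.range (f.appLE (V k) (loc (c k)) (hle k)).hom ∪
      Set.range (fun i => coef (c k) (w i))) = ⊤) :
    RelAmple.IsRelVeryAmplePn f L := by
  obtain rfl : c = fun k => w (j k) := funext hc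
  exact isRelVeryAmplePn_of_fintype f L w j hcov V hV hU hle hgen

/-- **A normally generated ample module on a universally closed scheme of finite type over an
affine base is very ample.** -/
theorem isRelVeryAmplePn_of_normGen {X S : Scheme.{u}} [IsAffine S] (f : X ⟶ S)
    [UniversallyClosed f] [LocallyOfFiniteType f] (L : X.Modules) (hLa : CohB1.IsAmple L)
    (hng : NormGen L) : RelAmple.IsRelVeryAmplePn f L := by
  classical
  have hL := hLa.1
  haveI : CompactSpace X := hLa.2.1
  haveI : QuasiSeparatedSpace X := quasiSeparatedSpace_of_isAmple hLa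
  choose t ht using exists_mem_loc hLa hng
  obtain ⟨J, hJ⟩ := isCompact_univ.elim_finite_subcover
    (fun x => ((loc (t x) : X.Opens) : Set X))
    (fun x => (loc (t x)).isOpen) (fun x _ => Set.mem_iUnion.mpr ⟨x, ht x⟩)
  have haff : ∀ x, IsAffineOpen (loc (t x)) := fun x =>
    isAffineOpen_genLocus_of_universallyClosed f L hLa (homOfSection L (t x))
  have hle : ∀ x, loc (t x) ≤ f ⁻¹ᵁ ⊤ := fun x => le_top
  choose gens hgens using fun j : J => exists_finset_gen f (isAffineOpen_top S) (haff j) (hle j)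
  choose F hF using fun (j : J) (b : gens j) =>
    exists_finset_of_mem_closure (coef (t j)) b.1 (mem_closure_coef hL hng (t j) b.1)
  let w : (Σ j : J, Option (Σ b : gens j, F j b)) → Γ(L, ⊤) := fun i =>
    i.2.elim (t i.1) (fun p => p.2.1)
  refine isRelVeryAmplePn_of_fintype_aux f L w (fun j : J => ⟨j, none⟩) (fun j : J => t j)
    (fun _ => rfl) (fun x => ?_) (fun _ => ⊤)
    (fun _ => isAffineOpen_top S) (fun j => haff j) (fun j => hle j) (fun j => ?_)
  · obtain ⟨y, hy, hxy⟩ := Set.mem_iUnion₂.mp (hJ (Set.mem_univ x))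
    exact ⟨⟨y, hy⟩, hxy⟩
  · apply top_unique
    rw [← hgens j, Subring.closure_le]
    rintro z (hz | hz)
    · exact Subring.subset_closure (Or.inl hz)
    · refine Subring.closure_mono ?_ (hF j ⟨z, hz⟩)
      rintro _ ⟨t', ht', rfl⟩
      exact Or.inr ⟨⟨j, some ⟨⟨z, hz⟩, ⟨t', ht'⟩⟩⟩, rfl⟩

end Groth.Agent.Lib.Helper17.NormalGen
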