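import Mathlib.AlgebraicGeometry.Morphisms.Affine
import Mathlib.AlgebraicGeometry.PullbackCarrier
import Mathlib.AlgebraicGeometry.Pullbacks

/-!
# Functions on a product of affine opens are generated by the functions on the factors (helper17)

* `closure_range_eq_top_of_isPushout`: a pushout of commutative rings is generated by the images.
* `isAffineOpen_and_closure_eq_top`: for `a : P ⟶ B`, `b : Q ⟶ B` and affine opens `A ⊆ P`,
  `C ⊆ Q` lying over an affine open `W ⊆ B`, the open `fst⁻¹ A ⊓ snd⁻¹ C` of `P ×_B Q` is affine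
  and its ring of functions is generated by the images of `Γ(A)` and `Γ(C)`.
-/

set_option autoImplicit false
universe u
open AlgebraicGeometry CategoryTheory Limits TopologicalSpace Opposite

namespace Groth.Agent.Lib.Helper17.PullbackGen

theorem closure_range_eq_top_of_isPushout {R A B P : CommRingCat.{u}} {f : R ⟶ A} {g : R ⟶ B}
    {inl : A ⟶ P} {inr : B ⟶ P} (h : IsPushout f g inl inr) :
    Subring.closure (Set.range inl.hom ∪ Set.range inr.hom) = ⊤ := by
  set C : Subring P := Subring.closure (Set.range inl.hom ∪ Set.range inr.hom) with hC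
  let ι : CommRingCat.of C ⟶ P := CommRingCat.ofHom C.subtype
  let inl' : A ⟶ CommRingCat.of C := CommRingCat.ofHom
    (inl.hom.codRestrict C (fun x => Subring.subset_closure (Or.inl ⟨x, rfl⟩)))
  let inr' : B ⟶ CommRingCat.of C := CommRingCat.ofHom
    (inr.hom.codRestrict C (fun x => Subring.subset_closure (Or.inr ⟨x, rfl⟩)))
  have hl : inl' ≫ ι = inl := by ext x; rfl
  have hr : inr' ≫ ι = inr := by ext x; rfl
  have hw : f ≫ inl' = g ≫ inr' := by
    ext x
    exact congrArg (fun φ => φ.hom x) h.w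
  let d : P ⟶ CommRingCat.of C := h.desc inl' inr' hw
  have hd : d ≫ ι = 𝟙 P := by
    apply h.hom_ext
    · rw [← Category.assoc, h.inl_desc, hl, Category.comp_id]
    · rw [← Category.assoc, h.inr_desc, hr, Category.comp_id]
  rw [eq_top_iff]
  intro x _
  have : (d ≫ ι).hom x = x := by rw [hd]; rfl
  rw [← this]
  exact (d.hom x).2

theorem appTop_eq {X Y : Scheme.{u}} (f : X ⟶ Y) :
    f.appTop = f.appLE ⊤ ⊤ le_top := by
  rw [Scheme.Hom.appTop, Scheme.Hom.app_eq_appLE]
  rfl

/-- restriction along an open immersion onto `U` is surjective on functions. -/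
theorem appLE_surjective_of_image_eq {X Y : Scheme.{u}} (f : X ⟶ Y) [IsOpenImmersion f]
    (V : X.Opens) (U : Y.Opens) (h : f ''ᵁ V = U) (e : V ≤ f ⁻¹ᵁ U) :
    Function.Bijective (f.appLE U V e).hom := by
  subst h
  have : f.appLE (f ''ᵁ V) V e = (f.appIso V).hom := (f.appIso_hom' V).symm
  rw [this]
  exact ConcreteCategory.bijective_of_isIso (f.appIso V).hom

theorem isAffineOpen_and_closure_eq_top {P Q B : Scheme.{u}} (a : P ⟶ B) (b : Q ⟶ B)
    (A : P.Opens) (C : Q.Opens) (W : B.Opens) (hA : IsAffineOpen A) (hC : IsAffineOpen C)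
    (hW : IsAffineOpen W) (hAW : A ≤ a ⁻¹ᵁ W) (hCW : C ≤ b ⁻¹ᵁ W) :
    IsAffineOpen (pullback.fst a b ⁻¹ᵁ A ⊓ pullback.snd a b ⁻¹ᵁ C) ∧
      Subring.closure
        (Set.range ((pullback.fst a b).appLE A (pullback.fst a b ⁻¹ᵁ A ⊓ pullback.snd a b ⁻¹ᵁ C)
          inf_le_left).hom ∪
        Set.range ((pullback.snd a b).appLE C (pullback.fst a b ⁻¹ᵁ A ⊓ pullback.snd a b ⁻¹ᵁ C)
          inf_le_right).hom) = ⊤ := by
  have : IsAffine (A : Scheme.{u}) := hA
  have : IsAffine (C : Scheme.{u}) := hC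
  have : IsAffine (W : Scheme.{u}) := hW
  have hra : Set.range (A.ι ≫ a) ⊆ Set.range W.ι := by
    rintro _ ⟨x, rfl⟩
    rw [Scheme.Opens.range_ι]
    exact hAW x.2
  have hrb : Set.range (C.ι ≫ b) ⊆ Set.range W.ι := by
    rintro _ ⟨x, rfl⟩
    rw [Scheme.Opens.range_ι]
    exact hCW x.2
  let a' : (A : Scheme.{u}) ⟶ (W : Scheme.{u}) := IsOpenImmersion.lift W.ι (A.ι ≫ a) hra
  let b' : (C : Scheme.{u}) ⟶ (W : Scheme.{u}) := IsOpenImmersion.lift W.ι (C.ι ≫ b) hrb
  have ha' : a' ≫ W.ι = A.ι ≫ a := IsOpenImmersion.lift_fac _ _ _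
  have hb' : b' ≫ W.ι = C.ι ≫ b := IsOpenImmersion.lift_fac _ _ _
  let m : pullback a' b' ⟶ pullback a b := pullback.map a' b' a b A.ι C.ι W.ι ha' hb'
  have hm1 : m ≫ pullback.fst a b = pullback.fst a' b' ≫ A.ι := pullback.lift_fst _ _ _
  have hm2 : m ≫ pullback.snd a b = pullback.snd a' b' ≫ C.ι := pullback.lift_snd _ _ _
  have hrange : m ''ᵁ ⊤ = pullback.fst a b ⁻¹ᵁ A ⊓ pullback.snd a b ⁻¹ᵁ C := by
    rw [Scheme.Hom.image_top_eq_opensRange]
    apply Opens.ext
    have := Scheme.Pullback.range_map a' b' a b A.ι C.ι W.ι ha' hb'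
    simp only [Scheme.Opens.range_ι] at this
    exact this
  refine ⟨?_, ?_⟩
  · rw [← hrange, Scheme.Hom.image_top_eq_opensRange]
    exact isAffineOpen_opensRange m
  · set U := pullback.fst a b ⁻¹ᵁ A ⊓ pullback.snd a b ⁻¹ᵁ C with hU
    have hle : (⊤ : (pullback a' b').Opens) ≤ m ⁻¹ᵁ U := by
      rw [← hrange]
      exact (m.preimage_image_eq ⊤).ge
    have hρ := appLE_surjective_of_image_eq m ⊤ U hrange hle
    have hleA : (⊤ : (A : Scheme.{u}).Opens) ≤ A.ι ⁻¹ᵁ A := by rw [Scheme.Opens.ι_preimage_self]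
    have hleC : (⊤ : (C : Scheme.{u}).Opens) ≤ C.ι ⁻¹ᵁ C := by rw [Scheme.Opens.ι_preimage_self]
    have hPO := isPushout_appTop_of_isPullback (IsPullback.of_hasPullback a' b')
    have hcl := closure_range_eq_top_of_isPushout hPO
    -- the composites
    have h1 : (pullback.fst a b).appLE A U inf_le_left ≫ m.appLE U ⊤ hle =
        A.ι.appLE A ⊤ hleA ≫
          (pullback.fst a' b').appTop := by
      rw [Scheme.Hom.appLE_comp_appLE, appTop_eq, Scheme.Hom.appLE_comp_appLE]
      congr 1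
    have h2 : (pullback.snd a b).appLE C U inf_le_right ≫ m.appLE U ⊤ hle =
        C.ι.appLE C ⊤ hleC ≫
          (pullback.snd a' b').appTop := by
      rw [Scheme.Hom.appLE_comp_appLE, appTop_eq, Scheme.Hom.appLE_comp_appLE]
      congr 1
    have hsA := (appLE_surjective_of_image_eq A.ι ⊤ A A.ι_image_top hleA).2
    have hsC := (appLE_surjective_of_image_eq C.ι ⊤ C C.ι_image_top hleC).2
    rw [eq_top_iff]
    intro x _
    have hx : (m.appLE U ⊤ hle).hom x ∈ Subring.closure
        (Set.range (pullback.fst a' b').appTop.hom ∪ Set.range (pullback.snd a' b').appTop.hom) := by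
      rw [hcl]; trivial
    have key : ∀ y ∈ Subring.closure
        (Set.range (pullback.fst a' b').appTop.hom ∪ Set.range (pullback.snd a' b').appTop.hom),
        ∃ x' ∈ Subring.closure
          (Set.range ((pullback.fst a b).appLE A U inf_le_left).hom ∪
            Set.range ((pullback.snd a b).appLE C U inf_le_right).hom),
          (m.appLE U ⊤ hle).hom x' = y := by
      intro y hy
      induction hy using Subring.closure_induction with
      | mem y hy =>
        rcases hy with ⟨z, rfl⟩ | ⟨z, rfl⟩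
        · obtain ⟨z', rfl⟩ := hsA z
          refine ⟨((pullback.fst a b).appLE A U inf_le_left).hom z',
            Subring.subset_closure (Or.inl ⟨z', rfl⟩), ?_⟩
          exact congrArg (fun φ => φ.hom z') h1
        · obtain ⟨z', rfl⟩ := hsC z
          refine ⟨((pullback.snd a b).appLE C U inf_le_right).hom z',
            Subring.subset_closure (Or.inr ⟨z', rfl⟩), ?_⟩
          exact congrArg (fun φ => φ.hom z') h2
      | zero => exact ⟨0, Subring.zero_mem _, map_zero _⟩
      | one => exact ⟨1, Subring.one_mem _, map_one _⟩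
      | add y y' _ _ hy hy' =>
        obtain ⟨x1, hx1, rfl⟩ := hy
        obtain ⟨x2, hx2, rfl⟩ := hy'
        exact ⟨x1 + x2, Subring.add_mem _ hx1 hx2, map_add _ _ _⟩
      | neg y _ hy =>
        obtain ⟨x1, hx1, rfl⟩ := hy
        exact ⟨-x1, Subring.neg_mem _ hx1, map_neg _ _⟩
      | mul y y' _ _ hy hy' =>
        obtain ⟨x1, hx1, rfl⟩ := hy
        obtain ⟨x2, hx2, rfl⟩ := hy'
        exact ⟨x1 * x2, Subring.mul_mem _ hx1 hx2, map_mul _ _ _⟩
    obtain ⟨x', hx', hxx'⟩ := key _ hx
    rw [← hρ.1 hxx']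
    exact hx'

end Groth.Agent.Lib.Helper17.PullbackGen
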