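import Mathlib

/-!
# Graded lifts and symmetric algebras (helper17)

* `gradedLift 𝒮 f`: the ring hom `S →+* B` assembled from additive maps `f k : 𝒮 k →+ B` that are
  multiplicative across degrees.
* `IsSymmetricAlgebra.lift_smul_of_mem`: for a symmetric algebra `S` of `M` graded with `ι M ⊆ 𝒮 1`,
  `lift (c • ℓ) s = c ^ k * lift ℓ s` for `s ∈ 𝒮 k`.
-/

set_option autoImplicit false
universe u v
open DirectSum

namespace Groth.Agent.Lib.Helper17.UPSym

variable {A S : Type u} [CommRing A] [CommRing S] [Algebra A S] (𝒮 : ℕ → Submodule A S)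
  [GradedAlgebra 𝒮]

section lift
variable {B : Type v} [CommRing B] (f : ∀ k, 𝒮 k →+ B)
  (hone : f 0 ⟨1, SetLike.GradedOne.one_mem⟩ = 1)
  (hmul : ∀ {i j : ℕ} (a : 𝒮 i) (b : 𝒮 j),
    f (i + j) ⟨(a : S) * b, SetLike.mul_mem_graded a.2 b.2⟩ = f i a * f j b)

/-- the ring hom `s ↦ Σ_k f k (s_k)`. -/
noncomputable def gradedLift : S →+* B :=
  (DirectSum.toSemiring f hone (fun a b => hmul a b)).comp
    (DirectSum.decomposeRingEquiv 𝒮).toRingHom

theorem gradedLift_of_mem {k : ℕ} {s : S} (hs : s ∈ 𝒮 k) :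
    gradedLift 𝒮 f hone hmul s = f k ⟨s, hs⟩ := by
  change DirectSum.toSemiring f hone (fun a b => hmul a b) (DirectSum.decompose 𝒮 s) = _
  rw [DirectSum.decompose_of_mem 𝒮 hs, DirectSum.toSemiring_of]

variable [Algebra A B]

/-- `gradedLift` as an algebra hom. -/
noncomputable def gradedLiftAlg
    (halg : ∀ a : A, f 0 ⟨algebraMap A S a, SetLike.algebraMap_mem_graded 𝒮 a⟩ = algebraMap A B a) :
    S →ₐ[A] B :=
  { gradedLift 𝒮 f hone hmul with
    commutes' := fun a => by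
      change gradedLift 𝒮 f hone hmul (algebraMap A S a) = _
      rw [gradedLift_of_mem 𝒮 f hone hmul (SetLike.algebraMap_mem_graded 𝒮 a), halg] }

theorem gradedLiftAlg_of_mem
    (halg : ∀ a : A, f 0 ⟨algebraMap A S a, SetLike.algebraMap_mem_graded 𝒮 a⟩ = algebraMap A B a)
    {k : ℕ} {s : S} (hs : s ∈ 𝒮 k) :
    gradedLiftAlg 𝒮 f hone hmul halg s = f k ⟨s, hs⟩ :=
  gradedLift_of_mem 𝒮 f hone hmul hs

end lift

section sym
variable {M : Type u} [AddCommGroup M] [Module A M] {ι : M →ₗ[A] S} (hι : ∀ m : M, ι m ∈ 𝒮 1)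
  (hsym : IsSymmetricAlgebra ι) {B : Type v} [CommRing B] [Algebra A B]

include hι in
/-- scaling the linear map by `c` scales the lift by `c ^ k` in degree `k`. -/
theorem lift_smul_of_mem (ℓ ℓ' : M →ₗ[A] B) (c : B) (h : ∀ m, ℓ m = c * ℓ' m) {k : ℕ} {s : S}
    (hs : s ∈ 𝒮 k) : hsym.lift ℓ s = c ^ k * hsym.lift ℓ' s := by
  let f : ∀ k, 𝒮 k →+ B := fun k =>
    (AddMonoidHom.mulLeft (c ^ k)).comp
      ((hsym.lift ℓ' : S →+ B).comp (𝒮 k).subtype.toAddMonoidHom)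
  have hf : ∀ (k : ℕ) (x : 𝒮 k), f k x = c ^ k * hsym.lift ℓ' (x : S) := fun _ _ => rfl
  let F : S →ₐ[A] B := gradedLiftAlg 𝒮 f
    (by rw [hf]; simp)
    (by intro i j a b; rw [hf, hf, hf]; simp only [map_mul, pow_add]; ring)
    (by intro a; rw [hf]; simp)
  have hF : F = hsym.lift ℓ := by
    apply hsym.algHom_ext
    ext m
    change F (ι m) = hsym.lift ℓ (ι m)
    rw [hsym.lift_eq, h m]
    refine (gradedLiftAlg_of_mem 𝒮 f _ _ _ (hι m)).trans ?_
    rw [hf, pow_one]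
    change c * hsym.lift ℓ' (ι m) = _
    rw [hsym.lift_eq]
  rw [← hF]
  exact (gradedLiftAlg_of_mem 𝒮 f _ _ _ hs).trans (hf k ⟨s, hs⟩)

end sym

end Groth.Agent.Lib.Helper17.UPSym
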