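import Groth.Agent.Lib.Helper17.UPProj
import Groth.Agent.Lib.Helper17.UPSym

/-!
# Charts of `Proj`: dehomogenisation with respect to a degree-one element (helper17)
-/

set_option autoImplicit false
set_option linter.unusedSectionVars false
universe u
open AlgebraicGeometry CategoryTheory Limits TopologicalSpace Opposite HomogeneousLocalization

namespace Groth.Agent.Lib.Helper17.UPChart
open Groth.Agent.Lib.Helper17.OFrac Groth.Agent.Lib.Helper17.UPSym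
  Groth.Agent.Lib.Helper17.ProjGlobal Groth.Agent.Lib.Helper17.UPProj

variable {R A : Type u} [CommRing R] [CommRing A] [Algebra R A] (𝒜 : ℕ → Submodule R A)
  [GradedAlgebra 𝒜]

variable {t : A} (ht : t ∈ 𝒜 1)

include ht in
theorem good_chart {k : ℕ} {s : A} (hs : s ∈ 𝒜 k) :
    Good 𝒜 (Proj.basicOpen 𝒜 t) k s (t ^ k) :=
  good_of hs (pow_mem_one ht k) ((nv_basicOpen t).pow k)

/-- degree-`k` piece of dehomogenisation `s ↦ s / t ^ k`. -/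
noncomputable def dehomDeg (k : ℕ) : 𝒜 k →+ Γ(Proj 𝒜, Proj.basicOpen 𝒜 t) :=
  AddMonoidHom.mk' (fun s => oFrac 𝒜 (Proj.basicOpen 𝒜 t) k (s : A) (t ^ k))
    (fun a b => (oFrac_add 𝒜 (good_chart 𝒜 ht a.2) (good_chart 𝒜 ht b.2)).symm)

theorem dehomDeg_apply (k : ℕ) (s : 𝒜 k) :
    dehomDeg 𝒜 ht k s = oFrac 𝒜 (Proj.basicOpen 𝒜 t) k (s : A) (t ^ k) := rfl

/-- dehomogenisation `A →+* Γ(D₊(t))` for `t` of degree one: `s ↦ s / t ^ k` on `𝒜 k`. -/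
noncomputable def dehom : A →+* Γ(Proj 𝒜, Proj.basicOpen 𝒜 t) :=
  gradedLift 𝒜 (dehomDeg 𝒜 ht)
    (by
      rw [dehomDeg_apply]
      have G := good_chart 𝒜 ht (SetLike.GradedOne.one_mem : (1 : A) ∈ 𝒜 0)
      rw [pow_zero] at G ⊢
      exact oFrac_self 𝒜 G)
    (by
      intro i j a b
      rw [dehomDeg_apply, dehomDeg_apply, dehomDeg_apply,
        oFrac_mul 𝒜 (good_chart 𝒜 ht a.2) (good_chart 𝒜 ht b.2), pow_add])

theorem dehom_of_mem {k : ℕ} {s : A} (hs : s ∈ 𝒜 k) :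
    dehom 𝒜 ht s = oFrac 𝒜 (Proj.basicOpen 𝒜 t) k s (t ^ k) :=
  gradedLift_of_mem 𝒜 (dehomDeg 𝒜 ht) _ (fun a b => by
      rw [dehomDeg_apply, dehomDeg_apply, dehomDeg_apply,
        oFrac_mul 𝒜 (good_chart 𝒜 ht a.2) (good_chart 𝒜 ht b.2), pow_add]) hs

include ht in
theorem dehom_surjective : Function.Surjective (dehom 𝒜 ht) := by
  intro z
  obtain ⟨n, a, ha, rfl⟩ := Groth.Agent.Lib.Helper17.SerreFinite.exists_eq_oFrac 𝒜 ht z
  exact ⟨a, dehom_of_mem 𝒜 ht ha⟩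

/-- the structure map of `Proj 𝒜` over `Spec R`. -/
noncomputable abbrev strMap : Proj 𝒜 ⟶ Spec (CommRingCat.of R) :=
  Proj.toSpecZero 𝒜 ≫ Spec.map (CommRingCat.ofHom (algebraMap R (𝒜 0)))

/-- on constants, a morphism to `Proj 𝒜` is given on charts by its composite to `Spec R`. -/
theorem appLE_dehom_algebraMap {X : Scheme.{u}} (r : X ⟶ Proj 𝒜) (W : X.Opens)
    (hW : W ≤ r ⁻¹ᵁ Proj.basicOpen 𝒜 t) (a : R) :
    (r.appLE (Proj.basicOpen 𝒜 t) W hW).hom (dehom 𝒜 ht (algebraMap R A a)) =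
      (X.presheaf.map (homOfLE (le_top : W ≤ ⊤)).op).hom ((gHom (r ≫ strMap 𝒜)).hom a) := by
  rw [dehom_of_mem 𝒜 ht (SetLike.algebraMap_mem_graded 𝒜 a), pow_zero, gHom_comp]
  have h1 : (gHom (strMap 𝒜)).hom a = oFrac 𝒜 ⊤ 0 (algebraMap R A a) 1 := toGlobal_apply 𝒜 a
  have G : Good 𝒜 (⊤ : (Proj 𝒜).Opens) 0 (algebraMap R A a) 1 := good_zero 𝒜 (algebraMap R (𝒜 0) a)
  have h2 := res_oFrac 𝒜 (homOfLE (le_top : Proj.basicOpen 𝒜 t ≤ ⊤)) G
  rw [← h2]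
  have h3 := Scheme.Hom.map_appLE r hW (homOfLE (le_top : Proj.basicOpen 𝒜 t ≤ ⊤)).op
  have h4 := congrArg (fun φ => (CommRingCat.Hom.hom φ) (oFrac 𝒜 ⊤ 0 (algebraMap R A a) 1)) h3
  refine h4.trans ?_
  change _ = (X.presheaf.map (homOfLE (le_top : W ≤ ⊤)).op).hom (r.appTop.hom ((gHom (strMap 𝒜)).hom a))
  rw [h1]
  rfl

end Groth.Agent.Lib.Helper17.UPChart
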