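import Groth.Agent.Lib.Helper17.VeryAmpleCritGen
import Groth.Agent.Lib.Helper17.PullbackGen
import Groth.Agent.Lib.Helper17.NormalGen
import Groth.Agent.Lib.Helper17.UPChart
import Groth.Agent.Lib.Helper17.ProjSpaceProper

/-!
# The Segre embedding `P^n_S ×_S P^m_S ⟶ P^{nm+n+m}_S` (helper17)
-/

set_option autoImplicit false
set_option linter.unusedSectionVars false
set_option linter.style.haveILetI false
universe u
open AlgebraicGeometry CategoryTheory Limits TopologicalSpace Opposite HomogeneousLocalization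

namespace Groth.Agent.Lib.Helper17.Segre
open Groth.Agent.Lib.Helper11 Groth.Agent.Lib.Helper11.GenLocus Groth.Agent.Lib.Helper45
  Groth.Agent.Lib.Helper49 Groth.Agent.Lib.Helper17.OFrac Groth.Agent.Lib.Helper17.TwistGen
  Groth.Agent.Lib.Helper17.TwistAmple Groth.Agent.Lib.Helper17.UPPull
  Groth.Agent.Lib.Helper17.UPGen Groth.Agent.Lib.Helper17.UPProj
  Groth.Agent.Lib.Helper17.UPCoef Groth.Agent.Lib.Helper17.UPSecKernel
  Groth.Agent.Lib.Helper17.PnSections Groth.Agent.Lib.Helper17.UPUniq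
  Groth.Agent.Lib.Helper17.VeryAmpleCrit Groth.Agent.Lib.Helper17.VeryAmpleTensor
  Groth.Agent.Lib.Helper17.VeryAmpleCritGen Groth.Agent.Lib.Helper17.PullbackGen

/-- the coordinate ring of the standard chart `D₊(T_a)` of `P^n_ℤ` is generated by the ratios
`T_c / T_a`. -/
theorem closure_ratios_eq_top (n : ℕ) (a : Fin (n + 1)) :
    Subring.closure (Set.range (fun c' : Fin (n + 1) =>
      oFrac (CohB1.polyGrading n (ULift.{u} ℤ)) (D (ULift.{u} ℤ) n a) 1
        (T n (ULift.{u} ℤ) c') (T n (ULift.{u} ℤ) a))) = ⊤ := by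
  apply top_unique
  intro z _
  obtain ⟨p, rfl⟩ := UPChart.dehom_surjective (CohB1.polyGrading n (ULift.{u} ℤ))
    (T_mem n (ULift.{u} ℤ) a) z
  clear ‹_ ∈ (⊤ : Subring _)›
  induction p using MvPolynomial.induction_on with
  | C r =>
    have : (MvPolynomial.C r : MvPolynomial (Fin (n + 1)) (ULift.{u} ℤ)) =
        ((r.down : ℤ) : MvPolynomial (Fin (n + 1)) (ULift.{u} ℤ)) := by
      rw [← map_intCast (MvPolynomial.C : ULift.{u} ℤ →+* MvPolynomial (Fin (n + 1)) (ULift.{u} ℤ))]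
      congr 1
    rw [this, map_intCast]
    exact intCast_mem _ _
  | add p q hp hq => rw [map_add]; exact Subring.add_mem _ hp hq
  | mul_X p c' hp =>
    rw [map_mul]
    refine Subring.mul_mem _ hp (Subring.subset_closure ⟨c', ?_⟩)
    rw [UPChart.dehom_of_mem _ _ (T_mem n (ULift.{u} ℤ) c'), pow_one]

/-- if a generating set is mapped into a subring, so is everything. -/
theorem map_mem_of_closure_eq_top {A B : Type*} [Ring A] [Ring B] (φ : A →+* B) (G : Subring B)
    (T : Set A) (hT : Subring.closure T = ⊤) (h : ∀ z ∈ T, φ z ∈ G) (z : A) : φ z ∈ G := by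
  have : Subring.closure T ≤ G.comap φ := by
    rw [Subring.closure_le]
    exact h
  exact this (by rw [hT]; trivial)

/-- variant of `exists_immersion_of_sections` with named charts. -/
theorem exists_immersion_of_sections_aux {X S : Scheme.{u}} (f : X ⟶ S) (L : X.Modules) (n : ℕ)
    (w : Fin (n + 1) → Γ(L, ⊤)) {κ : Type*} (j : κ → Fin (n + 1)) (V : κ → S.Opens)
    (hV : ∀ k, IsAffineOpen (V k)) (U : κ → X.Opens)
    (hUeq : ∀ k, U k = loc (w (j k)) ⊓ f ⁻¹ᵁ V k)
    (hcov : ∀ x : X, ∃ k, x ∈ U k)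
    (hU : ∀ k, IsAffineOpen (U k))
    (hgen : ∀ k, Subring.closure
      (Set.range (f.appLE (V k) (U k) ((hUeq k).le.trans inf_le_right)).hom ∪
      Set.range (fun c' => fres ((hUeq k).le.trans inf_le_left)
        (coef (w (j k)) (w c')))) = ⊤) :
    ∃ i : X ⟶ CohB1.ProjSpaceOver n S, IsImmersion i ∧
      i ≫ pullback.snd (CohB1.ProjSpace.toSpec n (ULift.{u} ℤ)) (specULiftZIsTerminal.from S) = f ∧
      Nonempty (L ≅ (Scheme.Modules.pullback i).obj (Twist.twistOver n S 1)) := by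
  obtain rfl : U = fun k => loc (w (j k)) ⊓ f ⁻¹ᵁ V k := funext hUeq
  exact exists_immersion_of_sections f L n w j V hV hcov hU hgen

theorem appLE_appLE_eq {X Y Z' : Scheme.{u}} (g : X ⟶ Y) (h : Y ⟶ Z') (k : X ⟶ Z')
    (hk : g ≫ h = k) (W : Z'.Opens) (B : Y.Opens) (U : X.Opens) (e' : B ≤ h ⁻¹ᵁ W)
    (e : U ≤ g ⁻¹ᵁ B) (e'' : U ≤ k ⁻¹ᵁ W) (y' : Γ(Z', W)) :
    (g.appLE B U e).hom ((h.appLE W B e').hom y') = (k.appLE W U e'').hom y' := by
  subst hk
  exact congrArg (fun φ => φ.hom y') (Scheme.Hom.appLE_comp_appLE g h W B U e' e)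

theorem appLE_ratio {R : Type u} [CommRing R] (n : ℕ) {X : Scheme.{u}}
    (r : X ⟶ CohB1.ProjSpace n R) {L : X.Modules}
    (τ : (Scheme.Modules.pullback r).obj (Twist.twistProjSpace n R 1) ≅ L)
    (w : Fin (n + 1) → Γ(L, ⊤))
    (hτ : ∀ i, τ.hom.app ⊤ (ProjUP.pullSec r (Twist.twistProjSpace n R 1) (ProjUP.coord n R i)) = w i)
    (c c' : Fin (n + 1)) (U : X.Opens) (hU : U ≤ loc (w c)) (hU' : U ≤ r ⁻¹ᵁ D R n c) :
    (r.appLE (D R n c) U hU').hom (oFrac (CohB1.polyGrading n R) (D R n c) 1 (T n R c') (T n R c)) =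
      fres hU (coef (w c) (w c')) := by
  rw [← appLE_oFrac n r τ w hτ c c', fres_appLE]

/-- the index equivalence for the Segre embedding. -/
def idx (n m : ℕ) : Fin (n * m + n + m + 1) ≃ Fin (n + 1) × Fin (m + 1) :=
  (finCongr (by ring)).trans finProdFinEquiv.symm

set_option maxHeartbeats 1600000 in
/-- **The Segre embedding**, with its compatibility with `O(1)`. -/
theorem exists_segre (S : Scheme.{u}) (n m : ℕ) :
    ∃ φ : pullback (pullback.snd (CohB1.ProjSpace.toSpec n (ULift.{u} ℤ)) (specULiftZIsTerminal.from S))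
            (pullback.snd (CohB1.ProjSpace.toSpec m (ULift.{u} ℤ)) (specULiftZIsTerminal.from S)) ⟶
          pullback (CohB1.ProjSpace.toSpec (n * m + n + m) (ULift.{u} ℤ)) (specULiftZIsTerminal.from S),
      IsClosedImmersion φ ∧
      φ ≫ pullback.snd (CohB1.ProjSpace.toSpec (n * m + n + m) (ULift.{u} ℤ))
          (specULiftZIsTerminal.from S) =
        pullback.fst (pullback.snd (CohB1.ProjSpace.toSpec n (ULift.{u} ℤ)) (specULiftZIsTerminal.from S))
            (pullback.snd (CohB1.ProjSpace.toSpec m (ULift.{u} ℤ)) (specULiftZIsTerminal.from S)) ≫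
          pullback.snd (CohB1.ProjSpace.toSpec n (ULift.{u} ℤ)) (specULiftZIsTerminal.from S) ∧
      Nonempty (CohB1.tensorMod
          ((Scheme.Modules.pullback (pullback.fst
            (pullback.snd (CohB1.ProjSpace.toSpec n (ULift.{u} ℤ)) (specULiftZIsTerminal.from S))
            (pullback.snd (CohB1.ProjSpace.toSpec m (ULift.{u} ℤ))
              (specULiftZIsTerminal.from S)))).obj (Twist.twistOver n S 1))
          ((Scheme.Modules.pullback (pullback.snd
            (pullback.snd (CohB1.ProjSpace.toSpec n (ULift.{u} ℤ)) (specULiftZIsTerminal.from S))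
            (pullback.snd (CohB1.ProjSpace.toSpec m (ULift.{u} ℤ))
              (specULiftZIsTerminal.from S)))).obj (Twist.twistOver m S 1)) ≅
        (Scheme.Modules.pullback φ).obj (Twist.twistOver (n * m + n + m) S 1)) := by
  classical
  set tn := CohB1.ProjSpace.toSpec n (ULift.{u} ℤ) with htn
  set tm' := CohB1.ProjSpace.toSpec m (ULift.{u} ℤ) with htm
  set σ := specULiftZIsTerminal.from S with hσ
  set p₁ := pullback.fst (pullback.snd tn σ) (pullback.snd tm' σ) with hp₁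
  set p₂ := pullback.snd (pullback.snd tn σ) (pullback.snd tm' σ) with hp₂
  set f := p₁ ≫ pullback.snd tn σ with hf
  have hf2 : p₂ ≫ pullback.snd tm' σ = f := pullback.condition.symm
  obtain ⟨r₁, hr₁⟩ : ∃ r₁ : pullback (pullback.snd tn σ) (pullback.snd tm' σ) ⟶
      Proj (CohB1.polyGrading n (ULift.{u} ℤ)), r₁ = p₁ ≫ pullback.fst tn σ := ⟨_, rfl⟩
  obtain ⟨r₂, hr₂⟩ : ∃ r₂ : pullback (pullback.snd tn σ) (pullback.snd tm' σ) ⟶
      Proj (CohB1.polyGrading m (ULift.{u} ℤ)), r₂ = p₂ ≫ pullback.fst tm' σ := ⟨_, rfl⟩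
  set L₁ := (Scheme.Modules.pullback r₁).obj (Twist.twistProjSpace n (ULift.{u} ℤ) 1) with hL₁d
  set L₂ := (Scheme.Modules.pullback r₂).obj (Twist.twistProjSpace m (ULift.{u} ℤ) 1) with hL₂d
  have hL₁ : PicF.IsInvertible L₁ := PullbackTensor.isInvertible_pullback r₁ (isInvertible_O1 n)
  have hL₂ : PicF.IsInvertible L₂ := PullbackTensor.isInvertible_pullback r₂ (isInvertible_O1 m)
  set u : Fin (n + 1) → Γ(L₁, ⊤) := fun a =>
    ProjUP.pullSec r₁ (Twist.twistProjSpace n (ULift.{u} ℤ) 1) (ProjUP.coord n (ULift.{u} ℤ) a) with hu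
  set v : Fin (m + 1) → Γ(L₂, ⊤) := fun b =>
    ProjUP.pullSec r₂ (Twist.twistProjSpace m (ULift.{u} ℤ) 1) (ProjUP.coord m (ULift.{u} ℤ) b) with hv
  have hlocu : ∀ a, loc (u a) = r₁ ⁻¹ᵁ D (ULift.{u} ℤ) n a := fun a =>
    loc_eq n r₁ (Iso.refl _) u (fun _ => rfl) a
  have hlocv : ∀ b, loc (v b) = r₂ ⁻¹ᵁ D (ULift.{u} ℤ) m b := fun b =>
    loc_eq m r₂ (Iso.refl _) v (fun _ => rfl) b
  set e := idx n m with he
  set L := CohB1.tensorMod L₁ L₂ with hLd
  set w : Fin (n * m + n + m + 1) → Γ(L, ⊤) := fun c => ts (u (e c).1) (v (e c).2) with hw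
  have hlocw : ∀ c, loc (w c) = r₁ ⁻¹ᵁ D (ULift.{u} ℤ) n (e c).1 ⊓ r₂ ⁻¹ᵁ D (ULift.{u} ℤ) m (e c).2 :=
    fun c => by
      rw [← hlocu, ← hlocv]
      exact loc_ts hL₁ hL₂ _ _
  -- the charts
  let κ := Fin (n + 1) × Fin (m + 1) × S.affineOpens
  let j : κ → Fin (n * m + n + m + 1) := fun k => e.symm (k.1, k.2.1)
  let V : κ → S.Opens := fun k => k.2.2.1
  let A : κ → (pullback tn σ).Opens := fun k =>
    pullback.fst tn σ ⁻¹ᵁ D (ULift.{u} ℤ) n k.1 ⊓ pullback.snd tn σ ⁻¹ᵁ V k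
  let C : κ → (pullback tm' σ).Opens := fun k =>
    pullback.fst tm' σ ⁻¹ᵁ D (ULift.{u} ℤ) m k.2.1 ⊓ pullback.snd tm' σ ⁻¹ᵁ V k
  let U : κ → (pullback (pullback.snd tn σ) (pullback.snd tm' σ)).Opens := fun k =>
    p₁ ⁻¹ᵁ A k ⊓ p₂ ⁻¹ᵁ C k
  have hV : ∀ k, IsAffineOpen (V k) := fun k => k.2.2.2
  have hDn : ∀ a, IsAffineOpen (D (ULift.{u} ℤ) n a) := fun a =>
    Proj.isAffineOpen_basicOpen (CohB1.polyGrading n (ULift.{u} ℤ)) _
      (T_mem n (ULift.{u} ℤ) a) one_pos
  have hDm : ∀ b, IsAffineOpen (D (ULift.{u} ℤ) m b) := fun b =>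
    Proj.isAffineOpen_basicOpen (CohB1.polyGrading m (ULift.{u} ℤ)) _
      (T_mem m (ULift.{u} ℤ) b) one_pos
  have hKA := fun k : κ => isAffineOpen_and_closure_eq_top tn σ (D (ULift.{u} ℤ) n k.1) (V k) ⊤
    (hDn k.1) (hV k) (isAffineOpen_top _) (fun _ _ => trivial) (fun _ _ => trivial)
  have hKC := fun k : κ => isAffineOpen_and_closure_eq_top tm' σ (D (ULift.{u} ℤ) m k.2.1) (V k) ⊤
    (hDm k.2.1) (hV k) (isAffineOpen_top _) (fun _ _ => trivial) (fun _ _ => trivial)
  have hKU := fun k : κ => isAffineOpen_and_closure_eq_top (pullback.snd tn σ) (pullback.snd tm' σ)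
    (A k) (C k) (V k) (hKA k).1 (hKC k).1 (hV k) inf_le_right inf_le_right
  have hej : ∀ k : κ, e (j k) = (k.1, k.2.1) := fun k => e.apply_symm_apply _
  have hUeq : ∀ k, U k = loc (w (j k)) ⊓ f ⁻¹ᵁ V k := by
    intro k
    rw [hlocw, hej]
    apply le_antisymm
    · rintro x ⟨⟨h1, h2⟩, ⟨h3, h4⟩⟩
      refine ⟨⟨?_, ?_⟩, h2⟩
      · rw [hr₁]; exact h1
      · rw [hr₂]; exact h3
    · rintro x ⟨⟨h1, h3⟩, h2⟩
      refine ⟨⟨?_, h2⟩, ⟨?_, ?_⟩⟩
      · rw [hr₁] at h1; exact h1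
      · rw [hr₂] at h3; exact h3
      · have : x ∈ (p₂ ≫ pullback.snd tm' σ) ⁻¹ᵁ V k := by rw [hf2]; exact h2
        exact this
  have hcov : ∀ x, ∃ k, x ∈ U k := by
    intro x
    obtain ⟨a, ha⟩ := exists_T_not_mem n (ULift.{u} ℤ) (r₁.base x)
    obtain ⟨b, hb⟩ := exists_T_not_mem m (ULift.{u} ℤ) (r₂.base x)
    obtain ⟨W, hW, hxW, -⟩ := exists_isAffineOpen_mem_and_subset
      (show f.base x ∈ (⊤ : S.Opens) from trivial)
    refine ⟨(a, b, ⟨W, hW⟩), ?_⟩
    rw [hUeq, hlocw, hej]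
    exact ⟨⟨ha, hb⟩, hxW⟩
  have hgen : ∀ k, Subring.closure
      (Set.range (f.appLE (V k) (U k) ((hUeq k).le.trans inf_le_right)).hom ∪
      Set.range (fun c' => fres ((hUeq k).le.trans inf_le_left)
        (coef (w (j k)) (w c')))) = ⊤ := by
    intro k
    obtain ⟨a, b, V₀⟩ := k
    set k : κ := (a, b, V₀) with hk
    set G := Subring.closure
      (Set.range (f.appLE (V k) (U k) ((hUeq k).le.trans inf_le_right)).hom ∪
      Set.range (fun c' => fres ((hUeq k).le.trans inf_le_left)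
        (coef (w (j k)) (w c')))) with hG
    have hwj : w (j k) = ts (u a) (v b) := by
      change ts (u (e (j k)).1) (v (e (j k)).2) = _
      rw [hej]
    have hUw : U k ≤ loc (w (j k)) := (hUeq k).le.trans inf_le_left
    have hUts : U k ≤ loc (ts (u a) (v b)) := hwj ▸ hUw
    have hUa : U k ≤ loc (u a) := by
      rw [loc_ts hL₁ hL₂] at hUts
      exact hUts.trans inf_le_left
    have hUb : U k ≤ loc (v b) := by
      rw [loc_ts hL₁ hL₂] at hUts
      exact hUts.trans inf_le_right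
    have key1 : ∀ c', fres hUa (coef (u a) (u c')) ∈ G := by
      intro c'
      have hwc : w (e.symm (c', b)) = ts (u c') (v b) := by
        change ts (u (e (e.symm (c', b))).1) (v (e (e.symm (c', b))).2) = _
        rw [e.apply_symm_apply]
      have h1 : fres hUw (coef (w (j k)) (w (e.symm (c', b)))) = fres hUa (coef (u a) (u c')) := by
        rw [NormalGen.fres_coef_congr hwj hwc hUw hUts, coef_ts _ _ _ _ hUts hUa hUb, coef_self, map_one,
          mul_one]
      rw [← h1]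
      exact Subring.subset_closure (Or.inr ⟨_, rfl⟩)
    have key2 : ∀ b', fres hUb (coef (v b) (v b')) ∈ G := by
      intro b'
      have hwc : w (e.symm (a, b')) = ts (u a) (v b') := by
        change ts (u (e (e.symm (a, b'))).1) (v (e (e.symm (a, b'))).2) = _
        rw [e.apply_symm_apply]
      have h1 : fres hUw (coef (w (j k)) (w (e.symm (a, b')))) = fres hUb (coef (v b) (v b')) := by
        rw [NormalGen.fres_coef_congr hwj hwc hUw hUts, coef_ts _ _ _ _ hUts hUa hUb, coef_self, map_one,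
          one_mul]
      rw [← h1]
      exact Subring.subset_closure (Or.inr ⟨_, rfl⟩)
    have key3 : ∀ y', (f.appLE (V k) (U k) ((hUeq k).le.trans inf_le_right)).hom y' ∈ G :=
      fun y' => Subring.subset_closure (Or.inl ⟨y', rfl⟩)
    apply top_unique
    rw [← (hKU k).2, Subring.closure_le]
    rintro _ (⟨y, rfl⟩ | ⟨y, rfl⟩)
    · refine map_mem_of_closure_eq_top _ G _ (hKA k).2 ?_ y
      rintro _ (⟨y', rfl⟩ | ⟨y', rfl⟩)
      · rw [appLE_appLE_eq p₁ (pullback.fst tn σ) r₁ hr₁.symm (D (ULift.{u} ℤ) n a) (A k) (U k)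
          inf_le_left inf_le_left ((hlocu a) ▸ hUa) y']
        refine map_mem_of_closure_eq_top _ G _ (closure_ratios_eq_top n a) ?_ y'
        rintro _ ⟨c', rfl⟩
        have h := appLE_ratio n r₁ (Iso.refl _) u (fun _ => rfl) a c' (U k) hUa ((hlocu a) ▸ hUa)
        exact (congrArg (fun z => z ∈ G) h).mpr (key1 c')
      · rw [appLE_appLE_eq p₁ (pullback.snd tn σ) f rfl (V k) (A k) (U k)
          inf_le_right inf_le_left ((hUeq k).le.trans inf_le_right) y']
        exact key3 y'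
    · refine map_mem_of_closure_eq_top _ G _ (hKC k).2 ?_ y
      rintro _ (⟨y', rfl⟩ | ⟨y', rfl⟩)
      · rw [appLE_appLE_eq p₂ (pullback.fst tm' σ) r₂ hr₂.symm (D (ULift.{u} ℤ) m b) (C k) (U k)
          inf_le_left inf_le_right ((hlocv b) ▸ hUb) y']
        refine map_mem_of_closure_eq_top _ G _ (closure_ratios_eq_top m b) ?_ y'
        rintro _ ⟨b', rfl⟩
        have h := appLE_ratio m r₂ (Iso.refl _) v (fun _ => rfl) b b' (U k) hUb ((hlocv b) ▸ hUb)
        exact (congrArg (fun z => z ∈ G) h).mpr (key2 b')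
      · rw [appLE_appLE_eq p₂ (pullback.snd tm' σ) f hf2 (V k) (C k) (U k)
          inf_le_right inf_le_right ((hUeq k).le.trans inf_le_right) y']
        exact key3 y'
  obtain ⟨φ₀, hφ1, hφ2, ⟨hφ3⟩⟩ := exists_immersion_of_sections_aux f L (n * m + n + m) w j V hV U
    hUeq hcov (fun k => (hKU k).1) hgen
  obtain ⟨φ, hφ⟩ : ∃ φ : pullback (pullback.snd tn σ) (pullback.snd tm' σ) ⟶
      pullback (CohB1.ProjSpace.toSpec (n * m + n + m) (ULift.{u} ℤ)) σ, φ = φ₀ := ⟨_, rfl⟩
  subst hφ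
  refine ⟨φ, ?_, hφ2, ⟨?_⟩⟩
  · -- closedness
    have hpn : IsProper (pullback.snd tn σ) := ProjSpaceProper.isProper_toBase n S
    have hpm : IsProper (pullback.snd tm' σ) := ProjSpaceProper.isProper_toBase m S
    have hpN : IsProper (pullback.snd (CohB1.ProjSpace.toSpec (n * m + n + m) (ULift.{u} ℤ)) σ) :=
      ProjSpaceProper.isProper_toBase (n * m + n + m) S
    have hp₁ : IsProper p₁ := MorphismProperty.pullback_fst _ _ hpm
    have hfp : IsProper f := MorphismProperty.comp_mem _ _ _ hp₁ hpn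
    have huc : UniversallyClosed
        (φ ≫ pullback.snd (CohB1.ProjSpace.toSpec (n * m + n + m) (ULift.{u} ℤ)) σ) := by
      rw [show φ ≫ pullback.snd (CohB1.ProjSpace.toSpec (n * m + n + m) (ULift.{u} ℤ)) σ = f
        from hφ2]
      infer_instance
    have : UniversallyClosed φ := UniversallyClosed.of_comp_of_isSeparated φ
      (pullback.snd (CohB1.ProjSpace.toSpec (n * m + n + m) (ULift.{u} ℤ)) σ)
    have hφ1' : IsImmersion φ := hφ1
    have : IsPreimmersion φ := inferInstance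
    exact IsClosedImmersion.of_isPreimmersion φ φ.isClosedMap.isClosed_range
  · have iso₁ : (Scheme.Modules.pullback p₁).obj (Twist.twistOver n S 1) ≅ L₁ :=
      (Scheme.Modules.pullbackComp p₁ (pullback.fst tn σ)).app _ ≪≫
        (Scheme.Modules.pullbackCongr hr₁.symm).app _
    have iso₂ : (Scheme.Modules.pullback p₂).obj (Twist.twistOver m S 1) ≅ L₂ :=
      (Scheme.Modules.pullbackComp p₂ (pullback.fst tm' σ)).app _ ≪≫
        (Scheme.Modules.pullbackCongr hr₂.symm).app _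
    exact Groth.Agent.Lib.Helper11.GenLocus.tensorModCongr iso₁ iso₂ ≪≫ hφ3

theorem isInvertible_twistOver (n : ℕ) (S : Scheme.{u}) :
    PicF.IsInvertible (Twist.twistOver n S 1) :=
  PullbackTensor.isInvertible_pullback _ (isInvertible_O1 n)

/-- **very ample ⊗ (pullback of `O(1)` along any map to a projective space) is very ample**, over
an arbitrary base, via the Segre embedding. -/
theorem isRelVeryAmplePn_tensor_of_map {X S : Scheme.{u}} (q : X ⟶ S) (L L' : X.Modules)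
    (hva : RelAmple.IsRelVeryAmplePn q L) (m : ℕ)
    (r' : X ⟶ CohB1.ProjSpace m (ULift.{u} ℤ))
    (τ : (Scheme.Modules.pullback r').obj (Twist.twistProjSpace m (ULift.{u} ℤ) 1) ≅ L') :
    RelAmple.IsRelVeryAmplePn q (CohB1.tensorMod L L') := by
  obtain ⟨n, i₀, hi, hiq, ⟨α⟩⟩ := hva
  obtain ⟨i, hii⟩ : ∃ i : X ⟶ pullback (CohB1.ProjSpace.toSpec n (ULift.{u} ℤ))
      (specULiftZIsTerminal.from S), i = i₀ := ⟨_, rfl⟩
  subst hii
  obtain ⟨i', hi'1, hi'2⟩ : ∃ i' : X ⟶ pullback (CohB1.ProjSpace.toSpec m (ULift.{u} ℤ))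
        (specULiftZIsTerminal.from S),
      i' ≫ pullback.fst (CohB1.ProjSpace.toSpec m (ULift.{u} ℤ)) (specULiftZIsTerminal.from S) = r' ∧
      i' ≫ pullback.snd (CohB1.ProjSpace.toSpec m (ULift.{u} ℤ)) (specULiftZIsTerminal.from S) = q :=
    ⟨pullback.lift r' q (specULiftZIsTerminal.hom_ext _ _), pullback.lift_fst _ _ _,
      pullback.lift_snd _ _ _⟩
  obtain ⟨g, hg1, hg2⟩ : ∃ g : X ⟶ pullback
        (pullback.snd (CohB1.ProjSpace.toSpec n (ULift.{u} ℤ)) (specULiftZIsTerminal.from S))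
        (pullback.snd (CohB1.ProjSpace.toSpec m (ULift.{u} ℤ)) (specULiftZIsTerminal.from S)),
      g ≫ pullback.fst _ _ = i ∧ g ≫ pullback.snd _ _ = i' :=
    ⟨pullback.lift i i' (hiq.trans hi'2.symm), pullback.lift_fst _ _ _, pullback.lift_snd _ _ _⟩
  obtain ⟨φ, hφc, hφ2, ⟨β⟩⟩ := exists_segre S n m
  have hi' : IsImmersion i := hi
  have hgi : IsImmersion (g ≫ pullback.fst
      (pullback.snd (CohB1.ProjSpace.toSpec n (ULift.{u} ℤ)) (specULiftZIsTerminal.from S))
      (pullback.snd (CohB1.ProjSpace.toSpec m (ULift.{u} ℤ)) (specULiftZIsTerminal.from S))) := by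
    rw [hg1]; exact hi'
  have hg : IsImmersion g := IsImmersion.of_comp g (pullback.fst
      (pullback.snd (CohB1.ProjSpace.toSpec n (ULift.{u} ℤ)) (specULiftZIsTerminal.from S))
      (pullback.snd (CohB1.ProjSpace.toSpec m (ULift.{u} ℤ)) (specULiftZIsTerminal.from S)))
  obtain ⟨ψ, hψ⟩ : ∃ ψ : X ⟶ pullback (CohB1.ProjSpace.toSpec (n * m + n + m) (ULift.{u} ℤ))
      (specULiftZIsTerminal.from S), ψ = g ≫ φ := ⟨_, rfl⟩
  have hψi : IsImmersion ψ := by rw [hψ]; infer_instance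
  have hψq : ψ ≫ pullback.snd (CohB1.ProjSpace.toSpec (n * m + n + m) (ULift.{u} ℤ))
      (specULiftZIsTerminal.from S) = q := by
    rw [hψ, Category.assoc, hφ2, ← Category.assoc, hg1]
    exact hiq
  refine ⟨n * m + n + m, ψ, hψi, hψq, ⟨?_⟩⟩
  · have hA := PullbackTensor.isInvertible_pullback (pullback.fst
      (pullback.snd (CohB1.ProjSpace.toSpec n (ULift.{u} ℤ)) (specULiftZIsTerminal.from S))
      (pullback.snd (CohB1.ProjSpace.toSpec m (ULift.{u} ℤ)) (specULiftZIsTerminal.from S)))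
      (isInvertible_twistOver n S)
    have hB := PullbackTensor.isInvertible_pullback (pullback.snd
      (pullback.snd (CohB1.ProjSpace.toSpec n (ULift.{u} ℤ)) (specULiftZIsTerminal.from S))
      (pullback.snd (CohB1.ProjSpace.toSpec m (ULift.{u} ℤ)) (specULiftZIsTerminal.from S)))
      (isInvertible_twistOver m S)
    have iso₁ : (Scheme.Modules.pullback g).obj ((Scheme.Modules.pullback (pullback.fst
        (pullback.snd (CohB1.ProjSpace.toSpec n (ULift.{u} ℤ)) (specULiftZIsTerminal.from S))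
        (pullback.snd (CohB1.ProjSpace.toSpec m (ULift.{u} ℤ)) (specULiftZIsTerminal.from S)))).obj
          (Twist.twistOver n S 1)) ≅ L :=
      (Scheme.Modules.pullbackComp g _).app _ ≪≫ (Scheme.Modules.pullbackCongr hg1).app _ ≪≫ α.symm
    have iso₂ : (Scheme.Modules.pullback g).obj ((Scheme.Modules.pullback (pullback.snd
        (pullback.snd (CohB1.ProjSpace.toSpec n (ULift.{u} ℤ)) (specULiftZIsTerminal.from S))
        (pullback.snd (CohB1.ProjSpace.toSpec m (ULift.{u} ℤ)) (specULiftZIsTerminal.from S)))).obj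
          (Twist.twistOver m S 1)) ≅ L' :=
      (Scheme.Modules.pullbackComp g _).app _ ≪≫ (Scheme.Modules.pullbackCongr hg2).app _ ≪≫
        (Scheme.Modules.pullbackComp i' _).app _ ≪≫ (Scheme.Modules.pullbackCongr hi'1).app _ ≪≫ τ
    exact (Groth.Agent.Lib.Helper11.GenLocus.tensorModCongr iso₁ iso₂).symm ≪≫
      (PullbackTensor.pullbackTensorIso g _ _ hA hB).symm ≪≫
      (Scheme.Modules.pullback g).mapIso β ≪≫ (Scheme.Modules.pullbackComp g φ).app _ ≪≫
      (Scheme.Modules.pullbackCongr hψ.symm).app _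

/-- **very ample ⊗ (invertible, generated by finitely many global sections) is very ample**, over
an arbitrary base. -/
theorem isRelVeryAmplePn_tensor_of_generatedBy {X S : Scheme.{u}} (q : X ⟶ S) (L L' : X.Modules)
    (hva : RelAmple.IsRelVeryAmplePn q L) (hL' : PicF.IsInvertible L') {m : ℕ}
    (s : Fin m → ProjUP.Γm L') (hs : ProjUP.GeneratedBy L' s) :
    RelAmple.IsRelVeryAmplePn q (CohB1.tensorMod L L') := by
  have hcov : ∀ x : X, ∃ i : Fin (m + 1),
      x ∈ loc (Fin.snoc (α := fun _ => ProjUP.Γm L') s 0 i) := by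
    intro x
    obtain ⟨i, hi⟩ := exists_mem_genLocus_of_generatedBy hL' s hs x
    refine ⟨Fin.castSucc i, ?_⟩
    rw [Fin.snoc_castSucc]
    exact hi
  obtain ⟨r', -, τ, -⟩ := UPExist.exists_to_projSpace_of_cover (R := ULift.{u} ℤ) m
    (specULiftZIsTerminal.from X) L' (Fin.snoc (α := fun _ => ProjUP.Γm L') s 0) hcov
  exact isRelVeryAmplePn_tensor_of_map q L L' hva m r' τ

end Groth.Agent.Lib.Helper17.Segre
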