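import Groth.Agent.Lib.Helper16.CohThick.Basic
import Mathlib.CategoryTheory.Limits.Constructions.FiniteProductsOfBinaryProducts

/-!
# Finite coproducts of coherent modules are coherent (helper17)
-/

set_option autoImplicit false
universe u
open AlgebraicGeometry CategoryTheory Limits Opposite TopologicalSpace Abelian

namespace Groth.Agent.Lib.Helper17.CohSigma

open Groth.Agent.Lib.Helper16.CohThick

variable {X : Scheme.{u}}

theorem isCoh_biprod (M N : X.Modules) (hM : Coh.IsCoh M) (hN : Coh.IsCoh N) :
    Coh.IsCoh (M ⊞ N) :=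
  isCoh_of_extension (ShortComplex.mk (biprod.inl : M ⟶ _) (biprod.snd : _ ⟶ N) (by simp))
    (ShortComplex.Splitting.ofHasBinaryBiproduct M N).shortExact hM hN

/-- finite coproducts of coherent modules are coherent. -/
theorem isCoh_sigma : ∀ (k : ℕ) (f : Fin k → X.Modules), (∀ j, Coh.IsCoh (f j)) →
    Coh.IsCoh (∐ f) := by
  intro k
  induction k with
  | zero =>
    intro f _
    apply isCoh_of_isZero
    rw [IsZero.iff_id_eq_zero]
    apply Sigma.hom_ext
    intro j
    exact j.elim0
  | succ k ih =>
    intro f hf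
    have h1 : Coh.IsCoh (∐ fun i : Fin k => f i.succ) := ih _ fun j => hf j.succ
    have h2 : Coh.IsCoh (f 0 ⊞ ∐ fun i : Fin k => f i.succ) := isCoh_biprod _ _ (hf 0) h1
    let e : (∐ f) ≅ f 0 ⨿ ∐ fun i : Fin k => f i.succ :=
      IsColimit.coconePointUniqueUpToIso (colimit.isColimit _)
        (extendCofanIsColimit f (coproductIsCoproduct _) (coprodIsCoprod _ _))
    exact isCoh_of_iso ((biprod.isoCoprod _ _) ≪≫ e.symm) h2

end Groth.Agent.Lib.Helper17.CohSigma
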