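import Mathlib.AlgebraicGeometry.ProjectiveSpectrum.Functor
import Mathlib.AlgebraicGeometry.Morphisms.Affine
import Mathlib.RingTheory.GradedAlgebra.Radical

/-! Helper lemmas about `Proj` (helper17). Only append to this file. -/

set_option autoImplicit false
universe u
open CategoryTheory CategoryTheory.Limits AlgebraicGeometry

namespace Groth.Agent.Lib.Helper17

/-- Every point of `Proj 𝒜` lies in some `D₊(s)` with `s` homogeneous of positive degree. -/
theorem exists_homogeneous_pos_mem_basicOpen {A σ : Type u} [CommRing A] [SetLike σ A]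
    [AddSubgroupClass σ A] (𝒜 : ℕ → σ) [GradedRing 𝒜] (x : Proj 𝒜) :
    ∃ (s : A) (n : ℕ), 0 < n ∧ s ∈ 𝒜 n ∧ x ∈ Proj.basicOpen 𝒜 s := by
  have hx := (Proj.affineOpenCover 𝒜).covers x
  set i := (Proj.affineOpenCover 𝒜).idx x with hi
  refine ⟨i.2.1, i.1.1, i.1.2, i.2.2, ?_⟩
  have : x ∈ (Proj.awayι 𝒜 i.2.1 i.2.2 i.1.2).opensRange := hx
  rwa [Proj.opensRange_awayι] at this

/-- The irrelevant ideal is contained in the radical of a homogeneous ideal `I` iff no point of
`Proj` contains `I`. -/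
theorem irrelevant_le_radical_iff {A σ : Type*} [CommRing A] [SetLike σ A]
    [AddSubgroupClass σ A] (𝒜 : ℕ → σ) [GradedRing 𝒜] (I : Ideal A) (hI : I.IsHomogeneous 𝒜) :
    (HomogeneousIdeal.irrelevant 𝒜).toIdeal ≤ I.radical ↔
      ∀ x : ProjectiveSpectrum 𝒜, ¬ I ≤ x.asHomogeneousIdeal.toIdeal := by
  constructor
  · intro h x hx
    refine x.not_irrelevant_le (h.trans ?_)
    have hprime : x.asHomogeneousIdeal.toIdeal.IsPrime := x.isPrime
    rwa [hprime.radical_le_iff]
  · intro h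
    rw [hI.radical_eq]
    refine le_sInf ?_
    rintro J ⟨hJhom, hIJ, hJprime⟩
    by_contra hnot
    exact h ⟨⟨J, hJhom⟩, hJprime, fun hle => hnot hle⟩ hIJ

/-- If `S₊` has no nonzero nilpotents then `S_(f)` is reduced for `f` homogeneous of positive degree. -/
theorem isReduced_away {A σ : Type*} [CommRing A] [SetLike σ A]
    [AddSubgroupClass σ A] (𝒜 : ℕ → σ) [GradedRing 𝒜]
    (hred : ∀ f ∈ (HomogeneousIdeal.irrelevant 𝒜).toIdeal, IsNilpotent f → f = 0)
    {f : A} {d : ℕ} (hd : 0 < d) (hf : f ∈ 𝒜 d) :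
    IsReduced (HomogeneousLocalization.Away 𝒜 f) := by
  constructor
  intro x hx
  obtain ⟨n, a, ha, rfl⟩ := HomogeneousLocalization.Away.mk_surjective 𝒜 hf x
  obtain ⟨m, hm⟩ := hx
  have hm' := congrArg HomogeneousLocalization.val hm
  rw [HomogeneousLocalization.val_pow, HomogeneousLocalization.Away.val_mk,
    HomogeneousLocalization.val_zero, Localization.mk_pow, Localization.mk_eq_mk',
    IsLocalization.mk'_eq_zero_iff] at hm'
  obtain ⟨⟨_, k, rfl⟩, hk⟩ := hm'
  have hfa : f * a = 0 := by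
    apply hred
    · exact HomogeneousIdeal.mem_irrelevant_of_mem 𝒜 (i := d + n • d) (by omega)
        (SetLike.mul_mem_graded hf ha)
    · refine ⟨k + m, ?_⟩
      rw [mul_pow, pow_add, pow_add]
      calc f ^ k * f ^ m * (a ^ k * a ^ m) = (f ^ k * a ^ m) * (f ^ m * a ^ k) := by ring
        _ = 0 := by rw [hk, zero_mul]
  apply HomogeneousLocalization.val_injective
  rw [HomogeneousLocalization.Away.val_mk, HomogeneousLocalization.val_zero,
    Localization.mk_eq_mk', IsLocalization.mk'_eq_zero_iff]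
  exact ⟨⟨f, Submonoid.mem_powers f⟩, hfa⟩

/-- If `b` lies in every point of `Proj 𝒜` containing the homogeneous ideal `I`, then `b * t`
lies in the radical of `I` for every `t ∈ 𝒜₊`. -/
theorem mul_mem_radical_of_forall_mem {A σ : Type*} [CommRing A] [SetLike σ A]
    [AddSubgroupClass σ A] (𝒜 : ℕ → σ) [GradedRing 𝒜] (I : Ideal A) (hI : I.IsHomogeneous 𝒜) (b : A)
    (hb : ∀ x : ProjectiveSpectrum 𝒜, I ≤ x.asHomogeneousIdeal.toIdeal → b ∈ x.asHomogeneousIdeal)
    (t : A) (ht : t ∈ (HomogeneousIdeal.irrelevant 𝒜).toIdeal) : b * t ∈ I.radical := by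
  rw [hI.radical_eq]
  refine Ideal.mem_sInf.mpr ?_
  rintro J ⟨hJhom, hIJ, hJprime⟩
  by_cases hJ : (HomogeneousIdeal.irrelevant 𝒜).toIdeal ≤ J
  · exact J.mul_mem_left _ (hJ ht)
  · exact J.mul_mem_right _ (hb ⟨⟨J, hJhom⟩, hJprime, fun hle => hJ hle⟩ hIJ)

end Groth.Agent.Lib.Helper17
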