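import Groth.Prelude.Def_Cone
import Groth.Agent.Lib.Helper17.Proj
import Mathlib

/-!
# The canonical retraction `E ⟶ Proj 𝒜` of the pointed affine cone

We glue the chart morphisms `Spec A_f ⟶ Spec A_(f) ⟶ Proj 𝒜`.
-/

set_option autoImplicit false
universe u
open CategoryTheory CategoryTheory.Limits AlgebraicGeometry HomogeneousLocalization

namespace Groth.Agent.Lib.Helper17.ConeLib

variable {R A : Type u} [CommRing R] [CommRing A] [Algebra R A] {𝒜 : ℕ → Submodule R A}
  [GradedAlgebra 𝒜]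

/-- The localization map `Spec A_f ⟶ Spec A`. -/
noncomputable abbrev locι (f : A) :
    Spec (CommRingCat.of (Localization.Away f)) ⟶ Spec (CommRingCat.of A) :=
  Spec.map (CommRingCat.ofHom (algebraMap A (Localization.Away f)))

@[reassoc]
theorem chart_ι {d : ℕ} {f : A} (hf : f ∈ 𝒜 d) (hd : 0 < d) :
    Cone.chart hf hd ≫ (Cone.pointed 𝒜).ι = locι f :=
  IsOpenImmersion.lift_fac _ _ _

instance {d : ℕ} {f : A} (hf : f ∈ 𝒜 d) (hd : 0 < d) : IsOpenImmersion (Cone.chart hf hd) := by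
  have : IsOpenImmersion (Cone.chart hf hd ≫ (Cone.pointed 𝒜).ι) := by
    rw [chart_ι]; infer_instance
  exact IsOpenImmersion.of_comp _ (Cone.pointed 𝒜).ι

theorem range_locι (f : A) :
    Set.range (locι f).base = (PrimeSpectrum.basicOpen f : Set (PrimeSpectrum A)) :=
  PrimeSpectrum.localization_away_comap_range (Localization.Away f) f

theorem exists_chart_eq (x : (Cone.pointed 𝒜 : Scheme.{u})) :
    ∃ (d : ℕ) (hd : 0 < d) (f : A) (hf : f ∈ 𝒜 d) (y : _), Cone.chart hf hd y = x := by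
  have hx : ((Cone.pointed 𝒜).ι x) ∈ Cone.pointed 𝒜 := x.2
  have hx' : ¬ (HomogeneousIdeal.irrelevant 𝒜).toIdeal ≤
      (show PrimeSpectrum A from (Cone.pointed 𝒜).ι x).asIdeal := fun h => hx h
  rw [HomogeneousIdeal.toIdeal_irrelevant_le] at hx'
  push Not at hx'
  obtain ⟨d, hd, hx'⟩ := hx'
  obtain ⟨f, hf, hfx⟩ := SetLike.not_le_iff_exists.mp hx'
  have hmem : (Cone.pointed 𝒜).ι x ∈ Set.range (locι f).base := by
    rw [range_locι]; exact hfx
  obtain ⟨y, hy⟩ := hmem
  refine ⟨d, hd, f, hf, y, ?_⟩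
  apply (Cone.pointed 𝒜).ι.isOpenEmbedding.injective
  rw [← Scheme.Hom.comp_apply, chart_ι]; exact hy

/-- The open cover of the pointed cone by the standard charts. -/
noncomputable def openCover : (Cone.pointed 𝒜 : Scheme.{u}).OpenCover :=
  Scheme.Cover.mkOfCovers (Σ d : ℕ, {f : A // 0 < d ∧ f ∈ 𝒜 d})
    (fun i => Spec (CommRingCat.of (Localization.Away i.2.1)))
    (fun i => Cone.chart i.2.2.2 i.2.2.1)
    (fun x => by
      obtain ⟨d, hd, f, hf, y, hy⟩ := exists_chart_eq x
      exact ⟨⟨d, ⟨f, hd, hf⟩⟩, y, hy⟩)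
    (fun i => inferInstanceAs (IsOpenImmersion (Cone.chart i.2.2.2 i.2.2.1)))

/-- The chart morphisms `Spec A_f ⟶ Proj 𝒜`. -/
noncomputable def chartMap {d : ℕ} {f : A} (hf : f ∈ 𝒜 d) (hd : 0 < d) :
    Spec (CommRingCat.of (Localization.Away f)) ⟶ Proj 𝒜 :=
  Spec.map (CommRingCat.ofHom (algebraMap (Away 𝒜 f) (Localization.Away f))) ≫
    Proj.awayι 𝒜 f hf hd

theorem chartMap_congr {d d' : ℕ} (h : d = d') {f : A} (hf : f ∈ 𝒜 d) (hf' : f ∈ 𝒜 d')
    (hd : 0 < d) (hd' : 0 < d') : chartMap hf hd = chartMap hf' hd' := by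
  subst h; rfl

/-- The ring map `A_f ⟶ A_x` for `x = f * g`. -/
noncomputable def locMap {f g x : A} (hx : x = f * g) : Localization.Away f →+* Localization.Away x :=
  Localization.awayLift (algebraMap A _) _
    (isUnit_of_dvd_unit (map_dvd _ ⟨_, hx⟩) (IsLocalization.Away.algebraMap_isUnit x))

theorem locMap_comp_algebraMap {f g x : A} (hx : x = f * g) :
    (locMap hx).comp (algebraMap A (Localization.Away f)) = algebraMap A (Localization.Away x) :=
  IsLocalization.lift_comp _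

@[reassoc]
theorem locMap_locι {f g x : A} (hx : x = f * g) :
    Spec.map (CommRingCat.ofHom (locMap hx)) ≫ locι f = locι x := by
  unfold locι
  rw [← Spec.map_comp, ← CommRingCat.ofHom_comp, locMap_comp_algebraMap]

theorem locMap_comp_val {m' : ℕ} {f g x : A} (hg : g ∈ 𝒜 m') (hx : x = f * g) :
    (locMap hx).comp (algebraMap (Away 𝒜 f) (Localization.Away f)) =
      (algebraMap (Away 𝒜 x) (Localization.Away x)).comp (awayMap 𝒜 hg hx) := by
  ext a
  simp only [RingHom.coe_comp, Function.comp_apply, HomogeneousLocalization.algebraMap_apply]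
  rw [val_awayMap]
  rfl

theorem locMap_chartMap {m m' : ℕ} {f g x : A} (hf : f ∈ 𝒜 m) (hg : g ∈ 𝒜 m') (hm : 0 < m)
    (hx : x = f * g) :
    Spec.map (CommRingCat.ofHom (locMap hx)) ≫ chartMap hf hm =
      chartMap (hx ▸ SetLike.mul_mem_graded hf hg : x ∈ 𝒜 (m + m'))
        (hm.trans_le (m.le_add_right m')) := by
  unfold chartMap
  rw [← Category.assoc, ← Spec.map_comp, ← CommRingCat.ofHom_comp,
    locMap_comp_val hg hx, CommRingCat.ofHom_comp, Spec.map_comp,
    Category.assoc, Proj.SpecMap_awayMap_awayι]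

/-- The isomorphism `Spec A_f ×_{Spec A} Spec A_g ≅ Spec A_{fg}`. -/
noncomputable def pullbackLocιIso (f g : A) :
    pullback (locι f) (locι g) ≅ Spec (CommRingCat.of (Localization.Away (f * g))) :=
  IsOpenImmersion.isoOfRangeEq (pullback.fst _ _ ≫ locι f) (locι (f * g)) <| by
    rw [IsOpenImmersion.range_pullback_to_base_of_left, range_locι, range_locι, range_locι,
      PrimeSpectrum.basicOpen_mul]
    rfl

@[reassoc]
theorem pullbackLocιIso_hom_locι (f g : A) :
    (pullbackLocιIso f g).hom ≫ locι (f * g) = pullback.fst _ _ ≫ locι f :=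
  IsOpenImmersion.isoOfRangeEq_hom_fac ..

@[reassoc]
theorem pullbackLocιIso_hom_fst (f g : A) :
    (pullbackLocιIso f g).hom ≫ Spec.map (CommRingCat.ofHom (locMap (g := g) rfl)) =
      pullback.fst (locι f) (locι g) := by
  rw [← cancel_mono (locι f), Category.assoc, locMap_locι, pullbackLocιIso_hom_locι]

@[reassoc]
theorem pullbackLocιIso_hom_snd (f g : A) :
    (pullbackLocιIso f g).hom ≫ Spec.map (CommRingCat.ofHom (locMap (g := f) (mul_comm f g))) =
      pullback.snd (locι f) (locι g) := by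
  rw [← cancel_mono (locι g), Category.assoc, locMap_locι, pullbackLocιIso_hom_locι,
    pullback.condition]

/-- The canonical retraction `E ⟶ Proj 𝒜`. -/
noncomputable def retraction : (Cone.pointed 𝒜 : Scheme.{u}) ⟶ Proj 𝒜 :=
  (openCover (𝒜 := 𝒜)).glueMorphisms (fun i => chartMap i.2.2.2 i.2.2.1) (by
    rintro ⟨m, f, hm, hf⟩ ⟨m', g, hm', hg⟩
    change pullback.fst (Cone.chart hf hm) (Cone.chart hg hm') ≫ chartMap hf hm =
      pullback.snd (Cone.chart hf hm) (Cone.chart hg hm') ≫ chartMap hg hm'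
    let w := pullback.map (Cone.chart hf hm) (Cone.chart hg hm')
      (locι f) (locι g) (𝟙 _) (𝟙 _)
      (Cone.pointed 𝒜).ι (by rw [chart_ι, Category.id_comp]) (by rw [chart_ι, Category.id_comp])
    have h1 : pullback.fst (Cone.chart hf hm) (Cone.chart hg hm') = w ≫ pullback.fst _ _ :=
      ((pullback.lift_fst _ _ _).trans (Category.comp_id _)).symm
    have h2 : pullback.snd (Cone.chart hf hm) (Cone.chart hg hm') = w ≫ pullback.snd _ _ :=
      ((pullback.lift_snd _ _ _).trans (Category.comp_id _)).symm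
    rw [h1, h2, Category.assoc, Category.assoc]
    congr 1
    rw [← pullbackLocιIso_hom_fst, ← pullbackLocιIso_hom_snd, Category.assoc, Category.assoc]
    congr 1
    rw [locMap_chartMap hf hg hm rfl, locMap_chartMap hg hf hm' (mul_comm f g)]
    exact chartMap_congr (add_comm m m') _ _ _ _)

@[reassoc]
theorem chart_retraction {d : ℕ} {f : A} (hf : f ∈ 𝒜 d) (hd : 0 < d) :
    Cone.chart hf hd ≫ retraction (𝒜 := 𝒜) =
      Spec.map (CommRingCat.ofHom (algebraMap (Away 𝒜 f) (Localization.Away f))) ≫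
        Proj.awayι 𝒜 f hf hd :=
  (openCover (𝒜 := 𝒜)).ι_glueMorphisms _ _ ⟨d, ⟨f, hd, hf⟩⟩

/-- Uniqueness of a morphism with the chart description. -/
theorem eq_of_chart {Y : Scheme.{u}} (p q : (Cone.pointed 𝒜 : Scheme.{u}) ⟶ Y)
    (h : ∀ (d : ℕ) (f : A) (hd : 0 < d) (hf : f ∈ 𝒜 d),
      Cone.chart hf hd ≫ p = Cone.chart hf hd ≫ q) : p = q :=
  (openCover (𝒜 := 𝒜)).hom_ext _ _ (fun i => h i.1 i.2.1 i.2.2.1 i.2.2.2)

end Groth.Agent.Lib.Helper17.ConeLib
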