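import Groth.Prelude.Def_FlatMod2


set_option autoImplicit false
universe u
open CategoryTheory CategoryTheory.Limits AlgebraicGeometry TopologicalSpace Opposite

namespace Groth.Agent.Lib.Helper17.EpiFree

variable {X : Scheme.{u}} {F : X.Modules}

theorem hom_app_naturality {M N : X.Modules} (φ : M ⟶ N) {V W : X.Opens} (hWV : W ≤ V)
    (a : Γ(M, V)) :
    N.presheaf.map (homOfLE hWV).op (φ.app V a) = φ.app W (M.presheaf.map (homOfLE hWV).op a) :=
  (NatTrans.naturality_apply φ.mapPresheaf (homOfLE hWV).op a).symm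

/-- The value of a map `O_X ⟶ F` on the unit section. -/
noncomputable def oneSec (σ : Coh.structureModule X ⟶ F) (W : X.Opens) : Γ(F, W) :=
  (σ.app W).hom (1 : Γ(X, W))

/-- A map from a finite free module is an epimorphism if its components generate `F` locally. -/
theorem epi_sigma_desc {k : ℕ} (σ : Fin k → (Coh.structureModule X ⟶ F))
    (h : ∀ (V : X.Opens) (a : Γ(F, V)) (x : X), x ∈ V → ∃ (W : X.Opens) (hWV : W ≤ V), x ∈ W ∧
      F.presheaf.map (homOfLE hWV).op a ∈
        Submodule.span Γ(X, W) (Set.range fun i => oneSec (σ i) W)) :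
    Epi (Sigma.desc σ : FlatMod.freeMod X k ⟶ F) := by
  refine Preadditive.epi_of_cancel_zero _ fun {N} ψ hψ => ?_
  have hi : ∀ i, σ i ≫ ψ = 0 := by
    intro i
    have : Sigma.ι (fun _ : Fin k => Coh.structureModule X) i ≫ Sigma.desc σ = σ i :=
      Sigma.ι_desc _ _
    rw [← this, Category.assoc, hψ, comp_zero]
  have hz : ∀ (i : Fin k) (W : X.Opens), (ψ.app W).hom (oneSec (σ i) W) = 0 := by
    intro i W
    have := congrArg (fun φ : Coh.structureModule X ⟶ N => (φ.app W).hom (1 : Γ(X, W))) (hi i)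
    exact this
  apply Scheme.Modules.hom_ext
  intro V
  ext a
  choose W hWV hxW hmem using h V a
  refine TopCat.Sheaf.eq_of_locally_eq' ⟨N.presheaf, N.isSheaf⟩
    (fun (p : V) => W p.1 p.2) V (fun p => homOfLE (hWV p.1 p.2)) ?_ _ _ (fun p => ?_)
  · intro x hx
    exact Opens.mem_iSup.mpr ⟨⟨x, hx⟩, hxW x hx⟩
  · change N.presheaf.map (homOfLE (hWV p.1 p.2)).op (ψ.app V a) =
      N.presheaf.map (homOfLE (hWV p.1 p.2)).op 0
    rw [map_zero, hom_app_naturality]
    have hm := hmem p.1 p.2
    have key : ∀ b ∈ Submodule.span Γ(X, W p.1 p.2) (Set.range fun i => oneSec (σ i) (W p.1 p.2)),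
        (ψ.app (W p.1 p.2)).hom b = 0 := by
      intro b hb
      induction hb using Submodule.span_induction with
      | mem b hb =>
        obtain ⟨i, rfl⟩ := hb
        exact hz i _
      | zero => exact map_zero _
      | add b c _ _ hb hc => rw [map_add, hb, hc, add_zero]
      | smul r b _ hb =>
        refine (Scheme.Modules.Hom.app_smul ψ r b).trans ?_
        rw [hb, smul_zero]
    exact key _ hm

end Groth.Agent.Lib.Helper17.EpiFree
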