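import Groth.Agent.Lib.Helper17.EpiFree

/-!
# An epimorphism criterion for maps from finite coproducts of modules (helper17)
-/

set_option autoImplicit false
universe u
open CategoryTheory CategoryTheory.Limits AlgebraicGeometry TopologicalSpace Opposite

namespace Groth.Agent.Lib.Helper17.EpiGen
open Groth.Agent.Lib.Helper17.EpiFree

variable {X : Scheme.{u}} {F : X.Modules}

/-- A map from a finite coproduct is an epimorphism if every local section of `F` is locally a sum
of images of sections of the summands. -/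
theorem epi_sigma_desc_gen {k : ℕ} {G : Fin k → X.Modules} (σ : ∀ i, G i ⟶ F)
    (h : ∀ (V : X.Opens) (a : Γ(F, V)) (x : X), x ∈ V → ∃ (W : X.Opens) (hWV : W ≤ V), x ∈ W ∧
      ∃ t : ∀ i, Γ(G i, W), F.presheaf.map (homOfLE hWV).op a = ∑ i, ((σ i).app W).hom (t i)) :
    Epi (Sigma.desc σ : (∐ G) ⟶ F) := by
  refine Preadditive.epi_of_cancel_zero _ fun {N} ψ hψ => ?_
  have hi : ∀ i, σ i ≫ ψ = 0 := by
    intro i
    have : Sigma.ι G i ≫ Sigma.desc σ = σ i := Sigma.ι_desc _ _
    rw [← this, Category.assoc, hψ, comp_zero]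
  have hz : ∀ (i : Fin k) (W : X.Opens) (b : Γ(G i, W)),
      (ψ.app W).hom (((σ i).app W).hom b) = 0 := by
    intro i W b
    have := congrArg (fun φ : G i ⟶ N => (φ.app W).hom b) (hi i)
    exact this
  apply Scheme.Modules.hom_ext
  intro V
  ext a
  choose W hWV hxW t ht using h V a
  refine TopCat.Sheaf.eq_of_locally_eq' ⟨N.presheaf, N.isSheaf⟩
    (fun (p : V) => W p.1 p.2) V (fun p => homOfLE (hWV p.1 p.2)) ?_ _ _ (fun p => ?_)
  · intro x hx
    exact Opens.mem_iSup.mpr ⟨⟨x, hx⟩, hxW x hx⟩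
  · change N.presheaf.map (homOfLE (hWV p.1 p.2)).op (ψ.app V a) =
      N.presheaf.map (homOfLE (hWV p.1 p.2)).op 0
    rw [map_zero, hom_app_naturality, ht p.1 p.2, map_sum]
    exact Finset.sum_eq_zero fun i _ => hz i _ _

end Groth.Agent.Lib.Helper17.EpiGen
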