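import Groth.Agent.Lib.Helper17.OFrac
import Groth.Prelude.Def_Coh

/-!
# The structure map `Proj 𝒜 ⟶ Spec (𝒜 0)` on global functions (helper17)
-/

set_option autoImplicit false
set_option linter.unusedSectionVars false
universe u
open CategoryTheory AlgebraicGeometry TopologicalSpace Opposite HomogeneousLocalization

namespace Groth.Agent.Lib.Helper17.ProjGlobal
open Groth.Agent.Lib.Helper17.OFrac Groth.Agent.Lib.Helper17.GrQCoh

variable {R A : Type u} [CommRing R] [CommRing A] [Algebra R A] (𝒜 : ℕ → Submodule R A)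
  [GradedAlgebra 𝒜]

/-- the ring map `B ⟶ Γ(X, ⊤)` attached to `f : X ⟶ Spec B`. -/
noncomputable def gHom {X : Scheme.{u}} {B : CommRingCat.{u}} (f : X ⟶ Spec B) : B ⟶ Γ(X, ⊤) :=
  (Scheme.ΓSpecIso B).inv ≫ f.appTop

theorem gHom_comp_specMap {X : Scheme.{u}} {B C : CommRingCat.{u}} (f : X ⟶ Spec C) (φ : B ⟶ C) :
    gHom (f ≫ Spec.map φ) = φ ≫ gHom f := by
  unfold gHom
  rw [Scheme.Hom.comp_appTop, ← Category.assoc, ← Scheme.ΓSpecIso_inv_naturality, Category.assoc]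

theorem gHom_comp {X Y : Scheme.{u}} {B : CommRingCat.{u}} (g : X ⟶ Y) (f : Y ⟶ Spec B) :
    gHom (g ≫ f) = gHom f ≫ g.appTop := by
  unfold gHom
  rw [Scheme.Hom.comp_appTop, Category.assoc]

theorem basicOpen_one_eq_top : Proj.basicOpen 𝒜 (1 : A) = ⊤ := Proj.basicOpen_one 𝒜

/-- restriction from `D₊(1) = ⊤` to `⊤`. -/
noncomputable def resOne : Γ(Proj 𝒜, Proj.basicOpen 𝒜 (1 : A)) ⟶ Γ(Proj 𝒜, ⊤) :=
  (Proj 𝒜).presheaf.map (homOfLE (le_of_eq (basicOpen_one_eq_top 𝒜).symm)).op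

theorem gHom_toSpecZero :
    gHom (Proj.toSpecZero 𝒜) =
      CommRingCat.ofHom (fromZeroRingHom 𝒜 _) ≫ Proj.awayToSection 𝒜 1 ≫ resOne 𝒜 := by
  have key : (Proj.basicOpen 𝒜 (1 : A)).topIso.inv ≫
      ((Proj 𝒜).isoOfEq (Proj.basicOpen_one 𝒜)).inv.appTop ≫ (Proj 𝒜).topIso.inv.appTop =
      resOne 𝒜 := by
    have h1 : (Proj 𝒜).topIso.inv ≫ ((Proj 𝒜).isoOfEq (Proj.basicOpen_one 𝒜)).inv ≫
        (Proj.basicOpen 𝒜 (1 : A)).ι = 𝟙 _ := by
      rw [Scheme.isoOfEq_inv_ι, Scheme.toIso_inv_ι]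
    have h2 : (Proj.basicOpen 𝒜 (1 : A)).ι.appTop ≫
        ((Proj 𝒜).isoOfEq (Proj.basicOpen_one 𝒜)).inv.appTop ≫ (Proj 𝒜).topIso.inv.appTop =
        𝟙 _ := by
      rw [← Scheme.Hom.comp_appTop, ← Scheme.Hom.comp_appTop, Category.assoc, h1]
      rfl
    have h3 : (Proj 𝒜).presheaf.map (homOfLE (le_top : Proj.basicOpen 𝒜 (1 : A) ≤ ⊤)).op ≫
        (Proj.basicOpen 𝒜 (1 : A)).topIso.inv = (Proj.basicOpen 𝒜 (1 : A)).ι.appTop := by
      rw [Scheme.Opens.ι_appTop, Scheme.Opens.topIso_inv]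
      exact ((Proj 𝒜).presheaf.map_comp _ _).symm
    have h4 : resOne 𝒜 ≫
        (Proj 𝒜).presheaf.map (homOfLE (le_top : Proj.basicOpen 𝒜 (1 : A) ≤ ⊤)).op = 𝟙 _ := by
      unfold resOne
      rw [← Functor.map_comp]
      exact (Proj 𝒜).presheaf.map_id _
    calc (Proj.basicOpen 𝒜 (1 : A)).topIso.inv ≫
          ((Proj 𝒜).isoOfEq (Proj.basicOpen_one 𝒜)).inv.appTop ≫ (Proj 𝒜).topIso.inv.appTop
        = (resOne 𝒜 ≫
            (Proj 𝒜).presheaf.map (homOfLE (le_top : Proj.basicOpen 𝒜 (1 : A) ≤ ⊤)).op) ≫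
            (Proj.basicOpen 𝒜 (1 : A)).topIso.inv ≫
          ((Proj 𝒜).isoOfEq (Proj.basicOpen_one 𝒜)).inv.appTop ≫
            (Proj 𝒜).topIso.inv.appTop := by rw [h4, Category.id_comp]
      _ = resOne 𝒜 ≫ ((Proj 𝒜).presheaf.map
            (homOfLE (le_top : Proj.basicOpen 𝒜 (1 : A) ≤ ⊤)).op ≫
            (Proj.basicOpen 𝒜 (1 : A)).topIso.inv) ≫
          ((Proj 𝒜).isoOfEq (Proj.basicOpen_one 𝒜)).inv.appTop ≫
            (Proj 𝒜).topIso.inv.appTop := by simp only [Category.assoc]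
      _ = resOne 𝒜 := by rw [h3, h2, Category.comp_id]
  unfold Proj.toSpecZero
  rw [← Category.assoc, ← Category.assoc, gHom_comp_specMap, Category.assoc, gHom_comp, gHom_comp]
  unfold gHom
  rw [Scheme.Hom.appTop, Proj.basicOpenToSpec_app_top]
  simp only [Category.assoc, Iso.inv_hom_id_assoc]
  congr 2

theorem good_zero (a₀ : 𝒜 0) : Good 𝒜 (⊤ : (Proj 𝒜).Opens) 0 (a₀ : A) 1 :=
  ⟨a₀.2, SetLike.GradedOne.one_mem, fun y h => y.1.isPrime.ne_top ((Ideal.eq_top_iff_one _).mpr h)⟩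

set_option backward.isDefEq.respectTransparency.types false in
/-- the global function attached to `a₀ ∈ 𝒜 0` by the structure map is the constant `a₀ / 1`. -/
theorem gHom_toSpecZero_apply (a₀ : 𝒜 0) :
    (gHom (Proj.toSpecZero 𝒜)).hom a₀ = oFrac 𝒜 ⊤ 0 (a₀ : A) 1 := by
  rw [gHom_toSpecZero]
  apply o_ext
  intro y
  rw [val_oFrac 𝒜 (good_zero 𝒜 a₀)]
  have hy1 : y.1 ∈ Proj.basicOpen 𝒜 (1 : A) := by rw [Proj.basicOpen_one]; trivial
  have h2 := ProjectiveSpectrum.Proj.awayToSection_apply 𝒜 (1 : A)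
    (fromZeroRingHom 𝒜 (Submonoid.powers (1 : A)) a₀) ⟨y.1, hy1⟩
  refine Eq.trans ?_ (h2.trans ?_)
  · rfl
  · change IsLocalization.map _ _ _ (Localization.mk (a₀ : A) 1) = _
    rw [Localization.mk_eq_mk', IsLocalization.map_mk', Localization.mk_eq_mk']
    rfl

/-- the same for a graded `R`-algebra and the structure map to `Spec R`. -/
theorem toGlobal_apply (r : R) :
    Coh.toGlobal (Proj.toSpecZero 𝒜 ≫ Spec.map (CommRingCat.ofHom (algebraMap R (𝒜 0)))) r =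
      oFrac 𝒜 ⊤ 0 (algebraMap R A r) 1 := by
  have h1 : Coh.toGlobal (Proj.toSpecZero 𝒜 ≫
      Spec.map (CommRingCat.ofHom (algebraMap R (𝒜 0)))) r =
      (gHom (Proj.toSpecZero 𝒜 ≫ Spec.map (CommRingCat.ofHom (algebraMap R (𝒜 0))))).hom r := rfl
  rw [h1, gHom_comp_specMap]
  exact gHom_toSpecZero_apply 𝒜 (algebraMap R (𝒜 0) r)

end Groth.Agent.Lib.Helper17.ProjGlobal
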