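import Groth.Agent.Lib.Helper17.HZero
import Groth.Agent.Lib.Helper17.ProjGlobal
import Groth.Agent.Lib.Helper17.GrQCoh
import Groth.Prelude.Def_GrMod3
import Groth.Prelude.Def_ega3
import Mathlib.RingTheory.Length

/-!
# Euler characteristic of `M(n)~` when the higher cohomology vanishes (helper17)
-/

set_option autoImplicit false
universe u

namespace Groth.Agent.Lib.Helper17.EulerChar
open AlgebraicGeometry CategoryTheory Opposite
open Groth.Agent.Lib.Helper17 Groth.Agent.Lib.Helper17.OFrac Groth.Agent.Lib.Helper17.GrQCoh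
  Groth.Agent.Lib.Helper17.GrSect

section
variable {A S : Type u} [CommRing A] [CommRing S] [Algebra A S] (𝒜 : ℕ → Submodule A S)
  [GradedAlgebra 𝒜] {M : Type u} [AddCommGroup M] [Module A M] [Module S M]
  [IsScalarTower A S M] (ℳ : ℕ → Submodule A M) [DirectSum.Decomposition ℳ]
  [SetLike.GradedSMul 𝒜 ℳ]

omit [DirectSum.Decomposition ℳ] in
/-- `α_n` is `A`-linear. -/
theorem alpha_smul (n : ℕ) (a : A) (m : ℳ n) :
    GrMod.alpha 𝒜 ℳ n (a • m) =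
      @HSMul.hSMul ((Proj 𝒜).ringCatSheaf.obj.obj (op ⊤))
        ((GrTilde.tilde 𝒜 ℳ (n : ℤ)).val.obj (op ⊤)) ((GrTilde.tilde 𝒜 ℳ (n : ℤ)).val.obj (op ⊤)) _
        (Coh.toGlobal (Proj.toSpecZero 𝒜 ≫ Spec.map (CommRingCat.ofHom (algebraMap A (𝒜 0)))) a)
        (GrMod.alpha 𝒜 ℳ n m) := by
  have h1 : Coh.toGlobal (Proj.toSpecZero 𝒜 ≫ Spec.map (CommRingCat.ofHom (algebraMap A (𝒜 0)))) a =
      oFrac 𝒜 ⊤ 0 (algebraMap A S a) 1 := ProjGlobal.toGlobal_apply 𝒜 a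
  rw [h1]
  apply sect_ext
  intro y
  have G : Good 𝒜 (⊤ : (Proj 𝒜).Opens) 0 (algebraMap A S a) 1 :=
    ProjGlobal.good_zero 𝒜 (algebraMap A (𝒜 0) a)
  have h2 := val_oFrac 𝒜 G y
  have hone : (1 : S) ∉ y.1.asHomogeneousIdeal :=
    fun h => y.1.isPrime.ne_top ((Ideal.eq_top_iff_one _).mpr h)
  have h3 := GrQCoh.smul_frac 𝒜 ℳ (n : ℤ) y.1 ((toO 𝒜 (oFrac 𝒜 ⊤ 0 (algebraMap A S a) 1)).1 y)
    (algebraMap A S a) 1 hone h2 (m : M) 1 hone ((toSect 𝒜 ℳ n (GrMod.alpha 𝒜 ℳ n m)).1 y) rfl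
  refine Eq.trans ?_ h3.symm
  change LocalizedModule.mk ((a • m : ℳ n) : M) 1 = LocalizedModule.mk (algebraMap A S a • (m : M)) _
  rw [algebraMap_smul]
  congr 1
  exact Subtype.ext (mul_one 1).symm

open CohIII in
/-- `M_n ≃ₗ[A] H^0(X, M(n)~)` when `α_n` is bijective. -/
noncomputable def equivHZero (n : ℕ) (hbij : Function.Bijective (GrMod.alpha 𝒜 ℳ n)) :
    ℳ n ≃ₗ[A] Coh.HH (Proj 𝒜) (GrTilde.tilde 𝒜 ℳ (n : ℤ)) 0 :=
  { ((AddEquiv.ofBijective (GrMod.alpha 𝒜 ℳ n) hbij).trans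
      (HZero.hh0Equiv (GrTilde.tilde 𝒜 ℳ (n : ℤ))).symm) with
    map_smul' := fun a m => by
      apply (HZero.hh0Equiv (GrTilde.tilde 𝒜 ℳ (n : ℤ))).injective
      change HZero.hh0Equiv _ ((HZero.hh0Equiv _).symm (GrMod.alpha 𝒜 ℳ n (a • m))) =
        HZero.hh0Equiv _ (Coh.toGlobal (Proj.toSpecZero 𝒜 ≫
          Spec.map (CommRingCat.ofHom (algebraMap A (𝒜 0)))) a •
          (HZero.hh0Equiv _).symm (GrMod.alpha 𝒜 ℳ n m))
      rw [HZero.hh0Equiv_smul, AddEquiv.apply_symm_apply, AddEquiv.apply_symm_apply]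
      exact alpha_smul 𝒜 ℳ n a m }

omit [DirectSum.Decomposition ℳ] in
open CohIII in
/-- the Euler characteristic of `M(n)~` is the length of `M_n` when `α_n` is bijective and the
higher cohomology vanishes. -/
theorem euler_sum (r n : ℕ) (hbij : Function.Bijective (GrMod.alpha 𝒜 ℳ n))
    (hvan : ∀ j : ℕ, 0 < j → Subsingleton (Coh.HH (Proj 𝒜) (GrTilde.tilde 𝒜 ℳ (n : ℤ)) j)) :
    ((Finset.range (r + 1)).sum fun j => (-1 : ℤ) ^ j *
        ((Module.length A (Coh.HH (Proj 𝒜) (GrTilde.tilde 𝒜 ℳ (n : ℤ)) j)).toNat : ℤ)) =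
      ((Module.length A ↥(ℳ n)).toNat : ℤ) := by
  rw [Finset.sum_range_succ', Finset.sum_eq_zero, zero_add, pow_zero, one_mul,
    ← (equivHZero 𝒜 ℳ n hbij).length_eq]
  intro j _
  have := hvan (j + 1) (Nat.succ_pos j)
  rw [Module.length_eq_zero_iff.mpr this]
  simp

end
end Groth.Agent.Lib.Helper17.EulerChar
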