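import Groth.Agent.Lib.Helper17.NormalGen

/-!
# The very-ampleness criterion for an arbitrary family of sections (helper17)

Over a base over which `X` is locally of finite type and quasi-compact, finitely many of the
sections suffice.
-/

set_option autoImplicit false
set_option linter.unusedSectionVars false
universe u
open AlgebraicGeometry CategoryTheory Limits TopologicalSpace Opposite

namespace Groth.Agent.Lib.Helper17.FamilyCrit
open Groth.Agent.Lib.Helper11 Groth.Agent.Lib.Helper11.GenLocus Groth.Agent.Lib.Helper45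
  Groth.Agent.Lib.Helper49 Groth.Agent.Lib.Helper17.UPGen Groth.Agent.Lib.Helper17.UPCoef
  Groth.Agent.Lib.Helper17.VeryAmpleCrit Groth.Agent.Lib.Helper17.VeryAmpleTensor
  Groth.Agent.Lib.Helper17.AmpleVeryAmple Groth.Agent.Lib.Helper17.NormalGen

/-- an element of the subring generated by a set and a family lies in the subring generated by the
set and finitely many members of the family. -/
theorem exists_finset_of_mem_closure_union {A : Type*} [Ring A] {ι : Type*} (S₁ : Set A)
    (g : ι → A) (x : A) (hx : x ∈ Subring.closure (S₁ ∪ Set.range g)) :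
    ∃ F : Finset ι, x ∈ Subring.closure (S₁ ∪ g '' (F : Set ι)) := by
  classical
  induction hx using Subring.closure_induction with
  | mem z hz =>
    rcases hz with hz | ⟨i, rfl⟩
    · exact ⟨∅, Subring.subset_closure (Or.inl hz)⟩
    · exact ⟨{i}, Subring.subset_closure (Or.inr ⟨i, by simp, rfl⟩)⟩
  | zero => exact ⟨∅, Subring.zero_mem _⟩
  | one => exact ⟨∅, Subring.one_mem _⟩
  | add a b _ _ ha hb =>
    obtain ⟨F, hF⟩ := ha
    obtain ⟨F', hF'⟩ := hb
    refine ⟨F ∪ F', Subring.add_mem _ ?_ ?_⟩
    · exact Subring.closure_mono (Set.union_subset_union_right _ (Set.image_mono (by simp))) hF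
    · exact Subring.closure_mono (Set.union_subset_union_right _ (Set.image_mono (by simp))) hF'
  | neg a _ ha =>
    obtain ⟨F, hF⟩ := ha
    exact ⟨F, Subring.neg_mem _ hF⟩
  | mul a b _ _ ha hb =>
    obtain ⟨F, hF⟩ := ha
    obtain ⟨F', hF'⟩ := hb
    refine ⟨F ∪ F', Subring.mul_mem _ ?_ ?_⟩
    · exact Subring.closure_mono (Set.union_subset_union_right _ (Set.image_mono (by simp))) hF
    · exact Subring.closure_mono (Set.union_subset_union_right _ (Set.image_mono (by simp))) hF'

/-- **The criterion for relative very ampleness with an arbitrary family of sections.** -/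
theorem isRelVeryAmplePn_of_family {X S : Scheme.{u}} (f : X ⟶ S) [LocallyOfFiniteType f]
    [CompactSpace X] (L : X.Modules) {ι : Type*} (w : ι → Γ(L, ⊤)) {κ : Type*} (j : κ → ι)
    (hcov : ∀ x : X, ∃ k, x ∈ loc (w (j k)))
    (V : κ → S.Opens) (hV : ∀ k, IsAffineOpen (V k))
    (hU : ∀ k, IsAffineOpen (loc (w (j k))))
    (hle : ∀ k, loc (w (j k)) ≤ f ⁻¹ᵁ V k)
    (hgen : ∀ k, Subring.closure (Set.range (f.appLE (V k) (loc (w (j k))) (hle k)).hom ∪
      Set.range (fun i => coef (w (j k)) (w i))) = ⊤) :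
    RelAmple.IsRelVeryAmplePn f L := by
  classical
  choose kx hkx using hcov
  obtain ⟨J, hJ⟩ := isCompact_univ.elim_finite_subcover
    (fun x => ((loc (w (j (kx x))) : X.Opens) : Set X))
    (fun x => (loc (w (j (kx x)))).isOpen) (fun x _ => Set.mem_iUnion.mpr ⟨x, hkx x⟩)
  choose gens hgens using fun x : J =>
    exists_finset_gen f (hV (kx x)) (hU (kx x)) (hle (kx x))
  choose F hF using fun (x : J) (b : gens x) =>
    exists_finset_of_mem_closure_union
      (Set.range (f.appLE (V (kx x)) (loc (w (j (kx x)))) (hle (kx x))).hom)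
      (fun i => coef (w (j (kx x))) (w i)) b.1 (by rw [hgen]; trivial)
  let w' : (Σ x : J, Option (Σ b : gens x, F x b)) → Γ(L, ⊤) := fun i =>
    i.2.elim (w (j (kx i.1))) (fun p => w p.2.1)
  refine isRelVeryAmplePn_of_fintype_aux f L w' (fun x : J => ⟨x, none⟩)
    (fun x : J => w (j (kx x))) (fun _ => rfl) (fun x => ?_) (fun x => V (kx x))
    (fun x => hV _) (fun x => hU _) (fun x => hle _) (fun x => ?_)
  · obtain ⟨y, hy, hxy⟩ := Set.mem_iUnion₂.mp (hJ (Set.mem_univ x))
    exact ⟨⟨y, hy⟩, hxy⟩
  · apply top_unique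
    rw [← hgens x, Subring.closure_le]
    rintro z (hz | hz)
    · exact Subring.subset_closure (Or.inl hz)
    · refine Subring.closure_mono ?_ (hF x ⟨z, hz⟩)
      rintro _ (h | ⟨i, hi, rfl⟩)
      · exact Or.inl h
      · exact Or.inr ⟨⟨x, some ⟨⟨z, hz⟩, ⟨i, hi⟩⟩⟩, rfl⟩

end Groth.Agent.Lib.Helper17.FamilyCrit
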