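import Groth.Agent.Lib.Helper17.PnSections
import Groth.Agent.Lib.Helper17.HZero
import Groth.Agent.Lib.Helper17.ProjGlobal

/-!
# `H^0(P^n_R, O(d))` is the module of homogeneous polynomials of degree `d` (helper17)
-/

set_option autoImplicit false
set_option linter.unusedSectionVars false
universe u
open CategoryTheory AlgebraicGeometry TopologicalSpace Opposite MvPolynomial

namespace Groth.Agent.Lib.Helper17.PnH0
open Groth.Agent.Lib.Helper17.PnSections Groth.Agent.Lib.Helper17.OFrac
  Groth.Agent.Lib.Helper17.GrQCoh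

variable (n : ℕ) (R : Type u) [CommRing R]

/-- `a ↦ a / 1`, additively. -/
noncomputable def globalOfHom (d : ℕ) : CohB1.polyGrading n R d →+
    Twist.sectN (𝒜 := CohB1.polyGrading n R) (d : ℤ) (op ⊤) where
  toFun a := Twist.globalOf (CohB1.polyGrading n R) a
  map_zero' := by
    apply Subtype.ext
    funext y
    apply Subtype.ext
    refine (globalOf_val n R 0 y.1).trans ?_
    exact Localization.mk_zero _
  map_add' a b := by
    apply Subtype.ext
    funext y
    apply Subtype.ext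
    refine (globalOf_val n R (a + b) y.1).trans ?_
    refine Eq.trans ?_ (congrArg₂ (· + ·) (globalOf_val n R a y.1) (globalOf_val n R b y.1)).symm
    exact (Localization.add_mk_self _ _ _).symm

/-- `A_d ≃+ Γ(P^n, O(d))`. -/
noncomputable def globalOfEquiv (d : ℕ) : CohB1.polyGrading n R d ≃+
    Twist.sectN (𝒜 := CohB1.polyGrading n R) (d : ℤ) (op ⊤) :=
  AddEquiv.ofBijective (globalOfHom n R d) ⟨globalOf_injective n R d, globalOf_surjective n R d⟩

def toSectTop {d : ℤ} (s : Γ(Twist.twistProjSpace n R d, ⊤)) :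
    Twist.sectN (𝒜 := CohB1.polyGrading n R) d (op ⊤) := s

def ofSectTop {d : ℤ} (s : Twist.sectN (𝒜 := CohB1.polyGrading n R) d (op ⊤)) :
    Γ(Twist.twistProjSpace n R d, ⊤) := s

/-- the action of `r : R` on global sections of `O(d)`. -/
theorem smul_globalOf (d : ℕ) (r : R) (a : CohB1.polyGrading n R d) :
    ofSectTop n R (Twist.globalOf (CohB1.polyGrading n R) (r • a)) =
      @HSMul.hSMul ((CohB1.ProjSpace n R).ringCatSheaf.obj.obj (op ⊤))
        ((Twist.twistProjSpace n R (d : ℤ)).val.obj (op ⊤))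
        ((Twist.twistProjSpace n R (d : ℤ)).val.obj (op ⊤)) _
        (Coh.toGlobal (CohB1.ProjSpace.toSpec n R) r)
        (ofSectTop n R (Twist.globalOf (CohB1.polyGrading n R) a)) := by
  have h1 : Coh.toGlobal (CohB1.ProjSpace.toSpec n R) r =
      oFrac (CohB1.polyGrading n R) ⊤ 0 (algebraMap R (MvPolynomial (Fin (n + 1)) R) r) 1 :=
    ProjGlobal.toGlobal_apply (CohB1.polyGrading n R) r
  rw [h1]
  apply Subtype.ext
  funext y
  apply Subtype.ext
  refine (globalOf_val n R (r • a) y.1).trans ?_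
  have G : Good (CohB1.polyGrading n R) ⊤ 0
      (algebraMap R (MvPolynomial (Fin (n + 1)) R) r) 1 :=
    ProjGlobal.good_zero (CohB1.polyGrading n R) (algebraMap R (CohB1.polyGrading n R 0) r)
  refine Eq.trans ?_ (Twist.coe_smul_val (d : ℤ) y.1
    ((toO (CohB1.polyGrading n R) (oFrac (CohB1.polyGrading n R) ⊤ 0
      (algebraMap R (MvPolynomial (Fin (n + 1)) R) r) 1)).1 y)
    ((Twist.globalOf (CohB1.polyGrading n R) a).1 y)).symm
  refine Eq.trans ?_ (congrArg₂ (· * ·) (val_oFrac (CohB1.polyGrading n R) G y).symm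
    (globalOf_val n R a y.1).symm)
  rw [Localization.mk_mul]
  congr 1
  · rw [Submodule.coe_smul, MvPolynomial.smul_eq_C_mul]
    rfl
  · exact Subtype.ext (one_mul _).symm

theorem globalOfEquiv_apply (d : ℕ) (a : CohB1.polyGrading n R d) :
    globalOfEquiv n R d a = Twist.globalOf (CohB1.polyGrading n R) a := rfl

theorem hh0_smul (d : ℕ) (r : R)
    (x : Coh.HH (CohB1.ProjSpace n R) (Twist.twistProjSpace n R (d : ℤ)) 0) :
    HZero.hh0Equiv (Twist.twistProjSpace n R (d : ℤ)) (r • x) =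
      @HSMul.hSMul ((CohB1.ProjSpace n R).ringCatSheaf.obj.obj (op ⊤))
        ((Twist.twistProjSpace n R (d : ℤ)).val.obj (op ⊤))
        ((Twist.twistProjSpace n R (d : ℤ)).val.obj (op ⊤)) _
        (Coh.toGlobal (CohB1.ProjSpace.toSpec n R) r)
        (HZero.hh0Equiv (Twist.twistProjSpace n R (d : ℤ)) x) :=
  HZero.hh0Equiv_smul (Twist.twistProjSpace n R (d : ℤ))
    (Coh.toGlobal (CohB1.ProjSpace.toSpec n R) r) x

theorem key (d : ℕ) (r : R)
    (x : Coh.HH (CohB1.ProjSpace n R) (Twist.twistProjSpace n R (d : ℤ)) 0) :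
    toSectTop n R (HZero.hh0Equiv (Twist.twistProjSpace n R (d : ℤ)) (r • x)) =
      Twist.globalOf (CohB1.polyGrading n R) (r • (globalOfEquiv n R d).symm
        (toSectTop n R (HZero.hh0Equiv (Twist.twistProjSpace n R (d : ℤ)) x))) := by
  have h1 : Twist.globalOf (CohB1.polyGrading n R) ((globalOfEquiv n R d).symm
      (toSectTop n R (HZero.hh0Equiv (Twist.twistProjSpace n R (d : ℤ)) x))) =
      toSectTop n R (HZero.hh0Equiv (Twist.twistProjSpace n R (d : ℤ)) x) :=
    (globalOfEquiv n R d).apply_symm_apply _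
  have h5 := smul_globalOf n R d r ((globalOfEquiv n R d).symm
      (toSectTop n R (HZero.hh0Equiv (Twist.twistProjSpace n R (d : ℤ)) x)))
  have h4 := hh0_smul n R d r x
  have h6 : ofSectTop n R (Twist.globalOf (CohB1.polyGrading n R) ((globalOfEquiv n R d).symm
      (toSectTop n R (HZero.hh0Equiv (Twist.twistProjSpace n R (d : ℤ)) x)))) =
      HZero.hh0Equiv (Twist.twistProjSpace n R (d : ℤ)) x := congrArg (ofSectTop n R) h1
  exact congrArg (toSectTop n R) (h4.trans ((congrArg _ h6).symm.trans h5.symm))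

/-- **`H^0(P^n_R, O(d)) ≃ₗ[R] R[T_0, …, T_n]_d`**. -/
theorem nonempty_linearEquiv (d : ℕ) :
    Nonempty (Coh.HH (CohB1.ProjSpace n R) (Twist.twistProjSpace n R (d : ℤ)) 0 ≃ₗ[R]
      ↥(MvPolynomial.homogeneousSubmodule (Fin (n + 1)) R d)) := by
  let e0 : Coh.HH (CohB1.ProjSpace n R) (Twist.twistProjSpace n R (d : ℤ)) 0 ≃+
      Γ(Twist.twistProjSpace n R (d : ℤ), ⊤) := HZero.hh0Equiv _
  let e1 : Γ(Twist.twistProjSpace n R (d : ℤ), ⊤) ≃+
      Twist.sectN (𝒜 := CohB1.polyGrading n R) (d : ℤ) (op ⊤) :=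
    { toFun := toSectTop n R
      invFun := ofSectTop n R
      left_inv := fun _ => rfl
      right_inv := fun _ => rfl
      map_add' := fun _ _ => rfl }
  let e : Coh.HH (CohB1.ProjSpace n R) (Twist.twistProjSpace n R (d : ℤ)) 0 ≃+
      CohB1.polyGrading n R d := (e0.trans e1).trans (globalOfEquiv n R d).symm
  refine ⟨AddEquiv.toLinearEquiv e ?_⟩
  intro r x
  apply (globalOfEquiv n R d).injective
  have h1 : globalOfEquiv n R d (e (r • x)) = e1 (e0 (r • x)) :=
    (globalOfEquiv n R d).apply_symm_apply _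
  exact h1.trans (key n R d r x)

end Groth.Agent.Lib.Helper17.PnH0
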