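import Groth.Agent.Lib.Helper17.PnCech
import Groth.Agent.Lib.Helper17.GrQCoh
import Groth.Agent.Lib.Helper17.HZero
import Groth.Agent.Lib.Helper1.ShCohTop
import Groth.Agent.Lib.Helper1.AffineVanishing
import Groth.Agent.S0464
import Groth.Agent.S0022

/-!
# Vanishing of `H^q(P^n_R, O(d))` outside the two classical ranges (helper17)
-/

set_option autoImplicit false
set_option linter.unusedSectionVars false
universe u
open CategoryTheory AlgebraicGeometry TopologicalSpace Opposite MvPolynomial Limits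

namespace Groth.Agent.Lib.Helper17.PnVanish
open Groth.Agent.Lib.Helper17.Laurent Groth.Agent.Lib.Helper17.PnSections
  Groth.Agent.Lib.Helper17.PnRep Groth.Agent.Lib.Helper1.Cech Groth.Agent.Lib.Helper17.PnCech

variable (n : ℕ) (R : Type u) [CommRing R] (d : ℤ)

instance isQuasicoherent_twist : (Twist.twistProjSpace n R d).IsQuasicoherent := by
  have h : (GrTilde.tilde (CohB1.polyGrading n R) (CohB1.polyGrading n R) d).IsQuasicoherent :=
    GrQCoh.isQuasicoherent_tilde _ _ _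
  exact (SheafOfModules.isQuasicoherent (Proj (CohB1.polyGrading n R)).ringCatSheaf).prop_of_iso
    (TwistIso.twistIso (CohB1.polyGrading n R) d).symm h


theorem iSup_U : iSup (U n R) = ⊤ := by
  rw [eq_top_iff]
  intro y _
  obtain ⟨i, hi⟩ := exists_T_not_mem n R y
  exact Opens.mem_iSup.mpr ⟨⟨i⟩, hi⟩

theorem inter_eq_basicOpen {p : ℕ} (a : Fin (p + 1) → ι.{u} n) :
    inter (U n R) a = Proj.basicOpen (CohB1.polyGrading n R) (xpow n R (cnt (tup n a))) := by
  apply Opens.ext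
  ext y
  exact (mem_inter_iff n R a y).trans (xpow_cnt_not_mem_iff (tup n a) y).symm

theorem isAffineOpen_inter {p : ℕ} (a : Fin (p + 1) → ι.{u} n) :
    IsAffineOpen (X := CohB1.ProjSpace n R) (inter (U n R) a) := by
  rw [inter_eq_basicOpen]
  exact Proj.isAffineOpen_basicOpen (CohB1.polyGrading n R) _ (m := p + 1)
    (degree_cnt (n := n) (tup n a) ▸ xpow_mem n R (cnt (tup n a))) (Nat.succ_pos p)

theorem isAffineOpen_iInf {p : ℕ} (a : Fin (p + 1) → ι.{u} n) :
    IsAffineOpen (X := CohB1.ProjSpace n R) (⨅ k, U n R (a k)) :=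
  (inter_eq_iInf (U n R) a) ▸ isAffineOpen_inter n R a

/-- Čech cohomology of `O(d)` for the standard cover computes `H^q(P^n_R, O(d))`. -/
theorem nonempty_cechH_equiv (q : ℕ) :
    Nonempty (CohTop.cechH (P n R d) (U n R) q ≃+
      Coh.HH (CohB1.ProjSpace n R) (Twist.twistProjSpace n R d) q) := by
  obtain ⟨e⟩ := Groth.Agent.S0464.result (X := Xt n R)
    (Coh.toAb (Twist.twistProjSpace n R d)) (U n R)
    (fun p a q => Groth.Agent.Lib.Helper1.subsingleton_HU_of_isAffineOpen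
      (Twist.twistProjSpace n R d) _ (isAffineOpen_iInf n R a) q) q
  rw [iSup_U] at e
  exact ⟨e.trans (Groth.Agent.Lib.Helper1.HUTopEquivH _ q)⟩

/-- **`H^{p+1}(P^n_R, O(d)) = 0`** when `p + 1 < n` or `d > -(n+1)`. -/
theorem subsingleton_HH_succ (p : ℕ) (hcase : p + 2 < n + 1 ∨ -((n : ℤ) + 1) < d) :
    Subsingleton (Coh.HH (CohB1.ProjSpace n R) (Twist.twistProjSpace n R d) (p + 1)) := by
  have hex : ((cechComplexFunctor (U n R)).obj (P n R d)).ExactAt (p + 1) := by
    rw [exactAt_succ_iff]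
    intro s hs
    exact exists_cobound n R d p hcase s hs
  have hz : IsZero (CohTop.cechH (P n R d) (U n R) (p + 1)) :=
    (HomologicalComplex.exactAt_iff_isZero_homology _ _).mp hex
  have hsub : Subsingleton (CohTop.cechH (P n R d) (U n R) (p + 1)) :=
    AddCommGrpCat.subsingleton_of_isZero hz
  obtain ⟨e⟩ := nonempty_cechH_equiv n R d (p + 1)
  exact e.symm.toEquiv.subsingleton


/-- the basic open `D₊(T i)`. -/
noncomputable abbrev Ui (i : Fin (n + 1)) : Opens (ProjectiveSpectrum.top (CohB1.polyGrading n R)) :=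
  ProjectiveSpectrum.basicOpen (CohB1.polyGrading n R) (T n R i)

theorem exists_rep_Ui (s : Twist.sectN (𝒜 := CohB1.polyGrading n R) d (op ⊤)) (i : Fin (n + 1)) :
    ∃ ℓ ∈ Ld R d (Set.range (fun _ : Fin 1 => i)),
      Rep n R d (Ui n R i) (Twist.resN d (homOfLE (le_top : Ui n R i ≤ ⊤)).op s) ℓ :=
  exists_rep d (fun _ : Fin 1 => i) (Ui n R i)
      (fun y hy _ => (ProjectiveSpectrum.mem_basicOpen _ _ y).mp hy)
      (fun y hy => (ProjectiveSpectrum.mem_basicOpen _ _ y).mpr (hy 0)) _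

theorem agree (s : Twist.sectN (𝒜 := CohB1.polyGrading n R) d (op ⊤)) (i j : Fin (n + 1))
    (ℓ ℓ' : (Fin (n + 1) → ℤ) → R)
    (hi : Rep n R d (Ui n R i) (Twist.resN d (homOfLE (le_top : Ui n R i ≤ ⊤)).op s) ℓ)
    (hj : Rep n R d (Ui n R j) (Twist.resN d (homOfLE (le_top : Ui n R j ≤ ⊤)).op s) ℓ') :
    ℓ = ℓ' := by
  have hi' := rep_res d (inf_le_left : Ui n R i ⊓ Ui n R j ≤ Ui n R i) _ hi
  have hj' := rep_res d (inf_le_right : Ui n R i ⊓ Ui n R j ≤ Ui n R j) _ hj
  refine rep_unique d (Ui n R i ⊓ Ui n R j) (fun y hy => ⟨?_, ?_⟩) _ hi' hj'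
  · exact (ProjectiveSpectrum.mem_basicOpen _ _ y).mpr (hy i)
  · exact (ProjectiveSpectrum.mem_basicOpen _ _ y).mpr (hy j)


theorem eq_zero_of_mem_two (hn : 1 ≤ n) (hd : d < 0) (ℓ : (Fin (n + 1) → ℤ) → R)
    (h0 : ℓ ∈ Ld R d (Set.range (fun _ : Fin 1 => (0 : Fin (n + 1)))))
    (h1 : ℓ ∈ Ld R d (Set.range (fun _ : Fin 1 => (1 : Fin (n + 1))))) : ℓ = 0 := by
  have h01 : (1 : Fin (n + 1)) ≠ 0 := by
    intro h
    have := Fin.one_eq_zero_iff.mp h
    omega
  funext a
  by_contra hne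
  have h0' := h0.2 a hne
  have h1' := h1.2 a hne
  have hnn : ∀ k, 0 ≤ a k := by
    intro k
    by_contra hk
    push Not at hk
    obtain ⟨_, e0⟩ := h0'.2 k hk
    obtain ⟨_, e1⟩ := h1'.2 k hk
    exact h01 (e1.trans e0.symm)
  have : 0 ≤ ∑ k, a k := Finset.sum_nonneg fun k _ => hnn k
  rw [h0'.1] at this
  omega


theorem res_eq_zero (hn : 1 ≤ n) (hd : d < 0)
    (s : Twist.sectN (𝒜 := CohB1.polyGrading n R) d (op ⊤)) (i : Fin (n + 1)) :
    Twist.resN d (homOfLE (le_top : Ui n R i ≤ ⊤)).op s = 0 := by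
  classical
  choose ℓ hℓmem hℓrep using exists_rep_Ui n R d s
  have hagree : ∀ i j, ℓ i = ℓ j := fun i j => agree n R d s i j _ _ (hℓrep i) (hℓrep j)
  have hzero : ∀ i, ℓ i = 0 := by
    intro i
    rw [hagree i 0]
    exact eq_zero_of_mem_two n R d hn hd _ (hℓmem 0) (hagree 1 0 ▸ hℓmem 1)
  exact rep_injective d _ _ _ (hℓrep i)
    (rep_congr d _ rfl (hzero i).symm (rep_zero d _ i (fun y => y.2)))

/-- a global section of `O(d)`, `d < 0`, vanishes when `n ≥ 1`. -/
theorem sect_top_eq_zero (hn : 1 ≤ n) (hd : d < 0)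
    (s : Twist.sectN (𝒜 := CohB1.polyGrading n R) d (op ⊤)) : s = 0 := by
  have key' : ∀ (y : (⊤ : Opens (ProjectiveSpectrum.top (CohB1.polyGrading n R))))
      (i : Fin (n + 1)) (hi : T n R i ∉ y.1.asHomogeneousIdeal), s.1 y = 0 := by
    intro y i hi
    have hres := res_eq_zero n R d hn hd s i
    have h3 : (Twist.resN d (homOfLE (le_top : Ui n R i ≤ ⊤)).op s).1 ⟨y.1, hi⟩ =
        (0 : Twist.sectN (𝒜 := CohB1.polyGrading n R) d (op (Ui n R i))).1 ⟨y.1, hi⟩ :=
      congrArg (fun t : Twist.sectN (𝒜 := CohB1.polyGrading n R) d (op (Ui n R i)) =>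
        t.1 ⟨y.1, hi⟩) hres
    exact h3
  have key : ∀ y, s.1 y = 0 := fun y =>
    (exists_T_not_mem n R y.1).elim fun i hi => key' y i hi
  exact Subtype.ext (funext key)


/-- **`H^0(P^n_R, O(d)) = 0`** for `d < 0` and `n ≥ 1`. -/
theorem subsingleton_HH_zero (hn : 1 ≤ n) (hd : d < 0) :
    Subsingleton (Coh.HH (CohB1.ProjSpace n R) (Twist.twistProjSpace n R d) 0) := by
  have h : Subsingleton (Twist.sectN (𝒜 := CohB1.polyGrading n R) d (op ⊤)) :=
    ⟨fun s s' => (sect_top_eq_zero n R d hn hd s).trans (sect_top_eq_zero n R d hn hd s').symm⟩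
  have h' : Subsingleton Γ(Twist.twistProjSpace n R d, ⊤) := h
  exact (HZero.hh0Equiv (Twist.twistProjSpace n R d)).toEquiv.subsingleton

/-- **Vanishing of the cohomology of `O(d)` on `P^n_R`** outside the two classical ranges. -/
theorem subsingleton_HH (q : ℕ) (h₀ : ¬ (q = 0 ∧ 0 ≤ d)) (hn : ¬ (q = n ∧ d ≤ -((n : ℤ) + 1))) :
    Subsingleton (Coh.HH (CohB1.ProjSpace n R) (Twist.twistProjSpace n R d) q) := by
  rcases Nat.eq_zero_or_pos q with hq | hq
  · subst hq
    have hd : d < 0 := by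
      by_contra h
      exact h₀ ⟨rfl, not_lt.mp h⟩
    have hn1 : 1 ≤ n := by
      by_contra h
      have : n = 0 := by omega
      subst this
      apply hn
      refine ⟨rfl, ?_⟩
      simp only [CharP.cast_eq_zero, zero_add]
      omega
    exact subsingleton_HH_zero n R d hn1 hd
  · obtain ⟨p, rfl⟩ : ∃ p, q = p + 1 := ⟨q - 1, by omega⟩
    rcases lt_trichotomy (p + 1) n with h | h | h
    · exact subsingleton_HH_succ n R d p (Or.inl (by omega))
    · refine subsingleton_HH_succ n R d p (Or.inr ?_)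
      by_contra hd
      exact hn ⟨h, not_lt.mp hd⟩
    · exact Groth.Agent.S0022.result n R _ _ h

end Groth.Agent.Lib.Helper17.PnVanish
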