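import Mathlib.LinearAlgebra.Matrix.ToLinearEquiv
import Mathlib.LinearAlgebra.Matrix.Determinant.Basic
import Mathlib.Tactic

set_option autoImplicit false

namespace Groth.Agent.Lib.Helper17.SgnDet

variable {m : ℕ}

/-- the incidence matrix of a tuple. -/
def mat {q : ℕ} (t : Fin q → Fin q) : Matrix (Fin q) (Fin q) ℤ :=
  Matrix.of fun i k => if t i = k then (1 : ℤ) else 0

/-- the sign of a tuple `t : Fin q → Fin q`: `±1` for a permutation, `0` otherwise. -/
def sgn {q : ℕ} (t : Fin q → Fin q) : ℤ := (mat t).det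

theorem sgn_id {q : ℕ} : sgn (id : Fin q → Fin q) = 1 := by
  have : mat (id : Fin q → Fin q) = 1 := by
    ext i k
    simp [mat, Matrix.one_apply]
  rw [sgn, this, Matrix.det_one]

theorem sgn_eq_zero_of_not_surjective {q : ℕ} (t : Fin q → Fin q) (h : ¬ Function.Surjective t) :
    sgn t = 0 := by
  simp only [Function.Surjective, not_forall, not_exists] at h
  obtain ⟨k, hk⟩ := h
  refine Matrix.det_eq_zero_of_column_eq_zero k fun i => ?_
  simp [mat, hk i]

/-- the bordered matrix. -/
def bmat (y : Fin (m + 2) → Fin (m + 1)) : Matrix (Fin (m + 2)) (Fin (m + 2)) ℤ :=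
  Matrix.of fun i c => Fin.cases (1 : ℤ) (fun k => if y i = k then (1 : ℤ) else 0) c

theorem det_bmat (y : Fin (m + 2) → Fin (m + 1)) : (bmat y).det = 0 := by
  rw [← Matrix.exists_mulVec_eq_zero_iff]
  refine ⟨Fin.cons (-1) fun _ => 1, ?_, ?_⟩
  · intro h
    have := congrFun h 0
    simp at this
  · funext i
    rw [Matrix.mulVec, dotProduct, Fin.sum_univ_succ]
    simp [bmat]

/-- **the alternating sum of the signs of the faces vanishes.** -/
theorem sum_sgn (y : Fin (m + 2) → Fin (m + 1)) :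
    ∑ k : Fin (m + 2), (-1 : ℤ) ^ (k : ℕ) * sgn (y ∘ k.succAbove) = 0 := by
  have h := Matrix.det_succ_column_zero (bmat y)
  rw [det_bmat] at h
  rw [h]
  refine Finset.sum_congr rfl fun k _ => ?_
  have h1 : bmat y k 0 = 1 := rfl
  have h2 : (bmat y).submatrix k.succAbove Fin.succ = mat (y ∘ k.succAbove) := by
    ext i c
    simp [bmat, mat]
  rw [h1, mul_one, h2]
  rfl

end Groth.Agent.Lib.Helper17.SgnDet
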