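import Mathlib.GroupTheory.Perm.Sign
import Mathlib.Tactic

set_option autoImplicit false

namespace Groth.Agent.Lib.Helper17.SignLemma

open Equiv

variable {m : ℕ}

/-- the map `(0, …, j, j+1, j, j+2, …, m)`. -/
def dup (j : Fin m) (t : Fin (m + 2)) : Fin (m + 1) :=
  if h1 : t.val ≤ j.val + 1 then ⟨t.val, by omega⟩
  else if t.val = j.val + 2 then ⟨j.val, by omega⟩ else ⟨t.val - 1, by omega⟩

theorem val_dup (j : Fin m) (t : Fin (m + 2)) :
    (dup j t).val = if t.val ≤ j.val + 1 then t.val else if t.val = j.val + 2 then j.val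
      else t.val - 1 := by
  unfold dup
  split_ifs <;> rfl

theorem val_succAbove {k : ℕ} (p : Fin (k + 1)) (i : Fin k) :
    (p.succAbove i).val = if i.val < p.val then i.val else i.val + 1 := by
  rcases lt_or_ge i.castSucc p with h | h
  · rw [Fin.succAbove_of_castSucc_lt _ _ h]
    have h' : i.val < p.val := h
    rw [if_pos h']
    rfl
  · rw [Fin.succAbove_of_le_castSucc _ _ h]
    have h' : p.val ≤ i.val := h
    rw [if_neg (by omega)]
    rfl

theorem val_swap (j : Fin m) (i : Fin (m + 1)) :
    ((swap j.castSucc j.succ) i).val = if i.val = j.val then j.val + 1 else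
      if i.val = j.val + 1 then j.val else i.val := by
  rw [Equiv.swap_apply_def]
  by_cases h1 : i = j.castSucc
  · rw [if_pos h1, if_pos (by rw [h1]; rfl)]
    rfl
  · have h1' : i.val ≠ j.val := fun h => h1 (Fin.ext h)
    rw [if_neg h1, if_neg h1']
    by_cases h2 : i = j.succ
    · rw [if_pos h2, if_pos (by rw [h2]; rfl)]
      rfl
    · have h2' : i.val ≠ j.val + 1 := fun h => h2 (Fin.ext h)
      rw [if_neg h2, if_neg h2']

/-- position `j`. -/
def posA (j : Fin m) : Fin (m + 2) := ⟨j.val, by omega⟩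

/-- position `j + 2`. -/
def posB (j : Fin m) : Fin (m + 2) := ⟨j.val + 2, by omega⟩

theorem val_posA (j : Fin m) : (posA j).val = j.val := rfl

theorem val_posB (j : Fin m) : (posB j).val = j.val + 2 := rfl

theorem posA_ne_posB (j : Fin m) : posA j ≠ posB j := by
  intro h
  have := congrArg Fin.val h
  simp only [posA, posB] at this
  omega

theorem dup_posA (j : Fin m) : dup j (posA j) = dup j (posB j) := by
  apply Fin.ext
  rw [val_dup, val_dup, val_posA, val_posB]
  split_ifs <;> omega

theorem dup_comp_posB (j : Fin m) : dup j ∘ (posB j).succAbove = id := by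
  funext i
  apply Fin.ext
  simp only [Function.comp, id]
  rw [val_dup, val_succAbove, val_posB]
  split_ifs <;> omega

theorem dup_comp_posA (j : Fin m) :
    dup j ∘ (posA j).succAbove = swap j.castSucc j.succ := by
  funext i
  apply Fin.ext
  simp only [Function.comp]
  rw [val_dup, val_succAbove, val_swap, val_posA]
  split_ifs <;> omega

theorem not_injective_dup_comp (j : Fin m) (k : Fin (m + 2)) (hA : k ≠ posA j) (hB : k ≠ posB j) :
    ¬ Function.Injective (dup j ∘ k.succAbove) := by
  intro hinj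
  obtain ⟨i₁, h₁⟩ := Fin.exists_succAbove_eq hA.symm
  obtain ⟨i₂, h₂⟩ := Fin.exists_succAbove_eq hB.symm
  have h : (dup j ∘ k.succAbove) i₁ = (dup j ∘ k.succAbove) i₂ := by
    simp only [Function.comp, h₁, h₂, dup_posA]
  have := hinj h
  subst this
  exact posA_ne_posB j (h₁.symm.trans h₂)

variable {α : Type*} {A : Type*} [AddCommGroup A]
  (f : (Fin (m + 1) → α) → A)
  (H0 : ∀ x, ¬ Function.Injective x → f x = 0)
  (H1 : ∀ y : Fin (m + 2) → α, ∑ k : Fin (m + 2), (-1 : ℤ) ^ (k : ℕ) • f (y ∘ k.succAbove) = 0)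

include H0 H1 in
theorem swap_adjacent (j : Fin m) (x : Fin (m + 1) → α) :
    f (x ∘ swap j.castSucc j.succ) = - f x := by
  have h := H1 (x ∘ dup j)
  rw [Fintype.sum_eq_add (posA j) (posB j) (posA_ne_posB j)] at h
  · have eA : (x ∘ dup j) ∘ (posA j).succAbove = x ∘ swap j.castSucc j.succ := by
      rw [Function.comp_assoc, dup_comp_posA]
    have eB : (x ∘ dup j) ∘ (posB j).succAbove = x := by
      rw [Function.comp_assoc, dup_comp_posB]
      rfl
    rw [eA, eB] at h
    have hA : ((posA j : Fin (m + 2)) : ℕ) = j.val := rfl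
    have hB : ((posB j : Fin (m + 2)) : ℕ) = j.val + 2 := rfl
    rw [hA, hB, pow_add, mul_smul, ← smul_add] at h
    have hu : ((-1 : ℤ) ^ j.val) • ((-1 : ℤ) ^ j.val • (f (x ∘ swap j.castSucc j.succ) +
        (-1 : ℤ) ^ 2 • f x)) = 0 := by rw [h, smul_zero]
    rw [← mul_smul, ← pow_add, ← two_mul, pow_mul, neg_one_sq, one_pow, one_smul, one_smul] at hu
    exact eq_neg_of_add_eq_zero_left hu
  · rintro k ⟨hA, hB⟩
    rw [H0 _ (fun hinj => not_injective_dup_comp j k hA hB ?_), smul_zero]
    rw [Function.comp_assoc] at hinj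
    exact Function.Injective.of_comp hinj

include H0 H1 in
/-- **Sign lemma**: vanishing of an alternating cocycle on a tuple propagates to all its
reorderings. -/
theorem eq_zero_of_perm (σ : Perm (Fin (m + 1))) :
    ∀ x : Fin (m + 1) → α, f x = 0 → f (x ∘ σ) = 0 := by
  have hmem : σ ∈ Submonoid.closure (Set.range fun i : Fin m => swap i.castSucc i.succ) := by
    rw [Equiv.Perm.mclosure_swap_castSucc_succ]
    trivial
  induction hmem using Submonoid.closure_induction with
  | mem τ hτ =>
    obtain ⟨j, rfl⟩ := hτ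
    intro x hx
    rw [swap_adjacent f H0 H1 j x, hx, neg_zero]
  | one => intro x hx; exact hx
  | mul σ τ _ _ ihσ ihτ =>
    intro x hx
    have : x ∘ ((σ * τ : Perm (Fin (m + 1))) : Fin (m + 1) → Fin (m + 1)) = (x ∘ σ) ∘ τ := rfl
    rw [this]
    exact ihτ _ (ihσ x hx)

end Groth.Agent.Lib.Helper17.SignLemma
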