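import Groth.Agent.Lib.Helper17.PnTop
import Groth.Agent.Lib.Helper17.PnVanish
import Groth.Agent.Lib.Helper17.CechHHLin
import Groth.Agent.Lib.Helper17.AbHomology
import Groth.Agent.Lib.Helper17.SignLemma
import Groth.Agent.Lib.Helper17.SgnDet
import Mathlib.Algebra.Order.Antidiag.Finsupp

/-!
# Top cohomology of `O(-(n+1+k))` on `P^n_R` (helper17)

`nonempty_top_linearEquiv`: `H^n(P^n_R, O(-(n+1+k))) ≃ₗ[R] R[T_0, …, T_n]_k`, through the Čech
complex of the standard cover: a top-degree cocycle is sent to the all-negative part of the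
Laurent expansion of its component at the identity tuple.
-/

set_option autoImplicit false
set_option linter.unusedSectionVars false
universe u
open CategoryTheory AlgebraicGeometry TopologicalSpace Opposite MvPolynomial Limits

namespace Groth.Agent.Lib.Helper17.PnTop
open Groth.Agent.Lib.Helper17.Laurent Groth.Agent.Lib.Helper17.PnSections
  Groth.Agent.Lib.Helper17.PnRep Groth.Agent.Lib.Helper1.Cech Groth.Agent.Lib.Helper17.PnCech
  Groth.Agent.Lib.Helper17.SgnDet

variable (n : ℕ) (R : Type u) [CommRing R] (d : ℤ)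

/-! ### the fundamental cocycles -/

/-- the identity tuple. -/
def idt : Fin (n + 1) → ι.{u} n := fun j => ⟨j⟩

theorem tup_idt : tup n (idt.{u} n) = id := rfl

theorem inter_le_of_surjective (x : Fin (n + 1) → ι.{u} n) (h : Function.Surjective (tup n x)) :
    inter (U n R) x ≤ inter (U n R) (idt n) := by
  intro y hy
  have hy' := (mem_inter_iff n R x y).mp hy
  refine (mem_inter_iff n R (idt n) y).mpr fun j => ?_
  obtain ⟨j', hj'⟩ := h (tup n (idt n) j)
  rw [← hj']
  exact hy' j'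

theorem exists_cochain (ℓ : (Fin (n + 1) → ℤ) → R) (hℓ : ℓ ∈ Ld R d Set.univ) :
    ∃ c : (K (U n R) (P n R d)).X n, ∀ x, ell n R d n c x = sgn (tup n x) • ℓ := by
  classical
  have hℓ' : ℓ ∈ Ld R d (Set.range (tup n (idt.{u} n))) := by
    rw [tup_idt, Set.range_id]
    exact hℓ
  obtain ⟨s₀, hs₀⟩ := exists_sect_of_mem_Ld d (tup n (idt.{u} n)) (inter (U n R) (idt n))
    (fun y hy => (mem_inter_iff n R (idt n) y).mp hy) hℓ'
  have hcomp : ∀ x : Fin (n + 1) → ι.{u} n, ∃ t : (P n R d).obj (op (inter (U n R) x)),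
      Rep n R d (inter (U n R) x) (toS n R d t) (sgn (tup n x) • ℓ) := by
    intro x
    by_cases h : Function.Surjective (tup n x)
    · exact ⟨ofS n R d (sgn (tup n x) •
        Twist.resN d (homOfLE (inter_le_of_surjective n R x h)).op s₀),
        rep_zsmul n R d _ (tup n x 0) (fun y => (mem_inter_iff n R x y.1).mp y.2 0) _
          (rep_res d _ s₀ hs₀) _⟩
    · refine ⟨0, ?_⟩
      have e : sgn (tup n x) • ℓ = 0 := by
        rw [sgn_eq_zero_of_not_surjective _ h, zero_smul]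
      exact rep_congr d _ rfl e.symm
        (rep_zero d _ (tup n x 0) (fun y => (mem_inter_iff n R x y.1).mp y.2 0))
  choose t ht using hcomp
  obtain ⟨c, hc⟩ := exists_mk (U := U n R) (P := P n R d) (q := n) t
  exact ⟨c, fun x => ell_unique n R d n c x
    (rep_congr d _ (congrArg (toS n R d) (hc x)).symm rfl (ht x))⟩

theorem d_eq_zero_of_ell (c : (K (U n R) (P n R d)).X n) (ℓ : (Fin (n + 1) → ℤ) → R)
    (h : ∀ x, ell n R d n c x = sgn (tup n x) • ℓ) :
    (K (U n R) (P n R d)).d n (n + 1) c = 0 := by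
  apply ext_of_ell n R d (n + 1)
  intro z
  rw [ell_d, ell_zero]
  have h1 : ∀ k : Fin (n + 2), ell n R d n c (z ∘ k.succAbove) =
      sgn (tup n z ∘ k.succAbove) • ℓ := fun k => h _
  simp only [h1, smul_smul]
  rw [← Finset.sum_smul, sum_sgn, zero_smul]

/-! ### all-negative exponents and monomials -/

/-- the all-negative exponent vector attached to a monomial. -/
def negv (μ : Fin (n + 1) →₀ ℕ) : Fin (n + 1) → ℤ := fun i => -(μ i : ℤ) - 1

theorem negv_neg (μ : Fin (n + 1) →₀ ℕ) (i : Fin (n + 1)) : negv n μ i < 0 := by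
  unfold negv
  have := Int.natCast_nonneg (μ i)
  omega

/-- the monomial attached to an exponent vector. -/
noncomputable def ofNeg (a : Fin (n + 1) → ℤ) : Fin (n + 1) →₀ ℕ :=
  Finsupp.equivFunOnFinite.symm fun i => (-a i - 1).toNat

theorem ofNeg_apply (a : Fin (n + 1) → ℤ) (i : Fin (n + 1)) :
    ofNeg n a i = (-a i - 1).toNat := rfl

theorem negv_ofNeg (a : Fin (n + 1) → ℤ) (h : ∀ i, a i < 0) : negv n (ofNeg n a) = a := by
  funext i
  unfold negv
  rw [ofNeg_apply, Int.toNat_of_nonneg (by have := h i; omega)]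
  ring

theorem ofNeg_negv (μ : Fin (n + 1) →₀ ℕ) : ofNeg n (negv n μ) = μ := by
  ext i
  rw [ofNeg_apply]
  unfold negv
  have : -(-(μ i : ℤ) - 1) - 1 = (μ i : ℤ) := by ring
  rw [this, Int.toNat_natCast]

theorem sum_negv (μ : Fin (n + 1) →₀ ℕ) :
    ∑ i, negv n μ i = -(μ.degree : ℤ) - ((n : ℤ) + 1) := by
  unfold negv
  rw [Finset.sum_sub_distrib, Finset.sum_neg_distrib, Finsupp.degree_eq_sum]
  simp

/-- the polynomial made of the all-negative part of an expansion. -/
noncomputable def phiPoly (k : ℕ) (ℓ : (Fin (n + 1) → ℤ) → R) : MvPolynomial (Fin (n + 1)) R :=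
  ∑ μ ∈ (Finset.univ : Finset (Fin (n + 1))).finsuppAntidiag k, monomial μ (ℓ (negv n μ))

theorem mem_antidiag_iff (k : ℕ) (μ : Fin (n + 1) →₀ ℕ) :
    μ ∈ (Finset.univ : Finset (Fin (n + 1))).finsuppAntidiag k ↔ μ.degree = k := by
  rw [Finset.mem_finsuppAntidiag, Finsupp.degree_eq_sum]
  simp

theorem coeff_phiPoly (k : ℕ) (ℓ : (Fin (n + 1) → ℤ) → R) (μ : Fin (n + 1) →₀ ℕ) :
    coeff μ (phiPoly n R k ℓ) = if μ.degree = k then ℓ (negv n μ) else 0 := by
  classical
  unfold phiPoly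
  rw [coeff_sum]
  simp only [coeff_monomial]
  rw [Finset.sum_ite_eq']
  exact if_congr (mem_antidiag_iff n k μ) rfl rfl

theorem phiPoly_mem (k : ℕ) (ℓ : (Fin (n + 1) → ℤ) → R) :
    phiPoly n R k ℓ ∈ homogeneousSubmodule (Fin (n + 1)) R k := by
  unfold phiPoly
  refine Submodule.sum_mem _ fun μ hμ => ?_
  exact isHomogeneous_monomial _ ((mem_antidiag_iff n k μ).mp hμ)

theorem phiPoly_add (k : ℕ) (ℓ ℓ' : (Fin (n + 1) → ℤ) → R) :
    phiPoly n R k (ℓ + ℓ') = phiPoly n R k ℓ + phiPoly n R k ℓ' := by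
  unfold phiPoly
  rw [← Finset.sum_add_distrib]
  refine Finset.sum_congr rfl fun μ _ => ?_
  rw [Pi.add_apply, map_add]

theorem phiPoly_zero (k : ℕ) : phiPoly n R k 0 = 0 := by
  unfold phiPoly
  simp

theorem phiPoly_smul (k : ℕ) (r : R) (ℓ : (Fin (n + 1) → ℤ) → R) :
    phiPoly n R k (r • ℓ) = r • phiPoly n R k ℓ := by
  unfold phiPoly
  rw [Finset.smul_sum]
  refine Finset.sum_congr rfl fun μ _ => ?_
  rw [Pi.smul_apply, smul_eq_mul, smul_monomial, smul_eq_mul]

/-- the expansion attached to a polynomial. -/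
noncomputable def lauOfPoly (p : MvPolynomial (Fin (n + 1)) R) : (Fin (n + 1) → ℤ) → R :=
  fun a => open Classical in if ∀ i, a i < 0 then coeff (ofNeg n a) p else 0

theorem lauOfPoly_negv (p : MvPolynomial (Fin (n + 1)) R) (μ : Fin (n + 1) →₀ ℕ) :
    lauOfPoly n R p (negv n μ) = coeff μ p := by
  unfold lauOfPoly
  rw [if_pos (negv_neg n μ), ofNeg_negv]

theorem lauOfPoly_mem (k : ℕ) (p : MvPolynomial (Fin (n + 1)) R) (hp : p.IsHomogeneous k) :
    lauOfPoly n R p ∈ Ld R (-((n : ℤ) + 1 + k)) Set.univ := by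
  classical
  have key : ∀ a, lauOfPoly n R p a ≠ 0 → (∀ i, a i < 0) ∧ coeff (ofNeg n a) p ≠ 0 := by
    intro a ha
    unfold lauOfPoly at ha
    by_cases h : ∀ i, a i < 0
    · rw [if_pos h] at ha
      exact ⟨h, ha⟩
    · rw [if_neg h] at ha
      exact absurd rfl ha
  refine ⟨?_, fun a ha => ⟨?_, fun i _ => Set.mem_univ i⟩⟩
  · refine Set.Finite.subset (p.support.finite_toSet.image (negv n)) fun a ha => ?_
    obtain ⟨h1, h2⟩ := key a ha
    exact ⟨ofNeg n a, Finset.mem_coe.mpr (mem_support_iff.mpr h2), negv_ofNeg n a h1⟩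
  · obtain ⟨h1, h2⟩ := key a ha
    have hdeg : (ofNeg n a).degree = k := by
      rw [Finsupp.degree_eq_weight_one]
      exact hp h2
    rw [← negv_ofNeg n a h1, sum_negv, hdeg]
    ring

theorem phiPoly_lauOfPoly (k : ℕ) (p : MvPolynomial (Fin (n + 1)) R) (hp : p.IsHomogeneous k) :
    phiPoly n R k (lauOfPoly n R p) = p := by
  ext μ
  rw [coeff_phiPoly, lauOfPoly_negv]
  by_cases h : μ.degree = k
  · rw [if_pos h]
  · rw [if_neg h]
    by_contra hne
    apply h
    rw [Finsupp.degree_eq_weight_one]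
    exact hp (Ne.symm hne)

/-! ### the map to homogeneous polynomials -/

/-- the degree `-(n+1+k)`. -/
abbrev dk (k : ℕ) : ℤ := -((n : ℤ) + 1 + k)

/-- the top-degree cochains to homogeneous polynomials of degree `k`. -/
noncomputable def Phi (k : ℕ) : (K (U n R) (P n R (dk n k))).X n →+
    homogeneousSubmodule (Fin (n + 1)) R k where
  toFun c := ⟨phiPoly n R k (ell n R (dk n k) n c (idt n)), phiPoly_mem n R k _⟩
  map_zero' := Subtype.ext ((congrArg (phiPoly n R k) (ell_zero n R (dk n k) n (idt n))).trans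
    (phiPoly_zero n R k))
  map_add' c c' := Subtype.ext ((congrArg (phiPoly n R k) (ell_add n R (dk n k) n c c' (idt n))).trans
    (phiPoly_add n R k _ _))

theorem Phi_val (k : ℕ) (c : (K (U n R) (P n R (dk n k))).X n) :
    (Phi n R k c : MvPolynomial (Fin (n + 1)) R) = phiPoly n R k (ell n R (dk n k) n c (idt n)) :=
  rfl

theorem Phi_surj (k : ℕ) (y : homogeneousSubmodule (Fin (n + 1)) R k) :
    ∃ c : (K (U n R) (P n R (dk n k))).X n,
      (K (U n R) (P n R (dk n k))).d n (n + 1) c = 0 ∧ Phi n R k c = y := by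
  obtain ⟨c, hc⟩ := exists_cochain n R (dk n k) (lauOfPoly n R y.1) (lauOfPoly_mem n R k y.1 y.2)
  refine ⟨c, d_eq_zero_of_ell n R _ c _ hc, Subtype.ext ?_⟩
  rw [Phi_val, hc (idt n), tup_idt, sgn_id, one_smul, phiPoly_lauOfPoly n R k y.1 y.2]

theorem ell_idt_eq_zero_of_Phi (k : ℕ) (c : (K (U n R) (P n R (dk n k))).X n)
    (h : Phi n R k c = 0) (a : Fin (n + 1) → ℤ) (ha : ∀ i, a i < 0) :
    ell n R (dk n k) n c (idt n) a = 0 := by
  by_contra hne
  have hmem := (ell_mem n R (dk n k) n c (idt n)).2 a hne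
  have h0 : phiPoly n R k (ell n R (dk n k) n c (idt n)) = 0 :=
    (Phi_val n R k c).symm.trans (congrArg Subtype.val h)
  have h1 : coeff (ofNeg n a) (phiPoly n R k (ell n R (dk n k) n c (idt n))) = 0 := by
    rw [h0, coeff_zero]
  rw [coeff_phiPoly, negv_ofNeg n a ha] at h1
  have hdeg : (ofNeg n a).degree = k := by
    have h2 := sum_negv n (ofNeg n a)
    rw [negv_ofNeg n a ha, hmem.1] at h2
    have : ((ofNeg n a).degree : ℤ) = k := by linarith
    exact_mod_cast this
  rw [if_pos hdeg] at h1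
  exact hne h1

theorem ell_eq_zero_of_not_injective (c : (K (U n R) (P n R d)).X n)
    (x : Fin (n + 1) → ι.{u} n) (hx : ¬ Function.Injective x)
    (a : Fin (n + 1) → ℤ) (ha : ∀ i, a i < 0) : ell n R d n c x a = 0 := by
  by_contra hne
  have hmem := (ell_mem n R d n c x).2 a hne
  have hsurj : Function.Surjective (tup n x) := fun i => hmem.2 i (ha i)
  have hinj : Function.Injective (tup n x) := Finite.injective_iff_surjective.mpr hsurj
  apply hx
  intro j j' hjj'
  exact hinj (congrArg ULift.down hjj')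

theorem ell_eq_zero_of_Phi (k : ℕ) (c : (K (U n R) (P n R (dk n k))).X n)
    (hc : (K (U n R) (P n R (dk n k))).d n (n + 1) c = 0)
    (h : Phi n R k c = 0) (x : Fin (n + 1) → ι.{u} n) (a : Fin (n + 1) → ℤ)
    (ha : ∀ i, a i < 0) : ell n R (dk n k) n c x a = 0 := by
  by_cases hx : Function.Injective x
  · have hinj : Function.Injective (tup n x) := fun j j' hjj' => hx (ULift.ext _ _ hjj')
    have hsurj : Function.Surjective (tup n x) := Finite.injective_iff_surjective.mp hinj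
    let σ : Equiv.Perm (Fin (n + 1)) := Equiv.ofBijective (tup n x) ⟨hinj, hsurj⟩
    have hσ : idt n ∘ σ = x := rfl
    have H1 : ∀ y : Fin (n + 2) → ι.{u} n, ∑ j : Fin (n + 2),
        (-1 : ℤ) ^ (j : ℕ) • (fun w => ell n R (dk n k) n c w a) (y ∘ j.succAbove) = 0 := by
      intro y
      have h1 := congrFun (ell_cocycle n R (dk n k) n c hc y) a
      simpa only [Finset.sum_apply, Pi.smul_apply, Pi.zero_apply] using h1
    have := SignLemma.eq_zero_of_perm (fun w => ell n R (dk n k) n c w a)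
      (fun w hw => ell_eq_zero_of_not_injective n R (dk n k) c w hw a ha) H1 σ (idt n)
      (ell_idt_eq_zero_of_Phi n R k c h a ha)
    rw [hσ] at this
    exact this
  · exact ell_eq_zero_of_not_injective n R (dk n k) c x hx a ha

/-! ### the three conditions in degree `n = q + 1` -/

theorem Phi_d (q k : ℕ) (b : (K (U (q + 1) R) (P (q + 1) R (dk (q + 1) k))).X q) :
    Phi (q + 1) R k ((K (U (q + 1) R) (P (q + 1) R (dk (q + 1) k))).d q (q + 1) b) = 0 := by
  apply Subtype.ext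
  rw [Phi_val, ell_d]
  have hz : ∀ μ : Fin (q + 1 + 1) →₀ ℕ, (∑ j : Fin (q + 2), (-1 : ℤ) ^ (j : ℕ) •
      ell (q + 1) R (dk (q + 1) k) q b (idt (q + 1) ∘ j.succAbove)) (negv (q + 1) μ) = 0 := by
    intro μ
    rw [Finset.sum_apply]
    refine Finset.sum_eq_zero fun j _ => ?_
    rw [Pi.smul_apply]
    have h0 : ell (q + 1) R (dk (q + 1) k) q b (idt (q + 1) ∘ j.succAbove) (negv (q + 1) μ) = 0 := by
      by_contra hne
      have hmem := (ell_mem (q + 1) R (dk (q + 1) k) q b (idt (q + 1) ∘ j.succAbove)).2 _ hne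
      obtain ⟨j', hj'⟩ := hmem.2 j (negv_neg (q + 1) μ j)
      exact Fin.succAbove_ne j j' hj'
    rw [h0, smul_zero]
  ext μ
  rw [coeff_phiPoly, hz μ]
  simp

theorem exists_of_Phi_eq_zero (q k : ℕ) (c : (K (U (q + 1) R) (P (q + 1) R (dk (q + 1) k))).X (q + 1))
    (hc : (K (U (q + 1) R) (P (q + 1) R (dk (q + 1) k))).d (q + 1) (q + 1 + 1) c = 0)
    (h : Phi (q + 1) R k c = 0) :
    ∃ b : (K (U (q + 1) R) (P (q + 1) R (dk (q + 1) k))).X q,
      (K (U (q + 1) R) (P (q + 1) R (dk (q + 1) k))).d q (q + 1) b = c :=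
  exists_cobound' (q + 1) R (dk (q + 1) k) q c hc
    fun x a ha => ell_eq_zero_of_Phi (q + 1) R k c hc h x a ha

/-! ### degree zero -/

theorem eq_zero_of_Phi_eq_zero (k : ℕ) (c : (K (U 0 R) (P 0 R (dk 0 k))).X 0)
    (hc : (K (U 0 R) (P 0 R (dk 0 k))).d 0 1 c = 0) (h : Phi 0 R k c = 0) : c = 0 := by
  apply ext_of_ell 0 R (dk 0 k) 0
  intro x
  rw [ell_zero]
  funext a
  by_cases ha : ∀ i, a i < 0
  · exact ell_eq_zero_of_Phi 0 R k c hc h x a ha
  · by_contra hne
    have hmem := (ell_mem 0 R (dk 0 k) 0 c x).2 a hne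
    apply ha
    intro i
    have h1 := hmem.1
    rw [Fin.sum_univ_one] at h1
    obtain rfl : i = 0 := Fin.ext (by have := i.2; omega)
    rw [h1]
    have := Int.natCast_nonneg k
    simp only [dk]
    push_cast
    omega

/-! ### the action of `R` -/

/-- multiplication by `r` on the Čech complex. -/
noncomputable def act (r : R) : K (U n R) (P n R d) ⟶ K (U n R) (P n R d) :=
  (cechComplexFunctor (U n R)).map
    (Coh.smulAb (Twist.twistProjSpace n R d) (Coh.toGlobal (CohB1.ProjSpace.toSpec n R) r)).hom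

theorem ell_act (r : R) (q : ℕ) (c : (K (U n R) (P n R d)).X q) (x : Fin (q + 1) → ι.{u} n) :
    ell n R d q ((act n R d r).f q c) x = r • ell n R d q c x := by
  apply ell_unique
  have e : comp (U n R) (P n R d) q x ((act n R d r).f q c) =
      (Coh.smulAb (Twist.twistProjSpace n R d)
        (Coh.toGlobal (CohB1.ProjSpace.toSpec n R) r)).hom.app _ (comp (U n R) (P n R d) q x c) :=
    comp_map _ q x c
  exact rep_congr d _ (congrArg (toS n R d) e).symm rfl
    (rep_smul n R d _ _ (ell_rep n R d q c x) r)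

theorem Phi_act (k : ℕ) (r : R) (c : (K (U n R) (P n R (dk n k))).X n) :
    Phi n R k ((act n R (dk n k) r).f n c) = r • Phi n R k c := by
  apply Subtype.ext
  rw [Phi_val, ell_act, phiPoly_smul]
  rfl

/-! ### assembly -/

open Groth.Agent.Lib.Helper17.AbHomology Groth.Agent.Lib.Helper17.CechHHLin
  Groth.Agent.Lib.Helper17.PnVanish

/-- the additive comparison between top Čech cohomology and polynomials, degree `n = q + 1`. -/
noncomputable def cechEquivSucc (q k : ℕ) :
    (K (U (q + 1) R) (P (q + 1) R (dk (q + 1) k))).homology (q + 1) ≃+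
      homogeneousSubmodule (Fin (q + 1 + 1)) R k :=
  homologyEquiv (K (U (q + 1) R) (P (q + 1) R (dk (q + 1) k))) q (q + 1) (Phi (q + 1) R k)
    (by simp) (Phi_d R q k) (exists_of_Phi_eq_zero R q k) (Phi_surj (q + 1) R k)

theorem cechEquivSucc_act (q k : ℕ) (r : R)
    (h : (K (U (q + 1) R) (P (q + 1) R (dk (q + 1) k))).homology (q + 1)) :
    cechEquivSucc R q k (HomologicalComplex.homologyMap (act (q + 1) R (dk (q + 1) k) r) (q + 1) h) =
      r • cechEquivSucc R q k h :=
  homologyEquiv_map _ q (q + 1) (Phi (q + 1) R k) (by simp) (Phi_d R q k)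
    (exists_of_Phi_eq_zero R q k) (Phi_surj (q + 1) R k) (act (q + 1) R (dk (q + 1) k) r)
    (DistribSMul.toAddMonoidHom _ r) (fun c => Phi_act (q + 1) R k r c) h

theorem Phi_d_zero (k : ℕ) (b : (K (U 0 R) (P 0 R (dk 0 k))).X 0) :
    Phi 0 R k ((K (U 0 R) (P 0 R (dk 0 k))).d 0 0 b) = 0 := by
  have : (K (U 0 R) (P 0 R (dk 0 k))).d 0 0 = 0 :=
    (K (U 0 R) (P 0 R (dk 0 k))).shape 0 0 (by simp)
  rw [this]
  exact map_zero _

theorem exists_of_Phi_eq_zero_zero (k : ℕ) (c : (K (U 0 R) (P 0 R (dk 0 k))).X 0)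
    (hc : (K (U 0 R) (P 0 R (dk 0 k))).d 0 (0 + 1) c = 0) (h : Phi 0 R k c = 0) :
    ∃ b : (K (U 0 R) (P 0 R (dk 0 k))).X 0, (K (U 0 R) (P 0 R (dk 0 k))).d 0 0 b = c :=
  ⟨0, by rw [eq_zero_of_Phi_eq_zero R k c hc h]; exact map_zero _⟩

/-- the additive comparison in degree `0`. -/
noncomputable def cechEquivZero (k : ℕ) :
    (K (U 0 R) (P 0 R (dk 0 k))).homology 0 ≃+ homogeneousSubmodule (Fin (0 + 1)) R k :=
  homologyEquiv (K (U 0 R) (P 0 R (dk 0 k))) 0 0 (Phi 0 R k) (by simp)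
    (Phi_d_zero R k) (exists_of_Phi_eq_zero_zero R k) (Phi_surj 0 R k)

theorem cechEquivZero_act (k : ℕ) (r : R) (h : (K (U 0 R) (P 0 R (dk 0 k))).homology 0) :
    cechEquivZero R k (HomologicalComplex.homologyMap (act 0 R (dk 0 k) r) 0 h) =
      r • cechEquivZero R k h :=
  homologyEquiv_map _ 0 0 (Phi 0 R k) (by simp) (Phi_d_zero R k)
    (exists_of_Phi_eq_zero_zero R k) (Phi_surj 0 R k) (act 0 R (dk 0 k) r)
    (DistribSMul.toAddMonoidHom _ r) (fun c => Phi_act 0 R k r c) h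

/-- the comparison between Čech cohomology of `O(d)` and `H^p(P^n_R, O(d))`. -/
noncomputable def cechHH (p : ℕ) : (K (U n R) (P n R d)).homology p ≃+
    Coh.HH (CohB1.ProjSpace n R) (Twist.twistProjSpace n R d) p :=
  cechToHH (X := CohB1.ProjSpace n R) (Twist.twistProjSpace n R d) (U n R) (iSup_U n R)
    (fun _ a => isAffineOpen_iInf n R a) p

theorem cechHH_act (p : ℕ) (r : R) (h : (K (U n R) (P n R d)).homology p) :
    cechHH n R d p (HomologicalComplex.homologyMap (act n R d r) p h) = r • cechHH n R d p h :=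
  cechToHH_smul (X := CohB1.ProjSpace n R) (Twist.twistProjSpace n R d) (U n R) (iSup_U n R)
    (fun _ a => isAffineOpen_iInf n R a) p (Coh.toGlobal (CohB1.ProjSpace.toSpec n R) r) h

/-- transport of linearity. -/
theorem linear_of_act {H N : Type*} [AddCommGroup H] [AddCommGroup N] {C : Type*} [AddCommGroup C]
    [Module R H] [Module R N] (e₁ : C ≃+ H) (e₂ : C ≃+ N) (a : R → C → C)
    (h₁ : ∀ r c, e₁ (a r c) = r • e₁ c) (h₂ : ∀ r c, e₂ (a r c) = r • e₂ c) (r : R) (x : H) :
    (e₁.symm.trans e₂) (r • x) = r • (e₁.symm.trans e₂) x := by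
  obtain ⟨c, rfl⟩ := e₁.surjective x
  rw [← h₁, AddEquiv.trans_apply, AddEquiv.trans_apply, AddEquiv.symm_apply_apply,
    AddEquiv.symm_apply_apply, h₂]

/-- **`H^n(P^n_R, O(-(n+1+k))) ≃ₗ[R] R[T_0, …, T_n]_k`.** -/
theorem nonempty_top_linearEquiv (k : ℕ) :
    Nonempty (Coh.HH (CohB1.ProjSpace n R) (Twist.twistProjSpace n R (-((n : ℤ) + 1 + k))) n ≃ₗ[R]
      ↥(homogeneousSubmodule (Fin (n + 1)) R k)) := by
  cases n with
  | zero =>
    exact ⟨((cechHH 0 R (dk 0 k) 0).symm.trans (cechEquivZero R k)).toLinearEquiv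
      (linear_of_act R (cechHH 0 R (dk 0 k) 0) (cechEquivZero R k)
        (fun r h => HomologicalComplex.homologyMap (act 0 R (dk 0 k) r) 0 h)
        (cechHH_act 0 R (dk 0 k) 0) (cechEquivZero_act R k))⟩
  | succ q =>
    exact ⟨((cechHH (q + 1) R (dk (q + 1) k) (q + 1)).symm.trans
      (cechEquivSucc R q k)).toLinearEquiv
      (linear_of_act R (cechHH (q + 1) R (dk (q + 1) k) (q + 1)) (cechEquivSucc R q k)
        (fun r h => HomologicalComplex.homologyMap (act (q + 1) R (dk (q + 1) k) r) (q + 1) h)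
        (cechHH_act (q + 1) R (dk (q + 1) k) (q + 1)) (cechEquivSucc_act R q k))⟩

end Groth.Agent.Lib.Helper17.PnTop
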