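import Groth.Agent.Lib.Helper17.TwistTriv
import Groth.Agent.Lib.Helper30.ModTensor

/-!
# `O(m) ⊗ O(n) ≅ O(m + n)` on `Proj` when the `D₊(f)`, `deg f = 1`, cover (helper17)
-/

set_option autoImplicit false
set_option linter.unusedSectionVars false
universe u
open CategoryTheory AlgebraicGeometry TopologicalSpace Opposite HomogeneousLocalization MonoidalCategory

namespace Groth.Agent.Lib.Helper17.TwistTensor
open Groth.Agent.Lib.Helper17.TwistTriv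

variable {R A : Type u} [CommRing R] [CommRing A] [Algebra R A] (𝒜 : ℕ → Submodule R A)
  [GradedAlgebra 𝒜] (m n : ℤ)

/-- A friendlier form of the local-fraction condition. -/
theorem exists_rep {U : (Opens (ProjectiveSpectrum.top 𝒜))ᵒᵖ} (s : Twist.sectN (𝒜 := 𝒜) m U)
    (y : U.unop) :
    ∃ (V : Opens (ProjectiveSpectrum.top 𝒜)) (_ : y.1 ∈ V) (hVU : V ≤ U.unop) (i j : ℕ) (a c : A)
      (_ : a ∈ 𝒜 i) (_ : c ∈ 𝒜 j) (nin : ∀ x : V, c ∉ x.1.asHomogeneousIdeal),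
      ((i : ℤ) = j + m ∨ a = 0) ∧
      ∀ x : V, ((s.1 ⟨x.1, hVU x.2⟩ : Twist.twistAt 𝒜 m x.1) : Twist.Loc 𝒜 x.1) =
        Localization.mk a ⟨c, nin x⟩ := by
  obtain ⟨V, hyV, iV, i, j, a, c, nin, hdeg, w⟩ := s.2 y
  exact ⟨V, hyV, leOfHom iV, i, j, a.1, c.1, a.2, c.2, nin, hdeg, fun x => w x⟩

theorem mul_mem_twistAt {U : (Opens (ProjectiveSpectrum.top 𝒜))ᵒᵖ}
    (s : Twist.sectN (𝒜 := 𝒜) m U) (t : Twist.sectN (𝒜 := 𝒜) n U) (y : U.unop) :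
    ((s.1 y : Twist.twistAt 𝒜 m y.1) : Twist.Loc 𝒜 y.1) *
      ((t.1 y : Twist.twistAt 𝒜 n y.1) : Twist.Loc 𝒜 y.1) ∈ Twist.twistAt 𝒜 (m + n) y.1 := by
  obtain ⟨V, hyV, hVU, i, j, a, c, ha, hc, nin, hdeg, w⟩ := exists_rep 𝒜 m s y
  obtain ⟨V', hyV', hVU', i', j', a', c', ha', hc', nin', hdeg', w'⟩ := exists_rep 𝒜 n t y
  have e1 := w ⟨y.1, hyV⟩
  have e2 := w' ⟨y.1, hyV'⟩
  have e1' : ((s.1 y : Twist.twistAt 𝒜 m y.1) : Twist.Loc 𝒜 y.1) =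
      Localization.mk a ⟨c, nin ⟨y.1, hyV⟩⟩ := e1
  have e2' : ((t.1 y : Twist.twistAt 𝒜 n y.1) : Twist.Loc 𝒜 y.1) =
      Localization.mk a' ⟨c', nin' ⟨y.1, hyV'⟩⟩ := e2
  rw [e1', e2', Localization.mk_mul]
  rcases hdeg with hdeg | rfl
  · rcases hdeg' with hdeg' | rfl
    · refine Submodule.subset_span ⟨i + i', j + j', ⟨a * a', SetLike.mul_mem_graded ha ha'⟩,
        ⟨c * c', SetLike.mul_mem_graded hc hc'⟩,
        fun hmem => (y.1.isPrime.mem_or_mem hmem).elim (nin ⟨y.1, hyV⟩) (nin' ⟨y.1, hyV'⟩),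
        by push_cast; omega, rfl⟩
    · rw [mul_zero, Localization.mk_zero]; exact zero_mem _
  · rw [zero_mul, Localization.mk_zero]; exact zero_mem _

/-- The product of a section of `O(m)` and a section of `O(n)`. -/
def mulSec (U : (Opens (ProjectiveSpectrum.top 𝒜))ᵒᵖ) (s : Twist.sectN (𝒜 := 𝒜) m U)
    (t : Twist.sectN (𝒜 := 𝒜) n U) : Twist.sectN (𝒜 := 𝒜) (m + n) U :=
  ⟨fun y => ⟨((s.1 y : Twist.twistAt 𝒜 m y.1) : Twist.Loc 𝒜 y.1) *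
      ((t.1 y : Twist.twistAt 𝒜 n y.1) : Twist.Loc 𝒜 y.1), mul_mem_twistAt 𝒜 m n s t y⟩,
    fun y => by
      obtain ⟨V, hyV, hVU, i, j, a, c, ha, hc, nin, hdeg, w⟩ := exists_rep 𝒜 m s y
      obtain ⟨V', hyV', hVU', i', j', a', c', ha', hc', nin', hdeg', w'⟩ := exists_rep 𝒜 n t y
      refine ⟨V ⊓ V', ⟨hyV, hyV'⟩, homOfLE (inf_le_left.trans hVU), i + i', j + j',
        ⟨a * a', SetLike.mul_mem_graded ha ha'⟩, ⟨c * c', SetLike.mul_mem_graded hc hc'⟩,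
        fun x hmem => (x.1.isPrime.mem_or_mem hmem).elim (nin ⟨x.1, x.2.1⟩) (nin' ⟨x.1, x.2.2⟩),
        ?_, fun x => ?_⟩
      · rcases hdeg with hdeg | rfl
        · rcases hdeg' with hdeg' | rfl
          · left; push_cast; omega
          · right; exact mul_zero _
        · right; exact zero_mul _
      · have e1 := w ⟨x.1, x.2.1⟩
        have e2 := w' ⟨x.1, x.2.2⟩
        change ((s.1 ⟨x.1, _⟩ : Twist.twistAt 𝒜 m x.1) : Twist.Loc 𝒜 x.1) *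
          ((t.1 ⟨x.1, _⟩ : Twist.twistAt 𝒜 n x.1) : Twist.Loc 𝒜 x.1) = _
        rw [e1, e2, Localization.mk_mul]
        rfl⟩

/-- `O(m)` as a presheaf of modules in the form used by the tensor product. -/
noncomputable abbrev OP (m : ℤ) : CohB1.PMod (Proj 𝒜) := CohB1.toPMod (Twist.twist 𝒜 m)

def asSect {m : ℤ} {U : (Opens (Proj 𝒜))ᵒᵖ} (s : ↑((OP 𝒜 m).obj U)) : Twist.sectN (𝒜 := 𝒜) m U := s
def ofSect {m : ℤ} {U : (Opens (Proj 𝒜))ᵒᵖ} (s : Twist.sectN (𝒜 := 𝒜) m U) : ↑((OP 𝒜 m).obj U) := s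
def asO {U : (Opens (Proj 𝒜))ᵒᵖ}
    (a : ↑(((Proj 𝒜).sheaf.obj ⋙ forget₂ CommRingCat RingCat).obj U)) : Twist.O (𝒜 := 𝒜) U := a

theorem val_add {m : ℤ} {U : (Opens (Proj 𝒜))ᵒᵖ} (s t : ↑((OP 𝒜 m).obj U)) (y : U.unop) :
    (((asSect 𝒜 (s + t)).1 y : Twist.twistAt 𝒜 m y.1) : Twist.Loc 𝒜 y.1) =
      ((asSect 𝒜 s).1 y : Twist.Loc 𝒜 y.1) + ((asSect 𝒜 t).1 y : Twist.Loc 𝒜 y.1) := rfl

theorem val_smul {m : ℤ} {U : (Opens (Proj 𝒜))ᵒᵖ}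
    (a : ↑(((Proj 𝒜).sheaf.obj ⋙ forget₂ CommRingCat RingCat).obj U)) (s : ↑((OP 𝒜 m).obj U))
    (y : U.unop) :
    (((asSect 𝒜 (a • s)).1 y : Twist.twistAt 𝒜 m y.1) : Twist.Loc 𝒜 y.1) =
      ((asO 𝒜 a).1 y).val * ((asSect 𝒜 s).1 y : Twist.Loc 𝒜 y.1) :=
  Twist.coe_smul_val m y.1 ((asO 𝒜 a).1 y) ((asSect 𝒜 s).1 y)

theorem val_mulSec (U : (Opens (Proj 𝒜))ᵒᵖ) (s : Twist.sectN (𝒜 := 𝒜) m U)
    (t : Twist.sectN (𝒜 := 𝒜) n U) (y : U.unop) :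
    (((mulSec 𝒜 m n U s t).1 y : Twist.twistAt 𝒜 (m + n) y.1) : Twist.Loc 𝒜 y.1) =
      ((s.1 y : Twist.twistAt 𝒜 m y.1) : Twist.Loc 𝒜 y.1) *
        ((t.1 y : Twist.twistAt 𝒜 n y.1) : Twist.Loc 𝒜 y.1) := rfl

theorem sect_ext {m : ℤ} {U : (Opens (Proj 𝒜))ᵒᵖ} (s t : ↑((OP 𝒜 m).obj U))
    (h : ∀ y : U.unop, (((asSect 𝒜 s).1 y : Twist.twistAt 𝒜 m y.1) : Twist.Loc 𝒜 y.1) =
      ((asSect 𝒜 t).1 y : Twist.Loc 𝒜 y.1)) : s = t :=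
  Subtype.ext (funext fun y => Subtype.ext (h y))

noncomputable def muApp (U : (Opens (Proj 𝒜))ᵒᵖ) :
    (OP 𝒜 m).obj U ⊗ (OP 𝒜 n).obj U ⟶ (OP 𝒜 (m + n)).obj U :=
  ModuleCat.MonoidalCategory.tensorLift
    (fun s t => ofSect 𝒜 (mulSec 𝒜 m n U (asSect 𝒜 s) (asSect 𝒜 t)))
    (fun s s' t => by
      apply sect_ext
      intro y
      refine Eq.trans (val_mulSec 𝒜 m n U _ _ y) ?_
      refine Eq.trans ?_ (val_add 𝒜 _ _ y).symm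
      refine Eq.trans (congrArg (· * _) (val_add 𝒜 s s' y)) ?_
      exact add_mul _ _ _)
    (fun a s t => by
      apply sect_ext
      intro y
      refine Eq.trans (val_mulSec 𝒜 m n U _ _ y) ?_
      refine Eq.trans ?_ (val_smul 𝒜 a _ y).symm
      refine Eq.trans (congrArg (· * _) (val_smul 𝒜 a s y)) ?_
      exact mul_assoc _ _ _)
    (fun s t t' => by
      apply sect_ext
      intro y
      refine Eq.trans (val_mulSec 𝒜 m n U _ _ y) ?_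
      refine Eq.trans ?_ (val_add 𝒜 _ _ y).symm
      refine Eq.trans (congrArg (_ * ·) (val_add 𝒜 t t' y)) ?_
      exact mul_add _ _ _)
    (fun a s t => by
      apply sect_ext
      intro y
      refine Eq.trans (val_mulSec 𝒜 m n U _ _ y) ?_
      refine Eq.trans ?_ (val_smul 𝒜 a _ y).symm
      refine Eq.trans (congrArg (_ * ·) (val_smul 𝒜 a t y)) ?_
      exact mul_left_comm _ _ _)

/-- The multiplication map `O(m) ⊗ O(n) ⟶ O(m + n)` of presheaves of modules. -/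
noncomputable def mu : OP 𝒜 m ⊗ OP 𝒜 n ⟶ OP 𝒜 (m + n) where
  app U := muApp 𝒜 m n U
  naturality {U V} f := by
    refine ModuleCat.MonoidalCategory.tensor_ext (fun s t => ?_)
    rfl

theorem mu_app_tmul (U : (Opens (Proj 𝒜))ᵒᵖ) (s : ↑((OP 𝒜 m).obj U)) (t : ↑((OP 𝒜 n).obj U)) :
    ((mu 𝒜 m n).app U).hom (s ⊗ₜ t) = ofSect 𝒜 (mulSec 𝒜 m n U (asSect 𝒜 s) (asSect 𝒜 t)) := rfl

section local_
variable {p q p' q' : ℕ} {u v u' v' : A} (hu : u ∈ 𝒜 p) (hv : v ∈ 𝒜 q) (hpq : (p : ℤ) = q + m)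
  (hu' : u' ∈ 𝒜 p') (hv' : v' ∈ 𝒜 q') (hpq' : (p' : ℤ) = q' + n)
  (U : (Opens (Proj 𝒜))ᵒᵖ)
  (hVv : ∀ y : U.unop, v ∉ y.1.asHomogeneousIdeal) (hVu : ∀ y : U.unop, u ∉ y.1.asHomogeneousIdeal)
  (hVv' : ∀ y : U.unop, v' ∉ y.1.asHomogeneousIdeal)
  (hVu' : ∀ y : U.unop, u' ∉ y.1.asHomogeneousIdeal)

def ofO {U : (Opens (Proj 𝒜))ᵒᵖ} (r : Twist.O (𝒜 := 𝒜) U) :
    ↑(((Proj 𝒜).sheaf.obj ⋙ forget₂ CommRingCat RingCat).obj U) := r

/-- the generator `u / v` of `O(m)` over `U`. -/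
def gen : ↑((OP 𝒜 m).obj U) := ofSect 𝒜 (fracN 𝒜 m hu hv hpq U.unop hVv)

include hVu in
/-- `O(m)(U)` is generated by `u / v`. -/
theorem exists_eq_smul (s : ↑((OP 𝒜 m).obj U)) :
    ∃ a : ↑(((Proj 𝒜).sheaf.obj ⋙ forget₂ CommRingCat RingCat).obj U),
      s = a • gen 𝒜 m hu hv hpq U hVv := by
  obtain ⟨r, hr⟩ := exists_eq_val_mul 𝒜 m hu hv hpq U.unop hVv hVu (asSect 𝒜 s)
  refine ⟨ofO 𝒜 r, ?_⟩
  apply sect_ext
  intro y
  refine Eq.trans (hr y) ?_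
  exact (val_smul 𝒜 (ofO 𝒜 r) (gen 𝒜 m hu hv hpq U hVv) y).symm

open TensorProduct in
include hVu hVu' in
/-- `O(m)(U) ⊗ O(n)(U)` is generated by `(u / v) ⊗ (u' / v')`. -/
theorem exists_eq_smul_tmul
    (z : TensorProduct ((Proj 𝒜).sheaf.obj.obj U) ((OP 𝒜 m).obj U) ((OP 𝒜 n).obj U)) :
    ∃ c : (Proj 𝒜).sheaf.obj.obj U,
      z = c • (gen 𝒜 m hu hv hpq U hVv ⊗ₜ[(Proj 𝒜).sheaf.obj.obj U] gen 𝒜 n hu' hv' hpq' U hVv') := by
  induction z using TensorProduct.induction_on with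
  | zero => exact ⟨0, (zero_smul _ _).symm⟩
  | tmul s t =>
    obtain ⟨a, rfl⟩ := exists_eq_smul 𝒜 m hu hv hpq U hVv hVu s
    obtain ⟨b, rfl⟩ := exists_eq_smul 𝒜 n hu' hv' hpq' U hVv' hVu' t
    exact ⟨a * b, TensorProduct.smul_tmul_smul a b _ _⟩
  | add x y hx hy =>
    obtain ⟨c, rfl⟩ := hx
    obtain ⟨c', rfl⟩ := hy
    exact ⟨c + c', (add_smul _ _ _).symm⟩

omit [GradedAlgebra 𝒜] in
theorem mul_not_mem [GradedAlgebra 𝒜] {a b : A} (y : ProjectiveSpectrum 𝒜) (ha : a ∉ y.asHomogeneousIdeal)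
    (hb : b ∉ y.asHomogeneousIdeal) : a * b ∉ y.asHomogeneousIdeal :=
  fun hmem => (y.isPrime.mem_or_mem hmem).elim ha hb

theorem val_gen (y : U.unop) :
    (((asSect 𝒜 (gen 𝒜 m hu hv hpq U hVv)).1 y : Twist.twistAt 𝒜 m y.1) : Twist.Loc 𝒜 y.1) =
      Localization.mk u ⟨v, hVv y⟩ := rfl

theorem val_mul_gen (y : U.unop) :
    (((asSect 𝒜 (ofSect 𝒜 (mulSec 𝒜 m n U (asSect 𝒜 (gen 𝒜 m hu hv hpq U hVv))
      (asSect 𝒜 (gen 𝒜 n hu' hv' hpq' U hVv'))))).1 y : Twist.twistAt 𝒜 (m + n) y.1) :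
        Twist.Loc 𝒜 y.1) =
      Localization.mk (u * u') ⟨v * v', mul_not_mem 𝒜 y.1 (hVv y) (hVv' y)⟩ := by
  refine Eq.trans (val_mulSec 𝒜 m n U _ _ y) ?_
  rw [val_gen, val_gen, Localization.mk_mul]
  rfl

include hu hv hpq hu' hv' hpq' hVv hVv' hVu hVu' in
/-- The multiplication map is injective on sections over `U`. -/
theorem mu_app_eq_zero
    (z : TensorProduct ((Proj 𝒜).sheaf.obj.obj U) ((OP 𝒜 m).obj U) ((OP 𝒜 n).obj U))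
    (hz : ((mu 𝒜 m n).app U).hom z = 0) : z = 0 := by
  obtain ⟨c, rfl⟩ := exists_eq_smul_tmul 𝒜 m n hu hv hpq hu' hv' hpq' U hVv hVu hVv' hVu' z
  have h1 : ((mu 𝒜 m n).app U).hom (c • (gen 𝒜 m hu hv hpq U hVv ⊗ₜ[(Proj 𝒜).sheaf.obj.obj U]
      gen 𝒜 n hu' hv' hpq' U hVv')) =
      c • ofSect 𝒜 (mulSec 𝒜 m n U (asSect 𝒜 (gen 𝒜 m hu hv hpq U hVv))
        (asSect 𝒜 (gen 𝒜 n hu' hv' hpq' U hVv'))) :=
    (((mu 𝒜 m n).app U).hom.map_smul c _).trans rfl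
  have hz' := h1.symm.trans hz
  have hc : asO 𝒜 c = 0 := by
    apply Subtype.ext
    funext y
    refine eq_zero_of_val_mul_eq_zero 𝒜 y.1 (mul_not_mem 𝒜 y.1 (hVv y) (hVv' y))
      (mul_not_mem 𝒜 y.1 (hVu y) (hVu' y)) _ ?_
    have e1 := val_smul 𝒜 c (ofSect 𝒜 (mulSec 𝒜 m n U (asSect 𝒜 (gen 𝒜 m hu hv hpq U hVv))
        (asSect 𝒜 (gen 𝒜 n hu' hv' hpq' U hVv')))) y
    have e2 := val_mul_gen 𝒜 m n hu hv hpq hu' hv' hpq' U hVv hVv' y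
    have e3 := congrArg (fun s : ↑((OP 𝒜 (m + n)).obj U) =>
      (((asSect 𝒜 s).1 y : Twist.twistAt 𝒜 (m + n) y.1) : Twist.Loc 𝒜 y.1)) hz'
    rw [← e2]
    exact e1.symm.trans e3
  have hc' : c = 0 := hc
  rw [hc', zero_smul]

include hu hv hpq hu' hv' hpq' hVv hVv' hVu hVu' in
/-- The multiplication map is surjective on sections over `U`. -/
theorem exists_mu_app_eq (s : ↑((OP 𝒜 (m + n)).obj U)) :
    ∃ z : TensorProduct ((Proj 𝒜).sheaf.obj.obj U) ((OP 𝒜 m).obj U) ((OP 𝒜 n).obj U),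
      ((mu 𝒜 m n).app U).hom z = s := by
  have hpq'' : ((p + p' : ℕ) : ℤ) = ((q + q' : ℕ) : ℤ) + (m + n) := by push_cast; omega
  obtain ⟨r, hr⟩ := exists_eq_val_mul 𝒜 (m + n) (SetLike.mul_mem_graded hu hu')
    (SetLike.mul_mem_graded hv hv') hpq'' U.unop
    (fun y => mul_not_mem 𝒜 y.1 (hVv y) (hVv' y)) (fun y => mul_not_mem 𝒜 y.1 (hVu y) (hVu' y))
    (asSect 𝒜 s)
  refine ⟨(ofO 𝒜 (U := U) r • gen 𝒜 m hu hv hpq U hVv) ⊗ₜ[(Proj 𝒜).sheaf.obj.obj U]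
    gen 𝒜 n hu' hv' hpq' U hVv', ?_⟩
  apply sect_ext
  intro y
  refine Eq.trans (val_mulSec 𝒜 m n U _ _ y) ?_
  refine Eq.trans (congrArg (· * _) (val_smul 𝒜 (ofO 𝒜 (U := U) r) (gen 𝒜 m hu hv hpq U hVv) y)) ?_
  rw [val_gen, val_gen, mul_assoc, Localization.mk_mul]
  exact (hr y).symm

end local_

section cover
variable (hcov : (⨆ f : 𝒜 1, Proj.basicOpen 𝒜 (f : A)) = ⊤)

theorem toNat_cast (k : ℤ) : (((k.toNat • 1 : ℕ) : ℤ)) = ((((-k).toNat • 1 : ℕ)) : ℤ) + k := by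
  have := Int.toNat_sub_toNat_neg k
  simp only [smul_eq_mul, mul_one]
  omega

theorem pow_not_mem_of_mem_inf (W : Opens (Proj 𝒜)) (f : 𝒜 1) (k : ℕ)
    (y : ↥(W ⊓ Proj.basicOpen 𝒜 (f : A))) : (f : A) ^ k ∉ y.1.asHomogeneousIdeal := by
  intro hmem
  have hy : (f : A) ∉ (y.1 : ProjectiveSpectrum 𝒜).asHomogeneousIdeal :=
    (Proj.mem_basicOpen 𝒜 (f : A) y.1).mp y.2.2
  exact hy ((y.1 : ProjectiveSpectrum 𝒜).isPrime.mem_of_pow_mem k hmem)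

include hcov in
theorem isLocallySurjective_mu :
    PresheafOfModules.IsLocallySurjective (Opens.grothendieckTopology (Proj 𝒜)) (mu 𝒜 m n) := by
  refine ⟨fun {W} s => ?_⟩
  intro x hx
  have hx' : x ∈ (⨆ f : 𝒜 1, Proj.basicOpen 𝒜 (f : A)) := by rw [hcov]; trivial
  obtain ⟨f, hf⟩ := Opens.mem_iSup.mp hx'
  refine ⟨W ⊓ Proj.basicOpen 𝒜 (f : A), homOfLE inf_le_left, ?_, ⟨hx, hf⟩⟩
  obtain ⟨z, hz⟩ := exists_mu_app_eq 𝒜 m n
    (SetLike.pow_mem_graded m.toNat f.2) (SetLike.pow_mem_graded (-m).toNat f.2) (toNat_cast m)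
    (SetLike.pow_mem_graded n.toNat f.2) (SetLike.pow_mem_graded (-n).toNat f.2) (toNat_cast n)
    (op (W ⊓ Proj.basicOpen 𝒜 (f : A)))
    (pow_not_mem_of_mem_inf 𝒜 W f _) (pow_not_mem_of_mem_inf 𝒜 W f _)
    (pow_not_mem_of_mem_inf 𝒜 W f _) (pow_not_mem_of_mem_inf 𝒜 W f _)
    ((OP 𝒜 (m + n)).map (homOfLE (inf_le_left : W ⊓ Proj.basicOpen 𝒜 (f : A) ≤ W)).op s)
  exact (Groth.Agent.Lib.Helper30.ModTensor.imageSieve_iff (mu 𝒜 m n) s _).mpr ⟨z, hz⟩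

include hcov in
theorem isLocallyInjective_mu :
    PresheafOfModules.IsLocallyInjective (Opens.grothendieckTopology (Proj 𝒜)) (mu 𝒜 m n) := by
  refine ⟨fun {X} a b hab => ?_⟩
  intro x hx
  have hx' : x ∈ (⨆ f : 𝒜 1, Proj.basicOpen 𝒜 (f : A)) := by rw [hcov]; trivial
  obtain ⟨f, hf⟩ := Opens.mem_iSup.mp hx'
  refine ⟨X.unop ⊓ Proj.basicOpen 𝒜 (f : A), homOfLE inf_le_left, ?_, ⟨hx, hf⟩⟩
  set g : X.unop ⊓ Proj.basicOpen 𝒜 (f : A) ⟶ X.unop := homOfLE inf_le_left with hg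
  refine (Groth.Agent.Lib.Helper30.ModTensor.equalizerSieve_iff (M₁ := OP 𝒜 m ⊗ OP 𝒜 n)
    a b g).mpr ?_
  have hab' : ((mu 𝒜 m n).app X).hom a = ((mu 𝒜 m n).app X).hom b := hab
  have h0 : ((mu 𝒜 m n).app (op (X.unop ⊓ Proj.basicOpen 𝒜 (f : A)))).hom
      ((OP 𝒜 m ⊗ OP 𝒜 n).map g.op a - (OP 𝒜 m ⊗ OP 𝒜 n).map g.op b) = 0 := by
    have e1 := PresheafOfModules.naturality_apply (mu 𝒜 m n) g.op a
    have e2 := PresheafOfModules.naturality_apply (mu 𝒜 m n) g.op b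
    refine (((mu 𝒜 m n).app (op (X.unop ⊓ Proj.basicOpen 𝒜 (f : A)))).hom.map_sub _ _).trans ?_
    exact sub_eq_zero.mpr (e1.trans ((congrArg _ hab').trans e2.symm))
  have h1 := mu_app_eq_zero 𝒜 m n
    (SetLike.pow_mem_graded m.toNat f.2) (SetLike.pow_mem_graded (-m).toNat f.2) (toNat_cast m)
    (SetLike.pow_mem_graded n.toNat f.2) (SetLike.pow_mem_graded (-n).toNat f.2) (toNat_cast n)
    (op (X.unop ⊓ Proj.basicOpen 𝒜 (f : A)))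
    (pow_not_mem_of_mem_inf 𝒜 X.unop f _) (pow_not_mem_of_mem_inf 𝒜 X.unop f _)
    (pow_not_mem_of_mem_inf 𝒜 X.unop f _) (pow_not_mem_of_mem_inf 𝒜 X.unop f _) _ h0
  exact sub_eq_zero.mp h1

/-- A sheaf of modules is the sheafification of its underlying presheaf. -/
noncomputable def shfValIso {X : Scheme.{u}} (M : SheafOfModules.{u} X.ringCatSheaf) :
    (PresheafOfModules.sheafification.{u} (𝟙 X.ringCatSheaf.obj)).obj M.val ≅ M :=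
  (asIso (PresheafOfModules.sheafificationAdjunction.{u} (𝟙 X.ringCatSheaf.obj)).counit).app M

include hcov in
/-- **`O(m) ⊗ O(n) ≅ O(m + n)`** when the `D₊(f)`, `f` of degree one, cover `Proj`. -/
theorem nonempty_tensor_iso :
    Nonempty (CohB1.tensorMod (Twist.twist 𝒜 m) (Twist.twist 𝒜 n) ≅ Twist.twist 𝒜 (m + n)) := by
  have h1 := isLocallyInjective_mu 𝒜 m n hcov
  have h2 := isLocallySurjective_mu 𝒜 m n hcov
  have hiso : IsIso ((Groth.Agent.Lib.Helper30.ModTensor.shf (Proj 𝒜).sheaf).map (mu 𝒜 m n)) :=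
    (Groth.Agent.Lib.Helper30.ModTensor.isIso_shf_map_iff _).mpr ⟨h1, h2⟩
  exact ⟨@asIso _ _ _ _ _ hiso ≪≫ shfValIso (Twist.twist 𝒜 (m + n))⟩

end cover

section final

/-- `tensorMod` respects isomorphisms. -/
noncomputable def tensorModCongr {X : Scheme.{u}} {M M' N N' : X.Modules} (e : M ≅ M') (e' : N ≅ N') :
    CohB1.tensorMod M N ≅ CohB1.tensorMod M' N' :=
  (CohB1.sheafifyMod X).mapIso
    (show (show X.PresheafOfModules from CohB1.tensorPre M N) ≅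
        (show X.PresheafOfModules from CohB1.tensorPre M' N') from
      ((show CohB1.toPMod M ≅ CohB1.toPMod M' from (SheafOfModules.forget _).mapIso e) ⊗ᵢ
        (show CohB1.toPMod N ≅ CohB1.toPMod N' from (SheafOfModules.forget _).mapIso e')))

variable {R A : Type u} [CommRing R] [CommRing A] [Algebra R A] (𝒜 : ℕ → Submodule R A)
  [GradedAlgebra 𝒜]

/-- `O(0) ≅ O`. -/
theorem nonempty_twist_zero_iso :
    Nonempty (Twist.twist 𝒜 0 ≅ Coh.structureModule (Proj 𝒜)) := by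
  have hone : ∀ y : Proj 𝒜, (1 : A) ∉ ((𝟙 (Proj 𝒜) : Proj 𝒜 ⟶ Proj 𝒜).base y).asHomogeneousIdeal :=
    fun y h => (((𝟙 (Proj 𝒜) : Proj 𝒜 ⟶ Proj 𝒜).base y)).isPrime.ne_top
      ((Ideal.eq_top_iff_one _).mpr h)
  obtain ⟨e⟩ := nonempty_restrict_iso 𝒜 0 (u := 1) (v := 1) (p := 0) (q := 0)
    SetLike.GradedOne.one_mem SetLike.GradedOne.one_mem (by simp) (𝟙 (Proj 𝒜)) hone hone
  exact ⟨(Scheme.Modules.restrictFunctorId.app (Twist.twist 𝒜 0)).symm ≪≫ e⟩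

variable (hcov : (⨆ f : 𝒜 1, Proj.basicOpen 𝒜 (f : A)) = ⊤)

include hcov in
/-- Every `O(n)` is invertible when the `D₊(f)`, `f` of degree one, cover. -/
theorem isInvertible_twist (n : ℤ) : PicF.IsInvertible (Twist.twist 𝒜 n) := by
  intro y
  have hy : y ∈ (⨆ f : 𝒜 1, Proj.basicOpen 𝒜 (f : A)) := by rw [hcov]; trivial
  obtain ⟨f, hf⟩ := Opens.mem_iSup.mp hy
  refine ⟨Proj.basicOpen 𝒜 (f : A), hf, ?_⟩
  have hnot : ∀ (k : ℕ) (z : ↑(Proj.basicOpen 𝒜 (f : A))),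
      (f : A) ^ k ∉ ((Proj.basicOpen 𝒜 (f : A)).ι.base z).asHomogeneousIdeal := by
    intro k z hmem
    have hz : (f : A) ∉ (z.1 : ProjectiveSpectrum 𝒜).asHomogeneousIdeal :=
      (Proj.mem_basicOpen 𝒜 (f : A) z.1).mp z.2
    exact hz ((z.1 : ProjectiveSpectrum 𝒜).isPrime.mem_of_pow_mem k hmem)
  exact nonempty_restrict_iso 𝒜 n
    (SetLike.pow_mem_graded n.toNat f.2) (SetLike.pow_mem_graded (-n).toNat f.2) (toNat_cast n)
    (Proj.basicOpen 𝒜 (f : A)).ι (hnot _) (hnot _)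

include hcov in
/-- `O(n) ≅ O(1)^{⊗ n}`. -/
theorem nonempty_twist_iso_tensorPow (n : ℕ) :
    Nonempty (Twist.twist 𝒜 (n : ℤ) ≅ CohB1.tensorPow (Twist.twist 𝒜 1) n) := by
  induction n with
  | zero => exact nonempty_twist_zero_iso 𝒜
  | succ n ih =>
    obtain ⟨e⟩ := ih
    obtain ⟨e'⟩ := nonempty_tensor_iso 𝒜 (n : ℤ) 1 hcov
    have hcast : ((n + 1 : ℕ) : ℤ) = (n : ℤ) + 1 := by push_cast; rfl
    rw [hcast]
    exact ⟨e'.symm ≪≫ tensorModCongr e (Iso.refl _)⟩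

end final

end Groth.Agent.Lib.Helper17.TwistTensor
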