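import Groth.Agent.Lib.Helper17.HomogSub

/-!
# Homogeneous generators of finitely generated homogeneous submodules (helper17)
-/

set_option autoImplicit false
set_option linter.unusedSectionVars false
universe u
open DirectSum

namespace Groth.Agent.Lib.Helper17.HomogSub

variable {R A : Type u} [CommRing R] [CommRing A] [Algebra R A] (𝒜 : ℕ → Submodule R A)
  [GradedAlgebra 𝒜]
  {M : Type u} [AddCommGroup M] [Module R M] [Module A M] [IsScalarTower R A M]
  (ℳ : ℕ → Submodule R M) [DirectSum.Decomposition ℳ] [SetLike.GradedSMul 𝒜 ℳ]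
  (N : Submodule A M)

/-- a finitely generated homogeneous submodule is generated by finitely many homogeneous
elements. -/
theorem exists_homog_gens (hN : IsHomog ℳ N) (hfg : N.FG) :
    ∃ (r : ℕ) (g : Fin r → N) (p : Fin r → ℕ), (∀ a, g a ∈ subGrading ℳ N (p a)) ∧
      Submodule.span A (Set.range g) = ⊤ := by
  classical
  obtain ⟨S, hS⟩ := hfg
  have hSN : ∀ s ∈ S, s ∈ N := fun s hs => hS ▸ Submodule.subset_span hs
  let J := Σ s : S, ((DirectSum.decompose ℳ (s : M)).support : Finset ℕ)
  let g₀ : J → N := fun j =>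
    ⟨((DirectSum.decompose ℳ (j.1 : M) j.2.1 : ℳ j.2.1) : M), hN _ (hSN _ j.1.2) _⟩
  have hg₀ : ∀ j, g₀ j ∈ subGrading ℳ N j.2.1 := fun j =>
    (DirectSum.decompose ℳ (j.1 : M) j.2.1).2
  have hspan₀ : Submodule.span A (Set.range g₀) = ⊤ := by
    apply Submodule.map_injective_of_injective N.injective_subtype
    rw [Submodule.map_subtype_top, Submodule.map_span, ← Set.range_comp]
    apply le_antisymm
    · rw [Submodule.span_le]
      rintro _ ⟨j, rfl⟩
      exact (g₀ j).2
    · have hle : Submodule.span A (S : Set M) ≤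
          Submodule.span A (Set.range (⇑N.subtype ∘ g₀)) := ?_
      · exact hS.symm.le.trans hle
      rw [Submodule.span_le]
      intro s hs
      have h1 := DirectSum.sum_support_decompose ℳ s
      rw [SetLike.mem_coe, ← h1]
      apply Submodule.sum_mem
      intro n hn
      exact Submodule.subset_span ⟨⟨⟨s, hs⟩, ⟨n, hn⟩⟩, rfl⟩
  let e : Fin (Fintype.card J) ≃ J := (Fintype.equivFin J).symm
  refine ⟨Fintype.card J, g₀ ∘ e, fun a => (e a).2.1, fun a => hg₀ (e a), ?_⟩
  rw [Set.range_comp, e.range_eq_univ, Set.image_univ]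
  exact hspan₀

end Groth.Agent.Lib.Helper17.HomogSub
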