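import Mathlib

/-!
# Homogeneous submodules of graded modules are graded (helper17)
-/

set_option autoImplicit false
set_option linter.unusedSectionVars false
universe u
open DirectSum

namespace Groth.Agent.Lib.Helper17.HomogSub

variable {R A : Type u} [CommRing R] [CommRing A] [Algebra R A] (𝒜 : ℕ → Submodule R A)
  [GradedAlgebra 𝒜]
  {M : Type u} [AddCommGroup M] [Module R M] [Module A M] [IsScalarTower R A M]
  (ℳ : ℕ → Submodule R M) [DirectSum.Decomposition ℳ] [SetLike.GradedSMul 𝒜 ℳ]
  (N : Submodule A M)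

/-- `N` contains the homogeneous components of its elements. -/
def IsHomog : Prop := ∀ x ∈ N, ∀ n, ((DirectSum.decompose ℳ x n : ℳ n) : M) ∈ N

include 𝒜 in
theorem decompose_hsmul_mem {d : ℕ} {a : A} (ha : a ∈ 𝒜 d) (x : M)
    (hx : ∀ k, ((DirectSum.decompose ℳ x k : ℳ k) : M) ∈ N) (n : ℕ) :
    ((DirectSum.decompose ℳ (a • x) n : ℳ n) : M) ∈ N := by
  classical
  have hx' : x = ∑ k ∈ (DirectSum.decompose ℳ x).support, ((DirectSum.decompose ℳ x k : ℳ k) : M) :=
    (DirectSum.sum_support_decompose ℳ x).symm
  rw [hx', Finset.smul_sum, DirectSum.decompose_sum, DFinsupp.finsetSum_apply,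
    AddSubmonoidClass.coe_finsetSum]
  apply Submodule.sum_mem
  intro k _
  have hk : a • ((DirectSum.decompose ℳ x k : ℳ k) : M) ∈ ℳ (d + k) :=
    SetLike.GradedSMul.smul_mem (A := 𝒜) (B := ℳ) ha (DirectSum.decompose ℳ x k).2
  by_cases h : d + k = n
  · subst h
    rw [DirectSum.decompose_of_mem_same ℳ hk]
    exact N.smul_mem _ (hx k)
  · rw [DirectSum.decompose_of_mem_ne ℳ hk h]
    exact N.zero_mem

include 𝒜 in
theorem decompose_smul_mem (a : A) (x : M)
    (hx : ∀ k, ((DirectSum.decompose ℳ x k : ℳ k) : M) ∈ N) (n : ℕ) :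
    ((DirectSum.decompose ℳ (a • x) n : ℳ n) : M) ∈ N := by
  induction a using DirectSum.Decomposition.inductionOn 𝒜 with
  | zero => rw [zero_smul, DirectSum.decompose_zero]; exact N.zero_mem
  | homogeneous a => exact decompose_hsmul_mem 𝒜 ℳ N a.2 x hx n
  | add a b ha hb =>
    rw [add_smul, DirectSum.decompose_add]
    exact N.add_mem ha hb

include 𝒜 in
/-- the span of homogeneous elements is homogeneous. -/
theorem isHomog_span (S : Set M) (hS : ∀ g ∈ S, ∃ k, g ∈ ℳ k) :
    IsHomog ℳ (Submodule.span A S) := by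
  intro x hx
  induction hx using Submodule.span_induction with
  | mem g hg =>
    intro n
    obtain ⟨k, hk⟩ := hS g hg
    by_cases h : k = n
    · subst h
      rw [DirectSum.decompose_of_mem_same ℳ hk]
      exact Submodule.subset_span hg
    · rw [DirectSum.decompose_of_mem_ne ℳ hk h]
      exact Submodule.zero_mem _
  | zero => intro n; rw [DirectSum.decompose_zero]; exact Submodule.zero_mem _
  | add x y _ _ hx hy =>
    intro n
    rw [DirectSum.decompose_add]
    exact Submodule.add_mem _ (hx n) (hy n)
  | smul a x _ hx => exact decompose_smul_mem 𝒜 ℳ _ a x hx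

/-- the induced grading on a submodule. -/
def subGrading (n : ℕ) : Submodule R N := (ℳ n).comap ((N.subtype).restrictScalars R)

theorem mem_subGrading {n : ℕ} {x : N} : x ∈ subGrading ℳ N n ↔ (x : M) ∈ ℳ n := Iff.rfl

instance : SetLike.GradedSMul 𝒜 (subGrading ℳ N) where
  smul_mem := by
    intro d n a x ha hx
    exact SetLike.GradedSMul.smul_mem (A := 𝒜) (B := ℳ) ha hx

/-- inclusion of graded pieces. -/
def incl (n : ℕ) : subGrading ℳ N n →+ ℳ n where
  toFun x := ⟨(x.1 : M), x.2⟩
  map_zero' := rfl
  map_add' _ _ := rfl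

theorem incl_injective (n : ℕ) : Function.Injective (incl ℳ N n) := by
  intro x y h
  apply Subtype.ext
  apply Subtype.ext
  exact congrArg (fun z : ℳ n => (z : M)) h

theorem decompose_coe_eq (y : ⨁ n, subGrading ℳ N n) :
    DirectSum.decompose ℳ (((DirectSum.coeAddMonoidHom (subGrading ℳ N) y : N)) : M) =
      DirectSum.map (incl ℳ N) y := by
  classical
  induction y using DirectSum.induction_on with
  | zero => simp
  | of n x =>
    rw [DirectSum.coeAddMonoidHom_of, DirectSum.map_of]
    exact DirectSum.decompose_of_mem ℳ x.2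
  | add x y hx hy =>
    rw [map_add, map_add, Submodule.coe_add, DirectSum.decompose_add, hx, hy]

theorem isInternal (hN : IsHomog ℳ N) : DirectSum.IsInternal (subGrading ℳ N) := by
  classical
  constructor
  · rw [injective_iff_map_eq_zero]
    intro y hy
    have h1 := decompose_coe_eq ℳ N y
    rw [hy, Submodule.coe_zero, DirectSum.decompose_zero] at h1
    exact ((DirectSum.map_injective (incl ℳ N)).mpr (incl_injective ℳ N))
      (h1.symm.trans (map_zero _).symm)
  · intro x
    refine ⟨∑ n ∈ (DirectSum.decompose ℳ (x : M)).support,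
      DirectSum.of (fun n => subGrading ℳ N n) n
        ⟨⟨((DirectSum.decompose ℳ (x : M) n : ℳ n) : M), hN x.1 x.2 n⟩, (DirectSum.decompose ℳ (x : M) n).2⟩, ?_⟩
    apply Subtype.ext
    rw [map_sum, AddSubmonoidClass.coe_finsetSum]
    simp only [DirectSum.coeAddMonoidHom_of]
    exact DirectSum.sum_support_decompose ℳ (x : M)

/-- the decomposition of a homogeneous submodule. -/
@[instance_reducible]
noncomputable def decomposition (hN : IsHomog ℳ N) : DirectSum.Decomposition (subGrading ℳ N) :=
  (isInternal ℳ N hN).chooseDecomposition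

end Groth.Agent.Lib.Helper17.HomogSub
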