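import Groth.Agent.Lib.Helper17.SerreTilde
import Groth.Agent.Lib.Helper17.HomogSub
import Groth.Agent.Lib.Helper45.FiniteType

set_option autoImplicit false
set_option linter.unusedSectionVars false
universe u
open CategoryTheory AlgebraicGeometry TopologicalSpace Opposite HomogeneousLocalization DirectSum

namespace Groth.Agent.Lib.Helper17.SerreFinite
open Groth.Agent.Lib.Helper17.OFrac Groth.Agent.Lib.Helper17.GrQCoh
  Groth.Agent.Lib.Helper17.GammaStar Groth.Agent.Lib.Helper17.TildeRecog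
  Groth.Agent.Lib.Helper17.HomogSub

variable {R A : Type u} [CommRing R] [CommRing A] [Algebra R A] (𝒜 : ℕ → Submodule R A)
  [GradedAlgebra 𝒜]

set_option backward.isDefEq.respectTransparency.types false in
/-- every function on `D₊(f)`, `f` of degree one, is a global fraction `a / f ^ n`. -/
theorem exists_eq_oFrac {f : A} (hf : f ∈ 𝒜 1) (r : Γ(Proj 𝒜, Proj.basicOpen 𝒜 f)) :
    ∃ (n : ℕ) (a : A), a ∈ 𝒜 n ∧ r = oFrac 𝒜 (Proj.basicOpen 𝒜 f) n a (f ^ n) := by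
  let e := Proj.basicOpenIsoAway 𝒜 f hf one_pos
  obtain ⟨x, rfl⟩ : ∃ x, (Proj.awayToSection 𝒜 f).hom x = r := by
    refine ⟨e.inv.hom r, ?_⟩
    have h1 : e.inv ≫ Proj.awayToSection 𝒜 f = 𝟙 _ := e.inv_hom_id
    have := congrArg (fun φ => φ.hom r) h1
    simpa using this
  obtain ⟨n, a, ha, rfl⟩ := Away.mk_surjective 𝒜 hf x
  have ha' : a ∈ 𝒜 n := by simpa using ha
  refine ⟨n, a, ha', ?_⟩
  have G : Good 𝒜 (Proj.basicOpen 𝒜 f) n a (f ^ n) :=
    good_of ha' (pow_mem_one hf n) ((nv_basicOpen f).pow n)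
  apply o_ext
  intro y
  rw [val_oFrac 𝒜 G]
  have h2 := ProjectiveSpectrum.Proj.awayToSection_apply 𝒜 f (Away.mk 𝒜 hf n a ha) y
  refine Eq.trans h2 ?_
  rw [Away.val_mk, Localization.mk_eq_mk', IsLocalization.map_mk', Localization.mk_eq_mk']
  rfl

variable (F : (Proj 𝒜).Modules) [F.IsQuasicoherent] {ι : Type u} (f : ι → 𝒜 1)

/-- comparison data for a homogeneous submodule of `Γ_*(F)` with enough sections. -/
noncomputable def compDataSub [Finite ι]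
    (hcov : ∀ y : Proj 𝒜, ∃ i, (f i : A) ∉ (y : ProjectiveSpectrum 𝒜).asHomogeneousIdeal)
    (N : Submodule A (GStar 𝒜 F f))
    [DirectSum.Decomposition (subGrading (grading 𝒜 F f) N)]
    (hsurj : ∀ (i : ι) (t : Γ(F, Uf 𝒜 f i)), ∃ (p : ℕ) (x : GStar 𝒜 F f), x ∈ N ∧
      x ∈ grading 𝒜 F f p ∧ compG 𝒜 F f i x = t) :
    CompData 𝒜 (subGrading (grading 𝒜 F f) N) F (fun i => (f i : A)) where
  hf := fun i => (f i).2
  hcov := hcov
  comp := fun i => (compG 𝒜 F f i).comp N.subtype.toAddMonoidHom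
  comp_smul := fun i d a m ha => compG_smul 𝒜 F f i ha (m : GStar 𝒜 F f)
  compat := by
    rintro i j p ⟨x, hxN⟩ ⟨m, hm⟩
    change _ = x at hm
    subst hm
    change rs F _ _ (compG 𝒜 F f j (ofG 𝒜 F f p m)) = _ • rs F _ _ (compG 𝒜 F f i (ofG 𝒜 F f p m))
    rw [compG_ofG, compG_ofG]
    exact (mem_Mfam 𝒜 F f).mp m.2 i j
  inj := by
    rintro i p ⟨x, hxN⟩ ⟨m, hm⟩ h0
    change _ = x at hm
    subst hm
    change compG 𝒜 F f i (ofG 𝒜 F f p m) = 0 at h0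
    rw [compG_ofG] at h0
    obtain ⟨q, hq⟩ := exists_pow_smul_ofG_eq_zero 𝒜 F f i m h0
    exact ⟨q, Subtype.ext hq⟩
  surj := by
    intro i t
    obtain ⟨p, x, hxN, hxp, hx⟩ := hsurj i t
    exact ⟨p, ⟨x, hxN⟩, hxp, hx⟩
  locInj := fun i t g e hg ht => SerreTilde.locInj 𝒜 F f i t g e hg ht
  locSurj := fun i g e hg τ => SerreTilde.locSurj 𝒜 F f i g e hg τ

/-- a finitely generated homogeneous submodule of `Γ_*(F)` with enough sections, for `F` of finite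
type. -/
theorem exists_sub [Finite ι] [SheafOfModules.IsFiniteType (R := (Proj 𝒜).ringCatSheaf) F] :
    ∃ N : Submodule A (GStar 𝒜 F f), N.FG ∧ IsHomog (grading 𝒜 F f) N ∧
      ∀ (i : ι) (t : Γ(F, Uf 𝒜 f i)), ∃ (p : ℕ) (x : GStar 𝒜 F f), x ∈ N ∧
        x ∈ grading 𝒜 F f p ∧ compG 𝒜 F f i x = t := by
  classical
  have hfin : ∀ i, Module.Finite Γ(Proj 𝒜, Uf 𝒜 f i) Γ(F, Uf 𝒜 f i) := fun i =>
    Groth.Agent.Lib.Helper45.finite_sections_of_isFiniteType (isAffineOpen_Uf 𝒜 f i) F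
  choose T hT using fun i => (hfin i).fg_top
  choose P m hm using fun (i : ι) (t : Γ(F, Uf 𝒜 f i)) => exists_family 𝒜 F f i t
  let g : (Σ i : ι, ↥(T i)) → GStar 𝒜 F f := fun j => ofG 𝒜 F f (P j.1 j.2.1) (m j.1 j.2.1)
  refine ⟨Submodule.span A (Set.range g), Submodule.fg_span (Set.finite_range g),
    isHomog_span 𝒜 _ _ (by rintro _ ⟨j, rfl⟩; exact ⟨_, ⟨_, rfl⟩⟩), ?_⟩
  intro i t
  have ht : t ∈ Submodule.span Γ(Proj 𝒜, Uf 𝒜 f i) (T i : Set Γ(F, Uf 𝒜 f i)) := by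
    rw [hT i]; trivial
  induction ht using Submodule.span_induction with
  | mem t ht =>
    exact ⟨P i t, g ⟨i, ⟨t, ht⟩⟩, Submodule.subset_span ⟨_, rfl⟩, ⟨_, rfl⟩,
      (compG_ofG 𝒜 F f i _ _).trans (hm i t)⟩
  | zero => exact ⟨0, 0, Submodule.zero_mem _, Submodule.zero_mem _, map_zero _⟩
  | add t t' _ _ h h' =>
    obtain ⟨p, x, hxN, hxp, hx⟩ := h
    obtain ⟨p', x', hxN', hxp', hx'⟩ := h'
    have G1 : Good 𝒜 (Uf 𝒜 f i) p' ((f i : A) ^ p') ((f i : A) ^ p') :=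
      good_ff 𝒜 f i i p' (nv_basicOpen _)
    have G2 : Good 𝒜 (Uf 𝒜 f i) p ((f i : A) ^ p) ((f i : A) ^ p) :=
      good_ff 𝒜 f i i p (nv_basicOpen _)
    refine ⟨p' + p, (f i : A) ^ p' • x + (f i : A) ^ p • x',
      Submodule.add_mem _ (Submodule.smul_mem _ _ hxN) (Submodule.smul_mem _ _ hxN'),
      Submodule.add_mem _ (SetLike.GradedSMul.smul_mem (A := 𝒜) (fpow_mem 𝒜 f i p') hxp) ?_, ?_⟩
    · rw [add_comm]
      exact SetLike.GradedSMul.smul_mem (A := 𝒜) (fpow_mem 𝒜 f i p) hxp'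
    · rw [map_add, compG_smul 𝒜 F f i (fpow_mem 𝒜 f i p'), compG_smul 𝒜 F f i (fpow_mem 𝒜 f i p),
        oFrac_self 𝒜 G1, oFrac_self 𝒜 G2, one_smul, one_smul, hx, hx']
  | smul c t _ h =>
    obtain ⟨p, x, hxN, hxp, hx⟩ := h
    obtain ⟨n, a, ha, rfl⟩ := exists_eq_oFrac 𝒜 (f i).2 c
    exact ⟨n + p, a • x, Submodule.smul_mem _ _ hxN,
      SetLike.GradedSMul.smul_mem (A := 𝒜) ha hxp, by rw [compG_smul 𝒜 F f i ha, hx]⟩

/-- **Serre, finite type case**: a quasi-coherent module of finite type on `Proj 𝒜` is `N~` for a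
finitely generated graded module `N`. -/
theorem exists_finite_iso [Finite ι] [SheafOfModules.IsFiniteType (R := (Proj 𝒜).ringCatSheaf) F]
    (hcov : ∀ y : Proj 𝒜, ∃ i, (f i : A) ∉ (y : ProjectiveSpectrum 𝒜).asHomogeneousIdeal) :
    ∃ (N : Submodule A (GStar 𝒜 F f)) (_ : DirectSum.Decomposition (subGrading (grading 𝒜 F f) N)),
      Module.Finite A N ∧ Nonempty (GrTilde.tilde 𝒜 (subGrading (grading 𝒜 F f) N) 0 ≅ F) := by
  obtain ⟨N, hfg, hhom, hsurj⟩ := exists_sub 𝒜 F f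
  let _ := decomposition (grading 𝒜 F f) N hhom
  exact ⟨N, inferInstance, Module.Finite.of_fg hfg,
    (compDataSub 𝒜 F f hcov N hsurj).nonempty_iso⟩

end Groth.Agent.Lib.Helper17.SerreFinite
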