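import Groth.Agent.Lib.Helper17.TildeGen
import Groth.Agent.Lib.Helper17.EpiGen
import Groth.Agent.Lib.Helper17.SerreFinite
import Groth.Agent.Lib.Helper17.HomogGens

/-!
# Serre: twists of finite type quasi-coherent modules on `Proj` are globally generated (helper17)
-/

set_option autoImplicit false
set_option linter.unusedSectionVars false
universe u
open CategoryTheory CategoryTheory.Limits AlgebraicGeometry TopologicalSpace Opposite
  HomogeneousLocalization DirectSum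

namespace Groth.Agent.Lib.Helper17.SerreGen
open Groth.Agent.Lib.Helper17.OFrac Groth.Agent.Lib.Helper17.GrQCoh
  Groth.Agent.Lib.Helper17.GammaStar Groth.Agent.Lib.Helper17.TildeRecog
  Groth.Agent.Lib.Helper17.HomogSub Groth.Agent.Lib.Helper17.TildeGen
  Groth.Agent.Lib.Helper17.EpiGen

variable {R A : Type u} [CommRing R] [CommRing A] [Algebra R A] (𝒜 : ℕ → Submodule R A)
  [GradedAlgebra 𝒜]

section graded
variable {M : Type u} [AddCommGroup M] [Module R M] [Module A M] [IsScalarTower R A M]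
  (ℳ : ℕ → Submodule R M) [DirectSum.Decomposition ℳ] [SetLike.GradedSMul 𝒜 ℳ] (k : ℤ)
  {r : ℕ} (g : Fin r → M) (p : Fin r → ℕ) (hg : ∀ a, g a ∈ ℳ (p a))
  (hspan : Submodule.span A (Set.range g) = ⊤)
  {ι : Type u} [Finite ι] (f : ι → 𝒜 1)
  (hcov : ∀ y : Proj 𝒜, ∃ i, (f i : A) ∉ (y : ProjectiveSpectrum 𝒜).asHomogeneousIdeal)
  (n : ℕ) (hn : ∀ a, p a ≤ n)

include hg hspan hcov hn in
/-- `M(n + k)~` is a quotient of a finite sum of copies of `O(k)` for `n` at least the degrees of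
the generators of `M`. -/
theorem exists_epi_twist :
    ∃ (K : ℕ) (q : (∐ fun _ : Fin K => Twist.twist 𝒜 k) ⟶ GrTilde.tilde 𝒜 ℳ ((n : ℤ) + k)),
      Epi q := by
  classical
  have := Fintype.ofFinite ι
  let e : Fin (Fintype.card (ι × Fin r)) ≃ ι × Fin r := (Fintype.equivFin (ι × Fin r)).symm
  let σ : ∀ j : Fin (Fintype.card (ι × Fin r)),
      Twist.twist 𝒜 k ⟶ GrTilde.tilde 𝒜 ℳ ((n : ℤ) + k) :=
    fun j => mulX 𝒜 ℳ k (gen_mem 𝒜 ℳ g p hg f n hn (e j))
  refine ⟨_, Sigma.desc σ, epi_sigma_desc_gen σ ?_⟩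
  intro V a x hx
  obtain ⟨W, hWV, hxW, t, ht⟩ := exists_local_sum 𝒜 ℳ k g p hg hspan f hcov n hn V a x hx
  refine ⟨W, hWV, hxW, fun j => t (e j), ?_⟩
  rw [ht]
  exact (Equiv.sum_comp e (fun ia => ((mulX 𝒜 ℳ k
    (gen_mem 𝒜 ℳ g p hg f n hn ia)).app W).hom (t ia))).symm

end graded

section sheaf
variable (F : (Proj 𝒜).Modules) [F.IsQuasicoherent]
  [SheafOfModules.IsFiniteType (R := (Proj 𝒜).ringCatSheaf) F]
  {ι : Type u} [Finite ι] (f : ι → 𝒜 1)
  (hcov : ∀ y : Proj 𝒜, ∃ i, (f i : A) ∉ (y : ProjectiveSpectrum 𝒜).asHomogeneousIdeal)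

include hcov in
/-- a finite type quasi-coherent module is `N~` for `N` generated by finitely many homogeneous
elements. -/
theorem exists_iso_gens :
    ∃ (N : Submodule A (GStar 𝒜 F f))
      (_ : DirectSum.Decomposition (subGrading (grading 𝒜 F f) N))
      (r : ℕ) (g : Fin r → N) (p : Fin r → ℕ),
      (∀ a, g a ∈ subGrading (grading 𝒜 F f) N (p a)) ∧ Submodule.span A (Set.range g) = ⊤ ∧
      Nonempty (GrTilde.tilde 𝒜 (subGrading (grading 𝒜 F f) N) 0 ≅ F) := by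
  obtain ⟨N, hfg, hhom, hsurj⟩ := SerreFinite.exists_sub 𝒜 F f
  let _ := decomposition (grading 𝒜 F f) N hhom
  obtain ⟨r, g, p, hg, hspan⟩ := exists_homog_gens (grading 𝒜 F f) N hhom hfg
  exact ⟨N, inferInstance, r, g, p, hg, hspan,
    (SerreFinite.compDataSub 𝒜 F f hcov N hsurj).nonempty_iso⟩

include hcov in
/-- **Serre**: `F` is a quotient of a finite sum of copies of `O(-n)` for `n ≫ 0`. -/
theorem exists_epi_neg_twist :
    ∃ n₀ : ℕ, ∀ n : ℕ, n₀ ≤ n →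
      ∃ (K : ℕ) (q : (∐ fun _ : Fin K => Twist.twist 𝒜 (-(n : ℤ))) ⟶ F), Epi q := by
  obtain ⟨N, dN, r, g, p, hg, hspan, ⟨φ⟩⟩ := exists_iso_gens 𝒜 F f hcov
  refine ⟨Finset.univ.sup p, fun n hn => ?_⟩
  have hn' : ∀ a, p a ≤ n := fun a => (Finset.le_sup (f := p) (Finset.mem_univ a)).trans hn
  obtain ⟨K, q, hq⟩ := exists_epi_twist 𝒜 (subGrading (grading 𝒜 F f) N) (-(n : ℤ)) g p hg hspan f
    hcov n hn'
  have h0 : (n : ℤ) + -(n : ℤ) = 0 := add_neg_cancel _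
  exact ⟨K, q ≫ eqToHom (congrArg (GrTilde.tilde 𝒜 (subGrading (grading 𝒜 F f) N)) h0) ≫ φ.hom,
    epi_comp _ _⟩

end sheaf

end Groth.Agent.Lib.Helper17.SerreGen
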