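import Groth.Agent.Lib.Helper17.HHLinFunct
import Groth.Agent.Lib.Helper17.CohSigma
import Groth.Agent.Lib.Helper17.PnTop2
import Groth.Agent.Lib.Helper17.PnH0
import Groth.Agent.Lib.Helper17.TwistTensor
import Groth.Agent.Lib.Helper11.GlobalGen
import Groth.Agent.S2357
import Groth.Agent.S9514
import Groth.Agent.S4402
import Groth.Agent.S0022

/-!
# Finiteness of the cohomology of coherent modules on `P^n_R` (helper17)

`finite_HH`: for `R` Noetherian and `M` coherent on `P^n_R`, every `H^i(P^n_R, M)` is a finite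
`R`-module (Serre), by descending induction on `i` from the explicit cohomology of the `O(d)`.
-/

set_option autoImplicit false
universe u
open AlgebraicGeometry CategoryTheory Limits Opposite TopologicalSpace MvPolynomial

namespace Groth.Agent.Lib.Helper17.FinCoh

open Groth.Agent.Lib.Helper17.PnSections Groth.Agent.Lib.Helper17.HHLinLES
  Groth.Agent.Lib.Helper17.CohSigma

variable (n : ℕ) (R : Type u) [CommRing R]

/-- the `D₊(T_i)` cover `P^n_R`. -/
theorem iSup_basicOpen_deg_one :
    (⨆ f : CohB1.polyGrading n R 1, Proj.basicOpen (CohB1.polyGrading n R)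
      (f : MvPolynomial (Fin (n + 1)) R)) = ⊤ := by
  rw [eq_top_iff]
  intro y _
  obtain ⟨i, hi⟩ := exists_T_not_mem n R y
  exact Opens.mem_iSup.mpr ⟨⟨T n R i, T_mem n R i⟩, hi⟩

theorem isCoh_twist (d : ℤ) : Coh.IsCoh (Twist.twistProjSpace n R d) :=
  ⟨PnVanish.isQuasicoherent_twist n R d,
    Groth.Agent.Lib.Helper11.GenLocus.isFiniteType_of_isInvertible
      (TwistTensor.isInvertible_twist (CohB1.polyGrading n R) (iSup_basicOpen_deg_one n R) d)⟩

/-- all cohomology groups of `O(d)` are finite modules. -/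
theorem finite_HH_twist (d : ℤ) (i : ℕ) :
    Module.Finite R (Coh.HH (CohB1.ProjSpace n R) (Twist.twistProjSpace n R d) i) := by
  have hfin : ∀ k : ℕ, Module.Finite R ↥(homogeneousSubmodule (Fin (n + 1)) R k) := fun k =>
    Module.Finite.iff_fg.mpr (homogeneousSubmodule_fg (Fin (n + 1)) R k)
  by_cases h₀ : i = 0 ∧ 0 ≤ d
  · obtain ⟨rfl, hd⟩ := h₀
    obtain ⟨m, rfl⟩ : ∃ m : ℕ, d = m := ⟨d.toNat, by omega⟩
    obtain ⟨e⟩ := PnH0.nonempty_linearEquiv n R m
    have := hfin m
    exact Module.Finite.equiv e.symm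
  · by_cases hn : i = n ∧ d ≤ -((n : ℤ) + 1)
    · obtain ⟨rfl, hd⟩ := hn
      obtain ⟨k, rfl⟩ : ∃ k : ℕ, d = -((i : ℤ) + 1 + k) := ⟨(-d - i - 1).toNat, by omega⟩
      obtain ⟨e⟩ := PnTop.nonempty_top_linearEquiv i R k
      have := hfin k
      exact Module.Finite.equiv e.symm
    · have := PnVanish.subsingleton_HH n R d i h₀ hn
      infer_instance

open Classical in
theorem irrelevant_eq_span :
    (HomogeneousIdeal.irrelevant (CohB1.polyGrading n R)).toIdeal =
      Ideal.span ((Finset.univ.image
        (MvPolynomial.X : Fin (n + 1) → MvPolynomial (Fin (n + 1)) R) :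
          Finset (MvPolynomial (Fin (n + 1)) R)) : Set (MvPolynomial (Fin (n + 1)) R)) := by
  rw [Finset.coe_image, Finset.coe_univ]
  apply le_antisymm
  · intro p hp
    rw [HomogeneousIdeal.mem_iff, HomogeneousIdeal.mem_irrelevant_iff] at hp
    rw [MvPolynomial.mem_ideal_span_X_image]
    intro m hm
    by_contra h
    push Not at h
    have hm0 : m = 0 := by
      ext i
      simpa using h i (Set.mem_univ i)
    subst hm0
    have h1 : GradedRing.proj (CohB1.polyGrading n R) 0 p =
        MvPolynomial.homogeneousComponent 0 p :=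
      MvPolynomial.decomposition.decompose'_apply p 0
    rw [h1, MvPolynomial.homogeneousComponent_zero] at hp
    rw [MvPolynomial.mem_support_iff] at hm
    apply hm
    simpa using congrArg (MvPolynomial.coeff 0) hp
  · rw [Ideal.span_le]
    rintro _ ⟨i, _, rfl⟩
    exact HomogeneousIdeal.mem_irrelevant_of_mem (CohB1.polyGrading n R) Nat.one_pos
      (MvPolynomial.isHomogeneous_X R i)

open Classical in
/-- Serre: a coherent module on `P^n_R` is a quotient of a finite sum of copies of some `O(-m)`. -/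
theorem exists_epi (M : (CohB1.ProjSpace n R).Modules) (hM : Coh.IsCoh M) :
    ∃ (m k : ℕ) (p : (∐ fun _ : Fin k => Twist.twistProjSpace n R (-(m : ℤ))) ⟶ M), Epi p := by
  obtain ⟨n₀, h⟩ := Groth.Agent.S4402.result (CohB1.polyGrading n R)
    (Finset.univ.image (MvPolynomial.X : Fin (n + 1) → MvPolynomial (Fin (n + 1)) R))
    (by
      intro f hf
      obtain ⟨i, _, rfl⟩ := Finset.mem_image.mp hf
      exact MvPolynomial.isHomogeneous_X R i)
    (irrelevant_eq_span n R) M hM.1 hM.2
  obtain ⟨k, p, hp⟩ := h n₀ le_rfl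
  exact ⟨n₀, k, p, hp⟩

variable [IsNoetherianRing R]

instance isNoetherian_projSpace : IsNoetherian (CohB1.ProjSpace n R) :=
  Groth.Agent.S2357.result (CohB1.polyGrading n R)

theorem step (i : ℕ)
    (ih : ∀ M : (CohB1.ProjSpace n R).Modules, Coh.IsCoh M →
      Module.Finite R (Coh.HH (CohB1.ProjSpace n R) M (i + 1)))
    (M : (CohB1.ProjSpace n R).Modules) (hM : Coh.IsCoh M) :
    Module.Finite R (Coh.HH (CohB1.ProjSpace n R) M i) := by
  obtain ⟨m, k, p, hp⟩ := exists_epi n R M hM
  have hB : Coh.IsCoh (∐ fun _ : Fin k => Twist.twistProjSpace n R (-(m : ℤ))) :=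
    isCoh_sigma k _ fun _ => isCoh_twist n R _
  have hK : Coh.IsCoh (kernel p) := (Groth.Agent.S9514.result _ hB hM p).1
  have hS : (ShortComplex.mk (kernel.ι p) p (kernel.condition p)).ShortExact :=
    { exact := ShortComplex.exact_of_f_is_kernel _ (kernelIsKernel p)
      mono_f := inferInstanceAs (Mono (kernel.ι p))
      epi_g := hp }
  exact finite_X₃ R hS i (finite_HH_sigma R k _ i (finite_HH_twist n R _ i)) (ih _ hK)

omit [IsNoetherianRing R] in
theorem finite_of_lt (i : ℕ) (hi : n < i) (M : (CohB1.ProjSpace n R).Modules) (hM : Coh.IsCoh M) :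
    Module.Finite R (Coh.HH (CohB1.ProjSpace n R) M i) := by
  have : Coh.IsQCoh M := hM.1
  have := Groth.Agent.S0022.result n R M i hi
  infer_instance

theorem main_aux : ∀ (t i : ℕ), i + t = n + 1 → ∀ M : (CohB1.ProjSpace n R).Modules,
    Coh.IsCoh M → Module.Finite R (Coh.HH (CohB1.ProjSpace n R) M i) := by
  intro t
  induction t with
  | zero =>
    intro i hi M hM
    exact finite_of_lt n R i (by omega) M hM
  | succ t ih =>
    intro i hi M hM
    exact step n R i (fun M' hM' => ih (i + 1) (by omega) M' hM') M hM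

/-- **Finiteness of the cohomology of coherent modules on `P^n_R`, `R` Noetherian.** -/
theorem finite_HH (M : (CohB1.ProjSpace n R).Modules) (hM : Coh.IsCoh M) (i : ℕ) :
    Module.Finite R (Coh.HH (CohB1.ProjSpace n R) M i) := by
  by_cases hi : n < i
  · exact finite_of_lt n R i hi M hM
  · exact main_aux n R (n + 1 - i) i (by omega) M hM

end Groth.Agent.Lib.Helper17.FinCoh
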