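import Mathlib
import Groth.Prelude.Def_CohB1

/-!
# At most `n` forms of positive degree in `n + 1` variables have a common zero (helper17)

* `span_X_image_eq_ker`, `isPrime_span_X_image`: the ideal generated by a set of variables is prime,
* `le_height_span_range_X`: the ideal `(T_0, …, T_n)` of `R[T_0, …, T_n]` has height at least
  `n + 1`,
* `exists_common_zero`: at most `n` homogeneous polynomials of positive degree in `n + 1` variables
  over a field have a common zero in `Proj` (Krull's height theorem).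
-/

set_option autoImplicit false
universe u
open MvPolynomial

namespace Groth.Agent.Lib.Helper17.FormsZero

section Vars
variable {σ : Type*} {R : Type*} [CommRing R]

/-- the ideal generated by a set of variables is the kernel of `killCompl`. -/
theorem span_X_image_eq_ker (S : Set σ) :
    Ideal.span (X '' S : Set (MvPolynomial σ R)) =
      RingHom.ker (killCompl (R := R) (Subtype.val_injective :
        Function.Injective (Subtype.val : {j // j ∉ S} → σ))) := by
  classical
  ext x
  rw [mem_ideal_span_X_image, RingHom.mem_ker]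
  constructor
  · intro h
    ext s
    rw [coeff_killCompl, coeff_zero]
    by_contra hne
    obtain ⟨i, hiS, hi⟩ := h _ (mem_support_iff.mpr hne)
    apply hi
    refine Finsupp.mapDomain_of_notMem_range _ _ ?_
    rintro ⟨⟨j, hj⟩, rfl⟩
    exact hj hiS
  · intro h m hm
    by_contra hcon
    push Not at hcon
    have hsub : (↑m.support : Set σ) ⊆ Set.range (Subtype.val : {j // j ∉ S} → σ) := by
      intro i hi
      exact ⟨⟨i, fun hiS => (Finsupp.mem_support_iff.mp hi) (hcon i hiS)⟩, rfl⟩
    have h1 := congrArg (coeff (m.comapDomain Subtype.val Subtype.val_injective.injOn)) h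
    rw [coeff_killCompl, coeff_zero,
      Finsupp.mapDomain_comapDomain _ Subtype.val_injective _ hsub] at h1
    exact (mem_support_iff.mp hm) h1

theorem isPrime_span_X_image [IsDomain R] (S : Set σ) :
    (Ideal.span (X '' S : Set (MvPolynomial σ R))).IsPrime := by
  rw [span_X_image_eq_ker]
  exact RingHom.ker_isPrime _

theorem X_mem_span_X_image_iff [Nontrivial R] (S : Set σ) (i : σ) :
    (X i : MvPolynomial σ R) ∈ Ideal.span (X '' S : Set (MvPolynomial σ R)) ↔ i ∈ S := by
  classical
  constructor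
  · intro h
    rw [mem_ideal_span_X_image] at h
    obtain ⟨j, hjS, hj⟩ := h (Finsupp.single i 1) (by
      rw [mem_support_iff, X, coeff_monomial, if_pos rfl]; exact one_ne_zero)
    by_cases hij : i = j
    · rw [hij]; exact hjS
    · exact absurd (Finsupp.single_eq_of_ne (Ne.symm hij)) hj
  · intro h
    exact Ideal.subset_span ⟨i, h, rfl⟩

end Vars

section Height
variable (n : ℕ) (R : Type u) [CommRing R] [IsDomain R]

/-- the chain `(0) ⊂ (T_0) ⊂ (T_0, T_1) ⊂ ⋯`. -/
noncomputable def chain (i : Fin (n + 2)) : PrimeSpectrum (MvPolynomial (Fin (n + 1)) R) :=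
  ⟨Ideal.span (X '' {j : Fin (n + 1) | j.val < i.val}), isPrime_span_X_image _⟩

theorem chain_strictMono : StrictMono (chain n R) := by
  intro i i' hii'
  have hle : {j : Fin (n + 1) | j.val < i.val} ⊆ {j : Fin (n + 1) | j.val < i'.val} := by
    intro j hj
    exact lt_trans (show j.val < i.val from hj) hii'
  refine lt_of_le_of_ne ?_ ?_
  · exact (PrimeSpectrum.asIdeal_le_asIdeal _ _).mp (Ideal.span_mono (Set.image_mono hle))
  · intro heq
    have hi : i.val < n + 1 := lt_of_lt_of_le hii' (Nat.lt_succ_iff.mp i'.2)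
    have h1 : (X ⟨i.val, hi⟩ : MvPolynomial (Fin (n + 1)) R) ∈ (chain n R i').asIdeal :=
      (X_mem_span_X_image_iff _ _).mpr hii'
    rw [← heq] at h1
    have h2 : (⟨i.val, hi⟩ : Fin (n + 1)) ∈ {j : Fin (n + 1) | j.val < i.val} :=
      (X_mem_span_X_image_iff {j : Fin (n + 1) | j.val < i.val} ⟨i.val, hi⟩).mp h1
    exact lt_irrefl _ (show i.val < i.val from h2)

/-- the ideal `(T_0, …, T_n)` has height at least `n + 1`. -/
theorem le_height_of_X_mem (P : Ideal (MvPolynomial (Fin (n + 1)) R)) [hP : P.IsPrime]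
    (hX : ∀ i, (X i : MvPolynomial (Fin (n + 1)) R) ∈ P) : ((n + 1 : ℕ) : ℕ∞) ≤ P.height := by
  rw [show P.height = Order.height (⟨P, hP⟩ : PrimeSpectrum (MvPolynomial (Fin (n + 1)) R)) from
    PrimeSpectrum.height_eq_orderHeight ⟨P, hP⟩]
  let p : LTSeries (PrimeSpectrum (MvPolynomial (Fin (n + 1)) R)) :=
    LTSeries.mk (n + 1) (chain n R) (chain_strictMono n R)
  have hlast : p.last ≤ (⟨P, hP⟩ : PrimeSpectrum (MvPolynomial (Fin (n + 1)) R)) := by
    apply (PrimeSpectrum.asIdeal_le_asIdeal _ _).mp
    change Ideal.span _ ≤ P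
    rw [Ideal.span_le]
    rintro _ ⟨j, -, rfl⟩
    exact hX j
  exact Order.length_le_height hlast

end Height

section Main
variable (k : Type u) [Field k] (n : ℕ)

/-- **at most `n` forms of positive degree in `n + 1` variables have a common zero.** -/
theorem exists_common_zero (s : Finset (MvPolynomial (Fin (n + 1)) k)) (hs : s.card ≤ n)
    (hs' : ∀ F ∈ s, ∃ d : ℕ, 0 < d ∧ F ∈ CohB1.polyGrading n k d) :
    ∃ y : ProjectiveSpectrum (CohB1.polyGrading n k), ∀ F ∈ s, F ∈ y.asHomogeneousIdeal := by
  classical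
  let 𝒜 := CohB1.polyGrading n k
  let M : Ideal (MvPolynomial (Fin (n + 1)) k) :=
    Ideal.span (X '' (Set.univ : Set (Fin (n + 1))))
  have hM : M.IsPrime := isPrime_span_X_image _
  have hXM : ∀ i, (X i : MvPolynomial (Fin (n + 1)) k) ∈ M := fun i =>
    Ideal.subset_span ⟨i, trivial, rfl⟩
  have hIM : Ideal.span (s : Set (MvPolynomial (Fin (n + 1)) k)) ≤ M := by
    rw [Ideal.span_le]
    intro F hF
    obtain ⟨d, hd, hFd⟩ := hs' F hF
    change F ∈ M
    rw [mem_ideal_span_X_image]
    intro m hm
    have hdeg : Finsupp.weight 1 m = d := hFd (mem_support_iff.mp hm)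
    by_contra hcon
    push Not at hcon
    have hm0 : m = 0 := by
      ext i
      exact hcon i trivial
    rw [hm0, map_zero] at hdeg
    omega
  obtain ⟨p, hp, hpM⟩ := Ideal.exists_minimalPrimes_le hIM
  have hpp : p.IsPrime := hp.1.1
  have hht : p.height ≤ s.card := Ideal.height_le_card_of_mem_minimalPrimes_span_finset hp
  have hcore : (p.homogeneousCore 𝒜).toIdeal.IsPrime := Ideal.IsPrime.homogeneousCore hpp
  have hle : (p.homogeneousCore 𝒜).toIdeal ≤ p := Ideal.toIdeal_homogeneousCore_le 𝒜 p
  refine ⟨⟨p.homogeneousCore 𝒜, hcore, fun hirr => ?_⟩, fun F hF => ?_⟩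
  · -- the irrelevant ideal is not contained
    have hX : ∀ i, (X i : MvPolynomial (Fin (n + 1)) k) ∈ (p.homogeneousCore 𝒜).toIdeal :=
      fun i => hirr (HomogeneousIdeal.mem_irrelevant_of_mem 𝒜 one_pos (isHomogeneous_X k i))
    have h1 := @le_height_of_X_mem n k _ _ _ hcore hX
    have h2 : (p.homogeneousCore 𝒜).toIdeal.height ≤ p.height := Ideal.height_mono hle
    have h3 : ((n + 1 : ℕ) : ℕ∞) ≤ (s.card : ℕ∞) := h1.trans (h2.trans hht)
    have h4 : n + 1 ≤ s.card := by exact_mod_cast h3
    omega
  · obtain ⟨d, -, hFd⟩ := hs' F hF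
    exact Ideal.mem_homogeneousCore_of_homogeneous_of_mem ⟨d, hFd⟩
      (hp.1.2 (Ideal.subset_span hF))

end Main

end Groth.Agent.Lib.Helper17.FormsZero
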