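import Groth.Agent.Lib.Helper17.OFrac
import Groth.Agent.Lib.Helper45.QCohStalk

/-!
# Localization properties of quasi-coherent modules on `Proj`, in terms of fractions (helper17)
-/

set_option autoImplicit false
set_option linter.unusedSectionVars false
universe u
open CategoryTheory AlgebraicGeometry TopologicalSpace Opposite HomogeneousLocalization

namespace Groth.Agent.Lib.Helper17.QLoc
open Groth.Agent.Lib.Helper17.OFrac Groth.Agent.Lib.Helper17.GrQCoh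

variable {R A : Type u} [CommRing R] [CommRing A] [Algebra R A] (𝒜 : ℕ → Submodule R A)
  [GradedAlgebra 𝒜] (F : (Proj 𝒜).Modules) [F.IsQuasicoherent]

/-- a section over an affine `V` vanishing on `V ∩ D₊(a)` is killed by a power of `a / b`. -/
theorem exists_pow_smul_eq_zero {V : (Proj 𝒜).Opens} (hV : IsAffineOpen V) {d : ℕ} {a b : A}
    (hg : Good 𝒜 V d a b) (t : Γ(F, V)) (ht : rs F (V ⊓ Proj.basicOpen 𝒜 a) V t = 0) :
    ∃ N : ℕ, oFrac 𝒜 V (N * d) (a ^ N) (b ^ N) • t = 0 := by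
  have hbo := basicOpen_oFrac 𝒜 hg
  have hle : (Proj 𝒜).basicOpen (oFrac 𝒜 V d a b) ≤ V ⊓ Proj.basicOpen 𝒜 a := hbo.le
  have h0 : F.presheaf.map (homOfLE ((Proj 𝒜).basicOpen_le (oFrac 𝒜 V d a b))).op t = 0 := by
    rw [← rs_of_le F ((Proj 𝒜).basicOpen_le (oFrac 𝒜 V d a b)), ← rs_rs F hle inf_le_left, ht,
      rs_zero]
  obtain ⟨N, hN⟩ := Groth.Agent.Lib.Helper45.exists_pow_smul_eq_zero_of_restrict_eq_zero hV F
    (oFrac 𝒜 V d a b) t h0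
  exact ⟨N, by rw [← oFrac_pow 𝒜 hg]; exact hN⟩

/-- a section over `V ∩ D₊(a)`, `V` affine, extends to `V` after multiplying by a power of
`a / b`. -/
theorem exists_rs_eq_pow_smul {V : (Proj 𝒜).Opens} (hV : IsAffineOpen V) {d : ℕ} {a b : A}
    (hg : Good 𝒜 V d a b) (τ : Γ(F, V ⊓ Proj.basicOpen 𝒜 a)) :
    ∃ (N : ℕ) (t : Γ(F, V)), rs F (V ⊓ Proj.basicOpen 𝒜 a) V t =
      oFrac 𝒜 (V ⊓ Proj.basicOpen 𝒜 a) (N * d) (a ^ N) (b ^ N) • τ := by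
  have hbo := basicOpen_oFrac 𝒜 hg
  have hle : (Proj 𝒜).basicOpen (oFrac 𝒜 V d a b) ≤ V ⊓ Proj.basicOpen 𝒜 a := hbo.le
  have hge : V ⊓ Proj.basicOpen 𝒜 a ≤ (Proj 𝒜).basicOpen (oFrac 𝒜 V d a b) := hbo.ge
  have hbV : (Proj 𝒜).basicOpen (oFrac 𝒜 V d a b) ≤ V := (Proj 𝒜).basicOpen_le _
  obtain ⟨N, t, ht⟩ := Groth.Agent.Lib.Helper45.exists_restrict_eq_pow_smul hV F
    (oFrac 𝒜 V d a b) (rs F _ (V ⊓ Proj.basicOpen 𝒜 a) τ)
  refine ⟨N, t, ?_⟩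
  have h1 := congrArg (rs F (V ⊓ Proj.basicOpen 𝒜 a) ((Proj 𝒜).basicOpen (oFrac 𝒜 V d a b))) ht
  rw [← rs_of_le F hbV, rs_rs F hge hbV, res_oFrac 𝒜 _ hg, oFrac_pow 𝒜 (hg.mono hbV),
    rs_oFrac_smul 𝒜 F hge ((hg.mono hbV).pow N), rs_rs F hge hle, rs_self] at h1
  exact h1

end Groth.Agent.Lib.Helper17.QLoc
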