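import Groth.Agent.Lib.Helper17.TildeRecog
import Groth.Agent.Lib.Helper17.QLoc

/-!
# The graded module `Γ_*(F) = ⊕ Γ(X, F(n))` of a module on `Proj`, concretely (helper17)
-/

set_option autoImplicit false
set_option linter.unusedSectionVars false
universe u
open CategoryTheory AlgebraicGeometry TopologicalSpace Opposite HomogeneousLocalization DirectSum

namespace Groth.Agent.Lib.Helper17.GammaStar
open Groth.Agent.Lib.Helper17.OFrac Groth.Agent.Lib.Helper17.GrQCoh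

variable {R A : Type u} [CommRing R] [CommRing A] [Algebra R A] (𝒜 : ℕ → Submodule R A)
  [GradedAlgebra 𝒜] (F : (Proj 𝒜).Modules) {ι : Type u} (f : ι → 𝒜 1)

/-- the chart `D₊(f i)`. -/
abbrev Uf (i : ι) : (Proj 𝒜).Opens := Proj.basicOpen 𝒜 (f i : A)

/-- families of sections over the charts. -/
abbrev K : Type u := ∀ i : ι, Γ(F, Uf 𝒜 f i)

theorem rs_neg {X : Scheme.{u}} (G : X.Modules) {V W : X.Opens} (x : Γ(G, W)) :
    rs G V W (-x) = - rs G V W x := by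
  have := rs_sub G (V := V) (0 : Γ(G, W)) x
  rwa [zero_sub, rs_zero, zero_sub] at this

theorem fpow_mem (i : ι) (k : ℕ) : (f i : A) ^ k ∈ 𝒜 k := pow_mem_one (f i).2 k

theorem oFrac_zero {V : (Proj 𝒜).Opens} {d : ℕ} {b : A} (h : Good 𝒜 V d 0 b) :
    oFrac 𝒜 V d 0 b = 0 := by
  apply o_ext
  intro y
  rw [val_oFrac 𝒜 h, Localization.mk_zero]
  exact (HomogeneousLocalization.val_zero).symm

/-- the families `(m_i)` with `m_j = (f_i / f_j)^n m_i` on overlaps: the sections of `F(n)`. -/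
def Mfam (n : ℕ) : AddSubgroup (K 𝒜 F f) where
  carrier := {m | ∀ i j, rs F (Uf 𝒜 f i ⊓ Uf 𝒜 f j) (Uf 𝒜 f j) (m j) =
    oFrac 𝒜 (Uf 𝒜 f i ⊓ Uf 𝒜 f j) n ((f i : A) ^ n) ((f j : A) ^ n) •
      rs F (Uf 𝒜 f i ⊓ Uf 𝒜 f j) (Uf 𝒜 f i) (m i)}
  zero_mem' := fun i j => by
    simp only [Pi.zero_apply, rs_zero, smul_zero]
  add_mem' := fun {a b} ha hb i j => by
    simp only [Pi.add_apply, rs_add, smul_add]
    rw [ha i j, hb i j]
  neg_mem' := fun {a} ha i j => by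
    simp only [Pi.neg_apply, rs_neg, smul_neg]
    rw [ha i j]

theorem mem_Mfam {n : ℕ} {m : K 𝒜 F f} : m ∈ Mfam 𝒜 F f n ↔
    ∀ i j, rs F (Uf 𝒜 f i ⊓ Uf 𝒜 f j) (Uf 𝒜 f j) (m j) =
      oFrac 𝒜 (Uf 𝒜 f i ⊓ Uf 𝒜 f j) n ((f i : A) ^ n) ((f j : A) ^ n) •
        rs F (Uf 𝒜 f i ⊓ Uf 𝒜 f j) (Uf 𝒜 f i) (m i) := Iff.rfl

/-- the graded action on families. -/
theorem smul_mem_Mfam {d n : ℕ} {a : A} (ha : a ∈ 𝒜 d) {m : K 𝒜 F f} (hm : m ∈ Mfam 𝒜 F f n) :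
    (fun i => oFrac 𝒜 (Uf 𝒜 f i) d a ((f i : A) ^ d) • m i) ∈ Mfam 𝒜 F f (d + n) := by
  intro i j
  have nvi : NV 𝒜 (Uf 𝒜 f i ⊓ Uf 𝒜 f j) (f i : A) := nv_of_le_basicOpen inf_le_left
  have nvj : NV 𝒜 (Uf 𝒜 f i ⊓ Uf 𝒜 f j) (f j : A) := nv_of_le_basicOpen inf_le_right
  change rs F _ _ (oFrac 𝒜 (Uf 𝒜 f j) d a ((f j : A) ^ d) • m j) = _ • rs F _ _
    (oFrac 𝒜 (Uf 𝒜 f i) d a ((f i : A) ^ d) • m i)
  rw [rs_oFrac_smul 𝒜 F inf_le_right (good_of ha (fpow_mem 𝒜 f j d) ((nv_basicOpen _).pow _)),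
    rs_oFrac_smul 𝒜 F inf_le_left (good_of ha (fpow_mem 𝒜 f i d) ((nv_basicOpen _).pow _)),
    hm i j, ← mul_smul, ← mul_smul]
  congr 1
  have G1 : Good 𝒜 (Uf 𝒜 f i ⊓ Uf 𝒜 f j) d a ((f j : A) ^ d) :=
    good_of ha (fpow_mem 𝒜 f j d) (nvj.pow _)
  have G2 : Good 𝒜 (Uf 𝒜 f i ⊓ Uf 𝒜 f j) n ((f i : A) ^ n) ((f j : A) ^ n) :=
    good_of (fpow_mem 𝒜 f i n) (fpow_mem 𝒜 f j n) (nvj.pow _)
  have G3 : Good 𝒜 (Uf 𝒜 f i ⊓ Uf 𝒜 f j) (d + n) ((f i : A) ^ (d + n)) ((f j : A) ^ (d + n)) :=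
    good_of (fpow_mem 𝒜 f i _) (fpow_mem 𝒜 f j _) (nvj.pow _)
  have G4 : Good 𝒜 (Uf 𝒜 f i ⊓ Uf 𝒜 f j) d a ((f i : A) ^ d) :=
    good_of ha (fpow_mem 𝒜 f i d) (nvi.pow _)
  rw [oFrac_mul 𝒜 G1 G2, oFrac_mul 𝒜 G3 G4]
  exact oFrac_eq 𝒜 (G1.mul G2) (G3.mul G4) (by ring)

noncomputable section instances

/-- equality in the graded monoid of families. -/
theorem sigma_ext {n n' : ℕ} (h : n = n') {x : Mfam 𝒜 F f n} {x' : Mfam 𝒜 F f n'}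
    (hx : (x : K 𝒜 F f) = x') :
    (⟨n, x⟩ : GradedMonoid (fun n => Mfam 𝒜 F f n)) = ⟨n', x'⟩ := by
  subst h
  exact congrArg _ (Subtype.ext hx)

instance gsmul : GradedMonoid.GSMul (fun d => 𝒜 d) (fun n => Mfam 𝒜 F f n) where
  smul {d _} a m := ⟨fun i => oFrac 𝒜 (Uf 𝒜 f i) d a ((f i : A) ^ d) • m.1 i,
    smul_mem_Mfam 𝒜 F f a.2 m.2⟩

theorem gsmul_val {d n : ℕ} (a : 𝒜 d) (m : Mfam 𝒜 F f n) (i : ι) :
    ((GradedMonoid.GSMul.smul (A := fun d => 𝒜 d) (M := fun n => Mfam 𝒜 F f n) a m :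
      Mfam 𝒜 F f (d +ᵥ n)) : K 𝒜 F f) i =
      oFrac 𝒜 (Uf 𝒜 f i) d a ((f i : A) ^ d) • m.1 i := rfl

instance gmulAction : GradedMonoid.GMulAction (fun d => 𝒜 d) (fun n => Mfam 𝒜 F f n) where
  one_smul := by
    rintro ⟨n, m⟩
    refine sigma_ext 𝒜 F f (zero_add n) (funext fun i => ?_)
    refine (gsmul_val 𝒜 F f _ m i).trans ?_
    change oFrac 𝒜 (Uf 𝒜 f i) 0 (1 : A) ((f i : A) ^ 0) • (m : K 𝒜 F f) i = (m : K 𝒜 F f) i
    rw [pow_zero, oFrac_self 𝒜 (good_self SetLike.GradedOne.one_mem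
      (fun y => TwistGen.one_not_mem 𝒜 y.1)), one_smul]
  mul_smul := by
    rintro ⟨d, a⟩ ⟨d', a'⟩ ⟨n, m⟩
    refine sigma_ext 𝒜 F f (add_assoc d d' n) (funext fun i => ?_)
    refine (gsmul_val 𝒜 F f _ m i).trans ?_
    refine Eq.trans ?_ (gsmul_val 𝒜 F f a _ i).symm
    refine Eq.trans ?_ (congrArg (oFrac 𝒜 (Uf 𝒜 f i) d a ((f i : A) ^ d) • ·)
      (gsmul_val 𝒜 F f a' m i).symm)
    have G1 : Good 𝒜 (Uf 𝒜 f i) d (a : A) ((f i : A) ^ d) :=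
      good_of a.2 (fpow_mem 𝒜 f i d) ((nv_basicOpen _).pow _)
    have G2 : Good 𝒜 (Uf 𝒜 f i) d' (a' : A) ((f i : A) ^ d') :=
      good_of a'.2 (fpow_mem 𝒜 f i d') ((nv_basicOpen _).pow _)
    have G3 : Good 𝒜 (Uf 𝒜 f i) (d + d') ((a : A) * a') ((f i : A) ^ (d + d')) :=
      good_of (SetLike.mul_mem_graded a.2 a'.2) (fpow_mem 𝒜 f i _) ((nv_basicOpen _).pow _)
    change oFrac 𝒜 (Uf 𝒜 f i) (d + d') ((a : A) * a') ((f i : A) ^ (d + d')) • (m : K 𝒜 F f) i = _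
    rw [← mul_smul, oFrac_mul 𝒜 G1 G2]
    congr 1
    exact oFrac_eq 𝒜 G3 (G1.mul G2) (by ring)

instance gdistribMulAction :
    DirectSum.GdistribMulAction (fun d => 𝒜 d) (fun n => Mfam 𝒜 F f n) where
  smul_add := by
    intro d n a m m'
    apply Subtype.ext
    funext i
    exact smul_add _ _ _
  smul_zero := by
    intro d n a
    apply Subtype.ext
    funext i
    exact smul_zero _

instance gmodule : DirectSum.Gmodule (fun d => 𝒜 d) (fun n => Mfam 𝒜 F f n) where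
  add_smul := by
    intro d n a a' m
    apply Subtype.ext
    funext i
    refine (gsmul_val 𝒜 F f (a + a') m i).trans ?_
    have G1 : Good 𝒜 (Uf 𝒜 f i) d (a : A) ((f i : A) ^ d) :=
      good_of a.2 (fpow_mem 𝒜 f i d) ((nv_basicOpen _).pow _)
    have G2 : Good 𝒜 (Uf 𝒜 f i) d (a' : A) ((f i : A) ^ d) :=
      good_of a'.2 (fpow_mem 𝒜 f i d) ((nv_basicOpen _).pow _)
    have h1 : ((a + a' : 𝒜 d) : A) = (a : A) + a' := rfl
    rw [h1, ← oFrac_add 𝒜 G1 G2, add_smul]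
    rfl
  zero_smul := by
    intro d n m
    apply Subtype.ext
    funext i
    refine (gsmul_val 𝒜 F f (0 : 𝒜 d) m i).trans ?_
    have h1 : ((0 : 𝒜 d) : A) = 0 := rfl
    rw [h1, oFrac_zero 𝒜 (good_of (zero_mem _) (fpow_mem 𝒜 f i d) ((nv_basicOpen _).pow _)),
      zero_smul]
    rfl

end instances

noncomputable section gstar

/-- `Γ_*(F) = ⊕ₙ Γ(X, F(n))`, concretely. -/
abbrev GStar : Type u := ⨁ n, Mfam 𝒜 F f n

instance modA : Module A (GStar 𝒜 F f) :=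
  Module.compHom (⨁ n, Mfam 𝒜 F f n)
    ((DirectSum.decomposeRingEquiv 𝒜 : A ≃+* ⨁ d, 𝒜 d) : A →+* ⨁ d, 𝒜 d)

instance modR : Module R (GStar 𝒜 F f) := Module.compHom (GStar 𝒜 F f) (algebraMap R A)

instance : IsScalarTower R A (GStar 𝒜 F f) :=
  ⟨fun r a x => by
    change (r • a) • x = (algebraMap R A r) • (a • x)
    rw [Algebra.smul_def, mul_smul]⟩

/-- the inclusion of the degree `n` part. -/
def ofG (n : ℕ) : Mfam 𝒜 F f n →+ GStar 𝒜 F f := DirectSum.of (fun n => Mfam 𝒜 F f n) n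

theorem smul_ofG {d n : ℕ} {a : A} (ha : a ∈ 𝒜 d) (m : Mfam 𝒜 F f n) :
    a • ofG 𝒜 F f n m = ofG 𝒜 F f (d + n)
      (GradedMonoid.GSMul.smul (A := fun d => 𝒜 d) (M := fun n => Mfam 𝒜 F f n) ⟨a, ha⟩ m) := by
  change (DirectSum.decompose 𝒜 a) • (DirectSum.of (fun n => Mfam 𝒜 F f n) n m) = _
  rw [DirectSum.decompose_of_mem 𝒜 ha]
  exact DirectSum.Gmodule.of_smul_of _ _ _ _

theorem ofG_mem_range_of_eq {k n : ℕ} (h : k = n) (x : Mfam 𝒜 F f k) :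
    ofG 𝒜 F f k x ∈ Set.range (ofG 𝒜 F f n) := by
  subst h
  exact ⟨x, rfl⟩

/-- the grading of `Γ_*(F)`. -/
def grading (n : ℕ) : Submodule R (GStar 𝒜 F f) where
  carrier := Set.range (ofG 𝒜 F f n)
  add_mem' := by
    rintro _ _ ⟨x, rfl⟩ ⟨y, rfl⟩
    exact ⟨x + y, map_add _ _ _⟩
  zero_mem' := ⟨0, map_zero _⟩
  smul_mem' := by
    rintro r _ ⟨x, rfl⟩
    change (algebraMap R A r) • ofG 𝒜 F f n x ∈ _
    rw [smul_ofG 𝒜 F f (SetLike.algebraMap_mem_graded 𝒜 r)]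
    exact ofG_mem_range_of_eq 𝒜 F f (zero_add n) _

theorem mem_grading {n : ℕ} {x : GStar 𝒜 F f} :
    x ∈ grading 𝒜 F f n ↔ ∃ m : Mfam 𝒜 F f n, ofG 𝒜 F f n m = x := Iff.rfl

/-- `ofG` with values in the grading. -/
def ofG' (n : ℕ) : Mfam 𝒜 F f n →+ grading 𝒜 F f n where
  toFun m := ⟨ofG 𝒜 F f n m, ⟨m, rfl⟩⟩
  map_zero' := Subtype.ext (map_zero _)
  map_add' _ _ := Subtype.ext (map_add _ _ _)

theorem coe_ofG' (n : ℕ) (m : Mfam 𝒜 F f n) :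
    ((ofG' 𝒜 F f n m : grading 𝒜 F f n) : GStar 𝒜 F f) = ofG 𝒜 F f n m := rfl

theorem ofG_def (n : ℕ) (m : Mfam 𝒜 F f n) :
    ofG 𝒜 F f n m = DirectSum.of (fun n => Mfam 𝒜 F f n) n m := rfl

/-- the decomposition map. -/
def decomp : GStar 𝒜 F f →+ ⨁ n, grading 𝒜 F f n :=
  DirectSum.toAddMonoid fun n =>
    (DirectSum.of (fun n => grading 𝒜 F f n) n).comp (ofG' 𝒜 F f n)

theorem decomp_ofG (n : ℕ) (m : Mfam 𝒜 F f n) :
    decomp 𝒜 F f (ofG 𝒜 F f n m) = DirectSum.of (fun n => grading 𝒜 F f n) n (ofG' 𝒜 F f n m) :=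
  DirectSum.toAddMonoid_of _ _ _

set_option maxHeartbeats 800000 in
theorem coe_comp_decomp :
    (DirectSum.coeAddMonoidHom (grading 𝒜 F f)).comp (decomp 𝒜 F f) = AddMonoidHom.id _ := by
  apply DirectSum.addHom_ext
  intro n m
  rw [AddMonoidHom.comp_apply]
  refine (congrArg (DirectSum.coeAddMonoidHom (grading 𝒜 F f)) (decomp_ofG 𝒜 F f n m)).trans ?_
  rw [DirectSum.coeAddMonoidHom_of]
  rfl

set_option maxHeartbeats 800000 in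
theorem decomp_comp_coe :
    (decomp 𝒜 F f).comp (DirectSum.coeAddMonoidHom (grading 𝒜 F f)) = AddMonoidHom.id _ := by
  apply DirectSum.addHom_ext
  rintro n ⟨_, m, rfl⟩
  rw [AddMonoidHom.comp_apply, DirectSum.coeAddMonoidHom_of]
  exact decomp_ofG 𝒜 F f n m

instance : DirectSum.Decomposition (grading 𝒜 F f) :=
  DirectSum.Decomposition.ofAddHom _ (decomp 𝒜 F f) (coe_comp_decomp 𝒜 F f)
    (decomp_comp_coe 𝒜 F f)

instance : SetLike.GradedSMul 𝒜 (grading 𝒜 F f) where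
  smul_mem := by
    rintro d n a _ ha ⟨m, rfl⟩
    rw [smul_ofG 𝒜 F f ha]
    exact ⟨_, rfl⟩

end gstar

noncomputable section comp

/-- the `i`-th component map `Γ_*(F) → Γ(U_i, F)`. -/
def compG (i : ι) : GStar 𝒜 F f →+ Γ(F, Uf 𝒜 f i) :=
  DirectSum.toAddMonoid fun n =>
    (Pi.evalAddMonoidHom (fun i => Γ(F, Uf 𝒜 f i)) i).comp (Mfam 𝒜 F f n).subtype

theorem compG_ofG (i : ι) (n : ℕ) (m : Mfam 𝒜 F f n) :
    compG 𝒜 F f i (ofG 𝒜 F f n m) = (m : K 𝒜 F f) i :=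
  DirectSum.toAddMonoid_of _ _ _

theorem compG_smul (i : ι) {d : ℕ} {a : A} (ha : a ∈ 𝒜 d) (x : GStar 𝒜 F f) :
    compG 𝒜 F f i (a • x) = oFrac 𝒜 (Uf 𝒜 f i) d a ((f i : A) ^ d) • compG 𝒜 F f i x := by
  induction x using DirectSum.induction_on with
  | zero => rw [smul_zero, map_zero, smul_zero]
  | of n m =>
    have h1 := smul_ofG 𝒜 F f ha m
    have h2 : DirectSum.of (fun n => Mfam 𝒜 F f n) n m = ofG 𝒜 F f n m := rfl
    rw [h2, h1, compG_ofG, compG_ofG]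
    rfl
  | add x y hx hy => rw [smul_add, map_add, map_add, hx, hy, smul_add]

end comp

end Groth.Agent.Lib.Helper17.GammaStar
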