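import Groth.Agent.Lib.Helper17.GammaStar

/-!
# `Γ_*(F)` for quasi-coherent `F`: extension and uniqueness of sections (helper17)
-/

set_option autoImplicit false
set_option linter.unusedSectionVars false
universe u
open CategoryTheory AlgebraicGeometry TopologicalSpace Opposite HomogeneousLocalization DirectSum

namespace Groth.Agent.Lib.Helper17.GammaStar
open Groth.Agent.Lib.Helper17.OFrac Groth.Agent.Lib.Helper17.GrQCoh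

variable {R A : Type u} [CommRing R] [CommRing A] [Algebra R A] (𝒜 : ℕ → Submodule R A)
  [GradedAlgebra 𝒜] (F : (Proj 𝒜).Modules) [F.IsQuasicoherent] {ι : Type u} (f : ι → 𝒜 1)

theorem isAffineOpen_Uf (i : ι) : IsAffineOpen (Uf 𝒜 f i) :=
  Proj.isAffineOpen_basicOpen 𝒜 (f i : A) (f i).2 one_pos

theorem isAffineOpen_Uf_inf (i j : ι) : IsAffineOpen (Uf 𝒜 f i ⊓ Uf 𝒜 f j) := by
  have h : Proj.basicOpen 𝒜 ((f i : A) * (f j : A)) = Uf 𝒜 f i ⊓ Uf 𝒜 f j :=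
    Proj.basicOpen_mul 𝒜 _ _
  rw [← h]
  exact Proj.isAffineOpen_basicOpen 𝒜 _ (SetLike.mul_mem_graded (f i).2 (f j).2) (by norm_num)

/-- the fraction `(f i / f j)^k` on an open where `f j` vanishes nowhere. -/
theorem good_ff {V : (Proj 𝒜).Opens} (i j : ι) (k : ℕ) (hV : NV 𝒜 V (f j : A)) :
    Good 𝒜 V k ((f i : A) ^ k) ((f j : A) ^ k) :=
  good_of (fpow_mem 𝒜 f i k) (fpow_mem 𝒜 f j k) (hV.pow k)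

/-- sections over `U ⊓ U` determine sections over `U`. -/
theorem rs_inf_self_injective {X : Scheme.{u}} (G : X.Modules) (U : X.Opens) (x x' : Γ(G, U))
    (h : rs G (U ⊓ U) U x = rs G (U ⊓ U) U x') : x = x' := by
  apply rs_ext G
  intro y
  exact ⟨U ⊓ U, inf_le_left, ⟨y.2, y.2⟩, h⟩

/-- change the order in an intersection. -/
theorem rs_inf_comm {X : Scheme.{u}} (G : X.Modules) (U V W : X.Opens) (hW : V ≤ W ∨ U ≤ W)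
    (x : Γ(G, W)) :
    rs G (U ⊓ V) (V ⊓ U) (rs G (V ⊓ U) W x) = rs G (U ⊓ V) W x := by
  have h1 : U ⊓ V ≤ V ⊓ U := (inf_comm U V).le
  have h2 : V ⊓ U ≤ W := by
    rcases hW with h | h
    · exact inf_le_left.trans h
    · exact inf_le_right.trans h
  exact rs_rs G h1 h2 x

/-- **Uniqueness**: a family whose `i₀`-th component vanishes is killed by a power of `f i₀`. -/
theorem exists_pow_smul_ofG_eq_zero [Finite ι] (i₀ : ι) {p : ℕ} (m : Mfam 𝒜 F f p)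
    (h0 : (m : K 𝒜 F f) i₀ = 0) : ∃ q : ℕ, ((f i₀ : A) ^ q) • ofG 𝒜 F f p m = 0 := by
  classical
  have := Fintype.ofFinite ι
  -- each component is killed by a power of `f i₀ / f j`
  have h1 : ∀ j, ∃ N : ℕ, oFrac 𝒜 (Uf 𝒜 f j) (N * 1) ((f i₀ : A) ^ N) ((f j : A) ^ N) •
      (m : K 𝒜 F f) j = 0 := by
    intro j
    refine QLoc.exists_pow_smul_eq_zero 𝒜 F (isAffineOpen_Uf 𝒜 f j)
      (good_of (f i₀).2 (f j).2 (nv_basicOpen _)) _ ?_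
    have h2 := (mem_Mfam 𝒜 F f).mp m.2 i₀ j
    rw [h0, rs_zero, smul_zero] at h2
    rw [← rs_inf_comm F (Uf 𝒜 f j) (Uf 𝒜 f i₀) (Uf 𝒜 f j) (Or.inr le_rfl), h2, rs_zero]
  choose N hN using h1
  set q : ℕ := Finset.univ.sup N with hq
  have h3 : ∀ j, oFrac 𝒜 (Uf 𝒜 f j) q ((f i₀ : A) ^ q) ((f j : A) ^ q) • (m : K 𝒜 F f) j = 0 := by
    intro j
    have hle : N j ≤ q := Finset.le_sup (f := N) (Finset.mem_univ j)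
    obtain ⟨r, hr⟩ := Nat.exists_eq_add_of_le hle
    have G1 := good_ff 𝒜 f i₀ j r (nv_basicOpen (f j : A))
    have G2 := good_ff 𝒜 f i₀ j (N j) (nv_basicOpen (f j : A))
    have G2' : Good 𝒜 (Uf 𝒜 f j) (N j * 1) ((f i₀ : A) ^ N j) ((f j : A) ^ N j) := by
      rw [mul_one]; exact G2
    have G3 := good_ff 𝒜 f i₀ j q (nv_basicOpen (f j : A))
    have e : oFrac 𝒜 (Uf 𝒜 f j) q ((f i₀ : A) ^ q) ((f j : A) ^ q) =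
        oFrac 𝒜 (Uf 𝒜 f j) r ((f i₀ : A) ^ r) ((f j : A) ^ r) *
          oFrac 𝒜 (Uf 𝒜 f j) (N j * 1) ((f i₀ : A) ^ N j) ((f j : A) ^ N j) := by
      rw [oFrac_mul 𝒜 G1 G2']
      exact oFrac_eq 𝒜 G3 (G1.mul G2') (by rw [hr]; ring)
    rw [e, mul_smul, hN j, smul_zero]
  refine ⟨q, ?_⟩
  rw [smul_ofG 𝒜 F f (fpow_mem 𝒜 f i₀ q)]
  have h4 : (GradedMonoid.GSMul.smul (A := fun d => 𝒜 d) (M := fun n => Mfam 𝒜 F f n)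
      (⟨(f i₀ : A) ^ q, fpow_mem 𝒜 f i₀ q⟩ : 𝒜 q) m) = 0 := by
    apply Subtype.ext
    funext j
    exact (gsmul_val 𝒜 F f _ m j).trans (h3 j)
  rw [h4, map_zero]

/-- Step 1 of the extension: `(f i₀ / f j)^n s` extends to `U j` for `n` large. -/
theorem exists_extension_step (i₀ j : ι) (s : Γ(F, Uf 𝒜 f i₀)) :
    ∃ N : ℕ, ∀ n : ℕ, N ≤ n → ∃ t : Γ(F, Uf 𝒜 f j),
      rs F (Uf 𝒜 f j ⊓ Uf 𝒜 f i₀) (Uf 𝒜 f j) t =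
        oFrac 𝒜 (Uf 𝒜 f j ⊓ Uf 𝒜 f i₀) n ((f i₀ : A) ^ n) ((f j : A) ^ n) •
          rs F (Uf 𝒜 f j ⊓ Uf 𝒜 f i₀) (Uf 𝒜 f i₀) s := by
  obtain ⟨N, t, ht⟩ := QLoc.exists_rs_eq_pow_smul 𝒜 F (isAffineOpen_Uf 𝒜 f j)
    (good_of (f i₀).2 (f j).2 (nv_basicOpen _)) (rs F (Uf 𝒜 f j ⊓ Uf 𝒜 f i₀) (Uf 𝒜 f i₀) s)
  refine ⟨N, fun n hn => ?_⟩
  obtain ⟨r, hr⟩ := Nat.exists_eq_add_of_le hn
  have nvj : NV 𝒜 (Uf 𝒜 f j ⊓ Uf 𝒜 f i₀) (f j : A) := nv_of_le_basicOpen inf_le_left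
  refine ⟨oFrac 𝒜 (Uf 𝒜 f j) r ((f i₀ : A) ^ r) ((f j : A) ^ r) • t, ?_⟩
  have G1 := good_ff 𝒜 f i₀ j r (nv_basicOpen (f j : A))
  have G1' := good_ff 𝒜 f i₀ j r nvj
  have G2 : Good 𝒜 (Uf 𝒜 f j ⊓ Uf 𝒜 f i₀) (N * 1) ((f i₀ : A) ^ N) ((f j : A) ^ N) := by
    rw [mul_one]; exact good_ff 𝒜 f i₀ j N nvj
  have G3 := good_ff 𝒜 f i₀ j n nvj
  rw [rs_oFrac_smul 𝒜 F inf_le_left G1, ht, ← mul_smul, oFrac_mul 𝒜 G1' G2]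
  congr 1
  exact oFrac_eq 𝒜 (G1'.mul G2) G3 (by rw [hr]; ring)

/-- **Extension**: every section of `F` over a chart is the component of some family. -/
theorem exists_family [Finite ι] (i₀ : ι) (s : Γ(F, Uf 𝒜 f i₀)) :
    ∃ (p : ℕ) (m : Mfam 𝒜 F f p), (m : K 𝒜 F f) i₀ = s := by
  classical
  have := Fintype.ofFinite ι
  choose N hN using fun j => exists_extension_step 𝒜 F f i₀ j s
  set n : ℕ := Finset.univ.sup N with hn_def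
  have hn : ∀ j, N j ≤ n := fun j => Finset.le_sup (f := N) (Finset.mem_univ j)
  choose t ht using fun j => hN j n (hn j)
  -- the values of `t j` on small opens
  have key : ∀ (j : ι) (W : (Proj 𝒜).Opens) (_ : W ≤ Uf 𝒜 f j ⊓ Uf 𝒜 f i₀),
      rs F W (Uf 𝒜 f j) (t j) =
        oFrac 𝒜 W n ((f i₀ : A) ^ n) ((f j : A) ^ n) • rs F W (Uf 𝒜 f i₀) s := by
    intro j W hW
    rw [← rs_rs F hW inf_le_left, ht j,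
      rs_oFrac_smul 𝒜 F hW (good_ff 𝒜 f i₀ j n (nv_of_le_basicOpen inf_le_left)),
      rs_rs F hW inf_le_right]
  -- the defect of compatibility
  let dd : ∀ j k : ι, Γ(F, Uf 𝒜 f j ⊓ Uf 𝒜 f k) := fun j k =>
    rs F (Uf 𝒜 f j ⊓ Uf 𝒜 f k) (Uf 𝒜 f k) (t k) -
      oFrac 𝒜 (Uf 𝒜 f j ⊓ Uf 𝒜 f k) n ((f j : A) ^ n) ((f k : A) ^ n) •
        rs F (Uf 𝒜 f j ⊓ Uf 𝒜 f k) (Uf 𝒜 f j) (t j)
  have hdd : ∀ j k, rs F ((Uf 𝒜 f j ⊓ Uf 𝒜 f k) ⊓ Proj.basicOpen 𝒜 (f i₀ : A))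
      (Uf 𝒜 f j ⊓ Uf 𝒜 f k) (dd j k) = 0 := by
    intro j k
    have hW1 : (Uf 𝒜 f j ⊓ Uf 𝒜 f k) ⊓ Proj.basicOpen 𝒜 (f i₀ : A) ≤ Uf 𝒜 f j ⊓ Uf 𝒜 f k :=
      inf_le_left
    have hWk : (Uf 𝒜 f j ⊓ Uf 𝒜 f k) ⊓ Proj.basicOpen 𝒜 (f i₀ : A) ≤ Uf 𝒜 f k ⊓ Uf 𝒜 f i₀ :=
      le_inf (inf_le_left.trans inf_le_right) inf_le_right
    have hWj : (Uf 𝒜 f j ⊓ Uf 𝒜 f k) ⊓ Proj.basicOpen 𝒜 (f i₀ : A) ≤ Uf 𝒜 f j ⊓ Uf 𝒜 f i₀ :=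
      le_inf (inf_le_left.trans inf_le_left) inf_le_right
    have nvj : NV 𝒜 ((Uf 𝒜 f j ⊓ Uf 𝒜 f k) ⊓ Proj.basicOpen 𝒜 (f i₀ : A)) (f j : A) :=
      nv_of_le_basicOpen (inf_le_left.trans inf_le_left)
    have nvk : NV 𝒜 ((Uf 𝒜 f j ⊓ Uf 𝒜 f k) ⊓ Proj.basicOpen 𝒜 (f i₀ : A)) (f k : A) :=
      nv_of_le_basicOpen (inf_le_left.trans inf_le_right)
    change rs F _ _ (rs F (Uf 𝒜 f j ⊓ Uf 𝒜 f k) (Uf 𝒜 f k) (t k) -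
      oFrac 𝒜 (Uf 𝒜 f j ⊓ Uf 𝒜 f k) n ((f j : A) ^ n) ((f k : A) ^ n) •
        rs F (Uf 𝒜 f j ⊓ Uf 𝒜 f k) (Uf 𝒜 f j) (t j)) = 0
    rw [rs_sub, rs_rs F hW1 inf_le_right,
      rs_oFrac_smul 𝒜 F hW1 (good_ff 𝒜 f j k n (nv_of_le_basicOpen inf_le_right)),
      rs_rs F hW1 inf_le_left, key k _ hWk, key j _ hWj, ← mul_smul,
      oFrac_mul 𝒜 (good_ff 𝒜 f j k n nvk) (good_ff 𝒜 f i₀ j n nvj), sub_eq_zero]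
    congr 1
    exact oFrac_eq 𝒜 (good_ff 𝒜 f i₀ k n nvk)
      ((good_ff 𝒜 f j k n nvk).mul (good_ff 𝒜 f i₀ j n nvj)) (by ring)
  have hP : ∀ j k, ∃ P : ℕ, oFrac 𝒜 (Uf 𝒜 f j ⊓ Uf 𝒜 f k) (P * 1) ((f i₀ : A) ^ P)
      ((f j : A) ^ P) • dd j k = 0 := fun j k =>
    QLoc.exists_pow_smul_eq_zero 𝒜 F (isAffineOpen_Uf_inf 𝒜 f j k)
      (good_of (f i₀).2 (f j).2 (nv_of_le_basicOpen inf_le_left)) (dd j k) (hdd j k)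
  choose P hP using hP
  set P₀ : ℕ := Finset.univ.sup (fun jk : ι × ι => P jk.1 jk.2) with hP₀_def
  have hP₀ : ∀ j k, oFrac 𝒜 (Uf 𝒜 f j ⊓ Uf 𝒜 f k) P₀ ((f i₀ : A) ^ P₀) ((f j : A) ^ P₀) •
      dd j k = 0 := by
    intro j k
    have hle : P j k ≤ P₀ :=
      Finset.le_sup (f := fun jk : ι × ι => P jk.1 jk.2) (Finset.mem_univ (j, k))
    obtain ⟨r, hr⟩ := Nat.exists_eq_add_of_le hle
    have nvj : NV 𝒜 (Uf 𝒜 f j ⊓ Uf 𝒜 f k) (f j : A) := nv_of_le_basicOpen inf_le_left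
    have G1 := good_ff 𝒜 f i₀ j r nvj
    have G2' : Good 𝒜 (Uf 𝒜 f j ⊓ Uf 𝒜 f k) (P j k * 1) ((f i₀ : A) ^ P j k)
        ((f j : A) ^ P j k) := by
      rw [mul_one]; exact good_ff 𝒜 f i₀ j (P j k) nvj
    have G3 := good_ff 𝒜 f i₀ j P₀ nvj
    have e : oFrac 𝒜 (Uf 𝒜 f j ⊓ Uf 𝒜 f k) P₀ ((f i₀ : A) ^ P₀) ((f j : A) ^ P₀) =
        oFrac 𝒜 (Uf 𝒜 f j ⊓ Uf 𝒜 f k) r ((f i₀ : A) ^ r) ((f j : A) ^ r) *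
          oFrac 𝒜 (Uf 𝒜 f j ⊓ Uf 𝒜 f k) (P j k * 1) ((f i₀ : A) ^ P j k) ((f j : A) ^ P j k) := by
      rw [oFrac_mul 𝒜 G1 G2']
      exact oFrac_eq 𝒜 G3 (G1.mul G2') (by rw [hr]; ring)
    rw [e, mul_smul, hP j k, smul_zero]
  refine ⟨P₀ + n, ⟨fun j => oFrac 𝒜 (Uf 𝒜 f j) P₀ ((f i₀ : A) ^ P₀) ((f j : A) ^ P₀) • t j, ?_⟩, ?_⟩
  · intro j k
    have nvj : NV 𝒜 (Uf 𝒜 f j ⊓ Uf 𝒜 f k) (f j : A) := nv_of_le_basicOpen inf_le_left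
    have nvk : NV 𝒜 (Uf 𝒜 f j ⊓ Uf 𝒜 f k) (f k : A) := nv_of_le_basicOpen inf_le_right
    change rs F _ _ (oFrac 𝒜 (Uf 𝒜 f k) P₀ ((f i₀ : A) ^ P₀) ((f k : A) ^ P₀) • t k) =
      _ • rs F _ _ (oFrac 𝒜 (Uf 𝒜 f j) P₀ ((f i₀ : A) ^ P₀) ((f j : A) ^ P₀) • t j)
    rw [rs_oFrac_smul 𝒜 F inf_le_right (good_ff 𝒜 f i₀ k P₀ (nv_basicOpen _)),
      rs_oFrac_smul 𝒜 F inf_le_left (good_ff 𝒜 f i₀ j P₀ (nv_basicOpen _))]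
    have e : rs F (Uf 𝒜 f j ⊓ Uf 𝒜 f k) (Uf 𝒜 f k) (t k) = dd j k +
        oFrac 𝒜 (Uf 𝒜 f j ⊓ Uf 𝒜 f k) n ((f j : A) ^ n) ((f k : A) ^ n) •
          rs F (Uf 𝒜 f j ⊓ Uf 𝒜 f k) (Uf 𝒜 f j) (t j) := (sub_add_cancel _ _).symm
    have e2 : oFrac 𝒜 (Uf 𝒜 f j ⊓ Uf 𝒜 f k) P₀ ((f i₀ : A) ^ P₀) ((f k : A) ^ P₀) =
        oFrac 𝒜 (Uf 𝒜 f j ⊓ Uf 𝒜 f k) P₀ ((f j : A) ^ P₀) ((f k : A) ^ P₀) *
          oFrac 𝒜 (Uf 𝒜 f j ⊓ Uf 𝒜 f k) P₀ ((f i₀ : A) ^ P₀) ((f j : A) ^ P₀) := by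
      rw [oFrac_mul 𝒜 (good_ff 𝒜 f j k P₀ nvk) (good_ff 𝒜 f i₀ j P₀ nvj)]
      exact oFrac_eq 𝒜 (good_ff 𝒜 f i₀ k P₀ nvk)
        ((good_ff 𝒜 f j k P₀ nvk).mul (good_ff 𝒜 f i₀ j P₀ nvj)) (by ring)
    rw [e, smul_add]
    nth_rewrite 1 [e2]
    rw [mul_smul, hP₀ j k, smul_zero, zero_add, ← mul_smul, ← mul_smul,
      oFrac_mul 𝒜 (good_ff 𝒜 f i₀ k P₀ nvk) (good_ff 𝒜 f j k n nvk),
      oFrac_mul 𝒜 (good_ff 𝒜 f j k (P₀ + n) nvk) (good_ff 𝒜 f i₀ j P₀ nvj)]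
    congr 1
    exact oFrac_eq 𝒜 ((good_ff 𝒜 f i₀ k P₀ nvk).mul (good_ff 𝒜 f j k n nvk))
      ((good_ff 𝒜 f j k (P₀ + n) nvk).mul (good_ff 𝒜 f i₀ j P₀ nvj)) (by ring)
  · change oFrac 𝒜 (Uf 𝒜 f i₀) P₀ ((f i₀ : A) ^ P₀) ((f i₀ : A) ^ P₀) • t i₀ = s
    rw [oFrac_self 𝒜 (good_ff 𝒜 f i₀ i₀ P₀ (nv_basicOpen _)), one_smul]
    apply rs_inf_self_injective F
    rw [ht i₀, oFrac_self 𝒜 (good_ff 𝒜 f i₀ i₀ n (nv_of_le_basicOpen inf_le_left)), one_smul]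

end Groth.Agent.Lib.Helper17.GammaStar
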