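import Mathlib

/-!
# The quotient of a graded algebra by a homogeneous ideal, as a graded algebra (helper17)
-/

set_option autoImplicit false
universe u

namespace Groth.Agent.Lib.Helper17.GQ

variable {R A : Type u} [CommRing R] [CommRing A] [Algebra R A] (𝒜 : ℕ → Submodule R A)
  [GradedAlgebra 𝒜] (I : Ideal A)

/-- The image grading on `A ⧸ I`. -/
noncomputable def grading (n : ℕ) : Submodule R (A ⧸ I) :=
  (𝒜 n).map (Ideal.Quotient.mkₐ R I).toLinearMap

omit [GradedAlgebra 𝒜] in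
theorem mk_mem_grading {n : ℕ} {a : A} (ha : a ∈ 𝒜 n) :
    Ideal.Quotient.mk I a ∈ grading 𝒜 I n := ⟨a, ha, rfl⟩

omit [GradedAlgebra 𝒜] in
theorem exists_of_mem_grading {n : ℕ} {b : A ⧸ I} (hb : b ∈ grading 𝒜 I n) :
    ∃ a ∈ 𝒜 n, Ideal.Quotient.mk I a = b := hb

/-- the componentwise maps -/
noncomputable def compMap (i : ℕ) : 𝒜 i →+ grading 𝒜 I i where
  toFun y := ⟨Ideal.Quotient.mk I (y : A), mk_mem_grading 𝒜 I y.2⟩
  map_zero' := by ext; simp
  map_add' x y := by ext; simp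

omit [GradedAlgebra 𝒜] in
theorem coe_map_compMap (x : DirectSum ℕ fun i => 𝒜 i) :
    DirectSum.coeAddMonoidHom (grading 𝒜 I) (DirectSum.map (compMap 𝒜 I) x) =
      Ideal.Quotient.mk I (DirectSum.coeAddMonoidHom 𝒜 x) := by
  induction x using DirectSum.induction_on with
  | zero => simp
  | of i y =>
    rw [DirectSum.map_of, DirectSum.coeAddMonoidHom_of, DirectSum.coeAddMonoidHom_of]
    rfl
  | add x y hx hy => simp only [map_add, hx, hy]

/-- the quotient map as an additive map -/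
noncomputable abbrev πadd : A →+ A ⧸ I := (Ideal.Quotient.mk I : A →+* A ⧸ I).toAddMonoidHom

/-- the decomposition map on `A` -/
noncomputable def φ₀ : A →+ DirectSum ℕ fun i => grading 𝒜 I i :=
  (DirectSum.map (compMap 𝒜 I)).comp (DirectSum.decomposeAddEquiv 𝒜).toAddMonoidHom

theorem φ₀_apply (a : A) : φ₀ 𝒜 I a = DirectSum.map (compMap 𝒜 I) (DirectSum.decompose 𝒜 a) := rfl

theorem ker_le (hI : I.IsHomogeneous 𝒜) : (πadd I).ker ≤ (φ₀ 𝒜 I).ker := by
  intro a ha
  rw [AddMonoidHom.mem_ker] at ha ⊢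
  have haI : a ∈ I := Ideal.Quotient.eq_zero_iff_mem.1 ha
  rw [φ₀_apply]
  ext i
  rw [DirectSum.map_apply]
  simp only [DirectSum.zero_apply, ZeroMemClass.coe_zero]
  exact Ideal.Quotient.eq_zero_iff_mem.2 (hI i haI)

/-- the decomposition map on `A ⧸ I` -/
noncomputable def ψ₀ (hI : I.IsHomogeneous 𝒜) : A ⧸ I →+ DirectSum ℕ fun i => grading 𝒜 I i :=
  (πadd I).liftOfSurjective Ideal.Quotient.mk_surjective ⟨φ₀ 𝒜 I, ker_le 𝒜 I hI⟩

theorem ψ₀_mk (hI : I.IsHomogeneous 𝒜) (a : A) :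
    ψ₀ 𝒜 I hI (Ideal.Quotient.mk I a) = φ₀ 𝒜 I a :=
  AddMonoidHom.liftOfRightInverse_comp_apply (πadd I) _ _ ⟨φ₀ 𝒜 I, ker_le 𝒜 I hI⟩ a

/-- The decomposition of `A ⧸ I` (not an instance: depends on the proof `hI`). -/
@[instance_reducible]
noncomputable def decomposition (hI : I.IsHomogeneous 𝒜) :
    DirectSum.Decomposition (grading 𝒜 I) := by
  refine DirectSum.Decomposition.ofAddHom (grading 𝒜 I) (ψ₀ 𝒜 I hI) ?_ ?_
  · ext x
    obtain ⟨a, rfl⟩ := Ideal.Quotient.mk_surjective x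
    simp only [AddMonoidHom.comp_apply, AddMonoidHom.id_apply]
    rw [ψ₀_mk, φ₀_apply, coe_map_compMap]
    congr 1
    exact DirectSum.Decomposition.left_inv a
  · refine DirectSum.addHom_ext fun i y => ?_
    obtain ⟨b, a, ha, rfl⟩ := y
    simp only [AddMonoidHom.comp_apply, AddMonoidHom.id_apply, DirectSum.coeAddMonoidHom_of]
    change ψ₀ 𝒜 I hI (Ideal.Quotient.mk I a) = _
    rw [ψ₀_mk, φ₀_apply, DirectSum.decompose_of_mem 𝒜 ha, DirectSum.map_of]
    rfl

instance gradedMonoid : SetLike.GradedMonoid (grading 𝒜 I) where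
  one_mem := ⟨1, SetLike.GradedOne.one_mem, map_one (Ideal.Quotient.mk I)⟩
  mul_mem := by
    rintro i j _ _ ⟨a, ha, rfl⟩ ⟨b, hb, rfl⟩
    exact ⟨a * b, SetLike.GradedMul.mul_mem ha hb, map_mul (Ideal.Quotient.mk I) a b⟩


/-- The graded algebra structure on `A ⧸ I` (not an instance: depends on the proof `hI`). -/
@[instance_reducible]
noncomputable def gradedAlgebra (hI : I.IsHomogeneous 𝒜) : GradedAlgebra (grading 𝒜 I) where
  toGradedMonoid := gradedMonoid 𝒜 I
  toDecomposition := decomposition 𝒜 I hI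

/-- The quotient map as a graded ring homomorphism. -/
noncomputable def quotHom : 𝒜 →+*ᵍ grading 𝒜 I where
  toRingHom := Ideal.Quotient.mk I
  map_mem := fun hx => mk_mem_grading 𝒜 I hx

omit [GradedAlgebra 𝒜] in
@[simp] theorem quotHom_apply (a : A) : quotHom 𝒜 I a = Ideal.Quotient.mk I a := rfl

omit [GradedAlgebra 𝒜] in
theorem quotHom_surjective : Function.Surjective (quotHom 𝒜 I) := Ideal.Quotient.mk_surjective

omit [GradedAlgebra 𝒜] in
theorem quotHom_eq_zero_iff (a : A) : quotHom 𝒜 I a = 0 ↔ a ∈ I :=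
  Ideal.Quotient.eq_zero_iff_mem

end Groth.Agent.Lib.Helper17.GQ
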