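import Groth.Agent.Lib.Helper17.HHLinLES

/-!
# Functoriality of `Canon.HHlin` and cohomology of finite coproducts (helper17)
-/

set_option autoImplicit false
universe u
open AlgebraicGeometry CategoryTheory Limits Opposite TopologicalSpace Abelian

namespace Groth.Agent.Lib.Helper17.HHLinLES

open Groth.Agent.Lib.Helper1

section Functoriality

variable (A : Type u) [CommRing A] {X : Scheme.{u}} [X.Over (Spec (CommRingCat.of A))]

theorem HHlin_apply' {F G : X.Modules} (φ : F ⟶ G) (i : ℕ) (x : Coh.HH X F i) :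
    Canon.HHlin A φ i x = Sheaf.H.map ((toAbF X).map φ) i x := rfl

theorem HHlin_id (F : X.Modules) (i : ℕ) : Canon.HHlin A (𝟙 F) i = LinearMap.id := by
  ext x
  have h : (toAbF X).map (𝟙 F) = 𝟙 _ := CategoryTheory.Functor.map_id _ _
  exact (HHlin_apply' A (𝟙 F) i x).trans
    ((congrArg (fun f => Sheaf.H.map f i x) h).trans (Sheaf.H.map_id_apply x))

theorem HHlin_comp {F G H : X.Modules} (φ : F ⟶ G) (ψ : G ⟶ H) (i : ℕ) :
    Canon.HHlin A (φ ≫ ψ) i = (Canon.HHlin A ψ i).comp (Canon.HHlin A φ i) := by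
  ext x
  have h : (toAbF X).map (φ ≫ ψ) = (toAbF X).map φ ≫ (toAbF X).map ψ := CategoryTheory.Functor.map_comp _ _ _
  exact (HHlin_apply' A (φ ≫ ψ) i x).trans
    ((congrArg (fun f => Sheaf.H.map f i x) h).trans (Sheaf.H.map_comp_apply _ _ x))

theorem HHlin_add {F G : X.Modules} (φ ψ : F ⟶ G) (i : ℕ) :
    Canon.HHlin A (φ + ψ) i = Canon.HHlin A φ i + Canon.HHlin A ψ i := by
  ext x
  have h : (toAbF X).map (φ + ψ) = (toAbF X).map φ + (toAbF X).map ψ := CategoryTheory.Functor.map_add _
  exact (HHlin_apply' A (φ + ψ) i x).trans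
    ((congrArg (fun f => Sheaf.H.map f i x) h).trans (Sheaf.H.map_add_apply _ _ x))

theorem HHlin_zero {F G : X.Modules} (i : ℕ) :
    Canon.HHlin A (0 : F ⟶ G) i = 0 := by
  have h := HHlin_add A (0 : F ⟶ G) 0 i
  rw [add_zero] at h
  exact left_eq_add.mp h

theorem HHlin_sum {F G : X.Modules} {α : Type*} (s : Finset α) (φ : α → (F ⟶ G)) (i : ℕ) :
    Canon.HHlin A (∑ j ∈ s, φ j) i = ∑ j ∈ s, Canon.HHlin A (φ j) i := by
  classical
  induction s using Finset.induction_on with
  | empty => simp [HHlin_zero]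
  | insert a s ha ih => rw [Finset.sum_insert ha, Finset.sum_insert ha, HHlin_add, ih]

end Functoriality

section Sigma

variable (A : Type u) [CommRing A] {X : Scheme.{u}} [X.Over (Spec (CommRingCat.of A))]

/-- cohomology of a finite coproduct of copies of a module with finite cohomology is finite. -/
theorem finite_HH_sigma (k : ℕ) (G : X.Modules) (i : ℕ) (hG : Module.Finite A (Coh.HH X G i)) :
    Module.Finite A (Coh.HH X (∐ fun _ : Fin k => G) i) := by
  classical
  let f : Fin k → X.Modules := fun _ => G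
  have hid : ∑ j : Fin k, (Sigma.desc (fun j' : Fin k => if j' = j then 𝟙 G else 0) : ∐ f ⟶ G) ≫
      Sigma.ι f j = 𝟙 (∐ f) := by
    apply Sigma.hom_ext
    intro j'
    rw [Preadditive.comp_sum, Category.comp_id]
    rw [Finset.sum_eq_single j']
    · rw [← Category.assoc, Sigma.ι_desc, if_pos rfl, Category.id_comp]
    · intro j _ hj
      rw [← Category.assoc, Sigma.ι_desc, if_neg (Ne.symm hj), zero_comp]
    · intro h
      exact absurd (Finset.mem_univ j') h
  have htop : (⨆ j : Fin k, LinearMap.range (Canon.HHlin A (Sigma.ι f j) i)) = ⊤ := by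
    rw [eq_top_iff]
    intro y _
    have h1 := congrArg (fun φ => Canon.HHlin A φ i y) hid
    simp only [HHlin_sum, HHlin_comp, HHlin_id, LinearMap.sum_apply, LinearMap.comp_apply,
      LinearMap.id_apply] at h1
    rw [← h1]
    exact Submodule.sum_mem _ fun j _ => Submodule.mem_iSup_of_mem j ⟨_, rfl⟩
  have hfg : (⊤ : Submodule A (Coh.HH X (∐ f) i)).FG := by
    rw [← htop]
    refine Submodule.fg_iSup _ fun j => ?_
    rw [LinearMap.range_eq_map]
    exact (Module.Finite.fg_top).map _
  exact ⟨hfg⟩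

end Sigma

end Groth.Agent.Lib.Helper17.HHLinLES
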