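import Groth.Agent.Lib.Helper1.HHTools
import Groth.Prelude.Def_Canon

/-!
# The long exact cohomology sequence of `Coh.HH`, linearly over the base ring (helper17)

`deltaLin A hS i : H^i(X, S.X₃) →ₗ[A] H^{i+1}(X, S.X₁)` for a short exact sequence `S` of
O_X-modules (`X` over `Spec A`), exactness at `H^i(X, S.X₃)` (`range_eq_ker`) and the consequence
`finite_X₃` for Noetherian `A`.
-/

set_option autoImplicit false
universe u
open AlgebraicGeometry CategoryTheory Limits Opposite TopologicalSpace Abelian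

namespace Groth.Agent.Lib.Helper17.HHLinLES

open Groth.Agent.Lib.Helper1

section Ab

variable {C : Type u} [Category.{u} C] {J : GrothendieckTopology C}
  [HasSheafify J AddCommGrpCat.{u}] [HasExt.{u} (Sheaf J AddCommGrpCat.{u})]
  {T : ShortComplex (Sheaf J AddCommGrpCat.{u})} (hT : T.ShortExact)

/-- the connecting map on sheaf cohomology. -/
noncomputable def deltaAb (i : ℕ) : Sheaf.H T.X₃ i →+ Sheaf.H T.X₁ (i + 1) :=
  hT.extClass.postcomp _ rfl

theorem deltaAb_apply (i : ℕ) (x : Sheaf.H T.X₃ i) :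
    deltaAb hT i x = x.comp hT.extClass rfl := rfl

theorem deltaAb_naturality (e : T ⟶ T) (i : ℕ) (x : Sheaf.H T.X₃ i) :
    deltaAb hT i (Sheaf.H.map e.τ₃ i x) = Sheaf.H.map e.τ₁ (i + 1) (deltaAb hT i x) := by
  have hnat := ShortComplex.ShortExact.extClass_naturality hT hT e
  rw [deltaAb_apply, deltaAb_apply, Sheaf.H.map_apply, Sheaf.H.map_apply]
  refine (Ext.comp_assoc _ _ _ (add_zero i) (zero_add 1) (by omega : i + 0 + 1 = i + 1)).trans ?_
  refine Eq.trans ?_ (Ext.comp_assoc _ _ _ (rfl : i + 1 = i + 1) (add_zero 1)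
    (by omega : i + 1 + 0 = i + 1)).symm
  exact congrArg (fun z => Ext.comp x z (rfl : i + 1 = i + 1)) hnat.symm

theorem deltaAb_comp_map (i : ℕ) (x : Sheaf.H T.X₂ i) :
    deltaAb hT i (Sheaf.H.map T.g i x) = 0 := by
  rw [deltaAb_apply, Sheaf.H.map_apply]
  refine (Ext.comp_assoc _ _ _ (add_zero i) (zero_add 1) (by omega : i + 0 + 1 = i + 1)).trans ?_
  rw [hT.comp_extClass, Ext.comp_zero]

theorem exists_of_deltaAb_eq_zero (i : ℕ) (x : Sheaf.H T.X₃ i) (hx : deltaAb hT i x = 0) :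
    ∃ y : Sheaf.H T.X₂ i, Sheaf.H.map T.g i y = x :=
  Ext.covariant_sequence_exact₃ _ hT x rfl hx

end Ab

section Modules

variable (A : Type u) [CommRing A] {X : Scheme.{u}} [X.Over (Spec (CommRingCat.of A))]

/-- multiplication by a global function as an endomorphism of the short complex of abelian sheaves
underlying a short complex of modules. -/
noncomputable def smulSC (S : ShortComplex X.Modules) (ρ : Coh.Γtop X) :
    S.map (toAbF X) ⟶ S.map (toAbF X) where
  τ₁ := Coh.smulAb S.X₁ ρ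
  τ₂ := Coh.smulAb S.X₂ ρ
  τ₃ := Coh.smulAb S.X₃ ρ
  comm₁₂ := (Canon.toSheaf_map_comp_smulAb S.f ρ).symm
  comm₂₃ := (Canon.toSheaf_map_comp_smulAb S.g ρ).symm

variable {S : ShortComplex X.Modules} (hS : S.ShortExact)

/-- the connecting map `H^i(X, S.X₃) → H^{i+1}(X, S.X₁)`, additively. -/
noncomputable def deltaAdd (i : ℕ) : Coh.HH X S.X₃ i →+ Coh.HH X S.X₁ (i + 1) :=
  deltaAb (shortExact_map_toAbF hS) i

theorem deltaAdd_smul (i : ℕ) (ρ : Coh.Γtop X) (x : Coh.HH X S.X₃ i) :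
    deltaAdd hS i (ρ • x) = ρ • deltaAdd hS i x :=
  deltaAb_naturality (shortExact_map_toAbF hS) (smulSC S ρ) i x

/-- the connecting map `H^i(X, S.X₃) → H^{i+1}(X, S.X₁)`, linearly. -/
noncomputable def deltaLin (i : ℕ) : Coh.HH X S.X₃ i →ₗ[A] Coh.HH X S.X₁ (i + 1) where
  toFun := deltaAdd hS i
  map_add' := map_add _
  map_smul' a x := deltaAdd_smul hS i (Coh.toGlobal (X ↘ Spec (CommRingCat.of A)) a) x

/-- `δ ∘ H^i(g) = 0`. -/
theorem deltaLin_comp_HHlin (i : ℕ) (x : Coh.HH X S.X₂ i) :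
    deltaLin A hS i (Canon.HHlin A S.g i x) = 0 :=
  deltaAb_comp_map (shortExact_map_toAbF hS) i x

/-- exactness at `H^i(X, S.X₃)`. -/
theorem exists_of_deltaLin_eq_zero (i : ℕ) (x : Coh.HH X S.X₃ i) (hx : deltaLin A hS i x = 0) :
    ∃ y : Coh.HH X S.X₂ i, Canon.HHlin A S.g i y = x :=
  exists_of_deltaAb_eq_zero (shortExact_map_toAbF hS) i x hx

theorem range_eq_ker (i : ℕ) :
    LinearMap.range (Canon.HHlin A S.g i) = LinearMap.ker (deltaLin A hS i) := by
  apply le_antisymm
  · rintro x ⟨y, rfl⟩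
    exact deltaLin_comp_HHlin A hS i y
  · intro x hx
    exact exists_of_deltaLin_eq_zero A hS i x hx

include hS in
/-- **finiteness propagates along the long exact sequence.** -/
theorem finite_X₃ [IsNoetherianRing A] (i : ℕ) (h2 : Module.Finite A (Coh.HH X S.X₂ i))
    (h1 : Module.Finite A (Coh.HH X S.X₁ (i + 1))) : Module.Finite A (Coh.HH X S.X₃ i) := by
  have h2' : IsNoetherian A (Coh.HH X S.X₂ i) := isNoetherian_of_isNoetherianRing_of_finite A _
  have h1' : IsNoetherian A (Coh.HH X S.X₁ (i + 1)) :=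
    isNoetherian_of_isNoetherianRing_of_finite A _
  have : IsNoetherian A (Coh.HH X S.X₃ i) :=
    isNoetherian_of_range_eq_ker (Canon.HHlin A S.g i) (deltaLin A hS i) (range_eq_ker A hS i)
  infer_instance

end Modules

end Groth.Agent.Lib.Helper17.HHLinLES
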