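import Groth.Agent.Lib.Helper17.ProjSpaceProper
import Groth.Prelude.Def_RelProj
import Groth.Agent.S4381

/-!
# H-quasi-projective morphisms (helper17)
-/

set_option autoImplicit false
set_option linter.unusedSectionVars false
set_option linter.style.haveILetI false
universe u
open AlgebraicGeometry CategoryTheory Limits TopologicalSpace Opposite

namespace Groth.Agent.Lib.Helper17.HQuasiProj
open Groth.Agent.Lib.Helper11 Groth.Agent.Lib.Helper11.GenLocus
  Groth.Agent.Lib.Helper17.ProjSpaceProper Groth.Agent.Lib.Helper17.VeryAmpleRel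
  Groth.Agent.Lib.Helper17.AmpleVeryAmple

/-- H-quasi-projectivity is invariant under isomorphisms of arrows. -/
theorem isHQuasiProjective_of_arrowIso {X S X' S' : Scheme.{u}} {f : X ⟶ S} {f' : X' ⟶ S'}
    (e : Arrow.mk f ≅ Arrow.mk f') (h : RelProj.IsHQuasiProjective f) :
    RelProj.IsHQuasiProjective f' := by
  obtain ⟨n, i, hi, hqc, hcomp⟩ := h
  have hw : e.hom.left ≫ f' = f ≫ e.hom.right := e.hom.w
  have hleft : IsIso e.hom.left := inferInstance
  have hright : IsIso e.hom.right := inferInstance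
  let φ : pullback (CohB1.ProjSpace.toSpec n (ULift.{u} ℤ)) (specULiftZIsTerminal.from S) ⟶
      pullback (CohB1.ProjSpace.toSpec n (ULift.{u} ℤ)) (specULiftZIsTerminal.from S') :=
    pullback.map _ _ _ _ (𝟙 _) e.hom.right (𝟙 _) (by simp) (specULiftZIsTerminal.hom_ext _ _)
  have hφ : IsIso φ := inferInstance
  have hφsnd : φ ≫ pullback.snd _ _ = pullback.snd _ _ ≫ e.hom.right := pullback.lift_snd _ _ _
  let i0 : X ⟶ pullback (CohB1.ProjSpace.toSpec n (ULift.{u} ℤ)) (specULiftZIsTerminal.from S) := i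
  have hcomp0 : i0 ≫ pullback.snd _ _ = f := hcomp
  obtain ⟨ψ, hψ1, hψ2⟩ : ∃ ψ : X' ⟶ X, IsIso ψ ∧ ψ ≫ e.hom.left = 𝟙 _ :=
    ⟨inv e.hom.left, inferInstance, IsIso.inv_hom_id _⟩
  have him0 : IsImmersion i0 := hi
  have hqc0 : QuasiCompact i0 := hqc
  have h1 : IsImmersion (i0 ≫ φ) := inferInstance
  have h2 : QuasiCompact (i0 ≫ φ) := inferInstance
  have h3 : IsImmersion ψ := inferInstance
  have h4 : QuasiCompact ψ := inferInstance
  have h5 : IsImmersion (ψ ≫ i0 ≫ φ) := inferInstance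
  have h6 : QuasiCompact (ψ ≫ i0 ≫ φ) := inferInstance
  refine ⟨n, ψ ≫ i0 ≫ φ, h5, h6, ?_⟩
  change (ψ ≫ i0 ≫ φ) ≫ pullback.snd _ _ = f'
  have hw' : ψ ≫ f ≫ e.hom.right = f' := by
    rw [← hw]
    change ψ ≫ e.hom.left ≫ f' = f'
    rw [← Category.assoc, hψ2]
    exact Category.id_comp _
  rw [Category.assoc, Category.assoc, hφsnd, ← Category.assoc i0, hcomp0]
  exact hw'


/-- H-quasi-projective morphisms are quasi-projective. -/
theorem isQuasiProjective_of_isHQuasiProjective {X S : Scheme.{u}} (f : X ⟶ S)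
    (h : RelProj.IsHQuasiProjective f) : RelProj.IsQuasiProjective f := by
  obtain ⟨n, i, hi, hqc, hcomp⟩ := h
  subst hcomp
  have hp := isProper_toBase n S
  have h1 : LocallyOfFiniteType (i ≫ CohB1.ProjSpaceOver.toBase n S) := inferInstance
  have h2 : QuasiCompact (i ≫ CohB1.ProjSpaceOver.toBase n S) := inferInstance
  exact ⟨h1, h2, (Scheme.Modules.pullback i).obj (Twist.twistOver n S 1),
    @isRelAmple_aux _ _ n i hi h2⟩

/-- quasi-projective morphisms to an affine scheme are H-quasi-projective. -/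
theorem isHQuasiProjective_of_isAffine {X S : Scheme.{u}} [IsAffine S] (f : X ⟶ S)
    (h : RelProj.IsQuasiProjective f) : RelProj.IsHQuasiProjective f := by
  obtain ⟨hlft, hqc, L, hL⟩ := h
  have hamp : CohB1.IsAmple L := (Groth.Agent.S4381.result f L).mp hL
  obtain ⟨n₁, h1⟩ := eventually_isRelVeryAmplePn f L (Coh.structureModule X) hamp
    (isInvertible_structureModule X)
  obtain ⟨r, i, hi, hcomp, -⟩ := h1 n₁ le_rfl
  subst hcomp
  have hp := isProper_toBase r S
  have hqs : QuasiSeparated (CohB1.ProjSpaceOver.toBase r S) := inferInstance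
  have hqc' : QuasiCompact (i ≫ CohB1.ProjSpaceOver.toBase r S) := hqc
  exact ⟨r, i, hi, QuasiCompact.of_comp i (CohB1.ProjSpaceOver.toBase r S), rfl⟩

end Groth.Agent.Lib.Helper17.HQuasiProj
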