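import Mathlib.RingTheory.MvPolynomial.Homogeneous
import Mathlib.Algebra.Order.Antidiag.FinsuppEquiv
import Mathlib.LinearAlgebra.Dimension.Constructions
import Mathlib.LinearAlgebra.Dimension.Free
import Mathlib.Tactic

set_option autoImplicit false
universe u
open MvPolynomial

namespace Groth.Agent.Lib.Helper17.HomogRank

variable (R : Type u) [CommRing R] [Nontrivial R] (r d : ℕ)

theorem mem_antidiag_iff (μ : Fin (r + 1) →₀ ℕ) :
    μ ∈ (Finset.univ : Finset (Fin (r + 1))).finsuppAntidiag d ↔ μ.degree = d := by
  rw [Finset.mem_finsuppAntidiag, Finsupp.degree_eq_sum]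
  simp

/-- **the rank of the module of homogeneous polynomials of degree `d` in `r + 1` variables.** -/
theorem finrank_homogeneousSubmodule :
    Module.finrank R (homogeneousSubmodule (Fin (r + 1)) R d) = (d + r).choose r := by
  classical
  let s : Set (Fin (r + 1) →₀ ℕ) := {μ | μ.degree = d}
  let _ : Fintype s := Fintype.ofFinset ((Finset.univ : Finset (Fin (r + 1))).finsuppAntidiag d)
    (fun μ => mem_antidiag_iff r d μ)
  have e1 : homogeneousSubmodule (Fin (r + 1)) R d ≃ₗ[R] (s →₀ R) :=
    (LinearEquiv.ofEq _ _ (homogeneousSubmodule_eq_finsupp_supported (Fin (r + 1)) R d)).trans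
      (AddMonoidAlgebra.supportedEquivFinsupp s)
  rw [e1.finrank_eq, Module.finrank_finsupp_self, Fintype.card_ofFinset,
    Finset.card_finsuppAntidiag_nat_eq_choose, Finset.card_univ, Fintype.card_fin]
  have : r + 1 + d - 1 = d + r := by omega
  rw [this, Nat.choose_symm_add]

end Groth.Agent.Lib.Helper17.HomogRank
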