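import Groth.Agent.Lib.Helper17.EpiFree
import Groth.Agent.Lib.Helper17.TwistTriv

set_option autoImplicit false
universe u
open CategoryTheory CategoryTheory.Limits AlgebraicGeometry TopologicalSpace Opposite HomogeneousLocalization

namespace Groth.Agent.Lib.Helper17.TwistGen
open Groth.Agent.Lib.Helper17.TwistTriv Groth.Agent.Lib.Helper17.EpiFree

variable {R A : Type u} [CommRing R] [CommRing A] [Algebra R A] (𝒜 : ℕ → Submodule R A)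
  [GradedAlgebra 𝒜]

theorem one_not_mem (y : ProjectiveSpectrum 𝒜) : (1 : A) ∉ y.asHomogeneousIdeal :=
  fun h => y.isPrime.ne_top ((Ideal.eq_top_iff_one _).mpr h)

/-- The global section `b / 1` of `O(n)` for `b` homogeneous of degree `n`. -/
noncomputable def globalSec {n : ℕ} {b : A} (hb : b ∈ 𝒜 n) : (Twist.twist 𝒜 (n : ℤ)).val.sections :=
  PresheafOfModules.sectionsMk
    (fun V => (fracN 𝒜 (n : ℤ) (p := n) (q := 0) hb SetLike.GradedOne.one_mem (by simp) V.unop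
      (fun y => one_not_mem 𝒜 y.1) : Twist.sectN (𝒜 := 𝒜) (n : ℤ) (op V.unop)))
    (fun _ _ _ => rfl)

/-- The morphism `O ⟶ O(n)` given by `b / 1`. -/
noncomputable def secHom {n : ℕ} {b : A} (hb : b ∈ 𝒜 n) :
    Coh.structureModule (Proj 𝒜) ⟶ Twist.twist 𝒜 (n : ℤ) :=
  (SheafOfModules.unitHomEquiv _).symm (globalSec 𝒜 hb)

def toSectN' {n : ℤ} {V : (Proj 𝒜).Opens} (s : Γ(Twist.twist 𝒜 n, V)) :
    Twist.sectN (𝒜 := 𝒜) n (op V) := s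

theorem val_oneSec {n : ℕ} {b : A} (hb : b ∈ 𝒜 n) (V : (Proj 𝒜).Opens) (y : V) :
    (((toSectN' 𝒜 (oneSec (secHom 𝒜 hb) V)).1 y : Twist.twistAt 𝒜 (n : ℤ) y.1) : Twist.Loc 𝒜 y.1) =
      Localization.mk b ⟨1, one_not_mem 𝒜 y.1⟩ := by
  have h : (((toSectN' 𝒜 (oneSec (secHom 𝒜 hb) V)).1 y : Twist.twistAt 𝒜 (n : ℤ) y.1) :
      Twist.Loc 𝒜 y.1) = ((1 : Twist.O (𝒜 := 𝒜) (op V)).1 y).val *
        Localization.mk b ⟨1, one_not_mem 𝒜 y.1⟩ := by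
    refine Eq.trans ?_ (Twist.coe_smul_val (n : ℤ) y.1 ((1 : Twist.O (𝒜 := 𝒜) (op V)).1 y)
      ((fracN 𝒜 (n : ℤ) (p := n) (q := 0) hb SetLike.GradedOne.one_mem (by simp) V
        (fun y => one_not_mem 𝒜 y.1)).1 y))
    rfl
  rw [h]
  have : ((1 : Twist.O (𝒜 := 𝒜) (op V)).1 y) = 1 := rfl
  rw [this, HomogeneousLocalization.val_one, one_mul]

theorem pow_mem_of_mem_one {f : A} (hf : f ∈ 𝒜 1) (n : ℕ) : f ^ n ∈ 𝒜 n := by
  have := SetLike.pow_mem_graded n hf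
  rwa [smul_eq_mul, mul_one] at this

def toΓ {V : (Proj 𝒜).Opens} (r : Twist.O (𝒜 := 𝒜) (op V)) : Γ(Proj 𝒜, V) := r

theorem val_smul' {n : ℤ} {V : (Proj 𝒜).Opens} (r : Γ(Proj 𝒜, V)) (a : Γ(Twist.twist 𝒜 n, V))
    (y : V) :
    (((toSectN' 𝒜 (r • a)).1 y : Twist.twistAt 𝒜 n y.1) : Twist.Loc 𝒜 y.1) =
      (((r : Twist.O (𝒜 := 𝒜) (op V))).1 y).val *
        ((toSectN' 𝒜 a).1 y : Twist.Loc 𝒜 y.1) :=
  Twist.coe_smul_val n y.1 (((r : Twist.O (𝒜 := 𝒜) (op V))).1 y) ((toSectN' 𝒜 a).1 y)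

/-- **`O^k ⟶ O(n)` epi** when `A₊` is generated by finitely many elements of degree one. -/
theorem exists_epi_free (s : Finset A) (hs1 : ∀ f ∈ s, f ∈ 𝒜 1)
    (hs : (HomogeneousIdeal.irrelevant 𝒜).toIdeal = Ideal.span (s : Set A)) (n : ℕ) :
    ∃ (k : ℕ) (p : FlatMod.freeMod (Proj 𝒜) k ⟶ Twist.twist 𝒜 (n : ℤ)), Epi p := by
  classical
  let e : Fin s.card ≃ s := s.equivFin.symm
  let σ : Fin s.card → (Coh.structureModule (Proj 𝒜) ⟶ Twist.twist 𝒜 (n : ℤ)) := fun i =>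
    secHom 𝒜 (pow_mem_of_mem_one 𝒜 (hs1 _ (e i).2) n)
  have hcov : (⨆ f : s, Proj.basicOpen 𝒜 (f : A)) = ⊤ := by
    apply Proj.iSup_basicOpen_eq_top 𝒜 (fun f : s => (f : A))
    rw [hs, Subtype.range_coe_subtype]
    rfl
  refine ⟨s.card, Sigma.desc σ, epi_sigma_desc σ ?_⟩
  intro V a x hxV
  have hx : x ∈ (⨆ f : s, Proj.basicOpen 𝒜 (f : A)) := by rw [hcov]; trivial
  obtain ⟨f, hf⟩ := Opens.mem_iSup.mp hx
  refine ⟨V ⊓ Proj.basicOpen 𝒜 (f : A), inf_le_left, ⟨hxV, hf⟩, ?_⟩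
  set W : (Proj 𝒜).Opens := V ⊓ Proj.basicOpen 𝒜 (f : A) with hW
  have hfW : ∀ y : W, (f : A) ^ n ∉ y.1.asHomogeneousIdeal := by
    intro y hmem
    have hy : (f : A) ∉ (y.1 : ProjectiveSpectrum 𝒜).asHomogeneousIdeal :=
      (Proj.mem_basicOpen 𝒜 (f : A) y.1).mp y.2.2
    exact hy ((y.1 : ProjectiveSpectrum 𝒜).isPrime.mem_of_pow_mem n hmem)
  obtain ⟨r, hr⟩ := exists_eq_val_mul 𝒜 (n : ℤ) (p := n) (q := 0)
    (pow_mem_of_mem_one 𝒜 (hs1 _ f.2) n) SetLike.GradedOne.one_mem (by simp) W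
    (fun y => one_not_mem 𝒜 y.1) hfW
    (toSectN' 𝒜 ((Twist.twist 𝒜 (n : ℤ)).presheaf.map (homOfLE (inf_le_left : W ≤ V)).op a))
  have hfi : ((e (e.symm f) : s) : A) = (f : A) := by rw [e.apply_symm_apply]
  have heq : (Twist.twist 𝒜 (n : ℤ)).presheaf.map (homOfLE (inf_le_left : W ≤ V)).op a =
      toΓ 𝒜 r • oneSec (σ (e.symm f)) W := by
    apply Subtype.ext
    funext y
    apply Subtype.ext
    refine (hr y).trans ?_
    refine Eq.trans ?_ (val_smul' 𝒜 (toΓ 𝒜 r) (oneSec (σ (e.symm f)) W) y).symm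
    have h1 := val_oneSec 𝒜 (pow_mem_of_mem_one 𝒜 (hs1 _ (e (e.symm f)).2) n) W y
    refine Eq.trans ?_ (congrArg (_ * ·) h1.symm)
    congr 2
    rw [hfi]
  rw [heq]
  exact Submodule.smul_mem _ _ (Submodule.subset_span ⟨e.symm f, rfl⟩)

end Groth.Agent.Lib.Helper17.TwistGen
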