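import Groth.Prelude.Def_GrMod2

/-!
# `O(n) ≅ A(n)~` (helper17)

The twisting sheaf `Twist.twist 𝒜 n` is isomorphic to `GrTilde.tilde 𝒜 𝒜 n` (same dependent
functions, the two ambient localizations being definitionally equal).
-/

set_option autoImplicit false
universe u
open CategoryTheory AlgebraicGeometry TopologicalSpace Opposite

namespace Groth.Agent.Lib.Helper17.TwistIso

variable {R A : Type u} [CommRing R] [CommRing A] [Algebra R A] (𝒜 : ℕ → Submodule R A)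
  [GradedAlgebra 𝒜] (n : ℤ)

theorem mem_tildeAt_of_mem_twistAt (x : ProjectiveSpectrum 𝒜) (q : Twist.Loc 𝒜 x)
    (hq : q ∈ Twist.twistAt 𝒜 n x) :
    (q : GrTilde.LocMod 𝒜 (M := A) x) ∈ GrTilde.tildeAt 𝒜 𝒜 n x := by
  induction hq using Submodule.span_induction with
  | mem q hq =>
    obtain ⟨i, j, a, s, hs, hd, rfl⟩ := hq
    exact Submodule.subset_span ⟨i, j, a, s, hs, hd, rfl⟩
  | zero => exact Submodule.zero_mem _
  | add q q' _ _ h h' => exact Submodule.add_mem _ h h'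
  | smul c q _ h => exact Submodule.smul_mem _ c h

theorem mem_twistAt_of_mem_tildeAt (x : ProjectiveSpectrum 𝒜) (q : GrTilde.LocMod 𝒜 (M := A) x)
    (hq : q ∈ GrTilde.tildeAt 𝒜 𝒜 n x) :
    (q : Twist.Loc 𝒜 x) ∈ Twist.twistAt 𝒜 n x := by
  induction hq using Submodule.span_induction with
  | mem q hq =>
    obtain ⟨i, j, a, s, hs, hd, rfl⟩ := hq
    exact Submodule.subset_span ⟨i, j, a, s, hs, hd, rfl⟩
  | zero => exact Submodule.zero_mem _
  | add q q' _ _ h h' => exact Submodule.add_mem _ h h'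
  | smul c q _ h => exact Submodule.smul_mem _ c h

/-- Sections of `O(n)` as sections of `A(n)~`. -/
def toTilde (U : (Opens (ProjectiveSpectrum.top 𝒜))ᵒᵖ) (s : Twist.sectN (𝒜 := 𝒜) n U) :
    GrTilde.sect 𝒜 𝒜 n U :=
  ⟨fun x => ⟨(s.1 x).1, mem_tildeAt_of_mem_twistAt 𝒜 n x.1 _ (s.1 x).2⟩, fun x => by
    obtain ⟨V, hxV, i, i', j, a, t, nin, h, w⟩ := s.2 x
    exact ⟨V, hxV, i, i', j, a, t, nin, h, fun y => w y⟩⟩

/-- Sections of `A(n)~` as sections of `O(n)`. -/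
def ofTilde (U : (Opens (ProjectiveSpectrum.top 𝒜))ᵒᵖ) (s : GrTilde.sect 𝒜 𝒜 n U) :
    Twist.sectN (𝒜 := 𝒜) n U :=
  ⟨fun x => ⟨(s.1 x).1, mem_twistAt_of_mem_tildeAt 𝒜 n x.1 _ (s.1 x).2⟩, fun x => by
    obtain ⟨V, hxV, i, i', j, a, t, nin, h, w⟩ := s.2 x
    exact ⟨V, hxV, i, i', j, a, t, nin, h, fun y => w y⟩⟩

theorem ofTilde_toTilde (U) (s : Twist.sectN (𝒜 := 𝒜) n U) : ofTilde 𝒜 n U (toTilde 𝒜 n U s) = s :=
  rfl

theorem toTilde_ofTilde (U) (s : GrTilde.sect 𝒜 𝒜 n U) : toTilde 𝒜 n U (ofTilde 𝒜 n U s) = s :=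
  rfl

/-- The morphism of abelian presheaves `O(n) ⟶ A(n)~`. -/
def homPre : Twist.twistPre 𝒜 n ⟶ GrTilde.tildePre 𝒜 𝒜 n where
  app U := AddCommGrpCat.ofHom
    { toFun := toTilde 𝒜 n U
      map_zero' := rfl
      map_add' := fun _ _ => rfl }
  naturality _ _ _ := rfl

/-- The morphism of abelian presheaves `A(n)~ ⟶ O(n)`. -/
def invPre : GrTilde.tildePre 𝒜 𝒜 n ⟶ Twist.twistPre 𝒜 n where
  app U := AddCommGrpCat.ofHom
    { toFun := ofTilde 𝒜 n U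
      map_zero' := rfl
      map_add' := fun _ _ => rfl }
  naturality _ _ _ := rfl

/-- The morphism of presheaves of modules `O(n) ⟶ A(n)~`. -/
noncomputable def homPMod : Twist.twistPMod 𝒜 n ⟶ GrTilde.tildePMod 𝒜 𝒜 n :=
  PresheafOfModules.homMk (homPre 𝒜 n) (fun _ _ _ => rfl)

/-- The morphism of presheaves of modules `A(n)~ ⟶ O(n)`. -/
noncomputable def invPMod : GrTilde.tildePMod 𝒜 𝒜 n ⟶ Twist.twistPMod 𝒜 n :=
  PresheafOfModules.homMk (invPre 𝒜 n) (fun _ _ _ => rfl)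

/-- **`O(n) ≅ A(n)~`** as modules on `Proj 𝒜`. -/
noncomputable def twistIso : Twist.twist 𝒜 n ≅ GrTilde.tilde 𝒜 𝒜 n where
  hom := ⟨homPMod 𝒜 n⟩
  inv := ⟨invPMod 𝒜 n⟩
  hom_inv_id := by
    apply SheafOfModules.hom_ext
    ext U x
    rfl
  inv_hom_id := by
    apply SheafOfModules.hom_ext
    ext U x
    rfl

end Groth.Agent.Lib.Helper17.TwistIso
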