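import Groth.Agent.Lib.Helper17.TwistAmple

set_option autoImplicit false
universe u
open CategoryTheory CategoryTheory.Limits AlgebraicGeometry TopologicalSpace Opposite HomogeneousLocalization

namespace Groth.Agent.Lib.Helper17.TwistAmple
open Groth.Agent.Lib.Helper17.TwistTriv Groth.Agent.Lib.Helper17.EpiFree
  Groth.Agent.Lib.Helper17.TwistGen

variable {R A : Type u} [CommRing R] [CommRing A] [Algebra R A] (𝒜 : ℕ → Submodule R A)
  [GradedAlgebra 𝒜]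

/-- **`O(n)` is ample for `n ≥ 1`** when `Proj` is quasi-compact and covered by the `D₊(g)`,
`g` of degree one. -/
theorem isAmple_twist_of_cover (hcov : (⨆ g : 𝒜 1, Proj.basicOpen 𝒜 (g : A)) = ⊤)
    [CompactSpace (Proj 𝒜)] (n : ℕ) (hn : 0 < n) :
    CohB1.IsAmple (Twist.twist 𝒜 (n : ℤ)) := by
  refine ⟨TwistTensor.isInvertible_twist 𝒜 hcov n, inferInstance, fun x => ?_⟩
  have hx : x ∈ (⨆ f : 𝒜 1, Proj.basicOpen 𝒜 (f : A)) := by rw [hcov]; trivial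
  obtain ⟨f, hf⟩ := Opens.mem_iSup.mp hx
  have hfn : (f : A) ^ n ∈ 𝒜 n := by
    have := SetLike.pow_mem_graded n f.2
    simpa using this
  obtain ⟨e0⟩ := TwistTensor.nonempty_twist_zero_iso 𝒜
  obtain ⟨e1⟩ := TwistTensor.nonempty_tensor_iso 𝒜 0 (n : ℤ) hcov
  rw [zero_add] at e1
  let e : Twist.twist 𝒜 (n : ℤ) ≅ CohB1.tensorPow (Twist.twist 𝒜 (n : ℤ)) (0 + 1) :=
    e1.symm ≪≫ TwistTensor.tensorModCongr e0 (Iso.refl _)
  have hbo : Proj.basicOpen 𝒜 ((f : A) ^ n) = Proj.basicOpen 𝒜 (f : A) :=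
    Proj.basicOpen_pow 𝒜 (f : A) n hn
  refine ⟨0, secHom 𝒜 hfn ≫ e.hom, ?_, ?_⟩
  · rw [genLocus_comp_iso, genLocus_secHom 𝒜 hcov hfn, hbo]
    exact hf
  · rw [genLocus_comp_iso, genLocus_secHom 𝒜 hcov hfn]
    exact Proj.isAffineOpen_basicOpen 𝒜 ((f : A) ^ n) hfn hn

end Groth.Agent.Lib.Helper17.TwistAmple
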