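import Groth.Agent.Lib.Helper17.TildeTwist
import Groth.Agent.Lib.Helper17.TwistIso
import Groth.Agent.Lib.Helper17.TwistAmple2

/-!
# Twisting sheaves with local invertible generators (helper17)

`LocGen 𝒜 n`: every point of `Proj 𝒜` has homogeneous `u, v` not vanishing at it with
`deg u = deg v + n`.  Under this hypothesis `F ⊗ O(n) ≅ F(n)` for `F = M(k)~` and `F = O(k)`,
`O(n)` is invertible, and the non-vanishing locus of `b / 1 : O ⟶ O(n)` is `D₊(b)`.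
-/

set_option autoImplicit false
set_option linter.unusedSectionVars false
universe u
open CategoryTheory AlgebraicGeometry TopologicalSpace Opposite HomogeneousLocalization MonoidalCategory

namespace Groth.Agent.Lib.Helper17.TwistLoc
open Groth.Agent.Lib.Helper17.TwistTriv Groth.Agent.Lib.Helper17.TwistTensor
  Groth.Agent.Lib.Helper17.TildeTwist

variable {R A : Type u} [CommRing R] [CommRing A] [Algebra R A] (𝒜 : ℕ → Submodule R A)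
  [GradedAlgebra 𝒜]

/-- `O(n)` has, locally on `Proj 𝒜`, an invertible generator `u / v`. -/
def LocGen (n : ℤ) : Prop :=
  ∀ x : Proj 𝒜, ∃ (p q : ℕ) (u v : A), u ∈ 𝒜 p ∧ v ∈ 𝒜 q ∧ (p : ℤ) = q + n ∧
    u ∉ (x : ProjectiveSpectrum 𝒜).asHomogeneousIdeal ∧
    v ∉ (x : ProjectiveSpectrum 𝒜).asHomogeneousIdeal

theorem locGen_zero : LocGen 𝒜 0 := fun x =>
  ⟨0, 0, 1, 1, SetLike.GradedOne.one_mem, SetLike.GradedOne.one_mem, by simp,
    TwistGen.one_not_mem 𝒜 x, TwistGen.one_not_mem 𝒜 x⟩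

theorem locGen_neg {n : ℤ} (h : LocGen 𝒜 n) : LocGen 𝒜 (-n) := fun x => by
  obtain ⟨p, q, u, v, hu, hv, hpq, hux, hvx⟩ := h x
  exact ⟨q, p, v, u, hv, hu, by omega, hvx, hux⟩

theorem locGen_add {m n : ℤ} (hm : LocGen 𝒜 m) (hn : LocGen 𝒜 n) : LocGen 𝒜 (m + n) := fun x => by
  obtain ⟨p, q, u, v, hu, hv, hpq, hux, hvx⟩ := hm x
  obtain ⟨p', q', u', v', hu', hv', hpq', hux', hvx'⟩ := hn x
  exact ⟨p + p', q + q', u * u', v * v', SetLike.mul_mem_graded hu hu',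
    SetLike.mul_mem_graded hv hv', by push_cast; omega,
    mul_not_mem 𝒜 x hux hux', mul_not_mem 𝒜 x hvx hvx'⟩

/-- If `Proj` is covered by `D₊(f i)` with `deg (f i)` dividing `n`, then `O(n)` is locally
generated. -/
theorem locGen_of_dvd {ι : Type*} (f : ι → A) (deg : ι → ℕ) (hf : ∀ i, f i ∈ 𝒜 (deg i))
    (hcov : (⨆ i, Proj.basicOpen 𝒜 (f i)) = ⊤) (n : ℤ) (hn : ∀ i, (deg i : ℤ) ∣ n) :
    LocGen 𝒜 n := fun x => by
  have hx : x ∈ (⨆ i, Proj.basicOpen 𝒜 (f i)) := by rw [hcov]; trivial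
  obtain ⟨i, hi⟩ := Opens.mem_iSup.mp hx
  obtain ⟨c, hc⟩ := hn i
  have hfx : f i ∉ (x : ProjectiveSpectrum 𝒜).asHomogeneousIdeal :=
    (Proj.mem_basicOpen 𝒜 (f i) x).mp hi
  have hpow : ∀ k : ℕ, f i ^ k ∉ (x : ProjectiveSpectrum 𝒜).asHomogeneousIdeal := fun k hmem =>
    hfx ((x : ProjectiveSpectrum 𝒜).isPrime.mem_of_pow_mem k hmem)
  refine ⟨c.toNat • deg i, (-c).toNat • deg i, f i ^ c.toNat, f i ^ (-c).toNat,
    SetLike.pow_mem_graded _ (hf i), SetLike.pow_mem_graded _ (hf i), ?_, hpow _, hpow _⟩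
  have := Int.toNat_sub_toNat_neg c
  simp only [smul_eq_mul]
  push_cast
  rw [hc]
  have h2 : ((c.toNat : ℤ)) = ((-c).toNat : ℤ) + c := by omega
  rw [h2]
  ring

theorem locGen_of_cover_one (hcov : (⨆ f : 𝒜 1, Proj.basicOpen 𝒜 (f : A)) = ⊤) (n : ℤ) :
    LocGen 𝒜 n :=
  locGen_of_dvd 𝒜 (fun f : 𝒜 1 => (f : A)) (fun _ => 1) (fun f => f.2) hcov n
    (fun _ => by simp)

section tilde
variable {M : Type u} [AddCommGroup M] [Module R M] [Module A M] [IsScalarTower R A M]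
  (ℳ : ℕ → Submodule R M) [DirectSum.Decomposition ℳ] [SetLike.GradedSMul 𝒜 ℳ] (k n : ℤ)

theorem not_mem_of_mem_inf (W : Opens (Proj 𝒜)) (u v : A)
    (y : ↥(W ⊓ (Proj.basicOpen 𝒜 u ⊓ Proj.basicOpen 𝒜 v))) :
    u ∉ y.1.asHomogeneousIdeal ∧ v ∉ y.1.asHomogeneousIdeal :=
  ⟨(Proj.mem_basicOpen 𝒜 u y.1).mp y.2.2.1, (Proj.mem_basicOpen 𝒜 v y.1).mp y.2.2.2⟩

theorem isLocallySurjective_muM (hloc : LocGen 𝒜 n) :
    PresheafOfModules.IsLocallySurjective (Opens.grothendieckTopology (Proj 𝒜)) (muM 𝒜 ℳ k n) := by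
  refine ⟨fun {W} s => ?_⟩
  intro x hx
  obtain ⟨p, q, u, v, hu, hv, hpq, hux, hvx⟩ := hloc x
  refine ⟨W ⊓ (Proj.basicOpen 𝒜 u ⊓ Proj.basicOpen 𝒜 v), homOfLE inf_le_left, ?_,
    ⟨hx, (Proj.mem_basicOpen 𝒜 u x).mpr hux, (Proj.mem_basicOpen 𝒜 v x).mpr hvx⟩⟩
  obtain ⟨z, hz⟩ := exists_muM_app_eq 𝒜 ℳ k n hu hv hpq
    (op (W ⊓ (Proj.basicOpen 𝒜 u ⊓ Proj.basicOpen 𝒜 v)))
    (fun y => (not_mem_of_mem_inf 𝒜 W u v y).2) (fun y => (not_mem_of_mem_inf 𝒜 W u v y).1)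
    ((TP 𝒜 ℳ (k + n)).map (homOfLE (inf_le_left :
      W ⊓ (Proj.basicOpen 𝒜 u ⊓ Proj.basicOpen 𝒜 v) ≤ W)).op s)
  exact (Groth.Agent.Lib.Helper30.ModTensor.imageSieve_iff (muM 𝒜 ℳ k n) s _).mpr ⟨z, hz⟩

theorem isLocallyInjective_muM (hloc : LocGen 𝒜 n) :
    PresheafOfModules.IsLocallyInjective (Opens.grothendieckTopology (Proj 𝒜)) (muM 𝒜 ℳ k n) := by
  refine ⟨fun {X} a b hab => ?_⟩
  intro x hx
  obtain ⟨p, q, u, v, hu, hv, hpq, hux, hvx⟩ := hloc x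
  refine ⟨X.unop ⊓ (Proj.basicOpen 𝒜 u ⊓ Proj.basicOpen 𝒜 v), homOfLE inf_le_left, ?_,
    ⟨hx, (Proj.mem_basicOpen 𝒜 u x).mpr hux, (Proj.mem_basicOpen 𝒜 v x).mpr hvx⟩⟩
  set g : X.unop ⊓ (Proj.basicOpen 𝒜 u ⊓ Proj.basicOpen 𝒜 v) ⟶ X.unop :=
    homOfLE inf_le_left with hg
  refine (Groth.Agent.Lib.Helper30.ModTensor.equalizerSieve_iff (M₁ := TP 𝒜 ℳ k ⊗ OP 𝒜 n)
    a b g).mpr ?_
  have hab' : ((muM 𝒜 ℳ k n).app X).hom a = ((muM 𝒜 ℳ k n).app X).hom b := hab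
  have h0 : ((muM 𝒜 ℳ k n).app (op (X.unop ⊓ (Proj.basicOpen 𝒜 u ⊓ Proj.basicOpen 𝒜 v)))).hom
      ((TP 𝒜 ℳ k ⊗ OP 𝒜 n).map g.op a - (TP 𝒜 ℳ k ⊗ OP 𝒜 n).map g.op b) = 0 := by
    have e1 := PresheafOfModules.naturality_apply (muM 𝒜 ℳ k n) g.op a
    have e2 := PresheafOfModules.naturality_apply (muM 𝒜 ℳ k n) g.op b
    refine (((muM 𝒜 ℳ k n).app
      (op (X.unop ⊓ (Proj.basicOpen 𝒜 u ⊓ Proj.basicOpen 𝒜 v)))).hom.map_sub _ _).trans ?_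
    exact sub_eq_zero.mpr (e1.trans ((congrArg _ hab').trans e2.symm))
  have h1 := muM_app_eq_zero 𝒜 ℳ k n hu hv hpq
    (op (X.unop ⊓ (Proj.basicOpen 𝒜 u ⊓ Proj.basicOpen 𝒜 v)))
    (fun y => (not_mem_of_mem_inf 𝒜 X.unop u v y).2)
    (fun y => (not_mem_of_mem_inf 𝒜 X.unop u v y).1) _ h0
  exact sub_eq_zero.mp h1

/-- **`M(k)~ ⊗ O(n) ≅ M(k + n)~`** when `O(n)` is locally generated. -/
theorem nonempty_tensor_iso_tilde (hloc : LocGen 𝒜 n) :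
    Nonempty (CohB1.tensorMod (GrTilde.tilde 𝒜 ℳ k) (Twist.twist 𝒜 n) ≅
      GrTilde.tilde 𝒜 ℳ (k + n)) := by
  have h1 := isLocallyInjective_muM 𝒜 ℳ k n hloc
  have h2 := isLocallySurjective_muM 𝒜 ℳ k n hloc
  have hiso : IsIso ((Groth.Agent.Lib.Helper30.ModTensor.shf (Proj 𝒜).sheaf).map
      (muM 𝒜 ℳ k n)) :=
    (Groth.Agent.Lib.Helper30.ModTensor.isIso_shf_map_iff _).mpr ⟨h1, h2⟩
  exact ⟨@asIso _ _ _ _ _ hiso ≪≫ shfValIso (GrTilde.tilde 𝒜 ℳ (k + n))⟩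

end tilde

/-- the sectionwise tensor product is symmetric. -/
noncomputable def preComm {X : Scheme.{u}} (M N : X.Modules) :
    CohB1.tensorPre M N ≅ CohB1.tensorPre N M :=
  β_ (CohB1.toPMod M) (CohB1.toPMod N)

/-- `tensorMod` is symmetric. -/
noncomputable def tensorModComm {X : Scheme.{u}} (M N : X.Modules) :
    CohB1.tensorMod M N ≅ CohB1.tensorMod N M :=
  (CohB1.sheafifyMod X).mapIso
    (show (show X.PresheafOfModules from CohB1.tensorPre M N) ≅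
        (show X.PresheafOfModules from CohB1.tensorPre N M) from preComm M N)

/-- **`O(k) ⊗ O(n) ≅ O(k + n)`** when `O(n)` is locally generated. -/
theorem nonempty_tensor_iso_right (k n : ℤ) (hloc : LocGen 𝒜 n) :
    Nonempty (CohB1.tensorMod (Twist.twist 𝒜 k) (Twist.twist 𝒜 n) ≅ Twist.twist 𝒜 (k + n)) := by
  obtain ⟨e⟩ := nonempty_tensor_iso_tilde 𝒜 𝒜 k n hloc
  exact ⟨tensorModCongr (TwistIso.twistIso 𝒜 k) (Iso.refl _) ≪≫ e ≪≫
    (TwistIso.twistIso 𝒜 (k + n)).symm⟩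

/-- **`O(k) ⊗ O(n) ≅ O(k + n)`** when `O(k)` is locally generated. -/
theorem nonempty_tensor_iso_left (k n : ℤ) (hloc : LocGen 𝒜 k) :
    Nonempty (CohB1.tensorMod (Twist.twist 𝒜 k) (Twist.twist 𝒜 n) ≅ Twist.twist 𝒜 (k + n)) := by
  obtain ⟨e⟩ := nonempty_tensor_iso_right 𝒜 n k hloc
  rw [add_comm]
  exact ⟨tensorModComm _ _ ≪≫ e⟩

/-- If `A` is generated as an `R`-algebra by homogeneous `f i`, the `D₊(f i)` cover `Proj`. -/
theorem iSup_basicOpen_eq_top_of_adjoin {ι : Type*} (f : ι → A) (hfn : ∀ i, ∃ n, f i ∈ 𝒜 n)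
    (hgen : Algebra.adjoin R (Set.range f) = ⊤) : ⨆ i, Proj.basicOpen 𝒜 (f i) = ⊤ := by
  apply Proj.iSup_basicOpen_eq_top' 𝒜 f hfn
  rw [eq_top_iff]
  intro x hxt
  clear hxt
  have hx : x ∈ Algebra.adjoin R (Set.range f) := by rw [hgen]; trivial
  induction hx using Algebra.adjoin_induction with
  | mem x hx => exact Algebra.subset_adjoin hx
  | algebraMap r =>
    have h : algebraMap R A r = algebraMap (𝒜 0) A ⟨algebraMap R A r,
        SetLike.algebraMap_mem_graded 𝒜 r⟩ := rfl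
    rw [h]
    exact Subalgebra.algebraMap_mem _ _
  | add x y _ _ hx hy => exact add_mem hx hy
  | mul x y _ _ hx hy => exact mul_mem hx hy

/-- For `A` generated by homogeneous `f i` of degrees `deg i`, `O(n)` is locally generated for `n`
a multiple of all the `deg i`. -/
theorem locGen_of_adjoin {ι : Type*} (f : ι → A) (deg : ι → ℕ) (hf : ∀ i, f i ∈ 𝒜 (deg i))
    (hgen : Algebra.adjoin R (Set.range f) = ⊤) (n : ℤ) (hn : ∀ i, (deg i : ℤ) ∣ n) :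
    LocGen 𝒜 n :=
  locGen_of_dvd 𝒜 f deg hf
    (iSup_basicOpen_eq_top_of_adjoin 𝒜 f (fun i => ⟨deg i, hf i⟩) hgen) n hn

end Groth.Agent.Lib.Helper17.TwistLoc
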