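import Groth.Agent.Lib.Helper17.PolyAux
import Groth.Agent.Lib.Helper17.GrSect
import Groth.Agent.Lib.Helper17.TwistIso
import Groth.Agent.Lib.Helper17.TwistLoc
import Groth.Agent.Lib.Helper17.TwistGen
import Groth.Agent.S3587

/-!
# Global sections of `O(d)` on projective space (helper17)
-/

set_option autoImplicit false
set_option linter.unusedSectionVars false
universe u
open CategoryTheory AlgebraicGeometry TopologicalSpace Opposite MvPolynomial

namespace Groth.Agent.Lib.Helper17.PnSections
open Groth.Agent.Lib.Helper17.PolyAux Groth.Agent.Lib.Helper17.GrSect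

variable (n : ℕ) (R : Type u) [CommRing R]

/-- the coordinate `T i`. -/
noncomputable abbrev T (i : Fin (n + 1)) : MvPolynomial (Fin (n + 1)) R := X i

theorem T_mem (i : Fin (n + 1)) : T n R i ∈ CohB1.polyGrading n R 1 := isHomogeneous_X R i

theorem T_pow_eq (i : Fin (n + 1)) (k : ℕ) :
    T n R i ^ k = monomial (Finsupp.single i k) (1 : R) := X_pow_eq_monomial

theorem T_pow_mem (i : Fin (n + 1)) (k : ℕ) : T n R i ^ k ∈ CohB1.polyGrading n R k := by
  rw [T_pow_eq]
  exact isHomogeneous_monomial _ (Finsupp.degree_single i k)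

theorem exists_T_not_mem (y : ProjectiveSpectrum (CohB1.polyGrading n R)) :
    ∃ i, T n R i ∉ y.asHomogeneousIdeal := by
  have hcov := TwistLoc.iSup_basicOpen_eq_top_of_adjoin (CohB1.polyGrading n R)
    (fun i : Fin (n + 1) => T n R i) (fun i => ⟨1, T_mem n R i⟩) adjoin_range_X
  have hy : (y : Proj (CohB1.polyGrading n R)) ∈
      (⨆ i, Proj.basicOpen (CohB1.polyGrading n R) (T n R i)) := by rw [hcov]; trivial
  obtain ⟨i, hi⟩ := Opens.mem_iSup.mp hy
  exact ⟨i, (Proj.mem_basicOpen _ _ _).mp hi⟩

/-- an element of the polynomial ring vanishing in all local rings of `D₊(f)` (where `f` is a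
product of coordinates) is zero. -/
theorem eq_zero_of_forall_mk_eq_zero {e : ℕ} (w : MvPolynomial (Fin (n + 1)) R)
    (hw : w ∈ CohB1.polyGrading n R e) (S : Finset (Fin (n + 1))) (hS : S.Nonempty)
    (h : ∀ y : ProjectiveSpectrum (CohB1.polyGrading n R),
      (∀ i ∈ S, T n R i ∉ y.asHomogeneousIdeal) →
      ∃ u : MvPolynomial (Fin (n + 1)) R, u ∉ y.asHomogeneousIdeal ∧ u * w = 0) : w = 0 := by
  classical
  have hf : (∏ i ∈ S, T n R i) ∈ CohB1.polyGrading n R S.card := by
    have := SetLike.prod_mem_graded (A := CohB1.polyGrading n R) (i := fun _ => (1 : ℕ))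
      (g := fun i => T n R i) (F := S) (fun i _ => T_mem n R i)
    simpa using this
  have hcard : 0 < S.card := Finset.card_pos.mpr hS
  obtain ⟨N, hN⟩ := Groth.Agent.S3587.result (CohB1.polyGrading n R) (CohB1.polyGrading n R)
    hcard hf 0 e ⟨w, hw⟩ (by
      rintro ⟨y, hy⟩
      have hy' : (∏ i ∈ S, T n R i) ∉ y.asHomogeneousIdeal :=
        (ProjectiveSpectrum.mem_basicOpen _ _ y).mp hy
      obtain ⟨u, hu, huw⟩ := h y (fun i hi hmem => hy'
        (by
          rw [← Finset.mul_prod_erase S _ hi]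
          exact Ideal.mul_mem_right _ _ hmem))
      rw [← LocalizedModule.zero_mk (1 : y.asHomogeneousIdeal.toIdeal.primeCompl),
        LocalizedModule.mk_eq]
      refine ⟨⟨u, hu⟩, ?_⟩
      simp only [Submonoid.smul_def, smul_zero, one_smul, smul_eq_mul]
      rw [huw])
  -- cancel the monomial
  have h1 : (∏ i ∈ S, T n R i) ^ N = monomial (∑ i ∈ S, Finsupp.single i N) (1 : R) := by
    rw [← Finset.prod_pow, monomial_sum_one]
    exact Finset.prod_congr rfl fun i _ => T_pow_eq n R i N
  change (∏ i ∈ S, T n R i) ^ N • w = 0 at hN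
  rw [smul_eq_mul, h1] at hN
  exact monomial_mul_cancel _ hN

theorem globalOf_val {d : ℕ} (a : CohB1.polyGrading n R d)
    (y : ProjectiveSpectrum (CohB1.polyGrading n R)) :
    (((Twist.globalOf (CohB1.polyGrading n R) a).1 ⟨y, trivial⟩ :
      Twist.twistAt (CohB1.polyGrading n R) (d : ℤ) y) : Twist.Loc (CohB1.polyGrading n R) y) =
      Localization.mk (a : MvPolynomial (Fin (n + 1)) R)
        ⟨1, TwistGen.one_not_mem (CohB1.polyGrading n R) y⟩ := rfl

theorem globalOf_injective (d : ℕ) :
    Function.Injective (fun a : CohB1.polyGrading n R d =>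
      Twist.globalOf (CohB1.polyGrading n R) a) := by
  intro a a' h
  apply Subtype.ext
  have hw : (a : MvPolynomial (Fin (n + 1)) R) - a' ∈ CohB1.polyGrading n R d :=
    sub_mem a.2 a'.2
  refine sub_eq_zero.mp (eq_zero_of_forall_mk_eq_zero n R _ hw {0} (Finset.singleton_nonempty 0)
    fun y _ => ?_)
  have h1 := congrArg (fun s : Twist.sectN (𝒜 := CohB1.polyGrading n R) (d : ℤ) (op ⊤) =>
    (((s.1 ⟨y, trivial⟩ : Twist.twistAt (CohB1.polyGrading n R) (d : ℤ) y)) :
      Twist.Loc (CohB1.polyGrading n R) y)) h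
  simp only [globalOf_val] at h1
  rw [Localization.mk_eq_mk_iff, Localization.r_iff_exists] at h1
  obtain ⟨c, hc⟩ := h1
  refine ⟨c.1, c.2, ?_⟩
  simp only [one_mul] at hc
  rw [mul_sub, hc, sub_self]

set_option maxHeartbeats 1000000 in
theorem globalOf_surjective (d : ℕ) :
    Function.Surjective (fun a : CohB1.polyGrading n R d =>
      Twist.globalOf (CohB1.polyGrading n R) a) := by
  classical
  intro s
  let s' : GrTilde.sect (CohB1.polyGrading n R) (CohB1.polyGrading n R) (d : ℤ) (op ⊤) :=
    TwistIso.toTilde (CohB1.polyGrading n R) (d : ℤ) (op ⊤) s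
  -- local fractions
  have hloc : ∀ i : Fin (n + 1), ∃ (k p : ℕ) (m : MvPolynomial (Fin (n + 1)) R),
      m ∈ CohB1.polyGrading n R p ∧ p = k + d ∧
      ∀ (y : ProjectiveSpectrum (CohB1.polyGrading n R))
        (hy : T n R i ∉ y.asHomogeneousIdeal),
        ((s'.1 ⟨y, trivial⟩ : GrTilde.tildeAt (CohB1.polyGrading n R) (CohB1.polyGrading n R)
          (d : ℤ) y) : GrTilde.LocMod (CohB1.polyGrading n R)
            (M := MvPolynomial (Fin (n + 1)) R) y) =
          frac (CohB1.polyGrading n R) y m (T n R i ^ k)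
            (fun hmem => hy (y.isPrime.mem_of_pow_mem k hmem)) := by
    intro i
    obtain ⟨k, p, m, hm, hp, hval⟩ := exists_frac (CohB1.polyGrading n R)
      (CohB1.polyGrading n R) (d : ℤ) one_pos (T_mem n R i)
      (GrTilde.res (CohB1.polyGrading n R) (CohB1.polyGrading n R) (d : ℤ)
        (homOfLE (le_top : ProjectiveSpectrum.basicOpen (CohB1.polyGrading n R) (T n R i) ≤ ⊤)).op
        s')
    exact ⟨k, p, m, hm, by omega, fun y hy => hval y hy⟩
  choose k p m hm hp hval using hloc
  -- compatibility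
  have hrel : ∀ i j, T n R j ^ k j * m i = T n R i ^ k i * m j := by
    intro i j
    have hidx : k i + p j = k j + p i := by rw [hp i, hp j]; omega
    have hw : T n R j ^ k j * m i - T n R i ^ k i * m j ∈ CohB1.polyGrading n R (k j + p i) := by
      refine sub_mem (SetLike.mul_mem_graded (T_pow_mem n R j _) (hm i)) ?_
      rw [← hidx]
      exact SetLike.mul_mem_graded (T_pow_mem n R i _) (hm j)
    refine sub_eq_zero.mp (eq_zero_of_forall_mk_eq_zero n R _ hw {i, j} (by simp) fun y hy => ?_)
    have hyi := hy i (by simp)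
    have hyj := hy j (by simp)
    have e := (hval i y hyi).symm.trans (hval j y hyj)
    unfold frac at e
    rw [LocalizedModule.mk_eq] at e
    obtain ⟨u, hu⟩ := e
    refine ⟨u.1, u.2, ?_⟩
    simp only [Submonoid.smul_def, smul_eq_mul] at hu
    rw [mul_sub]
    exact sub_eq_zero.mpr hu
  -- divisibility of `m 0` by `T 0 ^ k 0`
  have hdiv : m 0 = monomial (Finsupp.single 0 (k 0)) (1 : R) *
      (m 0).divMonomial (Finsupp.single 0 (k 0)) := by
    rcases Nat.eq_zero_or_pos n with hn | hn
    · have hsub : ∀ i : Fin (n + 1), i = 0 := fun i => Fin.ext (by have := i.2; simp; omega)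
      have h1 := divMonomial_add_modMonomial (m 0) (Finsupp.single 0 (k 0))
      have h2 : (m 0).modMonomial (Finsupp.single 0 (k 0)) = 0 := by
        rw [MvPolynomial.eq_zero_iff]
        intro μ
        by_cases hs : Finsupp.single 0 (k 0) ≤ μ
        · exact coeff_modMonomial_of_le _ hs
        · rw [coeff_modMonomial_of_not_le _ hs]
          by_contra hne
          have hdeg : Finsupp.weight 1 μ = p 0 := (hm 0) hne
          apply hs
          rw [Finsupp.single_le_iff]
          have h3 : μ.degree = μ 0 := by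
            rw [Finsupp.degree_eq_sum]
            exact Fintype.sum_eq_single 0 (fun i hi => absurd (hsub i) hi)
          have h4 : μ.degree = p 0 := by rw [Finsupp.degree_eq_weight_one]; exact hdeg
          rw [h3, hp 0] at h4
          omega
      rw [h2, add_zero] at h1
      exact h1.symm
    · have h01 : (1 : Fin (n + 1)) ≠ 0 := by
        intro h
        have := Fin.one_eq_zero_iff.mp h
        omega
      refine eq_monomial_mul_divMonomial h01 (k 0) (k 1) (q := m 1) ?_
      rw [← T_pow_eq, ← T_pow_eq]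
      exact hrel 0 1
  have hc : (m 0).divMonomial (Finsupp.single 0 (k 0)) ∈ CohB1.polyGrading n R d := by
    apply isHomogeneous_of_monomial_mul (Finsupp.single 0 (k 0))
    rw [← hdiv, Finsupp.degree_single, ← hp 0]
    exact hm 0
  have hmi : ∀ i, m i = T n R i ^ k i * (m 0).divMonomial (Finsupp.single 0 (k 0)) := by
    intro i
    have h1 := hrel 0 i
    apply monomial_mul_left_cancel (Finsupp.single 0 (k 0))
    rw [← T_pow_eq, ← h1]
    conv_lhs => rw [hdiv, ← T_pow_eq]
    ring
  refine ⟨⟨(m 0).divMonomial (Finsupp.single 0 (k 0)), hc⟩, ?_⟩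
  apply Subtype.ext
  funext y
  apply Subtype.ext
  obtain ⟨i, hi⟩ := exists_T_not_mem n R y.1
  refine (globalOf_val n R ⟨_, hc⟩ y.1).trans ?_
  refine Eq.trans ?_ (hval i y.1 hi).symm
  unfold frac
  change LocalizedModule.mk _ _ = _
  rw [LocalizedModule.mk_eq]
  refine ⟨1, ?_⟩
  simp only [Submonoid.smul_def, smul_eq_mul, OneMemClass.coe_one, one_mul]
  exact (hmi i).symm ▸ rfl

end Groth.Agent.Lib.Helper17.PnSections
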