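import Groth.Agent.Lib.Helper17.TwistGen
import Groth.Agent.Lib.Helper17.TwistTensor

set_option autoImplicit false
universe u
open CategoryTheory CategoryTheory.Limits AlgebraicGeometry TopologicalSpace Opposite HomogeneousLocalization

namespace Groth.Agent.Lib.Helper17.TwistAmple
open Groth.Agent.Lib.Helper17.TwistTriv Groth.Agent.Lib.Helper17.EpiFree
  Groth.Agent.Lib.Helper17.TwistGen

variable {R A : Type u} [CommRing R] [CommRing A] [Algebra R A] (𝒜 : ℕ → Submodule R A)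
  [GradedAlgebra 𝒜]

theorem val_secHom_app {n : ℕ} {b : A} (hb : b ∈ 𝒜 n) (V : (Proj 𝒜).Opens) (x : Γ(Proj 𝒜, V))
    (y : V) :
    (((toSectN' 𝒜 (((secHom 𝒜 hb).app V).hom x)).1 y : Twist.twistAt 𝒜 (n : ℤ) y.1) :
      Twist.Loc 𝒜 y.1) =
      (((x : Twist.O (𝒜 := 𝒜) (op V))).1 y).val * Localization.mk b ⟨1, one_not_mem 𝒜 y.1⟩ := by
  refine Eq.trans ?_ (Twist.coe_smul_val (n : ℤ) y.1 (((x : Twist.O (𝒜 := 𝒜) (op V))).1 y)
    ((fracN 𝒜 (n : ℤ) (p := n) (q := 0) hb SetLike.GradedOne.one_mem (by simp) V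
      (fun y => one_not_mem 𝒜 y.1)).1 y))
  rfl

/-- `b / 1 : O ⟶ O(n)` is bijective on sections over opens where `b` vanishes nowhere. -/
theorem secHom_app_bijective {n : ℕ} {b : A} (hb : b ∈ 𝒜 n) (V : (Proj 𝒜).Opens)
    (hV : ∀ y : V, b ∉ y.1.asHomogeneousIdeal) :
    Function.Bijective ((secHom 𝒜 hb).app V).hom := by
  constructor
  · refine (injective_iff_map_eq_zero ((secHom 𝒜 hb).app V).hom).mpr ?_
    have key : ∀ x : Γ(Proj 𝒜, V), ((secHom 𝒜 hb).app V).hom x = 0 → x = 0 := by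
      intro x hx
      apply Subtype.ext
      funext y
      refine eq_zero_of_val_mul_eq_zero 𝒜 y.1 (one_not_mem 𝒜 y.1) (hV y) _ ?_
      rw [← val_secHom_app 𝒜 hb V x y, hx]
      rfl
    exact fun x hx => key x hx
  · have key : ∀ s : Γ(Twist.twist 𝒜 (n : ℤ), V), ∃ x : Γ(Proj 𝒜, V),
        ((secHom 𝒜 hb).app V).hom x = s := by
      intro s
      obtain ⟨r, hr⟩ := exists_eq_val_mul 𝒜 (n : ℤ) (p := n) (q := 0) hb SetLike.GradedOne.one_mem
        (by simp) V (fun y => one_not_mem 𝒜 y.1) hV (toSectN' 𝒜 s)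
      refine ⟨toΓ 𝒜 r, ?_⟩
      apply Subtype.ext
      funext y
      apply Subtype.ext
      exact (val_secHom_app 𝒜 hb V (toΓ 𝒜 r) y).trans (hr y).symm
    exact fun s => key s

theorem isIso_restrict_of_bijective {X : Scheme.{u}} {M N : X.Modules} (φ : M ⟶ N) (U : X.Opens)
    (h : ∀ W : X.Opens, W ≤ U → Function.Bijective (φ.app W).hom) :
    IsIso ((Scheme.Modules.restrictFunctor U.ι).map φ) := by
  rw [Scheme.Modules.Hom.isIso_iff_isIso_app]
  intro V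
  have hle : U.ι ''ᵁ V ≤ U := by
    rintro _ ⟨z, -, rfl⟩
    exact z.2
  have h' : IsIso (φ.app (U.ι ''ᵁ V)) :=
    (ConcreteCategory.isIso_iff_bijective _).mpr (h _ hle)
  exact h'

theorem bijective_of_isIso_restrict {X : Scheme.{u}} {M N : X.Modules} (φ : M ⟶ N) (U : X.Opens)
    (h : IsIso ((Scheme.Modules.restrictFunctor U.ι).map φ)) (V : (↑U : Scheme).Opens) :
    Function.Bijective (φ.app (U.ι ''ᵁ V)).hom := by
  have h1 := Scheme.Modules.Hom.isIso_iff_isIso_app.mp h V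
  have h2 : IsIso (φ.app (U.ι ''ᵁ V)) := h1
  exact (ConcreteCategory.isIso_iff_bijective _).mp h2

/-- `b / 1 : O ⟶ O(n)` restricts to an isomorphism over opens where `b` vanishes nowhere. -/
theorem isIso_restrict_secHom {n : ℕ} {b : A} (hb : b ∈ 𝒜 n) (U : (Proj 𝒜).Opens)
    (hU : ∀ y : U, b ∉ y.1.asHomogeneousIdeal) :
    IsIso ((Scheme.Modules.restrictFunctor U.ι).map (secHom 𝒜 hb)) :=
  isIso_restrict_of_bijective _ U fun W hW =>
    secHom_app_bijective 𝒜 hb W (fun y => hU ⟨y.1, hW y.2⟩)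

section cover
variable (hcov : (⨆ f : 𝒜 1, Proj.basicOpen 𝒜 (f : A)) = ⊤)

include hcov in
/-- If `b / 1 : O ⟶ O(n)` is an isomorphism over `U`, then `b` vanishes nowhere on `U`. -/
theorem le_basicOpen_of_isIso_restrict {n : ℕ} {b : A} (hb : b ∈ 𝒜 n) (U : (Proj 𝒜).Opens)
    (h : IsIso ((Scheme.Modules.restrictFunctor U.ι).map (secHom 𝒜 hb))) :
    U ≤ Proj.basicOpen 𝒜 b := by
  intro y hyU
  rw [Proj.mem_basicOpen]
  intro hby
  have hy : y ∈ (⨆ f : 𝒜 1, Proj.basicOpen 𝒜 (f : A)) := by rw [hcov]; trivial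
  obtain ⟨g₁, hg₁⟩ := Opens.mem_iSup.mp hy
  have hg : (g₁ : A) ^ n ∈ 𝒜 n := pow_mem_of_mem_one 𝒜 g₁.2 n
  set V : (↑U : Scheme).Opens := U.ι ⁻¹ᵁ Proj.basicOpen 𝒜 (g₁ : A) with hV
  set W : (Proj 𝒜).Opens := U.ι ''ᵁ V with hW
  have hyW : y ∈ W := ⟨⟨y, hyU⟩, hg₁, rfl⟩
  have hbij := bijective_of_isIso_restrict (secHom 𝒜 hb) U h V
  obtain ⟨x, hx⟩ := hbij.2 (oneSec (secHom 𝒜 hg) W)
  have h1 := val_secHom_app 𝒜 hb W x ⟨y, hyW⟩
  rw [hx, val_oneSec] at h1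
  have hprime : (y : ProjectiveSpectrum 𝒜).asHomogeneousIdeal.toIdeal.IsPrime := y.isPrime
  have hgy : (g₁ : A) ^ n ∉ (y : ProjectiveSpectrum 𝒜).asHomogeneousIdeal := by
    intro hmem
    exact (Proj.mem_basicOpen 𝒜 (g₁ : A) y).mp hg₁
      ((y : ProjectiveSpectrum 𝒜).isPrime.mem_of_pow_mem n hmem)
  have hu1 : IsUnit (Localization.mk ((g₁ : A) ^ n)
      (1 : (y : ProjectiveSpectrum 𝒜).asHomogeneousIdeal.toIdeal.primeCompl)) := by
    rw [Localization.mk_one_eq_algebraMap]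
    exact (IsLocalization.AtPrime.isUnit_to_map_iff _
      (y : ProjectiveSpectrum 𝒜).asHomogeneousIdeal.toIdeal _).mpr hgy
  have hu2 : ¬ IsUnit (Localization.mk b
      (1 : (y : ProjectiveSpectrum 𝒜).asHomogeneousIdeal.toIdeal.primeCompl)) := by
    rw [Localization.mk_one_eq_algebraMap,
      IsLocalization.AtPrime.isUnit_to_map_iff _
        (y : ProjectiveSpectrum 𝒜).asHomogeneousIdeal.toIdeal]
    exact fun hnot => hnot hby
  apply hu2
  have h2 : Localization.mk ((g₁ : A) ^ n)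
      (1 : (y : ProjectiveSpectrum 𝒜).asHomogeneousIdeal.toIdeal.primeCompl) = _ * Localization.mk b
      (1 : (y : ProjectiveSpectrum 𝒜).asHomogeneousIdeal.toIdeal.primeCompl) := h1
  rw [h2] at hu1
  exact isUnit_of_mul_isUnit_right hu1

include hcov in
/-- The locus where `b / 1` generates `O(n)` is `D₊(b)`. -/
theorem genLocus_secHom {n : ℕ} {b : A} (hb : b ∈ 𝒜 n) :
    CohB1.genLocus (Twist.twist 𝒜 (n : ℤ)) (secHom 𝒜 hb) = Proj.basicOpen 𝒜 b := by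
  apply le_antisymm
  · apply sSup_le
    intro U hU
    exact le_basicOpen_of_isIso_restrict 𝒜 hcov hb U hU
  · apply le_sSup
    exact isIso_restrict_secHom 𝒜 hb _ (fun y => (Proj.mem_basicOpen 𝒜 b y.1).mp y.2)

end cover

/-- `genLocus` is unchanged by composing with an isomorphism of the target. -/
theorem genLocus_comp_iso {X : Scheme.{u}} {L L' : X.Modules} (s : Coh.structureModule X ⟶ L)
    (e : L ≅ L') : CohB1.genLocus L' (s ≫ e.hom) = CohB1.genLocus L s := by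
  unfold CohB1.genLocus
  congr 1
  ext U
  simp only [Set.mem_ofPred_eq, Functor.map_comp]
  exact isIso_comp_right_iff _ _

/-- `Proj` is quasi-compact when `A₊` is finitely generated by homogeneous elements of positive
degree. -/
theorem compactSpace_proj (s : Finset A) (hs1 : ∀ f ∈ s, f ∈ 𝒜 1)
    (hs : (HomogeneousIdeal.irrelevant 𝒜).toIdeal = Ideal.span (s : Set A)) :
    CompactSpace (Proj 𝒜) := by
  have hcov : (⨆ f : s, Proj.basicOpen 𝒜 (f : A)) = ⊤ := by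
    apply Proj.iSup_basicOpen_eq_top 𝒜 (fun f : s => (f : A))
    rw [hs, Subtype.range_coe_subtype]
    rfl
  rw [← isCompact_univ_iff]
  have h1 : (Set.univ : Set (Proj 𝒜)) = ⋃ f : s, (Proj.basicOpen 𝒜 (f : A) : Set (Proj 𝒜)) := by
    have := congrArg (fun U : (Proj 𝒜).Opens => (U : Set (Proj 𝒜))) hcov
    simp only [Opens.coe_iSup, Opens.coe_top] at this
    exact this.symm
  rw [h1]
  exact isCompact_iUnion fun f =>
    (Proj.isAffineOpen_basicOpen 𝒜 (f : A) (hs1 _ f.2) one_pos).isCompact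

/-- **`O(1)` is ample** when `A₊` is generated by finitely many elements of degree one. -/
theorem isAmple_twist_one (s : Finset A) (hs1 : ∀ f ∈ s, f ∈ 𝒜 1)
    (hs : (HomogeneousIdeal.irrelevant 𝒜).toIdeal = Ideal.span (s : Set A)) :
    CohB1.IsAmple (Twist.twist 𝒜 1) := by
  have hcovs : (⨆ f : s, Proj.basicOpen 𝒜 (f : A)) = ⊤ := by
    apply Proj.iSup_basicOpen_eq_top 𝒜 (fun f : s => (f : A))
    rw [hs, Subtype.range_coe_subtype]
    rfl
  have hcov : (⨆ f : 𝒜 1, Proj.basicOpen 𝒜 (f : A)) = ⊤ := by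
    rw [eq_top_iff, ← hcovs]
    apply iSup_le
    intro f
    exact le_iSup (fun g : 𝒜 1 => Proj.basicOpen 𝒜 (g : A)) ⟨f.1, hs1 _ f.2⟩
  refine ⟨TwistTensor.isInvertible_twist 𝒜 hcov 1, compactSpace_proj 𝒜 s hs1 hs, fun x => ?_⟩
  have hx : x ∈ (⨆ f : s, Proj.basicOpen 𝒜 (f : A)) := by rw [hcovs]; trivial
  obtain ⟨f, hf⟩ := Opens.mem_iSup.mp hx
  have hf1 : (f : A) ∈ 𝒜 1 := hs1 _ f.2
  -- the isomorphism `O(1) ≅ O ⊗ O(1)`
  obtain ⟨e0⟩ := TwistTensor.nonempty_twist_zero_iso 𝒜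
  obtain ⟨e1⟩ := TwistTensor.nonempty_tensor_iso 𝒜 0 1 hcov
  rw [zero_add] at e1
  let e : Twist.twist 𝒜 ((1 : ℕ) : ℤ) ≅ CohB1.tensorPow (Twist.twist 𝒜 1) (0 + 1) :=
    e1.symm ≪≫ TwistTensor.tensorModCongr e0 (Iso.refl _)
  refine ⟨0, secHom 𝒜 hf1 ≫ e.hom, ?_, ?_⟩
  · rw [genLocus_comp_iso, genLocus_secHom 𝒜 hcov hf1]
    exact hf
  · rw [genLocus_comp_iso, genLocus_secHom 𝒜 hcov hf1]
    exact Proj.isAffineOpen_basicOpen 𝒜 (f : A) hf1 one_pos

end Groth.Agent.Lib.Helper17.TwistAmple
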