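import Groth.Agent.Lib.Helper11.AmpleFinite
import Groth.Prelude.Def_ProjUP

/-!
# Generating sections of an invertible module: the loci `X_s` cover (helper17)
-/

set_option autoImplicit false
universe u
open AlgebraicGeometry CategoryTheory Limits TopologicalSpace Opposite

namespace Groth.Agent.Lib.Helper17.UPGen
open Groth.Agent.Lib.Helper11 Groth.Agent.Lib.Helper11.GenLocus Groth.Agent.Lib.Helper45
  Groth.Agent.Lib.Helper49

variable {X : Scheme.{u}} {L : X.Modules}

/-- the section over `⊤` of `homOfSection L t` is `t`. -/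
theorem sec_homOfSection_top (t : Γ(L, ⊤)) : sec (homOfSection L t) ⊤ = t := by
  rw [sec_homOfSection]
  exact mres_self L t

/-- a morphism `O_X ⟶ L` is determined by its global section. -/
theorem hom_ext_of_sec_top {φ ψ : Coh.structureModule X ⟶ L} (h : sec φ ⊤ = sec ψ ⊤) : φ = ψ := by
  apply Scheme.Modules.hom_ext
  intro U
  ext a
  have h1 : ∀ χ : Coh.structureModule X ⟶ L, (χ.app U).hom a = ofO U a • sec χ U := fun χ =>
    app_eq_smul_sec χ U (ofO U a)
  have h2 : sec φ U = sec ψ U := by
    rw [← sec_res φ (le_top : U ≤ ⊤), ← sec_res ψ (le_top : U ≤ ⊤), h]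
  exact (h1 φ).trans ((congrArg (fun t => ofO U a • t) h2).trans (h1 ψ).symm)

theorem homOfSection_sec_top (φ : Coh.structureModule X ⟶ L) : homOfSection L (sec φ ⊤) = φ :=
  hom_ext_of_sec_top (sec_homOfSection_top _)

/-- **The loci `X_{s i}` of a generating family of sections of an invertible module cover `X`.** -/
theorem exists_mem_genLocus_of_generatedBy (hL : PicF.IsInvertible L) {ι : Type*}
    (s : ι → ProjUP.Γm L) (hs : ProjUP.GeneratedBy L s) (x : X) :
    ∃ i, x ∈ CohB1.genLocus L (homOfSection L (s i)) := by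
  by_contra hne
  simp only [not_exists] at hne
  obtain ⟨V, hxV, e, he⟩ := exists_isBasisOn_of_isInvertible hL x
  let M : PresheafOfModules (X.presheaf ⋙ forget₂ CommRingCat RingCat) := L.val
  set g : L.presheaf.stalk x := (L.presheaf.germ V x hxV).hom e with hg
  have key : ∀ b ∈ Submodule.span (X.presheaf.stalk x)
      (Set.range fun i => (L.presheaf.germ ⊤ x trivial).hom (s i)),
      ∃ c : X.presheaf.stalk x, c ∈ nonunits (X.presheaf.stalk x) ∧ b = c • g := by
    intro b hb
    induction hb using Submodule.span_induction with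
    | mem b hb =>
      obtain ⟨i, rfl⟩ := hb
      obtain ⟨a, ha⟩ := he.exists_eq_smul (mres L (le_top : V ≤ ⊤) (s i))
      refine ⟨(X.presheaf.germ V x hxV).hom a, ?_, ?_⟩
      · intro hu
        apply hne i
        have hx : x ∈ X.basicOpen a := (X.mem_basicOpen a x hxV).mpr hu
        exact basicOpen_le_genLocus (homOfSection L (s i)) e he a
          ((sec_homOfSection L (s i) V).trans ha.symm) hx
      · have h1 : (L.presheaf.germ ⊤ x trivial).hom (s i) =
            (L.presheaf.germ V x hxV).hom (mres L (le_top : V ≤ ⊤) (s i)) :=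
          (TopCat.Presheaf.germ_res_apply L.presheaf (homOfLE (le_top : V ≤ ⊤)) x hxV (s i)).symm
        refine h1.trans ?_
        rw [← ha]
        exact PresheafOfModules.germ_smul M x V hxV a e
    | zero => exact ⟨0, by simp, (zero_smul _ _).symm⟩
    | add b₁ b₂ _ _ h₁ h₂ =>
      obtain ⟨c₁, hc₁, rfl⟩ := h₁
      obtain ⟨c₂, hc₂, rfl⟩ := h₂
      exact ⟨c₁ + c₂, IsLocalRing.nonunits_add hc₁ hc₂, (add_smul _ _ _).symm⟩
    | smul r b _ hb =>
      obtain ⟨c, hc, rfl⟩ := hb
      exact ⟨r * c, mul_mem_nonunits_right hc, (mul_smul _ _ _).symm⟩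
  obtain ⟨c, hc, hcg⟩ := key g (by rw [hs x]; trivial)
  -- hence `g = 0`
  have hu : IsUnit (1 - c) := IsLocalRing.isUnit_one_sub_self_of_mem_nonunits c hc
  have hg0 : g = 0 := by
    have h1 : (1 - c) • g = 0 := by rw [sub_smul, one_smul, ← hcg, sub_self]
    obtain ⟨d, hd⟩ := hu.exists_left_inv
    have h2 := congrArg (fun t => d • t) h1
    simp only [smul_zero, ← mul_smul, hd, one_smul] at h2
    exact h2
  -- so `e` vanishes near `x`
  have hg1 : (L.presheaf.germ V x hxV).hom e = (L.presheaf.germ V x hxV).hom 0 := by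
    rw [← hg, hg0, map_zero]
  obtain ⟨W, hxW, i₁, i₂, hW⟩ := TopCat.Presheaf.germ_eq L.presheaf x hxV hxV e 0 hg1
  have hWV : W ≤ V := i₁.le
  have hz : mres L hWV e = 0 := by
    have : mres L hWV e = (L.presheaf.map i₁.op).hom e := rfl
    rw [this]
    refine hW.trans ?_
    exact map_zero _
  have h10 : (1 : Γ(X, W)) = 0 := by
    apply (he.mono hWV).eq_of_smul_eq
    rw [hz, smul_zero, smul_zero]
  have h11 := congrArg (X.presheaf.germ W x hxW).hom h10
  rw [map_one, map_zero] at h11
  exact one_ne_zero h11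

end Groth.Agent.Lib.Helper17.UPGen
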