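import Groth.Agent.Lib.Helper17.UPPull
import Groth.Agent.Lib.Helper17.UPGen
import Groth.Agent.Lib.Helper17.TwistAmple
import Groth.Agent.Lib.Helper17.SerreFinite
import Groth.Agent.Lib.Helper17.ProjGlobal

/-!
# Sections of `O(n)` on `Proj` and morphisms into `Proj` (helper17)
-/

set_option autoImplicit false
set_option linter.unusedSectionVars false
universe u
open AlgebraicGeometry CategoryTheory Limits TopologicalSpace Opposite HomogeneousLocalization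

namespace Groth.Agent.Lib.Helper17.UPProj
open Groth.Agent.Lib.Helper11 Groth.Agent.Lib.Helper11.GenLocus Groth.Agent.Lib.Helper45
  Groth.Agent.Lib.Helper49 Groth.Agent.Lib.Helper17.OFrac Groth.Agent.Lib.Helper17.TwistGen
  Groth.Agent.Lib.Helper17.TwistAmple Groth.Agent.Lib.Helper17.UPPull
  Groth.Agent.Lib.Helper17.EpiFree

variable {R A : Type u} [CommRing R] [CommRing A] [Algebra R A] (𝒜 : ℕ → Submodule R A)
  [GradedAlgebra 𝒜]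

/-- the global section of `secHom` is `globalOf`. -/
theorem sec_secHom_top {n : ℕ} {b : A} (hb : b ∈ 𝒜 n) :
    sec (secHom 𝒜 hb) ⊤ = (Twist.globalOf 𝒜 ⟨b, hb⟩ : ProjUP.Γm (Twist.twist 𝒜 (n : ℤ))) := by
  apply Subtype.ext
  funext y
  apply Subtype.ext
  exact val_oneSec 𝒜 hb ⊤ y

/-- `b / 1 = (b / b') • (b' / 1)` over an open where `b'` vanishes nowhere. -/
theorem sec_secHom_eq_smul {n : ℕ} {b b' : A} (hb : b ∈ 𝒜 n) (hb' : b' ∈ 𝒜 n)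
    (V : (Proj 𝒜).Opens) (hV : NV 𝒜 V b') :
    sec (secHom 𝒜 hb) V = oFrac 𝒜 V n b b' • sec (secHom 𝒜 hb') V := by
  have G : Good 𝒜 V n b b' := good_of hb hb' hV
  apply Subtype.ext
  funext y
  apply Subtype.ext
  refine (val_oneSec 𝒜 hb V y).trans ?_
  refine Eq.trans ?_ (val_smul' 𝒜 (oFrac 𝒜 V n b b') (sec (secHom 𝒜 hb') V) y).symm
  have h1 := val_oneSec 𝒜 hb' V y
  have h2 := val_oFrac 𝒜 G y
  refine Eq.trans ?_ (congrArg₂ (· * ·) h2.symm h1.symm)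
  rw [Localization.mk_mul, Localization.mk_eq_mk_iff, Localization.r_iff_exists]
  exact ⟨1, by simp; ring⟩

open Groth.Agent.Lib.Helper17.ProjGlobal

theorem gHom_toSpecΓ (Z : Scheme.{u}) : gHom Z.toSpecΓ = 𝟙 _ := by
  unfold gHom
  rw [Scheme.toSpecΓ_appTop]
  exact Iso.inv_hom_id _

variable {f : A} {d : ℕ} (hf : f ∈ 𝒜 d) (hd : 0 < d)

theorem awayι_preimage_basicOpen_self :
    Proj.awayι 𝒜 f hf hd ⁻¹ᵁ Proj.basicOpen 𝒜 f = ⊤ := by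
  rw [← Proj.opensRange_awayι 𝒜 f hf hd]
  exact Scheme.Hom.preimage_opensRange _

/-- on `D₊(f)`, the open immersion `awayι` is inverse to `awayToSection`. -/
theorem awayToSection_comp_awayι_appLE :
    Proj.awayToSection 𝒜 f ≫ (Proj.awayι 𝒜 f hf hd).appLE (Proj.basicOpen 𝒜 f) ⊤
      (awayι_preimage_basicOpen_self 𝒜 hf hd).ge = (Scheme.ΓSpecIso _).inv := by
  have hιU : (Proj.basicOpenIsoSpec 𝒜 f hf hd).hom ≫ Proj.awayι 𝒜 f hf hd =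
      (Proj.basicOpen 𝒜 f).ι := by
    rw [← Proj.basicOpenIsoSpec_inv_ι, Iso.hom_inv_id_assoc]
  have e₀ : (⊤ : (Proj.basicOpen 𝒜 f).toScheme.Opens) ≤
      (Proj.basicOpen 𝒜 f).ι ⁻¹ᵁ Proj.basicOpen 𝒜 f := by
    rw [Scheme.Opens.ι_preimage_self]
  have h1 : (Proj.awayι 𝒜 f hf hd).appLE (Proj.basicOpen 𝒜 f) ⊤
        (awayι_preimage_basicOpen_self 𝒜 hf hd).ge ≫
      (Proj.basicOpenIsoSpec 𝒜 f hf hd).hom.appLE ⊤ ⊤ le_top =
      (Proj.basicOpen 𝒜 f).ι.appLE (Proj.basicOpen 𝒜 f) ⊤ e₀ := by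
    rw [Scheme.Hom.appLE_comp_appLE]
    simp only [hιU]
  have h2 : (Proj.basicOpenIsoSpec 𝒜 f hf hd).hom.appLE ⊤ ⊤ le_top =
      (Scheme.ΓSpecIso _).hom ≫ Proj.awayToSection 𝒜 f ≫ (Proj.basicOpen 𝒜 f).topIso.inv := by
    rw [← Proj.basicOpenToSpec_app_top, ← Proj.basicOpenIsoSpec_hom 𝒜 f hf hd]
    simp only [Scheme.Hom.appLE]
    exact Category.comp_id _
  have h3 : (Proj.basicOpen 𝒜 f).ι.appLE (Proj.basicOpen 𝒜 f) ⊤ e₀ =
      (Proj.basicOpen 𝒜 f).topIso.inv := by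
    rw [Scheme.Opens.ι_appLE, Scheme.Opens.topIso_inv]
    rfl
  rw [h2, h3] at h1
  have hiso : IsIso (Proj.awayToSection 𝒜 f) :=
    (Proj.basicOpenIsoAway 𝒜 f hf hd).isIso_hom
  have h4 : (Proj.awayι 𝒜 f hf hd).appLE (Proj.basicOpen 𝒜 f) ⊤
        (awayι_preimage_basicOpen_self 𝒜 hf hd).ge ≫
      (Scheme.ΓSpecIso _).hom ≫ Proj.awayToSection 𝒜 f = 𝟙 _ := by
    rw [← cancel_mono (Proj.basicOpen 𝒜 f).topIso.inv]
    simpa only [Category.assoc, Category.id_comp] using h1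
  rw [← cancel_mono (Scheme.ΓSpecIso _).hom, Category.assoc, Iso.inv_hom_id,
    ← cancel_mono (Proj.awayToSection 𝒜 f), Category.assoc, Category.assoc, h4]
  simp

/-- the morphism `Z ⟶ Proj 𝒜` through `D₊(f)` attached to a ring map `ψ : A_(f) →+* Γ(Z, ⊤)`. -/
noncomputable def ofAway {Z : Scheme.{u}} (ψ : Away 𝒜 f →+* Γ(Z, ⊤)) : Z ⟶ Proj 𝒜 :=
  Z.toSpecΓ ≫ Spec.map (CommRingCat.ofHom ψ) ≫ Proj.awayι 𝒜 f hf hd

theorem ofAway_preimage {Z : Scheme.{u}} (ψ : Away 𝒜 f →+* Γ(Z, ⊤)) :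
    ofAway 𝒜 hf hd ψ ⁻¹ᵁ Proj.basicOpen 𝒜 f = ⊤ := by
  unfold ofAway
  rw [Scheme.Hom.comp_preimage, Scheme.Hom.comp_preimage, awayι_preimage_basicOpen_self]
  rfl

/-- the ring map of `ofAway ψ` on `D₊(f)` is `ψ`. -/
theorem awayToSection_comp_ofAway_appLE {Z : Scheme.{u}} (ψ : Away 𝒜 f →+* Γ(Z, ⊤)) :
    Proj.awayToSection 𝒜 f ≫ (ofAway 𝒜 hf hd ψ).appLE (Proj.basicOpen 𝒜 f) ⊤
      (ofAway_preimage 𝒜 hf hd ψ).ge = CommRingCat.ofHom ψ := by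
  have h1 : (Proj.awayι 𝒜 f hf hd).appLE (Proj.basicOpen 𝒜 f) ⊤
        (awayι_preimage_basicOpen_self 𝒜 hf hd).ge ≫
      (Z.toSpecΓ ≫ Spec.map (CommRingCat.ofHom ψ)).appLE ⊤ ⊤ le_top =
      (ofAway 𝒜 hf hd ψ).appLE (Proj.basicOpen 𝒜 f) ⊤ (ofAway_preimage 𝒜 hf hd ψ).ge := by
    rw [Scheme.Hom.appLE_comp_appLE]
    simp only [ofAway, Category.assoc]
  have h2 : (Z.toSpecΓ ≫ Spec.map (CommRingCat.ofHom ψ)).appLE ⊤ ⊤ le_top =
      (Z.toSpecΓ ≫ Spec.map (CommRingCat.ofHom ψ)).appTop := by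
    simp only [Scheme.Hom.appLE]
    have : (homOfLE (le_top : (⊤ : Z.Opens) ≤ (Z.toSpecΓ ≫ Spec.map (CommRingCat.ofHom ψ)) ⁻¹ᵁ ⊤)).op
        = 𝟙 _ := rfl
    erw [this, Z.presheaf.map_id]
    exact Category.comp_id _
  rw [← h1, ← Category.assoc, awayToSection_comp_awayι_appLE, h2]
  have h3 := gHom_comp_specMap Z.toSpecΓ (CommRingCat.ofHom ψ)
  rw [gHom_toSpecΓ, Category.comp_id] at h3
  exact h3

theorem ofAway_appLE_apply {Z : Scheme.{u}} (ψ : Away 𝒜 f →+* Γ(Z, ⊤)) (z : Away 𝒜 f) :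
    ((ofAway 𝒜 hf hd ψ).appLE (Proj.basicOpen 𝒜 f) ⊤ (ofAway_preimage 𝒜 hf hd ψ).ge).hom
      ((Proj.awayToSection 𝒜 f).hom z) = ψ z := by
  have h := awayToSection_comp_ofAway_appLE 𝒜 hf hd ψ
  have h2 := congrArg (fun φ => (CommRingCat.Hom.hom φ) z) h
  exact h2

/-- two morphisms agreeing on the ring level over an affine cover of the target are equal. -/
theorem hom_ext_of_appLE {Z Y : Scheme.{u}} (g g' : Z ⟶ Y) {κ : Type*} (V : κ → Z.Opens)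
    (hcov : ∀ x : Z, ∃ i, x ∈ V i)
    (U : κ → Y.Opens) (hU : ∀ i, IsAffineOpen (U i))
    (hV : ∀ i, V i ≤ g ⁻¹ᵁ U i) (hV' : ∀ i, V i ≤ g' ⁻¹ᵁ U i)
    (heq : ∀ i, g.appLE (U i) (V i) (hV i) = g'.appLE (U i) (V i) (hV' i)) : g = g' := by
  have hV0 : IsOpenCover V := by
    rw [IsOpenCover]
    apply top_unique
    intro x _
    obtain ⟨i, hi⟩ := hcov x
    exact Opens.mem_iSup.mpr ⟨i, hi⟩
  refine (Z.openCoverOfIsOpenCover V hV0).hom_ext _ _ fun i => ?_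
  change (V i).ι ≫ g = (V i).ι ≫ g'
  rw [← Scheme.Hom.resLE_comp_ι g (hV i), ← Scheme.Hom.resLE_comp_ι g' (hV' i)]
  congr 1
  haveI : IsAffine (U i).toScheme := hU i
  apply ext_of_isAffine
  change (g.resLE (U i) (V i) (hV i)).app ⊤ = (g'.resLE (U i) (V i) (hV' i)).app ⊤
  rw [Scheme.Hom.resLE_app_top, Scheme.Hom.resLE_app_top, heq i]

set_option backward.isDefEq.respectTransparency.types false in
/-- `awayToSection` of `a / f ^ n` is the fraction `oFrac`. -/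
theorem awayToSection_mk {f : A} (hf : f ∈ 𝒜 1) (n : ℕ) (a : A) (ha : a ∈ 𝒜 (n • 1)) :
    (Proj.awayToSection 𝒜 f).hom (Away.mk 𝒜 hf n a ha) =
      oFrac 𝒜 (Proj.basicOpen 𝒜 f) n a (f ^ n) := by
  have ha' : a ∈ 𝒜 n := by simpa using ha
  have G : Good 𝒜 (Proj.basicOpen 𝒜 f) n a (f ^ n) :=
    good_of ha' (pow_mem_one hf n) ((nv_basicOpen f).pow n)
  apply o_ext
  intro y
  rw [val_oFrac 𝒜 G]
  have h2 := ProjectiveSpectrum.Proj.awayToSection_apply 𝒜 f (Away.mk 𝒜 hf n a ha) y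
  refine Eq.trans h2 ?_
  rw [Away.val_mk, Localization.mk_eq_mk', IsLocalization.map_mk', Localization.mk_eq_mk']
  rfl

theorem ofAway_appLE_oFrac {f : A} (hf : f ∈ 𝒜 1) {Z : Scheme.{u}} (ψ : Away 𝒜 f →+* Γ(Z, ⊤))
    (n : ℕ) (a : A) (ha : a ∈ 𝒜 (n • 1)) :
    ((ofAway 𝒜 hf one_pos ψ).appLE (Proj.basicOpen 𝒜 f) ⊤ (ofAway_preimage 𝒜 hf one_pos ψ).ge).hom
      (oFrac 𝒜 (Proj.basicOpen 𝒜 f) n a (f ^ n)) = ψ (Away.mk 𝒜 hf n a ha) := by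
  rw [← awayToSection_mk 𝒜 hf n a ha]
  exact ofAway_appLE_apply 𝒜 hf one_pos ψ _

section cover
variable (hcov : (⨆ f : 𝒜 1, Proj.basicOpen 𝒜 (f : A)) = ⊤)

include hcov in
/-- the locus where the pullback of `t / 1` generates `r^* O(n)` is `r⁻¹ D₊(t)`. -/
theorem genLocus_pullHom_secHom {X : Scheme.{u}} (r : X ⟶ Proj 𝒜) {n : ℕ} {t : A} (ht : t ∈ 𝒜 n) :
    CohB1.genLocus _ (pullHom r (secHom 𝒜 ht)) = r ⁻¹ᵁ Proj.basicOpen 𝒜 t := by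
  apply le_antisymm
  · intro x hx
    have hy : r x ∈ (⨆ f : 𝒜 1, Proj.basicOpen 𝒜 (f : A)) := by rw [hcov]; trivial
    obtain ⟨⟨f, hf⟩, hxf⟩ := Opens.mem_iSup.mp hy
    set V := Proj.basicOpen 𝒜 f with hV
    have hfn : f ^ n ∈ 𝒜 n := pow_mem_one hf n
    have hnv : NV 𝒜 V (f ^ n) := (nv_basicOpen f).pow n
    have h1 := sec_secHom_eq_smul 𝒜 ht hfn V hnv
    have h2 := sec_pullHom_of_eq_smul r _ _ V _ h1 (r ⁻¹ᵁ V) le_rfl
    have hb : IsBasisOn _ (r ⁻¹ᵁ V) (sec (pullHom r (secHom 𝒜 hfn)) (r ⁻¹ᵁ V)) := by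
      rw [← le_genLocus_iff_isBasisOn]
      refine le_trans ?_ (preimage_genLocus_le r (secHom 𝒜 hfn))
      rw [genLocus_secHom 𝒜 hcov hfn]
      intro z hz
      exact (Proj.mem_basicOpen 𝒜 (f ^ n) (r z)).mpr (hnv ⟨r z, hz⟩)
    have h3 := genLocus_inf_le_basicOpen _ _ hb _ h2
    have hx' : x ∈ X.basicOpen ((r.appLE V (r ⁻¹ᵁ V) le_rfl).hom (oFrac 𝒜 V n t (f ^ n))) :=
      h3 ⟨hx, hxf⟩
    have h4 := Scheme.basicOpen_appLE r (r ⁻¹ᵁ V) V le_rfl (oFrac 𝒜 V n t (f ^ n))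
    rw [basicOpen_oFrac 𝒜 (good_of ht hfn hnv)] at h4
    have hx'' : x ∈ r ⁻¹ᵁ V ⊓ r ⁻¹ᵁ (V ⊓ Proj.basicOpen 𝒜 t) := by
      rw [← h4]; exact hx'
    exact hx''.2.2
  · refine le_trans ?_ (preimage_genLocus_le r (secHom 𝒜 ht))
    rw [genLocus_secHom 𝒜 hcov ht]

end cover

end Groth.Agent.Lib.Helper17.UPProj
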