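import Groth.Agent.Lib.Helper17.UPSpec
import Groth.Agent.Lib.Helper17.UPProj
import Groth.Agent.Lib.Helper17.PnSections
import Groth.Agent.Lib.Helper17.TwistTensor
import Groth.Agent.Lib.Helper11.PullbackTensor

/-!
# Sections of projective space over `Spec R` and their modules of relations (helper17)
-/

set_option autoImplicit false
set_option linter.unusedSectionVars false
universe u
open AlgebraicGeometry CategoryTheory Limits TopologicalSpace Opposite

namespace Groth.Agent.Lib.Helper17.UPSecKernel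
open Groth.Agent.Lib.Helper11 Groth.Agent.Lib.Helper11.GenLocus Groth.Agent.Lib.Helper45
  Groth.Agent.Lib.Helper49 Groth.Agent.Lib.Helper17.UPGen Groth.Agent.Lib.Helper17.UPCoef
  Groth.Agent.Lib.Helper17.UPSpec Groth.Agent.Lib.Helper17.UPPull Groth.Agent.Lib.Helper17.UPProj
  Groth.Agent.Lib.Helper17.TwistGen Groth.Agent.Lib.Helper17.PnSections

variable {R : Type u} [CommRing R] (n : ℕ)

theorem iSup_basicOpen_deg_one :
    (⨆ f : CohB1.polyGrading n R 1, Proj.basicOpen (CohB1.polyGrading n R)
      (f : MvPolynomial (Fin (n + 1)) R)) = ⊤ := by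
  rw [eq_top_iff]
  intro y _
  obtain ⟨i, hi⟩ := exists_T_not_mem n R y
  exact Opens.mem_iSup.mpr ⟨⟨T n R i, T_mem n R i⟩, hi⟩

theorem isInvertible_O1 : PicF.IsInvertible (Twist.twistProjSpace n R 1) :=
  Groth.Agent.Lib.Helper17.TwistTensor.isInvertible_twist (CohB1.polyGrading n R)
    (iSup_basicOpen_deg_one n) 1

/-- the `R`-module structure on sections over `Spec R`, for a plain ring `R`. -/
noncomputable instance instModuleSpecOf (M : (Spec (CommRingCat.of R)).Modules)
    (U : (Spec (CommRingCat.of R)).Opens) : Module R Γ(M, U) :=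
  (Scheme.Modules.instModuleCarrierCarrierObjOppositeOpensCarrierCarrierCommRingCatSpecAbPresheafOp :
    Module (CommRingCat.of R) Γ(M, U))

variable (s : Spec (CommRingCat.of R) ⟶ CohB1.ProjSpace n R)

/-- `s^* O(1)`. -/
noncomputable abbrev Ls : (Spec (CommRingCat.of R)).Modules :=
  (Scheme.Modules.pullback s).obj (Twist.twistProjSpace n R 1)

theorem isInvertible_Ls : PicF.IsInvertible (Ls n s) :=
  PullbackTensor.isInvertible_pullback s (isInvertible_O1 n)

instance : (Ls n s).IsQuasicoherent := isQuasicoherent_of_isInvertible (isInvertible_Ls n s)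

/-- the pulled-back coordinates. -/
noncomputable abbrev tsec (i : Fin (n + 1)) : Γ(Ls n s, ⊤) :=
  ProjUP.pullSec s (Twist.twistProjSpace n R 1) (ProjUP.coord n R i)

theorem mem_secKernel_iff (c : Fin (n + 1) → R) :
    c ∈ ProjUP.secKernel n R s ↔ ∑ i, c i • tsec n s i = 0 := by
  have e : ∀ i, c i • tsec n s i =
      (Scheme.ΓSpecIso (CommRingCat.of R)).inv.hom (c i) • tsec n s i := fun i =>
    smul_top_eq (R := CommRingCat.of R) (Ls n s) (c i) (tsec n s i)
  simp only [e]
  unfold ProjUP.secKernel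
  rw [LinearMap.mem_ker, Fintype.linearCombination_apply]
  exact Iff.rfl

/-- the section `T_i / 1` of `O(1)` on projective space. -/
noncomputable abbrev sigT (i : Fin (n + 1)) :
    Coh.structureModule (CohB1.ProjSpace n R) ⟶ Twist.twistProjSpace n R 1 :=
  secHom (CohB1.polyGrading n R) (T_mem n R i)

theorem tsec_eq (i : Fin (n + 1)) : tsec n s i = sec (pullHom s (sigT n i)) ⊤ := by
  rw [← pullSec_sec]
  exact congrArg (ProjUP.pullSec s (Twist.twistProjSpace n R 1))
    (sec_secHom_top (CohB1.polyGrading n R) (T_mem n R i)).symm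

theorem loc_tsec (i : Fin (n + 1)) :
    loc (tsec n s i) = s ⁻¹ᵁ Proj.basicOpen (CohB1.polyGrading n R) (T n R i) := by
  unfold UPCoef.loc
  rw [tsec_eq, homOfSection_sec_top]
  exact genLocus_pullHom_secHom (CohB1.polyGrading n R) (iSup_basicOpen_deg_one n) s (T_mem n R i)

theorem cover_tsec (x : Spec (CommRingCat.of R)) : ∃ i, x ∈ loc (tsec n s i) := by
  obtain ⟨i, hi⟩ := exists_T_not_mem n R (s x)
  refine ⟨i, ?_⟩
  rw [loc_tsec]
  exact (Proj.mem_basicOpen (CohB1.polyGrading n R) (T n R i) (s x)).mpr hi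

/-- the map `R^{n+1} → Γ(s^* O(1))`, `c ↦ Σ c_i s^* T_i`. -/
noncomputable def piMap : (Fin (n + 1) → R) →ₗ[R] Γ(Ls n s, ⊤) :=
  Fintype.linearCombination R (tsec n s)

theorem piMap_apply (c : Fin (n + 1) → R) : piMap n s c = ∑ i, c i • tsec n s i :=
  Fintype.linearCombination_apply R (tsec n s) c

theorem piMap_single (i : Fin (n + 1)) : piMap n s (Pi.single i 1) = tsec n s i := by
  classical
  unfold piMap
  rw [Fintype.linearCombination_apply_single, one_smul]

theorem piMap_surjective : Function.Surjective (piMap n s) := by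
  intro y
  have h := mem_span_of_cover (R := CommRingCat.of R) (Ls n s) (tsec n s) (cover_tsec n s) y
  have h' : y ∈ Submodule.span R (Set.range (tsec n s)) := h
  obtain ⟨c, hc⟩ := (Submodule.mem_span_range_iff_exists_fun R).mp h'
  exact ⟨c, (piMap_apply n s c).trans hc⟩

theorem ker_piMap : LinearMap.ker (piMap n s) = ProjUP.secKernel n R s := by
  ext c
  rw [LinearMap.mem_ker, mem_secKernel_iff, piMap_apply]

/-- sections of projective space with the same module of relations have isomorphic `s^* O(1)`,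
compatibly with the pulled-back coordinates. -/
theorem exists_iso_of_secKernel_eq (s₁ s₂ : Spec (CommRingCat.of R) ⟶ CohB1.ProjSpace n R)
    (h : ProjUP.secKernel n R s₁ = ProjUP.secKernel n R s₂) :
    ∃ τ : Ls n s₁ ≅ Ls n s₂, ∀ i, τ.hom.app ⊤ (tsec n s₁ i) = tsec n s₂ i := by
  have hker : LinearMap.ker (piMap n s₁) = LinearMap.ker (piMap n s₂) := by
    rw [ker_piMap, ker_piMap, h]
  let e : Γ(Ls n s₁, ⊤) ≃ₗ[R] Γ(Ls n s₂, ⊤) :=
    ((piMap n s₁).quotKerEquivOfSurjective (piMap_surjective n s₁)).symm ≪≫ₗ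
      Submodule.quotEquivOfEq _ _ hker ≪≫ₗ
      (piMap n s₂).quotKerEquivOfSurjective (piMap_surjective n s₂)
  have he : ∀ c, e (piMap n s₁ c) = piMap n s₂ c := by
    intro c
    change (piMap n s₂).quotKerEquivOfSurjective (piMap_surjective n s₂)
      (Submodule.quotEquivOfEq _ _ hker
        (((piMap n s₁).quotKerEquivOfSurjective (piMap_surjective n s₁)).symm (piMap n s₁ c))) = _
    have h1 : ((piMap n s₁).quotKerEquivOfSurjective (piMap_surjective n s₁)).symm (piMap n s₁ c) =
        Submodule.Quotient.mk c := by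
      rw [LinearEquiv.symm_apply_eq]
      rfl
    rw [h1, Submodule.quotEquivOfEq_mk]
    rfl
  obtain ⟨τ, hτ⟩ := exists_iso_of_linearEquiv (R := CommRingCat.of R) (Ls n s₁) (Ls n s₂) e
  refine ⟨τ, fun i => ?_⟩
  rw [hτ, ← piMap_single n s₁ i, ← piMap_single n s₂ i]
  exact he _

end Groth.Agent.Lib.Helper17.UPSecKernel
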