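import Mathlib

/-!
# The irrelevant ideal of a symmetric algebra, and the cover of its `Proj` (helper17)
-/

set_option autoImplicit false
universe u v
open DirectSum AlgebraicGeometry

namespace Groth.Agent.Lib.Helper17.UPSym

variable {A S : Type u} [CommRing A] [CommRing S] [Algebra A S] (𝒮 : ℕ → Submodule A S)
  [GradedAlgebra 𝒮]
variable {M : Type u} [AddCommGroup M] [Module A M] {ι : M →ₗ[A] S} (hι : ∀ m : M, ι m ∈ 𝒮 1)
  (hsym : IsSymmetricAlgebra ι)

include hι hsym in
/-- the irrelevant ideal of a symmetric algebra is generated by the images of a generating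
family of the module. -/
theorem irrelevant_le_span {κ : Type*} (g : κ → M) (hg : Submodule.span A (Set.range g) = ⊤) :
    (HomogeneousIdeal.irrelevant 𝒮).toIdeal ≤ Ideal.span (Set.range fun k => ι (g k)) := by
  set J : Ideal S := Ideal.span (Set.range fun k => ι (g k)) with hJ
  have h1 : ∀ m, ι m ∈ J := by
    intro m
    have hm : m ∈ Submodule.span A (Set.range g) := by rw [hg]; trivial
    induction hm using Submodule.span_induction with
    | mem x hx =>
      obtain ⟨k, rfl⟩ := hx
      exact Ideal.subset_span ⟨k, rfl⟩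
    | zero => rw [map_zero]; exact J.zero_mem
    | add x y _ _ hx hy => rw [map_add]; exact J.add_mem hx hy
    | smul a x _ hx =>
      rw [map_smul, Algebra.smul_def]
      exact J.mul_mem_left _ hx
  have h2 : ∀ s : S, ∃ a : A, s - algebraMap A S a ∈ J := by
    intro s
    induction s using hsym.induction with
    | algebraMap r => exact ⟨r, by rw [sub_self]; exact J.zero_mem⟩
    | ι x => exact ⟨0, by rw [map_zero, sub_zero]; exact h1 x⟩
    | mul a b ha hb =>
      obtain ⟨α, hα⟩ := ha
      obtain ⟨β, hβ⟩ := hb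
      refine ⟨α * β, ?_⟩
      have : a * b - algebraMap A S (α * β) =
          (a - algebraMap A S α) * b + algebraMap A S α * (b - algebraMap A S β) := by
        rw [map_mul]; ring
      rw [this]
      exact J.add_mem (J.mul_mem_right _ hα) (J.mul_mem_left _ hβ)
    | add a b ha hb =>
      obtain ⟨α, hα⟩ := ha
      obtain ⟨β, hβ⟩ := hb
      refine ⟨α + β, ?_⟩
      have : a + b - algebraMap A S (α + β) =
          (a - algebraMap A S α) + (b - algebraMap A S β) := by
        rw [map_add]; ring
      rw [this]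
      exact J.add_mem hα hβ
  have h3 : J ≤ (HomogeneousIdeal.irrelevant 𝒮).toIdeal := by
    rw [hJ, Ideal.span_le]
    rintro _ ⟨k, rfl⟩
    exact HomogeneousIdeal.mem_irrelevant_of_mem _ one_pos (hι (g k))
  intro s hs
  obtain ⟨a, ha⟩ := h2 s
  have h4 : algebraMap A S a ∈ (HomogeneousIdeal.irrelevant 𝒮).toIdeal := by
    have : algebraMap A S a = s - (s - algebraMap A S a) := by ring
    rw [this]
    exact Ideal.sub_mem _ hs (h3 ha)
  have h5 : algebraMap A S a = 0 := by
    have h6 := (HomogeneousIdeal.mem_irrelevant_iff 𝒮 _).mp h4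
    rw [GradedRing.proj_apply,
      DirectSum.decompose_of_mem_same 𝒮 (SetLike.algebraMap_mem_graded 𝒮 a)] at h6
    exact h6
  rw [h5, sub_zero] at ha
  exact ha

include hι hsym in
theorem iSup_basicOpen_ι {κ : Type*} (g : κ → M) (hg : Submodule.span A (Set.range g) = ⊤) :
    ⨆ k, Proj.basicOpen 𝒮 (ι (g k)) = ⊤ :=
  Proj.iSup_basicOpen_eq_top 𝒮 _ (irrelevant_le_span 𝒮 hι hsym g hg)

include hι hsym in
theorem iSup_basicOpen_deg_one : (⨆ f : 𝒮 1, Proj.basicOpen 𝒮 (f : S)) = ⊤ := by
  apply top_unique
  rw [← iSup_basicOpen_ι 𝒮 hι hsym (fun m : M => m) (by rw [Set.range_id']; exact Submodule.span_univ)]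
  apply iSup_le
  intro m
  exact le_iSup (fun f : 𝒮 1 => Proj.basicOpen 𝒮 (f : S)) ⟨ι m, hι m⟩

end Groth.Agent.Lib.Helper17.UPSym
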