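import Groth.Agent.Lib.Helper17.UPChart
import Groth.Agent.Lib.Helper17.UPSymCover

/-!
# Uniqueness in the universal property of `Proj (Sym M)` (helper17)
-/

set_option autoImplicit false
set_option linter.unusedSectionVars false
universe u
open AlgebraicGeometry CategoryTheory Limits TopologicalSpace Opposite HomogeneousLocalization

namespace Groth.Agent.Lib.Helper17.UPUniq
open Groth.Agent.Lib.Helper11 Groth.Agent.Lib.Helper11.GenLocus Groth.Agent.Lib.Helper45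
  Groth.Agent.Lib.Helper49 Groth.Agent.Lib.Helper17.OFrac Groth.Agent.Lib.Helper17.TwistGen
  Groth.Agent.Lib.Helper17.TwistAmple Groth.Agent.Lib.Helper17.UPPull
  Groth.Agent.Lib.Helper17.UPSym Groth.Agent.Lib.Helper17.UPGen
  Groth.Agent.Lib.Helper17.ProjGlobal Groth.Agent.Lib.Helper17.UPProj
  Groth.Agent.Lib.Helper17.UPChart

variable {A : Type u} [CommRing A] {S : Type u} [CommRing S] [Algebra A S]
  (𝒮 : ℕ → Submodule A S) [GradedAlgebra 𝒮]
  {M : Type u} [AddCommGroup M] [Module A M] (ι : M →ₗ[A] S) (hι : ∀ m : M, ι m ∈ 𝒮 1)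
  (hsym : IsSymmetricAlgebra ι)

theorem sec_comp' {X : Scheme.{u}} {P Q : X.Modules} (τ : Coh.structureModule X ⟶ P) (μ : P ⟶ Q)
    (W : X.Opens) : sec (τ ≫ μ) W = (μ.app W).hom (sec τ W) := rfl

include hsym in
/-- **Uniqueness in the universal property of `Proj (Sym M)`**, with the compatibility only
required on a generating family of `M`. -/
theorem uniq {κ : Type*} (g : κ → M) (hg : Submodule.span A (Set.range g) = ⊤)
    {X : Scheme.{u}} (r r' : X ⟶ Proj 𝒮)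
    (hrr' : r ≫ strMap 𝒮 = r' ≫ strMap 𝒮)
    (τ : (Scheme.Modules.pullback r).obj (Twist.twist 𝒮 1) ≅
      (Scheme.Modules.pullback r').obj (Twist.twist 𝒮 1))
    (hτ : ∀ k, τ.hom.app ⊤ (ProjUP.pullSec r (Twist.twist 𝒮 1)
        (Twist.globalOf 𝒮 ⟨ι (g k), hι (g k)⟩)) =
      ProjUP.pullSec r' (Twist.twist 𝒮 1) (Twist.globalOf 𝒮 ⟨ι (g k), hι (g k)⟩)) :
    r = r' := by
  have hcov1 := iSup_basicOpen_deg_one 𝒮 hι hsym
  have hcovg := iSup_basicOpen_ι 𝒮 hι hsym g hg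
  -- the sections
  let σ : ∀ m : M, (Coh.structureModule (Proj 𝒮) ⟶ Twist.twist 𝒮 ((1 : ℕ) : ℤ)) :=
    fun m => secHom 𝒮 (hι m)
  have hU1 : ∀ k, pullHom r (σ (g k)) ≫ τ.hom = pullHom r' (σ (g k)) := by
    intro k
    apply hom_ext_of_sec_top
    rw [sec_comp', ← pullSec_sec, ← pullSec_sec, sec_secHom_top]
    exact hτ k
  have hpre : ∀ k, r ⁻¹ᵁ Proj.basicOpen 𝒮 (ι (g k)) = r' ⁻¹ᵁ Proj.basicOpen 𝒮 (ι (g k)) := by
    intro k
    rw [← genLocus_pullHom_secHom 𝒮 hcov1 r (hι (g k)),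
      ← genLocus_pullHom_secHom 𝒮 hcov1 r' (hι (g k))]
    change CohB1.genLocus _ (pullHom r (σ (g k))) = CohB1.genLocus _ (pullHom r' (σ (g k)))
    rw [← hU1 k, TwistAmple.genLocus_comp_iso]
  -- agreement of the ring maps on each chart
  have hring : ∀ k, r.appLE (Proj.basicOpen 𝒮 (ι (g k))) (r ⁻¹ᵁ Proj.basicOpen 𝒮 (ι (g k))) le_rfl =
      r'.appLE (Proj.basicOpen 𝒮 (ι (g k))) (r ⁻¹ᵁ Proj.basicOpen 𝒮 (ι (g k))) (hpre k).le := by
    intro k
    set t := ι (g k) with htdef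
    have ht : t ∈ 𝒮 1 := hι (g k)
    set W := r ⁻¹ᵁ Proj.basicOpen 𝒮 t with hWdef
    set φ := r.appLE (Proj.basicOpen 𝒮 t) W le_rfl with hφ
    set φ' := r'.appLE (Proj.basicOpen 𝒮 t) W (hpre k).le with hφ'
    let F : S →+* Γ(X, W) := φ.hom.comp (dehom 𝒮 ht)
    let F' : S →+* Γ(X, W) := φ'.hom.comp (dehom 𝒮 ht)
    let _ : Algebra A Γ(X, W) := (F.comp (algebraMap A S)).toAlgebra
    let Fa : S →ₐ[A] Γ(X, W) := { F with commutes' := fun a => rfl }
    let Fa' : S →ₐ[A] Γ(X, W) :=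
      { F' with
        commutes' := fun a => by
          change φ'.hom (dehom 𝒮 ht (algebraMap A S a)) = φ.hom (dehom 𝒮 ht (algebraMap A S a))
          rw [appLE_dehom_algebraMap, appLE_dehom_algebraMap, hrr'] }
    -- basis on `W`
    have hb' : IsBasisOn _ W (sec (pullHom r' (σ (g k))) W) := by
      rw [← le_genLocus_iff_isBasisOn]
      rw [genLocus_pullHom_secHom 𝒮 hcov1 r' (hι (g k))]
      exact (hpre k).le
    have hagree : ∀ k', Fa (ι (g k')) = Fa' (ι (g k')) := by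
      intro k'
      have h1 := sec_secHom_eq_smul 𝒮 (hι (g k')) ht (Proj.basicOpen 𝒮 t) (nv_basicOpen t)
      have h2 := sec_pullHom_of_eq_smul r _ _ _ _ h1 W le_rfl
      have h2' := sec_pullHom_of_eq_smul r' _ _ _ _ h1 W (hpre k).le
      have h3 := congrArg (fun x => (τ.hom.app W).hom x) h2
      rw [← sec_comp'] at h3
      change sec (pullHom r (σ (g k')) ≫ τ.hom) W = _ at h3
      rw [hU1 k'] at h3
      have h4 : (τ.hom.app W).hom (φ.hom (oFrac 𝒮 (Proj.basicOpen 𝒮 t) 1 (ι (g k')) t) •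
          sec (pullHom r (secHom 𝒮 ht)) W) =
          φ.hom (oFrac 𝒮 (Proj.basicOpen 𝒮 t) 1 (ι (g k')) t) •
            sec (pullHom r' (σ (g k))) W := by
        rw [← hU1 k, sec_comp']
        exact Scheme.Modules.Hom.app_smul τ.hom _ _
      rw [h4] at h3
      have h5 := hb'.eq_of_smul_eq (h3.symm.trans h2')
      change φ.hom (dehom 𝒮 ht (ι (g k'))) = φ'.hom (dehom 𝒮 ht (ι (g k')))
      rw [dehom_of_mem 𝒮 ht (hι (g k')), pow_one]
      exact h5
    have hFF : Fa = Fa' := by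
      apply hsym.algHom_ext
      exact LinearMap.ext_on_range hg hagree
    apply CommRingCat.hom_ext
    apply RingHom.ext
    intro z
    obtain ⟨s, rfl⟩ := dehom_surjective 𝒮 ht z
    exact congrArg (fun G : S →ₐ[A] Γ(X, W) => G s) hFF
  refine hom_ext_of_appLE r r' (fun k => r ⁻¹ᵁ Proj.basicOpen 𝒮 (ι (g k))) ?_
    (fun k => Proj.basicOpen 𝒮 (ι (g k))) (fun k => Proj.isAffineOpen_basicOpen 𝒮 _ (hι (g k)) one_pos)
    (fun k => le_rfl) (fun k => (hpre k).le) hring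
  intro x
  have hx : r x ∈ ⨆ k, Proj.basicOpen 𝒮 (ι (g k)) := by rw [hcovg]; trivial
  obtain ⟨k, hk⟩ := Opens.mem_iSup.mp hx
  exact ⟨k, hk⟩

end Groth.Agent.Lib.Helper17.UPUniq
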