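import Groth.Agent.Lib.Helper17.UPExist2
import Groth.Agent.Lib.Helper17.UPSecKernel
import Groth.Agent.Lib.Helper17.UPUniq

/-!
# A criterion for relative very ampleness (helper17)

`isRelVeryAmplePn_of_sections`: sections `w_0, …, w_n` of `L` on `X` (over `f : X ⟶ S`) such that
some of the loci `X_{w_c}` are affine, lie over affine opens `V` of `S`, cover `X`, and have
coordinate rings generated over `Γ(V)` by the ratios `w_{c'} / w_c`, give an immersion
`X ⟶ P^n_S` over `S` with `L ≅ i^* O(1)`.
-/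

set_option autoImplicit false
set_option linter.unusedSectionVars false
set_option linter.style.haveILetI false
universe u
open AlgebraicGeometry CategoryTheory Limits TopologicalSpace Opposite HomogeneousLocalization

namespace Groth.Agent.Lib.Helper17.VeryAmpleCrit
open Groth.Agent.Lib.Helper11 Groth.Agent.Lib.Helper11.GenLocus Groth.Agent.Lib.Helper45
  Groth.Agent.Lib.Helper49 Groth.Agent.Lib.Helper17.OFrac Groth.Agent.Lib.Helper17.TwistGen
  Groth.Agent.Lib.Helper17.TwistAmple Groth.Agent.Lib.Helper17.UPPull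
  Groth.Agent.Lib.Helper17.UPGen Groth.Agent.Lib.Helper17.UPProj
  Groth.Agent.Lib.Helper17.UPCoef Groth.Agent.Lib.Helper17.UPSecKernel
  Groth.Agent.Lib.Helper17.PnSections Groth.Agent.Lib.Helper17.UPUniq

/-- a morphism restricted over an affine open with affine preimage, surjective on sections,
is a closed immersion. -/
theorem isClosedImmersion_morphismRestrict {X Y : Scheme.{u}} (g : X ⟶ Y) (W : Y.Opens)
    (hW : IsAffineOpen W) (U : X.Opens) (hU : IsAffineOpen U) (hUW : U = g ⁻¹ᵁ W)
    (h : Function.Surjective (g.appLE W U hUW.le).hom) : IsClosedImmersion (g ∣_ W) := by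
  subst hUW
  have : IsAffine W.toScheme := hW
  have : IsAffine (g ⁻¹ᵁ W).toScheme := hU
  apply IsClosedImmersion.of_surjective_of_isAffine
  rw [morphismRestrict_appTop]
  have h0 : Function.Surjective (g.app W).hom := by
    rwa [Scheme.Hom.app_eq_appLE]
  have key : ∀ (W' : Y.Opens) (_ : W' = W) (U' : X.Opens) (e : U' = g ⁻¹ᵁ W'),
      Function.Surjective (g.app W' ≫ X.presheaf.map (eqToHom e).op) := by
    intro W' hW' U' e
    subst hW' e
    simpa using h0
  exact key _ (by simp) _ _

instance respectsRight_isImmersion :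
    MorphismProperty.RespectsRight @IsImmersion @IsOpenImmersion where
  postcomp i hi f hf := by
    have : IsOpenImmersion i := hi
    have : IsImmersion f := hf
    infer_instance

/-- the intersection of preimages of affine opens in a fibre product over an affine base. -/
theorem isAffineOpen_inf_preimage {P S B : Scheme.{u}} [IsAffine B] (a : P ⟶ B) (b : S ⟶ B)
    (D : P.Opens) (V : S.Opens) (hD : IsAffineOpen D) (hV : IsAffineOpen V) :
    IsAffineOpen ((pullback.fst a b) ⁻¹ᵁ D ⊓ (pullback.snd a b) ⁻¹ᵁ V) := by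
  haveI : IsAffine D.toScheme := hD
  haveI : IsAffine V.toScheme := hV
  let m := pullback.map (D.ι ≫ a) (V.ι ≫ b) a b D.ι V.ι (𝟙 B) (by simp) (by simp)
  have hm : IsAffineOpen m.opensRange := isAffineOpen_opensRange m
  convert hm using 1
  apply Opens.ext
  have := Scheme.Pullback.range_map (D.ι ≫ a) (V.ι ≫ b) a b D.ι V.ι (𝟙 B) (by simp) (by simp)
  simp only [Scheme.Opens.range_ι] at this
  exact this.symm

section A
variable {R : Type u} [CommRing R] (n : ℕ) {X : Scheme.{u}} (r : X ⟶ CohB1.ProjSpace n R)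
  {L : X.Modules} (τ : (Scheme.Modules.pullback r).obj (Twist.twistProjSpace n R 1) ≅ L)
  (w : Fin (n + 1) → Γ(L, ⊤))
  (hτ : ∀ i, τ.hom.app ⊤ (ProjUP.pullSec r (Twist.twistProjSpace n R 1) (ProjUP.coord n R i)) = w i)

/-- the standard chart `D₊(T_c)` of projective space. -/
noncomputable abbrev D (R : Type u) [CommRing R] (n : ℕ) (c : Fin (n + 1)) : (CohB1.ProjSpace n R).Opens :=
  Proj.basicOpen (CohB1.polyGrading n R) (T n R c)

include hτ in
theorem homOfSection_eq (c : Fin (n + 1)) :
    homOfSection L (w c) = pullHom r (sigT n c) ≫ τ.hom := by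
  apply hom_ext_of_sec_top
  rw [sec_homOfSection, sec_comp', ← pullSec_sec]
  have h := sec_secHom_top (CohB1.polyGrading n R) (T_mem n R c)
  change sec (sigT n c) ⊤ = _ at h
  rw [h]
  exact (mres_self (F := L) (w c)).trans (hτ c).symm

include hτ in
theorem loc_eq (c : Fin (n + 1)) : loc (w c) = r ⁻¹ᵁ D R n c := by
  unfold UPCoef.loc
  rw [homOfSection_eq n r τ w hτ c, TwistAmple.genLocus_comp_iso]
  exact genLocus_pullHom_secHom (CohB1.polyGrading n R) (iSup_basicOpen_deg_one n) r (T_mem n R c)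

include hτ in
theorem appLE_oFrac (c c' : Fin (n + 1)) :
    (r.appLE (D R n c) (loc (w c)) (loc_eq n r τ w hτ c).le).hom
      (oFrac (CohB1.polyGrading n R) (D R n c) 1 (T n R c') (T n R c)) = coef (w c) (w c') := by
  apply coef_unique
  have h1 := sec_secHom_eq_smul (CohB1.polyGrading n R) (T_mem n R c') (T_mem n R c) (D R n c)
    (nv_basicOpen (T n R c))
  have h2 := sec_pullHom_of_eq_smul r _ _ _ _ h1 (loc (w c)) (loc_eq n r τ w hτ c).le
  have h3 : sec (pullHom r (sigT n c') ≫ τ.hom) (loc (w c)) =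
      (τ.hom.app (loc (w c))).hom
      ((r.appLE (D R n c) (loc (w c)) (loc_eq n r τ w hτ c).le).hom
        (oFrac (CohB1.polyGrading n R) (D R n c) 1 (T n R c') (T n R c)) •
        sec (pullHom r (sigT n c)) (loc (w c))) :=
    congrArg (fun x => (τ.hom.app (loc (w c))).hom x) h2
  rw [← homOfSection_eq n r τ w hτ c', sec_homOfSection] at h3
  have h4 : (τ.hom.app (loc (w c))).hom
      ((r.appLE (D R n c) (loc (w c)) (loc_eq n r τ w hτ c).le).hom
        (oFrac (CohB1.polyGrading n R) (D R n c) 1 (T n R c') (T n R c)) •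
        sec (pullHom r (sigT n c)) (loc (w c))) =
      (r.appLE (D R n c) (loc (w c)) (loc_eq n r τ w hτ c).le).hom
        (oFrac (CohB1.polyGrading n R) (D R n c) 1 (T n R c') (T n R c)) •
        sec (pullHom r (sigT n c) ≫ τ.hom) (loc (w c)) := by
    rw [sec_comp']
    exact Scheme.Modules.Hom.app_smul τ.hom _ _
  rw [h4, ← homOfSection_eq n r τ w hτ c, sec_homOfSection] at h3
  exact h3.symm

end A

/-- a morphism into a fibre product over an affine base which, on a cover by affine charts lying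
over products of affine opens, is surjective on coordinate rings, is an immersion. -/
theorem isImmersion_of_charts {X P S B : Scheme.{u}} [IsAffine B] (a : P ⟶ B) (b : S ⟶ B)
    (i : X ⟶ pullback a b) {κ : Type*} (D : κ → P.Opens) (V : κ → S.Opens)
    (hD : ∀ k, IsAffineOpen (D k)) (hV : ∀ k, IsAffineOpen (V k))
    (U : κ → X.Opens) (hU : ∀ k, IsAffineOpen (U k)) (hcov : ∀ x : X, ∃ k, x ∈ U k)
    (hUD : ∀ k, U k = (i ≫ pullback.fst a b) ⁻¹ᵁ D k)
    (hUV : ∀ k, U k ≤ (i ≫ pullback.snd a b) ⁻¹ᵁ V k)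
    (hgen : ∀ k, Subring.closure
      (Set.range ((i ≫ pullback.snd a b).appLE (V k) (U k) (hUV k)).hom ∪
        Set.range ((i ≫ pullback.fst a b).appLE (D k) (U k) (hUD k).le).hom) = ⊤) :
    IsImmersion i := by
  let W : κ → (pullback a b).Opens := fun k =>
    pullback.fst a b ⁻¹ᵁ D k ⊓ pullback.snd a b ⁻¹ᵁ V k
  have hpre : ∀ k, U k = i ⁻¹ᵁ W k := by
    intro k
    change _ = i ⁻¹ᵁ (pullback.fst a b ⁻¹ᵁ D k) ⊓ i ⁻¹ᵁ (pullback.snd a b ⁻¹ᵁ V k)
    rw [← Scheme.Hom.comp_preimage, ← Scheme.Hom.comp_preimage, ← hUD k]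
    exact (inf_eq_left.mpr (hUV k)).symm
  apply IsZariskiLocalAtTarget.of_range_subset_iSup (P := @IsImmersion) W
  · rintro _ ⟨x, rfl⟩
    obtain ⟨k, hk⟩ := hcov x
    rw [hpre k] at hk
    exact Opens.mem_iSup.mpr ⟨k, hk⟩
  · intro k
    have hWaff : IsAffineOpen (W k) := isAffineOpen_inf_preimage a b _ _ (hD k) (hV k)
    have hsurj : Function.Surjective (i.appLE (W k) (U k) (hpre k).le).hom := by
      have hsub : Subring.closure
          (Set.range ((i ≫ pullback.snd a b).appLE (V k) (U k) (hUV k)).hom ∪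
            Set.range ((i ≫ pullback.fst a b).appLE (D k) (U k) (hUD k).le).hom) ≤
          (i.appLE (W k) (U k) (hpre k).le).hom.range := by
        rw [Subring.closure_le]
        rintro _ (⟨z, rfl⟩ | ⟨z, rfl⟩)
        · refine ⟨((pullback.snd a b).appLE (V k) (W k) inf_le_right).hom z, ?_⟩
          have h1 := Scheme.Hom.appLE_comp_appLE i (pullback.snd a b) (V k) (W k)
            (U k) inf_le_right (hpre k).le
          rw [← h1]
          rfl
        · refine ⟨((pullback.fst a b).appLE (D k) (W k) inf_le_left).hom z, ?_⟩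
          have h1 := Scheme.Hom.appLE_comp_appLE i (pullback.fst a b) (D k)
            (W k) (U k) inf_le_left (hpre k).le
          rw [← h1]
          rfl
      intro y
      have hy : y ∈ (⊤ : Subring _) := trivial
      rw [← hgen k] at hy
      exact hsub hy
    have : IsClosedImmersion (i ∣_ W k) :=
      isClosedImmersion_morphismRestrict i (W k) hWaff (U k) (hU k) (hpre k) hsurj
    infer_instance

section D
variable {X S : Scheme.{u}} (f : X ⟶ S) (L : X.Modules)

/-- **Criterion for relative very ampleness**: sections `w_0, …, w_n` of `L`, some of whose loci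
`X_{w_c}` are affine, lie over affine opens of `S` and cover `X`, such that the coordinate ring of
each such `X_{w_c}` is generated over the base by the ratios `w_{c'} / w_c`. -/
theorem isRelVeryAmplePn_of_sections (n : ℕ) (w : Fin (n + 1) → Γ(L, ⊤))
    {κ : Type*} (j : κ → Fin (n + 1)) (hcov : ∀ x : X, ∃ k, x ∈ loc (w (j k)))
    (V : κ → S.Opens) (hV : ∀ k, IsAffineOpen (V k))
    (hU : ∀ k, IsAffineOpen (loc (w (j k))))
    (hle : ∀ k, loc (w (j k)) ≤ f ⁻¹ᵁ V k)
    (hgen : ∀ k, Subring.closure (Set.range (f.appLE (V k) (loc (w (j k))) (hle k)).hom ∪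
      Set.range (fun c' => coef (w (j k)) (w c'))) = ⊤) :
    RelAmple.IsRelVeryAmplePn f L := by
  classical
  obtain ⟨r, -, τ, hτ⟩ := UPExist.exists_to_projSpace_of_cover (R := ULift.{u} ℤ) n
    (specULiftZIsTerminal.from X) L w (fun x => let ⟨k, hk⟩ := hcov x; ⟨j k, hk⟩)
  obtain ⟨i, hi1, hi2⟩ : ∃ i : X ⟶ pullback (CohB1.ProjSpace.toSpec n (ULift.{u} ℤ))
        (specULiftZIsTerminal.from S),
      i ≫ pullback.fst (CohB1.ProjSpace.toSpec n (ULift.{u} ℤ)) (specULiftZIsTerminal.from S) = r ∧
      i ≫ pullback.snd (CohB1.ProjSpace.toSpec n (ULift.{u} ℤ)) (specULiftZIsTerminal.from S) = f :=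
    ⟨pullback.lift r f (specULiftZIsTerminal.hom_ext _ _), pullback.lift_fst _ _ _,
      pullback.lift_snd _ _ _⟩
  have hiso : Nonempty (L ≅ (Scheme.Modules.pullback i).obj (Twist.twistOver n S 1)) :=
    ⟨τ.symm ≪≫ (Scheme.Modules.pullbackCongr hi1.symm).app _ ≪≫
      ((Scheme.Modules.pullbackComp i _).app _).symm⟩
  refine ⟨n, i, ?_, hi2, hiso⟩
  subst hi1 hi2
  refine isImmersion_of_charts _ _ i (fun k => D (ULift.{u} ℤ) n (j k)) V
    (fun k => Proj.isAffineOpen_basicOpen (CohB1.polyGrading n (ULift.{u} ℤ)) _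
      (T_mem n (ULift.{u} ℤ) (j k)) one_pos) hV (fun k => loc (w (j k))) hU hcov
    (fun k => loc_eq n _ τ w hτ (j k)) hle (fun k => ?_)
  apply top_unique
  rw [← hgen k]
  apply Subring.closure_mono
  apply Set.union_subset_union_right
  rintro _ ⟨c', rfl⟩
  exact ⟨_, appLE_oFrac n _ τ w hτ (j k) c'⟩

end D

end Groth.Agent.Lib.Helper17.VeryAmpleCrit
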