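import Groth.Agent.Lib.Helper17.ProjClosed
import Groth.Agent.Lib.Helper17.VeryAmpleCrit

/-!
# The graded ideal of a closed subscheme of projective space via sections of `O(d)` (helper17)
-/

set_option autoImplicit false
set_option linter.unusedSectionVars false
universe u
open CategoryTheory CategoryTheory.Limits AlgebraicGeometry HomogeneousLocalization TopologicalSpace
  Opposite

namespace Groth.Agent.Lib.Helper17.ProjKer
open Groth.Agent.Lib.Helper17.PI Groth.Agent.Lib.Helper17.PC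
open Groth.Agent.Lib.Helper11 Groth.Agent.Lib.Helper11.GenLocus Groth.Agent.Lib.Helper45
  Groth.Agent.Lib.Helper49 Groth.Agent.Lib.Helper17.OFrac Groth.Agent.Lib.Helper17.TwistGen
  Groth.Agent.Lib.Helper17.TwistAmple Groth.Agent.Lib.Helper17.UPPull
  Groth.Agent.Lib.Helper17.UPGen Groth.Agent.Lib.Helper17.UPProj

variable {R A : Type u} [CommRing R] [CommRing A] [Algebra R A] (𝒜 : ℕ → Submodule R A)
  [GradedAlgebra 𝒜]

section alg
variable {B : Type u} [CommRing B] [Algebra R B] {ℬ : ℕ → Submodule R B} [GradedAlgebra ℬ]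
  (φ : 𝒜 →+*ᵍ ℬ)

/-- The kernel of `A_(g) → B_(φ g)`. -/
theorem away_map_eq_zero_iff {g : A} (hg : g ∈ 𝒜 1) {n : ℕ} {a : A} (ha : a ∈ 𝒜 n) :
    Away.map φ g (fr 𝒜 hg n a) = 0 ↔ ∃ k : ℕ, φ (g ^ k * a) = 0 := by
  rw [fr_of_mem 𝒜 hg ha, Away.map_mk]
  rw [HomogeneousLocalization.ext_iff_val, Away.val_mk,
    HomogeneousLocalization.val_zero, Localization.mk_eq_mk', IsLocalization.mk'_eq_zero_iff]
  constructor
  · rintro ⟨⟨_, k, rfl⟩, hk⟩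
    refine ⟨k, ?_⟩
    rw [map_mul, map_pow]
    exact hk
  · rintro ⟨k, hk⟩
    refine ⟨⟨_, k, rfl⟩, ?_⟩
    rw [map_mul, map_pow] at hk
    exact hk

end alg

section main
variable (𝓘 : (Proj 𝒜).IdealSheafData) {ι : Type*} (f : ι → A) (hf : ∀ i, f i ∈ 𝒜 1)
  {B : Type u} [CommRing B] [Algebra R B] {ℬ : ℕ → Submodule R B} [GradedAlgebra ℬ]
  (φ : 𝒜 →+*ᵍ ℬ)

theorem ker_away_map_eq [Finite ι] (hker : ∀ a : A, φ a = 0 ↔ a ∈ idealOf 𝒜 𝓘 f hf) (i : ι) :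
    RingHom.ker (Away.map φ (f i)) = Jx 𝒜 𝓘 (hf i) one_pos := by
  let _ := GQ.gradedAlgebra 𝒜 (idealOf 𝒜 𝓘 f hf) (idealOf_isHomogeneous 𝒜 𝓘 f hf)
  have H : ∀ i j, (Jx 𝒜 𝓘 (hf i) one_pos).map
      (awayMap 𝒜 (hf j) rfl : Away 𝒜 (f i) →+* Away 𝒜 (f i * f j)) =
      (Jx 𝒜 𝓘 (hf j) one_pos).map (awayMap 𝒜 (hf i) (mul_comm (f i) (f j)) :
        Away 𝒜 (f j) →+* Away 𝒜 (f i * f j)) := by
    intro i j
    rw [← Jx_mul 𝒜 𝓘 (hf i) one_pos (hf j) rfl,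
      ← Jx_mul 𝒜 𝓘 (hf j) one_pos (hf i) (mul_comm (f i) (f j))]
  have h2 : RingHom.ker (Away.map (GQ.quotHom 𝒜 (idealOf 𝒜 𝓘 f hf)) (f i)) =
      Jx 𝒜 𝓘 (hf i) one_pos :=
    PI.ker_away_map_quot 𝒜 f hf (fun i => Jx 𝒜 𝓘 (hf i) one_pos) H i
  rw [← h2]
  ext x
  obtain ⟨n, a, ha, rfl⟩ := exists_fr 𝒜 (hf i) x
  rw [RingHom.mem_ker, RingHom.mem_ker, away_map_eq_zero_iff 𝒜 φ (hf i) ha,
    away_map_quot_eq_zero_iff 𝒜 (idealOf 𝒜 𝓘 f hf) (idealOf_isHomogeneous 𝒜 𝓘 f hf) (hf i) ha]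
  simp only [hker]

/-- a surjective graded homomorphism whose kernel is the graded ideal attached to the ideal sheaf
`𝓘` induces a closed immersion with ideal sheaf `𝓘`. -/
theorem ker_map_of_ker_eq [Finite ι]
    (hspan : (HomogeneousIdeal.irrelevant 𝒜).toIdeal ≤ Ideal.span (Set.range f))
    (hsurj : Function.Surjective φ)
    (hker : ∀ a : A, φ a = 0 ↔ a ∈ idealOf 𝒜 𝓘 f hf)
    (hφ : HomogeneousIdeal.irrelevant ℬ ≤ (HomogeneousIdeal.irrelevant 𝒜).map φ) :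
    (Proj.map φ hφ).ker = 𝓘 := by
  refine Scheme.IdealSheafData.ext_of_iSup_eq_top (fun i => bo 𝒜 (hf i) one_pos)
    (Proj.iSup_basicOpen_eq_top 𝒜 f hspan) ?_
  intro i
  have hcl : IsClosedImmersion (Proj.map φ hφ) :=
    isClosedImmersion_map_of_surjective 𝒜 _ hsurj hφ
  rw [Scheme.Hom.ker_apply]
  have h1 := comap_ker_app 𝒜 φ hφ (hf i) one_pos
  have h2 := ker_away_map_eq 𝒜 𝓘 f hf φ hker i
  rw [← map_Jx 𝒜 𝓘 (hf i) one_pos]
  rw [← Ideal.map_comap_of_surjective _ (awayToSection_bijective 𝒜 (hf i) one_pos).2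
    (RingHom.ker _)]
  congr 1
  exact h1.trans h2

end main

section sections

set_option backward.isDefEq.respectTransparency.types false in
theorem awayToSection_fr {g : A} (hg : g ∈ 𝒜 1) {n : ℕ} {a : A} (ha : a ∈ 𝒜 n) :
    (Proj.awayToSection 𝒜 g).hom (fr 𝒜 hg n a) = oFrac 𝒜 (Proj.basicOpen 𝒜 g) n a (g ^ n) := by
  rw [fr_of_mem 𝒜 hg ha]
  have G : Good 𝒜 (Proj.basicOpen 𝒜 g) n a (g ^ n) :=
    good_of ha (pow_mem_one hg n) ((nv_basicOpen g).pow n)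
  apply o_ext
  intro y
  rw [val_oFrac 𝒜 G]
  have h2 := ProjectiveSpectrum.Proj.awayToSection_apply 𝒜 g
    (Away.mk 𝒜 hg n a (by rw [smul_eq_mul, mul_one]; exact ha)) y
  refine Eq.trans h2 ?_
  rw [Away.val_mk, Localization.mk_eq_mk', IsLocalization.map_mk', Localization.mk_eq_mk']
  rfl

variable (hcov : (⨆ g : 𝒜 1, Proj.basicOpen 𝒜 (g : A)) = ⊤)
  {Z : Scheme.{u}} (i : Z ⟶ Proj 𝒜)

include hcov in
/-- on the chart `i⁻¹ D₊(g)`, the pulled-back section `i^*(F / 1)` of `i^* O(d)` vanishes iff the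
function `i^♯ (F / g ^ d)` does. -/
theorem sec_pullHom_eq_zero_iff {d : ℕ} {F : A} (hF : F ∈ 𝒜 d) {g : A} (hg : g ∈ 𝒜 1) :
    sec (pullHom i (secHom 𝒜 hF)) (i ⁻¹ᵁ Proj.basicOpen 𝒜 g) = 0 ↔
      (i.app (Proj.basicOpen 𝒜 g)).hom (oFrac 𝒜 (Proj.basicOpen 𝒜 g) d F (g ^ d)) = 0 := by
  have hgd : g ^ d ∈ 𝒜 d := pow_mem_one hg d
  have hnv : NV 𝒜 (Proj.basicOpen 𝒜 g) (g ^ d) := (nv_basicOpen g).pow d
  have h1 := sec_secHom_eq_smul 𝒜 hF hgd (Proj.basicOpen 𝒜 g) hnv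
  have h2 := sec_pullHom_of_eq_smul i _ _ (Proj.basicOpen 𝒜 g) _ h1
    (i ⁻¹ᵁ Proj.basicOpen 𝒜 g) le_rfl
  have hle : i ⁻¹ᵁ Proj.basicOpen 𝒜 g ≤ CohB1.genLocus _ (pullHom i (secHom 𝒜 hgd)) := by
    rw [genLocus_pullHom_secHom 𝒜 hcov i hgd]
    intro x hx
    have hx' : g ∉ (i.base x : ProjectiveSpectrum 𝒜).asHomogeneousIdeal :=
      (Proj.mem_basicOpen 𝒜 g _).mp hx
    exact (Proj.mem_basicOpen 𝒜 (g ^ d) _).mpr
      (fun hmem => hx' ((i.base x : ProjectiveSpectrum 𝒜).isPrime.mem_of_pow_mem _ hmem))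
  have hbasis := (le_genLocus_iff_isBasisOn _ _).mp hle
  have happ : (i.appLE (Proj.basicOpen 𝒜 g) (i ⁻¹ᵁ Proj.basicOpen 𝒜 g) le_rfl) =
      i.app (Proj.basicOpen 𝒜 g) := (Scheme.Hom.app_eq_appLE i).symm
  rw [h2, happ]
  constructor
  · intro h0
    apply hbasis.eq_of_smul_eq
    rw [h0, zero_smul]
  · intro h0
    rw [h0, zero_smul]

end sections

section ideal
variable {ι : Type*} (f : ι → A) (hf : ∀ j, f j ∈ 𝒜 1)
  (hspan : (HomogeneousIdeal.irrelevant 𝒜).toIdeal ≤ Ideal.span (Set.range f))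
  {Z : Scheme.{u}} (i : Z ⟶ Proj 𝒜) [IsClosedImmersion i]

include hf hspan in
theorem hcov_of_span : (⨆ g : 𝒜 1, Proj.basicOpen 𝒜 (g : A)) = ⊤ := by
  apply top_unique
  rw [← Proj.iSup_basicOpen_eq_top 𝒜 f hspan]
  apply iSup_le
  intro j
  exact le_iSup (fun g : 𝒜 1 => Proj.basicOpen 𝒜 (g : A)) ⟨f j, hf j⟩

include hspan in
/-- a form `F` of degree `d` lies in the graded ideal of the closed subscheme `Z` iff its
inverse image in `Γ(Z, i^* O(d))` vanishes. -/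
theorem mem_idealOf_iff_of_mem {d : ℕ} {F : A} (hF : F ∈ 𝒜 d) :
    F ∈ idealOf 𝒜 i.ker f hf ↔
      ProjUP.pullSec i (Twist.twist 𝒜 (d : ℤ)) (Twist.globalOf 𝒜 ⟨F, hF⟩) = 0 := by
  have hcov := hcov_of_span 𝒜 f hf hspan
  rw [← sec_secHom_top 𝒜 hF, pullSec_sec]
  unfold idealOf
  rw [mem_idealI_of_mem 𝒜 f hf _ hF]
  have hj : ∀ j, fr 𝒜 (hf j) d F ∈ Jx 𝒜 i.ker (hf j) one_pos ↔
      sec (pullHom i (secHom 𝒜 hF)) (i ⁻¹ᵁ Proj.basicOpen 𝒜 (f j)) = 0 := by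
    intro j
    rw [sec_pullHom_eq_zero_iff 𝒜 hcov i hF (hf j), ← awayToSection_fr 𝒜 (hf j) hF]
    unfold Jx
    rw [Ideal.mem_comap, Scheme.Hom.ker_apply, RingHom.mem_ker]
  simp only [hj]
  constructor
  · intro h
    refine UPGlue.mres_ext _ (fun j => i ⁻¹ᵁ Proj.basicOpen 𝒜 (f j)) (fun _ => le_top) ?_ _ _ ?_
    · intro x _
      have hx : i.base x ∈ (⨆ j, Proj.basicOpen 𝒜 (f j)) := by
        rw [Proj.iSup_basicOpen_eq_top 𝒜 f hspan]; trivial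
      obtain ⟨j, hj'⟩ := Opens.mem_iSup.mp hx
      exact Opens.mem_iSup.mpr ⟨j, hj'⟩
    · intro j
      rw [sec_mres, h j, map_zero]
  · intro h j
    rw [← sec_mres _ (le_top : i ⁻¹ᵁ Proj.basicOpen 𝒜 (f j) ≤ ⊤), h, map_zero]

variable {B : Type u} [CommRing B] [Algebra R B] {ℬ : ℕ → Submodule R B} [GradedAlgebra ℬ]
  (φ : 𝒜 →+*ᵍ ℬ)

include hf hspan in
/-- **The closed subscheme `Z` of `Proj 𝒜` is `Proj` of any graded quotient of `𝒜` whose kernel in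
each degree `d` consists of the forms vanishing in `Γ(Z, i^* O(d))`.** -/
theorem exists_iso_proj_of_ker [Finite ι] (hsurj : Function.Surjective φ)
    (hker : ∀ (d : ℕ) (F : A) (hF : F ∈ 𝒜 d),
      φ F = 0 ↔ ProjUP.pullSec i (Twist.twist 𝒜 (d : ℤ)) (Twist.globalOf 𝒜 ⟨F, hF⟩) = 0)
    (hφ : HomogeneousIdeal.irrelevant ℬ ≤ (HomogeneousIdeal.irrelevant 𝒜).map φ) :
    ∃ e : Z ≅ Proj ℬ, e.hom ≫ Proj.map φ hφ = i := by
  classical
  have hI := idealOf_isHomogeneous 𝒜 i.ker f hf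
  have hhom : ∀ (d : ℕ) (a : A), φ (DirectSum.decompose 𝒜 a d : A) = 0 ↔
      (DirectSum.decompose 𝒜 a d : A) ∈ idealOf 𝒜 i.ker f hf := by
    intro d a
    rw [hker d _ (SetLike.coe_mem _), mem_idealOf_iff_of_mem 𝒜 f hf hspan i (SetLike.coe_mem _)]
  have hker' : ∀ a : A, φ a = 0 ↔ a ∈ idealOf 𝒜 i.ker f hf := by
    intro a
    constructor
    · intro h0
      rw [← DirectSum.sum_support_decompose 𝒜 a]
      refine Ideal.sum_mem _ fun d _ => ?_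
      rw [← hhom d a, GradedRingHom.map_directSumDecompose, h0, DirectSum.decompose_zero]
      rfl
    · intro ha
      rw [← DirectSum.sum_support_decompose 𝒜 a, map_sum]
      refine Finset.sum_eq_zero fun d _ => ?_
      rw [hhom d a]
      exact hI d ha
  have hcl : IsClosedImmersion (Proj.map φ hφ) :=
    isClosedImmersion_map_of_surjective 𝒜 _ hsurj hφ
  have hk : (Proj.map φ hφ).ker = i.ker := ker_map_of_ker_eq 𝒜 i.ker f hf φ hspan hsurj hker' hφ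
  have hiso : IsIso (IsClosedImmersion.lift (Proj.map φ hφ) i hk.le) :=
    IsClosedImmersion.isIso_lift _ _ hk
  exact ⟨asIso (IsClosedImmersion.lift (Proj.map φ hφ) i hk.le),
    IsClosedImmersion.lift_fac _ _ _⟩

end ideal

end Groth.Agent.Lib.Helper17.ProjKer
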