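import Groth.Agent.Lib.Helper17.PnClosedPts
import Groth.Agent.Lib.Helper97.ZeroScheme
import Groth.Agent.Lib.Helper17.ProjKer
import Groth.Agent.Lib.Helper17.PnH0

/-!
# A hyperplane in `P^{n+1}_k` is isomorphic to `P^n_k` (helper17)
-/

set_option autoImplicit false
set_option linter.unusedSectionVars false
universe u
open AlgebraicGeometry CategoryTheory Limits TopologicalSpace Opposite HomogeneousLocalization

namespace Groth.Agent.Lib.Helper17.Hyperplane
open Groth.Agent.Lib.Helper11 Groth.Agent.Lib.Helper11.GenLocus Groth.Agent.Lib.Helper45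
  Groth.Agent.Lib.Helper49 Groth.Agent.Lib.Helper17.OFrac Groth.Agent.Lib.Helper17.TwistGen
  Groth.Agent.Lib.Helper17.TwistAmple Groth.Agent.Lib.Helper17.UPPull
  Groth.Agent.Lib.Helper17.UPGen Groth.Agent.Lib.Helper17.UPProj
  Groth.Agent.Lib.Helper17.UPCoef Groth.Agent.Lib.Helper17.UPSecKernel
  Groth.Agent.Lib.Helper17.PnSections Groth.Agent.Lib.Helper17.UPUniq
  Groth.Agent.Lib.Helper17.VeryAmpleCrit Groth.Agent.Lib.Helper17.StalkBasis
  Groth.Agent.Lib.Helper17.UPChart Groth.Agent.Lib.Helper17.ProjGlobal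
  Groth.Agent.Lib.Helper17.SepTrans Groth.Agent.Lib.Helper17.PnClosedPts

section Alg
open MvPolynomial
variable {k : Type u} [Field k] (n : ℕ) (a : Fin (n + 2) → k) (j : Fin (n + 2))

/-- the substitution vector: `T_j ↦ -Σ (a_i / a_j) T_i`, the other coordinates to coordinates. -/
noncomputable def bvec : Fin (n + 2) → MvPolynomial (Fin (n + 1)) k :=
  Fin.insertNth j (-∑ i', C (a (j.succAbove i') / a j) * X i') (fun i' => X i')

theorem bvec_self : bvec n a j j = -∑ i', C (a (j.succAbove i') / a j) * X i' := by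
  unfold bvec
  exact Fin.insertNth_apply_same _ _ _

theorem bvec_succAbove (i' : Fin (n + 1)) : bvec n a j (j.succAbove i') = X i' := by
  unfold bvec
  exact Fin.insertNth_apply_succAbove _ _ _ _

theorem bvec_mem (c : Fin (n + 2)) : bvec n a j c ∈ CohB1.polyGrading n k 1 := by
  rcases Fin.eq_self_or_eq_succAbove j c with rfl | ⟨i', rfl⟩
  · rw [bvec_self]
    refine Submodule.neg_mem _ (Submodule.sum_mem _ fun i _ => ?_)
    exact MvPolynomial.isHomogeneous_C_mul_X _ i
  · rw [bvec_succAbove]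
    exact isHomogeneous_X k i'

/-- the substitution homomorphism. -/
noncomputable def phi : MvPolynomial (Fin (n + 2)) k →ₐ[k] MvPolynomial (Fin (n + 1)) k :=
  aeval (bvec n a j)

theorem phi_X (c : Fin (n + 2)) : phi n a j (X c) = bvec n a j c := aeval_X _ _

theorem phi_C (r : k) : phi n a j (C r) = C r := aeval_C _ _

theorem phi_rename (G : MvPolynomial (Fin (n + 1)) k) :
    phi n a j (rename j.succAbove G) = G := by
  unfold phi
  rw [aeval_rename]
  have : bvec n a j ∘ j.succAbove = X := funext fun i' => bvec_succAbove n a j i'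
  rw [this, aeval_X_left]
  rfl

theorem phi_surjective : Function.Surjective (phi n a j) := fun G => ⟨_, phi_rename n a j G⟩

variable (haj : a j ≠ 0)

include haj in
theorem phi_lin : phi n a j (lin (n + 1) a) = 0 := by
  unfold lin
  rw [map_sum, Fin.sum_univ_succAbove _ j]
  simp only [map_mul, phi_C, phi_X, bvec_self, bvec_succAbove]
  rw [mul_neg, Finset.mul_sum, neg_add_eq_zero]
  refine Finset.sum_congr rfl fun i' _ => ?_
  rw [← mul_assoc, ← C_mul, mul_div_cancel₀ _ haj]

include haj in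
theorem X_sub_mem (c : Fin (n + 2)) :
    X c - rename j.succAbove (bvec n a j c) ∈ Ideal.span {lin (n + 1) a} := by
  rcases Fin.eq_self_or_eq_succAbove j c with rfl | ⟨i', rfl⟩
  · rw [bvec_self, map_neg, sub_neg_eq_add, map_sum]
    have : X c + ∑ i', rename c.succAbove (C (a (c.succAbove i') / a c) * X i') =
        C (1 / a c) * lin (n + 1) a := by
      unfold lin
      rw [Fin.sum_univ_succAbove _ c, mul_add, ← mul_assoc, ← C_mul, one_div,
        inv_mul_cancel₀ haj, C_1, one_mul, Finset.mul_sum]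
      congr 1
      refine Finset.sum_congr rfl fun i' _ => ?_
      rw [map_mul, rename_C, rename_X, ← mul_assoc, ← C_mul]
      congr 2
      field_simp
    rw [this]
    exact Ideal.mul_mem_left _ _ (Ideal.subset_span rfl)
  · rw [bvec_succAbove, rename_X, sub_self]
    exact Ideal.zero_mem _

include haj in
theorem sub_rename_phi_mem (F : MvPolynomial (Fin (n + 2)) k) :
    F - rename j.succAbove (phi n a j F) ∈ Ideal.span {lin (n + 1) a} := by
  induction F using MvPolynomial.induction_on with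
  | C r =>
    rw [phi_C, rename_C, sub_self]
    exact Ideal.zero_mem _
  | add p q hp hq =>
    rw [map_add, map_add]
    have : p + q - (rename j.succAbove (phi n a j p) + rename j.succAbove (phi n a j q)) =
        (p - rename j.succAbove (phi n a j p)) + (q - rename j.succAbove (phi n a j q)) := by ring
    rw [this]
    exact Ideal.add_mem _ hp hq
  | mul_X p c hp =>
    rw [map_mul, map_mul, phi_X]
    have : p * X c - rename j.succAbove (phi n a j p) * rename j.succAbove (bvec n a j c) =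
        (p - rename j.succAbove (phi n a j p)) * X c +
          rename j.succAbove (phi n a j p) * (X c - rename j.succAbove (bvec n a j c)) := by ring
    rw [this]
    exact Ideal.add_mem _ (Ideal.mul_mem_right _ _ hp)
      (Ideal.mul_mem_left _ _ (X_sub_mem n a j haj c))

include haj in
theorem phi_eq_zero_iff (F : MvPolynomial (Fin (n + 2)) k) :
    phi n a j F = 0 ↔ F ∈ Ideal.span {lin (n + 1) a} := by
  constructor
  · intro h
    have := sub_rename_phi_mem n a j haj F
    rwa [h, map_zero, sub_zero] at this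
  · intro h
    obtain ⟨q, rfl⟩ := Ideal.mem_span_singleton'.mp h
    rw [map_mul, phi_lin n a j haj, mul_zero]

theorem phi_mem {d : ℕ} {F : MvPolynomial (Fin (n + 2)) k} (hF : F ∈ CohB1.polyGrading (n + 1) k d) :
    phi n a j F ∈ CohB1.polyGrading n k d := by
  have h : F.IsHomogeneous d := hF
  have := h.aeval (bvec n a j) (n := 1) (fun c => bvec_mem n a j c)
  rw [one_mul] at this
  exact this

end Alg

section General
variable {R A : Type u} [CommRing R] [CommRing A] [Algebra R A] (𝒜 : ℕ → Submodule R A)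
  [GradedAlgebra 𝒜]

theorem oFrac_eq_zero_iff {g : A} (hg : g ∈ 𝒜 1) {d : ℕ} {F : A} (hF : F ∈ 𝒜 d) :
    oFrac 𝒜 (Proj.basicOpen 𝒜 g) d F (g ^ d) = 0 ↔ ∃ N : ℕ, g ^ N * F = 0 := by
  rw [← ProjKer.awayToSection_fr 𝒜 hg hF]
  have h0 : (Proj.awayToSection 𝒜 g).hom 0 = 0 := map_zero _
  rw [← h0, (PC.awayToSection_bijective 𝒜 hg one_pos).1.eq_iff]
  rw [PI.fr_of_mem 𝒜 hg hF, HomogeneousLocalization.ext_iff_val, Away.val_mk,
    HomogeneousLocalization.val_zero, Localization.mk_eq_mk', IsLocalization.mk'_eq_zero_iff]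
  constructor
  · rintro ⟨⟨_, N, rfl⟩, hN⟩
    exact ⟨N, hN⟩
  · rintro ⟨N, hN⟩
    exact ⟨⟨_, N, rfl⟩, hN⟩

theorem sv_eq_sec {X : Scheme.{u}} (L : X.Modules) (s : Coh.structureModule X ⟶ L) (V : X.Opens) :
    Groth.Agent.Lib.Helper97.ZeroScheme.sv L s V = sec s V := rfl

/-- the ideal of the zero scheme of a linear form on a standard chart. -/
theorem ideal_zeroScheme_D (N : ℕ) {ℓ : MvPolynomial (Fin (N + 1)) R}
    (hℓ : ℓ ∈ CohB1.polyGrading N R 1) (c : Fin (N + 1)) :
    (PicF2.zeroScheme (Twist.twistProjSpace N R 1) (secHom (CohB1.polyGrading N R) hℓ)).ideal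
      ⟨D R N c, isAffineOpen_D N c⟩ =
    Ideal.span {dehom (CohB1.polyGrading N R) (T_mem N R c) ℓ} := by
  rw [Groth.Agent.Lib.Helper97.ZeroScheme.ideal_zeroScheme _ _ (isInvertible_O1 N)]
  have hb : IsBasisOn (Twist.twistProjSpace N R 1) (D R N c) (sec (sigT N c) (D R N c)) := by
    apply (le_genLocus_iff_isBasisOn (sigT N c) (D R N c)).mp
    exact (TwistAmple.genLocus_secHom (CohB1.polyGrading N R) (iSup_basicOpen_deg_one N)
      (T_mem N R c)).ge
  obtain ⟨z, hz⟩ : ∃ z : Γ(CohB1.ProjSpace N R, D R N c),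
      z = dehom (CohB1.polyGrading N R) (T_mem N R c) ℓ := ⟨_, rfl⟩
  have hsv : Groth.Agent.Lib.Helper97.ZeroScheme.sv (Twist.twistProjSpace N R 1)
      (secHom (CohB1.polyGrading N R) hℓ) (D R N c) = z • sec (sigT N c) (D R N c) := by
    rw [hz, dehom_of_mem (CohB1.polyGrading N R) (T_mem N R c) hℓ, pow_one, sv_eq_sec]
    exact sec_secHom_eq_smul (CohB1.polyGrading N R) hℓ (T_mem N R c) (D R N c) (nv_basicOpen _)
  rw [← hz]
  exact Groth.Agent.Lib.Helper97.ZeroScheme.zI_of_basis hb hsv

/-- every section of `O(1)` on `P^N_R` is a linear form. -/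
theorem exists_lin (N : ℕ)
    (s : Coh.structureModule (CohB1.ProjSpace N R) ⟶ Twist.twistProjSpace N R 1) :
    ∃ a : Fin (N + 1) → R, s = secHom (CohB1.polyGrading N R) (lin_mem N a) := by
  obtain ⟨⟨ℓ, hℓ⟩, hℓs⟩ := PnSections.globalOf_surjective N R 1
    (sec s ⊤ : Twist.sectN (𝒜 := CohB1.polyGrading N R) ((1 : ℕ) : ℤ) (op ⊤))
  have hℓ' : ℓ ∈ Submodule.span R (Set.range MvPolynomial.X) := by
    rw [← MvPolynomial.homogeneousSubmodule_one_eq_span_X]
    exact hℓ
  obtain ⟨a, ha⟩ := (Submodule.mem_span_range_iff_exists_fun R).mp hℓ'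
  refine ⟨a, ?_⟩
  have hlin : lin N a = ℓ := by
    unfold lin
    rw [← ha]
    exact Finset.sum_congr rfl fun i _ => (MvPolynomial.smul_eq_C_mul _ _).symm
  subst hlin
  apply hom_ext_of_sec_top
  refine Eq.trans ?_ (sec_secHom_top (CohB1.polyGrading N R) (lin_mem N a)).symm
  exact hℓs.symm

theorem sec_zero' {X : Scheme.{u}} (L : X.Modules) (U : X.Opens) :
    sec (0 : Coh.structureModule X ⟶ L) U = 0 := by
  unfold sec
  rfl

theorem secHom_lin_zero (N : ℕ)
    (h0 : (0 : MvPolynomial (Fin (N + 1)) R) ∈ CohB1.polyGrading N R 1) :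
    secHom (CohB1.polyGrading N R) h0 = 0 := by
  apply hom_ext_of_sec_top
  rw [sec_secHom_top, sec_zero']
  exact map_zero (Groth.Agent.Lib.Helper17.PnH0.globalOfHom N R 1)

end General

section Geom
variable {k : Type u} [Field k] (n : ℕ) (a : Fin (n + 2) → k) (j : Fin (n + 2))

/-- `P^n_k` as a `Proj`. -/
noncomputable abbrev P : Scheme.{u} := Proj (CohB1.polyGrading n k)

/-- `O(1)` on `P^n_k`. -/
noncomputable abbrev O1 : (P (k := k) n).Modules := Twist.twist (CohB1.polyGrading n k) ((1 : ℕ) : ℤ)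

/-- the sections `b_c` of `O(1)` on `P^n`. -/
noncomputable def wv (c : Fin (n + 2)) : Γ(O1 (k := k) n, ⊤) :=
  sec (secHom (CohB1.polyGrading n k) (bvec_mem n a j c)) ⊤

theorem loc_wv (c : Fin (n + 2)) :
    loc (wv n a j c) = Proj.basicOpen (CohB1.polyGrading n k) (bvec n a j c) := by
  unfold UPCoef.loc wv
  rw [homOfSection_sec_top]
  exact TwistAmple.genLocus_secHom (CohB1.polyGrading n k) (iSup_basicOpen_deg_one n)
    (bvec_mem n a j c)

theorem coef_wv (c c' : Fin (n + 2)) :
    coef (wv n a j c) (wv n a j c') =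
      oFrac (CohB1.polyGrading n k) (loc (wv n a j c)) 1 (bvec n a j c') (bvec n a j c) := by
  symm
  apply coef_unique
  have hNV : NV (CohB1.polyGrading n k) (loc (wv n a j c)) (bvec n a j c) := by
    rw [loc_wv]
    exact nv_basicOpen _
  have h := sec_secHom_eq_smul (CohB1.polyGrading n k) (bvec_mem n a j c') (bvec_mem n a j c)
    (loc (wv n a j c)) hNV
  change oFrac (CohB1.polyGrading n k) (loc (wv n a j c)) 1 (bvec n a j c') (bvec n a j c) •
    mres (O1 (k := k) n) le_top
      (sec (secHom (CohB1.polyGrading n k) (bvec_mem n a j c)) ⊤) =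
    mres (O1 (k := k) n) le_top
      (sec (secHom (CohB1.polyGrading n k) (bvec_mem n a j c')) ⊤)
  rw [sec_mres, sec_mres]
  exact h.symm

theorem cover_wv (x : P (k := k) n) : ∃ c, x ∈ loc (wv n a j c) := by
  obtain ⟨i', hi'⟩ := exists_T_not_mem n k (x : ProjectiveSpectrum (CohB1.polyGrading n k))
  refine ⟨j.succAbove i', ?_⟩
  rw [loc_wv, bvec_succAbove]
  exact (Proj.mem_basicOpen _ _ _).mpr hi'

theorem exists_r : ∃ (r : P (k := k) n ⟶ CohB1.ProjSpace (n + 1) k)
    (_ : r ≫ CohB1.ProjSpace.toSpec (n + 1) k = CohB1.ProjSpace.toSpec n k)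
    (τ : (Scheme.Modules.pullback r).obj (Twist.twistProjSpace (n + 1) k 1) ≅ O1 (k := k) n),
    ∀ i, τ.hom.app ⊤ (ProjUP.pullSec r (Twist.twistProjSpace (n + 1) k 1)
      (ProjUP.coord (n + 1) k i)) = wv n a j i :=
  Groth.Agent.Lib.Helper17.UPExist.exists_to_projSpace_of_cover (n + 1)
    (CohB1.ProjSpace.toSpec n k) _ (wv n a j) (cover_wv n a j)

section R
variable (r : P (k := k) n ⟶ CohB1.ProjSpace (n + 1) k)
  (hr : r ≫ CohB1.ProjSpace.toSpec (n + 1) k = CohB1.ProjSpace.toSpec n k)
  (τ : (Scheme.Modules.pullback r).obj (Twist.twistProjSpace (n + 1) k 1) ≅ O1 (k := k) n)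
  (hτ : ∀ i, τ.hom.app ⊤ (ProjUP.pullSec r (Twist.twistProjSpace (n + 1) k 1)
    (ProjUP.coord (n + 1) k i)) = wv n a j i)

include hτ in
theorem preimage_D (c : Fin (n + 2)) :
    r ⁻¹ᵁ D k (n + 1) c = Proj.basicOpen (CohB1.polyGrading n k) (bvec n a j c) := by
  rw [← loc_eq (n + 1) r τ (wv n a j) hτ c, loc_wv]

include hr hτ in
theorem rho_dehom (c : Fin (n + 2)) (F : MvPolynomial (Fin (n + 2)) k) :
    (r.appLE (D k (n + 1) c) (Proj.basicOpen (CohB1.polyGrading n k) (bvec n a j c))
      (preimage_D n a j r τ hτ c).ge).hom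
      (dehom (CohB1.polyGrading (n + 1) k) (T_mem (n + 1) k c) F) =
    dehom (CohB1.polyGrading n k) (bvec_mem n a j c) (phi n a j F) := by
  have key : ∀ (W : (P (k := k) n).Opens) (hW : W = loc (wv n a j c))
      (hW' : W = Proj.basicOpen (CohB1.polyGrading n k) (bvec n a j c))
      (hle : W ≤ r ⁻¹ᵁ D k (n + 1) c),
      ((r.appLE (D k (n + 1) c) W hle).hom.comp
        (dehom (CohB1.polyGrading (n + 1) k) (T_mem (n + 1) k c))) =
      ((P (k := k) n).presheaf.map (eqToHom hW').op).hom.comp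
        ((dehom (CohB1.polyGrading n k) (bvec_mem n a j c)).comp
          (phi n a j : MvPolynomial (Fin (n + 2)) k →+* MvPolynomial (Fin (n + 1)) k)) := by
    intro W hW hW' hle
    subst hW
    apply MvPolynomial.ringHom_ext
    · intro x
      simp only [RingHom.comp_apply]
      have hphi : (phi n a j : MvPolynomial (Fin (n + 2)) k →+* MvPolynomial (Fin (n + 1)) k)
          (MvPolynomial.C x) = MvPolynomial.C x := phi_C n a j x
      rw [hphi]
      have h1 := appLE_dehom_algebraMap (CohB1.polyGrading (n + 1) k) (T_mem (n + 1) k c) r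
        (loc (wv n a j c)) hle x
      have hr' : r ≫ strMap (CohB1.polyGrading (n + 1) k) = strMap (CohB1.polyGrading n k) := hr
      have e : (gHom (r ≫ strMap (CohB1.polyGrading (n + 1) k))).hom x =
          (gHom (strMap (CohB1.polyGrading n k))).hom x :=
        congrArg (fun q : P (k := k) n ⟶ Spec (CommRingCat.of k) => (gHom q).hom x) hr'
      have h2 : (gHom (strMap (CohB1.polyGrading n k))).hom x =
          oFrac (CohB1.polyGrading n k) ⊤ 0 (algebraMap k (MvPolynomial (Fin (n + 1)) k) x) 1 :=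
        toGlobal_apply (CohB1.polyGrading n k) x
      have G : Good (CohB1.polyGrading n k) (⊤ : (P (k := k) n).Opens) 0
          (algebraMap k (MvPolynomial (Fin (n + 1)) k) x) 1 :=
        good_zero (CohB1.polyGrading n k) (algebraMap k (CohB1.polyGrading n k 0) x)
      have h3 := res_oFrac (CohB1.polyGrading n k)
        (homOfLE (le_top : loc (wv n a j c) ≤ ⊤)) G
      refine h1.trans ((congrArg (fun z => ((P (k := k) n).presheaf.map
        (homOfLE (le_top : loc (wv n a j c) ≤ ⊤)).op).hom z) (e.trans h2)).trans (h3.trans ?_))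
      have h4 := dehom_of_mem (CohB1.polyGrading n k) (bvec_mem n a j c)
        (SetLike.algebraMap_mem_graded (CohB1.polyGrading n k) x)
      rw [pow_zero] at h4
      have h5 := res_oFrac (CohB1.polyGrading n k) (eqToHom hW') (G.mono le_top)
      refine h5.symm.trans ?_
      exact congrArg _ h4.symm
    · intro i
      simp only [RingHom.comp_apply]
      have hphi : (phi n a j : MvPolynomial (Fin (n + 2)) k →+* MvPolynomial (Fin (n + 1)) k)
          (MvPolynomial.X i) = bvec n a j i := phi_X n a j i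
      rw [hphi]
      have h1 := dehom_of_mem (CohB1.polyGrading (n + 1) k) (T_mem (n + 1) k c)
        (T_mem (n + 1) k i)
      rw [pow_one] at h1
      have h2 := appLE_oFrac (n + 1) r τ (wv n a j) hτ c i
      rw [coef_wv] at h2
      have h3 := dehom_of_mem (CohB1.polyGrading n k) (bvec_mem n a j c) (bvec_mem n a j i)
      rw [pow_one] at h3
      have h4 := res_oFrac (CohB1.polyGrading n k) (eqToHom hW')
        (good_of (bvec_mem n a j i) (bvec_mem n a j c) (nv_basicOpen _))
      refine Eq.trans (congrArg _ h1) (h2.trans (h4.symm.trans ?_))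
      exact congrArg _ h3.symm
  have h := key _ (loc_wv n a j c).symm rfl (preimage_D n a j r τ hτ c).ge
  have h2 := congrArg (fun ψ => ψ F) h
  simp only [RingHom.comp_apply, eqToHom_refl, op_id, CategoryTheory.Functor.map_id] at h2
  exact h2

include hr hτ in
theorem rho_surjective (c : Fin (n + 2)) :
    Function.Surjective (r.appLE (D k (n + 1) c)
      (Proj.basicOpen (CohB1.polyGrading n k) (bvec n a j c))
      (preimage_D n a j r τ hτ c).ge).hom := by
  intro z
  obtain ⟨G, rfl⟩ := dehom_surjective (CohB1.polyGrading n k) (bvec_mem n a j c) z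
  refine ⟨dehom (CohB1.polyGrading (n + 1) k) (T_mem (n + 1) k c)
    (MvPolynomial.rename j.succAbove G), ?_⟩
  rw [rho_dehom n a j r hr τ hτ c, phi_rename]

theorem iSup_D' : (⨆ c, D k (n + 1) c) = ⊤ := by
  rw [eq_top_iff]
  intro y _
  obtain ⟨c, hc⟩ := exists_T_not_mem (n + 1) k
    ((y : Proj (CohB1.polyGrading (n + 1) k)) : ProjectiveSpectrum (CohB1.polyGrading (n + 1) k))
  exact Opens.mem_iSup.mpr ⟨c, (Proj.mem_basicOpen _ _ _).mpr hc⟩

include hr hτ in
theorem isClosedImmersion_r : IsClosedImmersion r := by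
  apply IsZariskiLocalAtTarget.of_iSup_eq_top (fun c => D k (n + 1) c) (iSup_D' n)
  intro c
  exact isClosedImmersion_morphismRestrict r (D k (n + 1) c) (isAffineOpen_D (n + 1) c)
    (Proj.basicOpen (CohB1.polyGrading n k) (bvec n a j c))
    (Proj.isAffineOpen_basicOpen (CohB1.polyGrading n k) _ (bvec_mem n a j c) one_pos)
    (preimage_D n a j r τ hτ c).symm (rho_surjective n a j r hr τ hτ c)

variable (haj : a j ≠ 0)

include hr hτ haj in
theorem ker_rho (c : Fin (n + 2)) :
    RingHom.ker (r.appLE (D k (n + 1) c)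
      (Proj.basicOpen (CohB1.polyGrading n k) (bvec n a j c))
      (preimage_D n a j r τ hτ c).ge).hom =
    Ideal.span {dehom (CohB1.polyGrading (n + 1) k) (T_mem (n + 1) k c) (lin (n + 1) a)} := by
  apply le_antisymm
  · intro x hx
    rw [RingHom.mem_ker] at hx
    obtain ⟨d, F, hF, rfl⟩ := Groth.Agent.Lib.Helper17.SerreFinite.exists_eq_oFrac
      (CohB1.polyGrading (n + 1) k) (T_mem (n + 1) k c) x
    rw [← dehom_of_mem (CohB1.polyGrading (n + 1) k) (T_mem (n + 1) k c) hF] at hx ⊢
    rw [rho_dehom n a j r hr τ hτ c,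
      dehom_of_mem (CohB1.polyGrading n k) (bvec_mem n a j c) (phi_mem n a j hF),
      oFrac_eq_zero_iff (CohB1.polyGrading n k) (bvec_mem n a j c) (phi_mem n a j hF)] at hx
    obtain ⟨N, hN⟩ := hx
    have hmap : ∀ G, G ∈ Ideal.span {lin (n + 1) a} →
        dehom (CohB1.polyGrading (n + 1) k) (T_mem (n + 1) k c) G ∈
          Ideal.span {dehom (CohB1.polyGrading (n + 1) k) (T_mem (n + 1) k c) (lin (n + 1) a)} := by
      intro G hG
      have := Ideal.mem_map_of_mem (dehom (CohB1.polyGrading (n + 1) k) (T_mem (n + 1) k c)) hG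
      rwa [Ideal.map_span, Set.image_singleton] at this
    rcases mul_eq_zero.mp hN with h | h
    · have hb : bvec n a j c = 0 := IsReduced.eq_zero _ ⟨N, h⟩
      have hT : T (n + 1) k c ∈ Ideal.span {lin (n + 1) a} :=
        (phi_eq_zero_iff n a j haj _).mp (by rw [phi_X]; exact hb)
      have h1 := hmap _ hT
      have h2 : dehom (CohB1.polyGrading (n + 1) k) (T_mem (n + 1) k c) (T (n + 1) k c) = 1 := by
        rw [dehom_of_mem (CohB1.polyGrading (n + 1) k) (T_mem (n + 1) k c) (T_mem (n + 1) k c),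
          pow_one]
        exact oFrac_self _ (good_of (T_mem (n + 1) k c) (T_mem (n + 1) k c) (nv_basicOpen _))
      rw [h2] at h1
      rw [(Ideal.eq_top_iff_one _).mpr h1]
      trivial
    · exact hmap _ ((phi_eq_zero_iff n a j haj F).mp h)
  · apply Ideal.span_le.mpr
    intro x hx
    rw [Set.mem_singleton_iff] at hx
    subst hx
    apply (RingHom.mem_ker).mpr
    refine (rho_dehom n a j r hr τ hτ c (lin (n + 1) a)).trans ?_
    rw [phi_lin n a j haj, map_zero]

include hr hτ haj in
theorem ker_r : r.ker = PicF2.zeroScheme (Twist.twistProjSpace (n + 1) k 1)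
    (secHom (CohB1.polyGrading (n + 1) k) (lin_mem (n + 1) a)) := by
  have := isClosedImmersion_r n a j r hr τ hτ
  apply Scheme.IdealSheafData.ext_of_iSup_eq_top
    (fun c => (⟨D k (n + 1) c, isAffineOpen_D (n + 1) c⟩ : (CohB1.ProjSpace (n + 1) k).affineOpens))
    (iSup_D' n)
  intro c
  rw [ideal_zeroScheme_D (n + 1) (lin_mem (n + 1) a) c, Scheme.Hom.ker_apply,
    ← ker_rho n a j r hr τ hτ haj c]
  have key : ∀ (W : (P (k := k) n).Opens) (hW : W = r ⁻¹ᵁ D k (n + 1) c),
      RingHom.ker (r.app (D k (n + 1) c)).hom =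
        RingHom.ker (r.appLE (D k (n + 1) c) W hW.le).hom := by
    intro W hW
    subst hW
    rw [Scheme.Hom.app_eq_appLE]
  exact key _ (preimage_D n a j r τ hτ c).symm

end R

/-- **A hyperplane in `P^{n+1}_k` is isomorphic to `P^n_k`, compatibly with `O(1)`.** -/
theorem exists_iso
    (s : Coh.structureModule (CohB1.ProjSpace (n + 1) k) ⟶ Twist.twistProjSpace (n + 1) k 1)
    (hs : s ≠ 0) :
    ∃ φ : CohB1.ProjSpace n k ≅ (PicF2.zeroScheme _ s).subscheme,
      Nonempty ((Scheme.Modules.pullback (φ.hom ≫ (PicF2.zeroScheme _ s).subschemeι)).obj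
          (Twist.twistProjSpace (n + 1) k 1) ≅ Twist.twistProjSpace n k 1) := by
  obtain ⟨a, rfl⟩ := exists_lin (n + 1) s
  obtain ⟨j, haj⟩ : ∃ j, a j ≠ 0 := by
    by_contra hcon
    push Not at hcon
    apply hs
    have h0 : lin (n + 1) a = 0 := by
      unfold lin
      refine Finset.sum_eq_zero fun i _ => ?_
      rw [hcon i, map_zero, zero_mul]
    have key : ∀ (ℓ : MvPolynomial (Fin (n + 1 + 1)) k) (hℓ : ℓ ∈ CohB1.polyGrading (n + 1) k 1),
        ℓ = 0 → secHom (CohB1.polyGrading (n + 1) k) hℓ = 0 := by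
      intro ℓ hℓ h
      subst h
      exact secHom_lin_zero (n + 1) hℓ
    exact key _ _ h0
  obtain ⟨r, hr, τ, hτ⟩ := exists_r n a j
  have hcl : IsClosedImmersion r := isClosedImmersion_r n a j r hr τ hτ
  have hk := ker_r n a j r hr τ hτ haj
  set 𝓘 := PicF2.zeroScheme (Twist.twistProjSpace (n + 1) k 1)
    (secHom (CohB1.polyGrading (n + 1) k) (lin_mem (n + 1) a)) with h𝓘
  have main : ∀ (r' : CohB1.ProjSpace n k ⟶ CohB1.ProjSpace (n + 1) k)
      (_ : IsClosedImmersion r') (_ : r'.ker = 𝓘)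
      (_ : (Scheme.Modules.pullback r').obj (Twist.twistProjSpace (n + 1) k 1) ≅
        Twist.twistProjSpace n k 1),
      ∃ φ : CohB1.ProjSpace n k ≅ 𝓘.subscheme,
        Nonempty ((Scheme.Modules.pullback (φ.hom ≫ 𝓘.subschemeι)).obj
          (Twist.twistProjSpace (n + 1) k 1) ≅ Twist.twistProjSpace n k 1) := by
    intro r' hcl' hk1 τ'
    have hk' : 𝓘.subschemeι.ker = r'.ker := by
      rw [Scheme.IdealSheafData.ker_subschemeι, hk1]
    have hiso : IsIso (IsClosedImmersion.lift 𝓘.subschemeι r' hk'.le) :=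
      IsClosedImmersion.isIso_lift _ _ hk'
    refine ⟨asIso (IsClosedImmersion.lift 𝓘.subschemeι r' hk'.le), ?_⟩
    have hfac : (asIso (IsClosedImmersion.lift 𝓘.subschemeι r' hk'.le)).hom ≫ 𝓘.subschemeι = r' :=
      IsClosedImmersion.lift_fac _ _ _
    rw [hfac]
    exact ⟨τ'⟩
  exact main r hcl hk τ

end Geom

end Groth.Agent.Lib.Helper17.Hyperplane
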