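import Mathlib.RingTheory.MvPolynomial.Homogeneous
import Mathlib.Tactic

/-!
# Laurent expansions of fractions `m / x^u` of polynomials (helper17)

For a polynomial `m` in the variables `σ` and an exponent vector `u`, `lau m u : (σ → ℤ) → R` is
the coefficient function of the Laurent polynomial `m / x^u`.  No ring structure on Laurent
polynomials is used: only the additive group of coefficient functions.
-/

set_option autoImplicit false
universe u
open MvPolynomial

namespace Groth.Agent.Lib.Helper17.Laurent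

variable {σ : Type*} [Fintype σ] [DecidableEq σ] {R : Type*} [CommRing R]

/-- integer vector to exponent vector (negative entries are truncated). -/
noncomputable def natVec (b : σ → ℤ) : σ →₀ ℕ :=
  Finsupp.equivFunOnFinite.symm (fun i => (b i).toNat)

omit [DecidableEq σ] in
@[simp] theorem natVec_apply (b : σ → ℤ) (i : σ) : natVec b i = (b i).toNat := rfl

/-- exponent vector to integer vector. -/
def intVec (μ : σ →₀ ℕ) : σ → ℤ := fun i => (μ i : ℤ)

omit [Fintype σ] [DecidableEq σ] in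
@[simp] theorem intVec_apply (μ : σ →₀ ℕ) (i : σ) : intVec μ i = (μ i : ℤ) := rfl

omit [DecidableEq σ] in
theorem natVec_intVec (μ : σ →₀ ℕ) : natVec (intVec μ) = μ := by
  ext i; simp

omit [DecidableEq σ] in
theorem intVec_natVec (b : σ → ℤ) (hb : ∀ i, 0 ≤ b i) : intVec (natVec b) = b := by
  funext i
  simp [Int.toNat_of_nonneg (hb i)]

omit [Fintype σ] [DecidableEq σ] in
theorem intVec_add (μ ν : σ →₀ ℕ) : intVec (μ + ν) = intVec μ + intVec ν := by
  funext i; simp

omit [Fintype σ] [DecidableEq σ] in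
theorem intVec_injective : Function.Injective (intVec : (σ →₀ ℕ) → σ → ℤ) := by
  intro μ ν h
  ext i
  have := congrFun h i
  simpa using this

/-- the coefficient function of the Laurent polynomial `m / x^u`. -/
noncomputable def lau (m : MvPolynomial σ R) (u : σ →₀ ℕ) : (σ → ℤ) → R := fun a =>
  if ∀ i, 0 ≤ a i + u i then coeff (natVec (a + intVec u)) m else 0

omit [DecidableEq σ] in
theorem lau_apply_of_nonneg (m : MvPolynomial σ R) (u : σ →₀ ℕ) (a : σ → ℤ)
    (h : ∀ i, 0 ≤ a i + u i) : lau m u a = coeff (natVec (a + intVec u)) m := if_pos h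

omit [DecidableEq σ] in
theorem lau_apply_of_not (m : MvPolynomial σ R) (u : σ →₀ ℕ) (a : σ → ℤ)
    (h : ¬ ∀ i, 0 ≤ a i + u i) : lau m u a = 0 := if_neg h

omit [DecidableEq σ] in
theorem lau_add (m m' : MvPolynomial σ R) (u : σ →₀ ℕ) : lau (m + m') u = lau m u + lau m' u := by
  funext a
  by_cases h : ∀ i, 0 ≤ a i + u i
  · simp [lau_apply_of_nonneg _ _ _ h]
  · simp [lau_apply_of_not _ _ _ h]

omit [DecidableEq σ] in
theorem lau_zero (u : σ →₀ ℕ) : lau (0 : MvPolynomial σ R) u = 0 := by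
  funext a
  by_cases h : ∀ i, 0 ≤ a i + u i
  · simp [lau_apply_of_nonneg _ _ _ h]
  · simp [lau_apply_of_not _ _ _ h]

omit [DecidableEq σ] in
theorem lau_neg (m : MvPolynomial σ R) (u : σ →₀ ℕ) : lau (-m) u = -lau m u := by
  funext a
  by_cases h : ∀ i, 0 ≤ a i + u i
  · simp [lau_apply_of_nonneg _ _ _ h]
  · simp [lau_apply_of_not _ _ _ h]

omit [DecidableEq σ] in
theorem lau_sub (m m' : MvPolynomial σ R) (u : σ →₀ ℕ) : lau (m - m') u = lau m u - lau m' u := by
  rw [sub_eq_add_neg, lau_add, lau_neg, sub_eq_add_neg]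

omit [DecidableEq σ] in
/-- the value at `μ - u`. -/
theorem lau_apply_sub (m : MvPolynomial σ R) (u μ : σ →₀ ℕ) :
    lau m u (intVec μ - intVec u) = coeff μ m := by
  rw [lau_apply_of_nonneg]
  · congr 1
    rw [sub_add_cancel, natVec_intVec]
  · intro i
    simp

omit [DecidableEq σ] in
theorem eq_zero_of_lau_eq_zero (m : MvPolynomial σ R) (u : σ →₀ ℕ) (h : lau m u = 0) : m = 0 := by
  rw [MvPolynomial.eq_zero_iff]
  intro μ
  rw [← lau_apply_sub m u μ, h]
  rfl

omit [DecidableEq σ] in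
theorem lau_injective (u : σ →₀ ℕ) {m m' : MvPolynomial σ R} (h : lau m u = lau m' u) : m = m' := by
  apply sub_eq_zero.mp
  apply eq_zero_of_lau_eq_zero _ u
  rw [lau_sub, h, sub_self]

omit [DecidableEq σ] in
/-- multiplying numerator and denominator by a monomial does not change the expansion. -/
theorem lau_monomial_mul (m : MvPolynomial σ R) (u w : σ →₀ ℕ) :
    lau (monomial w 1 * m) (u + w) = lau m u := by
  classical
  funext a
  by_cases h : ∀ i, 0 ≤ a i + u i
  · have h' : ∀ i, 0 ≤ a i + (u + w) i := fun i => by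
      have := h i
      simp only [Finsupp.add_apply, Nat.cast_add]
      omega
    rw [lau_apply_of_nonneg _ _ _ h, lau_apply_of_nonneg _ _ _ h', coeff_monomial_mul']
    have hle : w ≤ natVec (a + intVec (u + w)) := by
      intro i
      have := h i
      simp only [natVec_apply, Pi.add_apply, intVec_apply, Finsupp.add_apply, Nat.cast_add]
      omega
    rw [if_pos hle, one_mul]
    congr 1
    ext i
    have := h i
    simp only [Finsupp.tsub_apply, natVec_apply, Pi.add_apply, intVec_apply, Finsupp.add_apply,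
      Nat.cast_add]
    omega
  · rw [lau_apply_of_not _ _ _ h]
    by_cases h' : ∀ i, 0 ≤ a i + (u + w) i
    · rw [lau_apply_of_nonneg _ _ _ h', coeff_monomial_mul']
      have hle : ¬ w ≤ natVec (a + intVec (u + w)) := by
        intro hle
        apply h
        intro i
        have h1 := hle i
        have h2 := h' i
        simp only [natVec_apply, Pi.add_apply, intVec_apply, Finsupp.add_apply, Nat.cast_add]
          at h1 h2
        omega
      rw [if_neg hle]
    · rw [lau_apply_of_not _ _ _ h']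

omit [DecidableEq σ] in
/-- the support of `lau m u`. -/
theorem exists_of_lau_ne_zero (m : MvPolynomial σ R) (u : σ →₀ ℕ) (a : σ → ℤ)
    (h : lau m u a ≠ 0) : ∃ μ ∈ m.support, a = intVec μ - intVec u := by
  by_cases h' : ∀ i, 0 ≤ a i + u i
  · rw [lau_apply_of_nonneg _ _ _ h'] at h
    refine ⟨natVec (a + intVec u), MvPolynomial.mem_support_iff.mpr h, ?_⟩
    rw [intVec_natVec _ (fun i => by simpa using h' i), add_sub_cancel_right]
  · rw [lau_apply_of_not _ _ _ h'] at h
    exact absurd rfl h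

omit [DecidableEq σ] in
theorem finite_support_lau (m : MvPolynomial σ R) (u : σ →₀ ℕ) :
    (Function.support (lau m u)).Finite := by
  classical
  refine Set.Finite.subset (m.support.image (fun μ => intVec μ - intVec u)).finite_toSet ?_
  intro a ha
  obtain ⟨μ, hμ, rfl⟩ := exists_of_lau_ne_zero m u a ha
  exact Finset.mem_coe.mpr (Finset.mem_image_of_mem _ hμ)

omit [DecidableEq σ] in
theorem sum_eq_of_lau_ne_zero {e : ℕ} (m : MvPolynomial σ R) (hm : m.IsHomogeneous e)
    (u : σ →₀ ℕ) (a : σ → ℤ) (h : lau m u a ≠ 0) :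
    ∑ i, a i = (e : ℤ) - ∑ i, (u i : ℤ) := by
  obtain ⟨μ, hμ, rfl⟩ := exists_of_lau_ne_zero m u a h
  have h1 : μ.degree = e := by
    have := hm (MvPolynomial.mem_support_iff.mp hμ)
    rw [Finsupp.degree_eq_weight_one]
    exact this
  have h2 : (∑ i, (μ i : ℤ)) = e := by
    rw [← h1, Finsupp.degree_eq_sum]
    push_cast
    rfl
  simp only [Pi.sub_apply, intVec_apply, Finset.sum_sub_distrib, h2]

omit [DecidableEq σ] in
theorem pos_of_lau_ne_zero (m : MvPolynomial σ R) (u : σ →₀ ℕ) (a : σ → ℤ)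
    (h : lau m u a ≠ 0) (i : σ) (hi : a i < 0) : 0 < u i := by
  obtain ⟨μ, -, rfl⟩ := exists_of_lau_ne_zero m u a h
  simp only [Pi.sub_apply, intVec_apply] at hi
  omega

/-- every finitely supported coefficient function with bounded poles is a `lau`. -/
theorem exists_lau_eq (ℓ : (σ → ℤ) → R) (s : Finset (σ → ℤ)) (hs : ∀ a, ℓ a ≠ 0 → a ∈ s)
    (u : σ →₀ ℕ) (hu : ∀ a ∈ s, ∀ i, 0 ≤ a i + u i) (d : ℤ) (hd : ∀ a ∈ s, ∑ i, a i = d)
    (e : ℕ) (he : (e : ℤ) = d + ∑ i, (u i : ℤ)) :
    ∃ m : MvPolynomial σ R, m.IsHomogeneous e ∧ lau m u = ℓ := by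
  classical
  refine ⟨∑ a ∈ s, monomial (natVec (a + intVec u)) (ℓ a), ?_, ?_⟩
  · apply IsHomogeneous.sum
    intro a ha
    apply isHomogeneous_monomial
    have h1 : ((natVec (a + intVec u)).degree : ℤ) = e := by
      rw [Finsupp.degree_eq_sum]
      push_cast
      rw [he, ← hd a ha, ← Finset.sum_add_distrib]
      refine Finset.sum_congr rfl fun i _ => ?_
      have := hu a ha i
      simp only [natVec_apply, Pi.add_apply, intVec_apply]
      omega
    exact_mod_cast h1
  · funext a
    by_cases h : ∀ i, 0 ≤ a i + u i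
    · rw [lau_apply_of_nonneg _ _ _ h, coeff_sum]
      simp only [coeff_monomial]
      have hinj : ∀ a' ∈ s, natVec (a' + intVec u) = natVec (a + intVec u) → a' = a := by
        intro a' ha' heq
        funext i
        have h1 := DFunLike.congr_fun heq i
        have h2 := hu a' ha' i
        have h3 := h i
        simp only [natVec_apply, Pi.add_apply, intVec_apply] at h1
        omega
      by_cases has : a ∈ s
      · rw [Finset.sum_eq_single a]
        · simp
        · intro a' ha' hne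
          rw [if_neg]
          exact fun heq => hne (hinj a' ha' heq)
        · intro hn; exact absurd has hn
      · rw [Finset.sum_eq_zero]
        · by_contra hne
          exact has (hs a (Ne.symm hne))
        · intro a' ha'
          rw [if_neg]
          intro heq
          exact has (hinj a' ha' heq ▸ ha')
    · rw [lau_apply_of_not _ _ _ h]
      by_contra hne
      exact h (hu a (hs a (Ne.symm hne)))

/-- Laurent coefficient functions of degree `d` with poles only along the coordinates in `I`. -/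
def Ld (R : Type*) [CommRing R] (d : ℤ) (I : Set σ) : AddSubgroup ((σ → ℤ) → R) where
  carrier := {ℓ | (Function.support ℓ).Finite ∧
    ∀ a, ℓ a ≠ 0 → (∑ i, a i = d ∧ ∀ i, a i < 0 → i ∈ I)}
  zero_mem' := ⟨by simp, fun a h => absurd rfl h⟩
  add_mem' := by
    rintro ℓ ℓ' ⟨hf, h⟩ ⟨hf', h'⟩
    refine ⟨(hf.union hf').subset (Function.support_add ℓ ℓ'), fun a ha => ?_⟩
    by_cases h1 : ℓ a = 0
    · by_cases h2 : ℓ' a = 0
      · exact absurd (by simp [h1, h2]) ha
      · exact h' a h2
    · exact h a h1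
  neg_mem' := by
    rintro ℓ ⟨hf, h⟩
    refine ⟨by simpa [Function.support_neg] using hf, fun a ha => h a (by simpa using ha)⟩

omit [DecidableEq σ] in
theorem mem_Ld_iff {d : ℤ} {I : Set σ} {ℓ : (σ → ℤ) → R} :
    ℓ ∈ Ld R d I ↔ (Function.support ℓ).Finite ∧
      ∀ a, ℓ a ≠ 0 → (∑ i, a i = d ∧ ∀ i, a i < 0 → i ∈ I) := Iff.rfl

omit [DecidableEq σ] in
theorem lau_mem_Ld {e : ℕ} (m : MvPolynomial σ R) (hm : m.IsHomogeneous e) (u : σ →₀ ℕ) (d : ℤ)
    (he : (e : ℤ) = d + ∑ i, (u i : ℤ)) (I : Set σ) (hI : ∀ i, 0 < u i → i ∈ I) :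
    lau m u ∈ Ld R d I := by
  refine ⟨finite_support_lau m u, fun a ha => ⟨?_, fun i hi => hI i (pos_of_lau_ne_zero m u a ha i hi)⟩⟩
  rw [sum_eq_of_lau_ne_zero m hm u a ha, he]
  ring

/-- elements of `Ld` are fractions with denominator `x^(k • c)` for large `k`, whenever `c` is
positive on `I`. -/
theorem exists_lau_eq_of_mem_Ld {d : ℤ} {I : Set σ} {ℓ : (σ → ℤ) → R} (hℓ : ℓ ∈ Ld R d I)
    (c : σ →₀ ℕ) (hc : ∀ i ∈ I, 0 < c i) (hc' : 0 < ∑ i, (c i : ℤ)) :
    ∃ (k e : ℕ) (m : MvPolynomial σ R), (e : ℤ) = d + k * ∑ i, (c i : ℤ) ∧ m.IsHomogeneous e ∧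
      lau m (k • c) = ℓ := by
  classical
  obtain ⟨hf, h⟩ := hℓ
  set s : Finset (σ → ℤ) := hf.toFinset with hsdef
  have hs : ∀ a, ℓ a ≠ 0 → a ∈ s := fun a ha => hf.mem_toFinset.mpr ha
  have hs' : ∀ a ∈ s, ℓ a ≠ 0 := fun a ha => hf.mem_toFinset.mp ha
  -- a uniform bound on the poles
  obtain ⟨k, hk, hkd⟩ : ∃ k : ℕ, (∀ a ∈ s, ∀ i, -a i ≤ k) ∧ -d ≤ k := by
    set B : ℕ := ∑ a ∈ s, ∑ i, (a i).natAbs with hB
    refine ⟨B + d.natAbs, fun a ha i => ?_, ?_⟩
    · have h1 : (a i).natAbs ≤ ∑ i, (a i).natAbs :=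
        Finset.single_le_sum (f := fun i => (a i).natAbs) (fun _ _ => Nat.zero_le _)
          (Finset.mem_univ i)
      have h2 : ∑ i, (a i).natAbs ≤ B :=
        Finset.single_le_sum (f := fun a : σ → ℤ => ∑ i, (a i).natAbs)
          (fun _ _ => Nat.zero_le _) ha
      have h3 : (a i).natAbs ≤ B := h1.trans h2
      simp only [Nat.cast_add]
      omega
    · simp only [Nat.cast_add]
      omega
  have hu : ∀ a ∈ s, ∀ i, 0 ≤ a i + ((k • c) i : ℕ) := by
    intro a ha i
    by_cases hi : a i < 0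
    · have h1 := hc i ((h a (hs' a ha)).2 i hi)
      have h2 := hk a ha i
      simp only [Finsupp.smul_apply, smul_eq_mul, Nat.cast_mul]
      have h3 : (k : ℤ) ≤ k * (c i : ℤ) := by
        have : (1 : ℤ) ≤ c i := by exact_mod_cast h1
        nlinarith
      omega
    · have : (0 : ℤ) ≤ ((k • c) i : ℕ) := Int.natCast_nonneg _
      omega
  have hsum : ∑ i, (((k • c) i : ℕ) : ℤ) = k * ∑ i, (c i : ℤ) := by
    rw [Finset.mul_sum]
    refine Finset.sum_congr rfl fun i _ => ?_
    simp
  have hnn : 0 ≤ d + k * ∑ i, (c i : ℤ) := by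
    have h1 : (k : ℤ) ≤ k * ∑ i, (c i : ℤ) := by
      have : (0 : ℤ) ≤ k := Int.natCast_nonneg _
      nlinarith
    omega
  obtain ⟨m, hm, hlau⟩ := exists_lau_eq ℓ s hs (k • c) hu d
    (fun a ha => (h a (hs' a ha)).1) (d + k * ∑ i, (c i : ℤ)).toNat
    (by rw [Int.toNat_of_nonneg hnn, hsum])
  exact ⟨k, _, m, Int.toNat_of_nonneg hnn, hm, hlau⟩

end Groth.Agent.Lib.Helper17.Laurent
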