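import Mathlib.Algebra.BigOperators.Pi
import Mathlib.Algebra.GCDMonoid.Finset
import Mathlib.Algebra.GCDMonoid.Nat
import Mathlib.Algebra.Order.BigOperators.Group.Finset
import Mathlib.Data.Fintype.BigOperators
import Mathlib.Tactic

/-!
# Exponent vectors of degree a multiple of the lcm of the weights (helper17)
-/

set_option autoImplicit false

namespace Groth.Agent.Lib.Helper17.LcmMonomials

variable {s : ℕ} (deg : Fin s → ℕ)

/-- the weighted degree of an exponent vector. -/
def wdeg (e : Fin s → ℕ) : ℕ := ∑ j, e j * deg j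

theorem wdeg_add (e e' : Fin s → ℕ) : wdeg deg (e + e') = wdeg deg e + wdeg deg e' := by
  unfold wdeg
  rw [← Finset.sum_add_distrib]
  exact Finset.sum_congr rfl fun j _ => by rw [Pi.add_apply, add_mul]

theorem wdeg_single (j : Fin s) (c : ℕ) : wdeg deg (Pi.single j c) = c * deg j := by
  unfold wdeg
  rw [Finset.sum_eq_single j]
  · rw [Pi.single_eq_same]
  · intro i _ hij
    rw [Pi.single_eq_of_ne hij, zero_mul]
  · intro h
    exact absurd (Finset.mem_univ j) h

theorem wdeg_zero : wdeg deg (0 : Fin s → ℕ) = 0 := by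
  unfold wdeg
  exact Finset.sum_eq_zero fun j _ => by rw [Pi.zero_apply, zero_mul]

variable {deg}

theorem eq_zero_of_wdeg_eq_zero (hdeg : ∀ i, 0 < deg i) (e : Fin s → ℕ) (he : wdeg deg e = 0) :
    e = 0 := by
  funext j
  have h := (Finset.sum_eq_zero_iff.mp he) j (Finset.mem_univ j)
  rcases Nat.mul_eq_zero.mp h with h | h
  · exact h
  · exact absurd h (hdeg j).ne'

/-- if the degree is `(m + 1) * lcm` with `s ≤ m + 1`, some exponent is at least `lcm / deg j`. -/
theorem exists_le (hdeg : ∀ i, 0 < deg i) (e : Fin s → ℕ) (m : ℕ) (hm : s ≤ m + 1)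
    (he : wdeg deg e = (m + 1) * Finset.univ.lcm deg) :
    ∃ j, Finset.univ.lcm deg / deg j ≤ e j := by
  set l := Finset.univ.lcm deg with hl
  by_contra hcon
  push Not at hcon
  have hdvd : ∀ j, deg j ∣ l := fun j => Finset.dvd_lcm (Finset.mem_univ j)
  have h1 : ∀ j, e j * deg j + deg j ≤ l := by
    intro j
    have h2 : e j + 1 ≤ l / deg j := hcon j
    have h3 : (e j + 1) * deg j ≤ l / deg j * deg j := Nat.mul_le_mul_right _ h2
    rw [Nat.div_mul_cancel (hdvd j)] at h3
    linarith [h3, add_mul (e j) 1 (deg j)]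
  have h2 : ∑ j, (e j * deg j + deg j) ≤ ∑ _j : Fin s, l := Finset.sum_le_sum fun j _ => h1 j
  rw [Finset.sum_add_distrib, Finset.sum_const, Finset.card_univ, Fintype.card_fin,
    smul_eq_mul] at h2
  have h3 : s * l ≤ (m + 1) * l := Nat.mul_le_mul_right _ hm
  have h4 : ∑ j, deg j = 0 := by
    unfold wdeg at he
    omega
  rcases Nat.eq_zero_or_pos s with rfl | hs
  · have hl1 : l = 1 := by
      rw [hl]
      simp
    unfold wdeg at he
    rw [hl1] at he
    simp at he
  · have := (Finset.sum_eq_zero_iff.mp h4) ⟨0, hs⟩ (Finset.mem_univ _)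
    exact absurd this (hdeg _).ne'

/-- splitting off a part of degree `t * lcm`. -/
theorem exists_split (hdeg : ∀ i, 0 < deg i) (t m : ℕ) (hm : s ≤ m + 1) :
    ∀ e : Fin s → ℕ, wdeg deg e = (m + t) * Finset.univ.lcm deg →
      ∃ e' e'' : Fin s → ℕ, e = e' + e'' ∧ wdeg deg e' = t * Finset.univ.lcm deg ∧
        wdeg deg e'' = m * Finset.univ.lcm deg := by
  induction t with
  | zero =>
    intro e he
    exact ⟨0, e, (zero_add e).symm, by rw [wdeg_zero, zero_mul], by simpa using he⟩
  | succ t ih =>
    intro e he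
    set l := Finset.univ.lcm deg with hl
    have hdvd : ∀ j, deg j ∣ l := fun j => Finset.dvd_lcm (Finset.mem_univ j)
    obtain ⟨j, hj⟩ := exists_le hdeg e (m + t) (by omega) (by rw [he]; ring)
    rw [← hl] at hj
    have hsplit : e = (e - Pi.single j (l / deg j)) + Pi.single j (l / deg j) := by
      funext i
      by_cases hij : i = j
      · subst hij
        simp only [Pi.add_apply, Pi.sub_apply, Pi.single_eq_same]
        omega
      · simp only [Pi.add_apply, Pi.sub_apply, Pi.single_eq_of_ne hij]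
        omega
    have hdeg1 : wdeg deg (e - Pi.single j (l / deg j)) = (m + t) * l := by
      have h1 := congrArg (wdeg deg) hsplit
      rw [wdeg_add, wdeg_single, Nat.div_mul_cancel (hdvd j), he] at h1
      have : (m + (t + 1)) * l = (m + t) * l + l := by ring
      omega
    obtain ⟨e', e'', h1, h2, h3⟩ := ih _ hdeg1
    refine ⟨e' + Pi.single j (l / deg j), e'', ?_, ?_, h3⟩
    · rw [hsplit, h1]
      abel
    · rw [wdeg_add, wdeg_single, Nat.div_mul_cancel (hdvd j), h2]
      ring

end Groth.Agent.Lib.Helper17.LcmMonomials
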