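import Groth.Agent.Lib.Helper17.AmpleVeryAmple

/-!
# Sections of `O ⊗ M` (helper17)

`unitTensorIso_tmul`: the section formula `r ⊗ m ↦ r • m` for helper11's left unit isomorphism
`unitTensorIso M : O ⊗ M ≅ M` (the Prelude proves the right-handed one, `SecTwist.unitorR_tmul`).
`eq_tm_one`: every section of `O ⊗ M` over `W` is `1 ⊗ m`.
-/

set_option autoImplicit false
set_option linter.unusedSectionVars false
set_option linter.style.haveILetI false
universe u
open AlgebraicGeometry CategoryTheory Limits TopologicalSpace Opposite TensorProduct MonoidalCategory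

namespace Groth.Agent.Lib.Helper17.LeftUnit
open Groth.Agent.Lib.Helper11 Groth.Agent.Lib.Helper11.GenLocus Groth.Agent.Lib.Helper45
  Groth.Agent.Lib.Helper49 Groth.Agent.Lib.Helper17.UPGen Groth.Agent.Lib.Helper17.UPCoef

variable {X : Scheme.{u}}

/-- the left unit isomorphism of the sectionwise tensor product. -/
noncomputable def unitorPreL (F : X.Modules) :
    (CohB1.tensorPre (Coh.structureModule X) F : X.PresheafOfModules) ≅ F.val :=
  (λ_ (CohB1.toPMod F) : (CohB1.tensorPre (Coh.structureModule X) F : CohB1.PMod X) ≅
    (CohB1.toPMod F : CohB1.PMod X))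

theorem unitorPreL_hom_tmul (F : X.Modules) (U : X.Opens) (t : F.val.obj (op U))
    (r : X.ringCatSheaf.obj.obj (op U)) :
    ((unitorPreL F).hom.app (op U)).hom
        (((r : (Coh.structureModule X).val.obj (op U)) ⊗ₜ t :
          ↥((CohB1.tensorPre (Coh.structureModule X) F).obj (op U)))) = r • t := by
  change ((λ_ (CohB1.toPMod F)).hom.app (op U)).hom _ = _
  simp [PresheafOfModules.leftUnitor_hom_app]
  rfl

theorem unitTensorIso_eq (F : X.Modules) :
    unitTensorIso F = (CohB1.sheafifyMod X).mapIso (unitorPreL F) ≪≫
      (asIso (PresheafOfModules.sheafificationAdjunction.{u, u, u, u}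
        (J := Opens.grothendieckTopology X) (𝟙 X.ringCatSheaf.obj)).counit).app F := rfl

/-- Section formula for `unitTensorIso`: `r ⊗ t ↦ r • t`. -/
theorem unitTensorIso_tmul (F : X.Modules) (U : X.Opens) (t : F.val.obj (op U))
    (r : X.ringCatSheaf.obj.obj (op U)) :
    ((unitTensorIso F).hom.val.app (op U)).hom
        (SecTwist.tmul (Coh.structureModule X) F U (r : (Coh.structureModule X).val.obj (op U)) t) =
      r • t := by
  let adj := PresheafOfModules.sheafificationAdjunction.{u, u, u, u}
    (J := Opens.grothendieckTopology X) (𝟙 X.ringCatSheaf.obj)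
  let P : X.PresheafOfModules := CohB1.tensorPre (Coh.structureModule X) F
  let x : ↥((CohB1.tensorPre (Coh.structureModule X) F).obj (op U)) :=
    (r : (Coh.structureModule X).val.obj (op U)) ⊗ₜ t
  have natU : ((adj.unit.app F.val).app (op U)).hom (((unitorPreL F).hom.app (op U)).hom x) =
      ((((CohB1.sheafifyMod X).map (unitorPreL F).hom).val.app (op U)).hom
        (((adj.unit.app P).app (op U)).hom x)) :=
    congrArg (fun φ => (PresheafOfModules.Hom.app φ (op U)).hom x)
      (adj.unit.naturality (unitorPreL F).hom)
  rw [unitorPreL_hom_tmul] at natU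
  have triU : (((adj.counit.app F).val.app (op U)).hom
      (((adj.unit.app F.val).app (op U)).hom (r • t))) = r • t :=
    congrArg (fun φ => (PresheafOfModules.Hom.app φ (op U)).hom (r • t))
      (adj.right_triangle_components F)
  rw [unitTensorIso_eq]
  change ((((CohB1.sheafifyMod X).map (unitorPreL F).hom ≫ adj.counit.app F).val.app (op U)).hom
      (((adj.unit.app P).app (op U)).hom x)) = r • t
  rw [← triU, natU]
  rfl

/-- every section of `O ⊗ M` is of the form `1 ⊗ m`. -/
theorem eq_tm_one (M : X.Modules) (W : X.Opens)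
    (y : Γ(CohB1.tensorMod (Coh.structureModule X) M, W)) :
    y = tm (Coh.structureModule X) M W (toO W 1) (((unitTensorIso M).hom.app W).hom y) := by
  set m := ((unitTensorIso M).hom.app W).hom y with hm
  have h1 : ((unitTensorIso M).hom.app W).hom (tm (Coh.structureModule X) M W (toO W 1) m) = m := by
    have := unitTensorIso_tmul M W m (1 : Γ(X, W))
    exact this.trans (one_smul Γ(X, W) m)
  have hinj : Function.Injective ((unitTensorIso M).hom.app W).hom := by
    intro a b hab
    have h2 : ∀ z, ((unitTensorIso M).inv.app W).hom (((unitTensorIso M).hom.app W).hom z) = z := by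
      intro z
      have h3 : (unitTensorIso M).hom.app W ≫ (unitTensorIso M).inv.app W = 𝟙 _ := by
        rw [← Scheme.Modules.Hom.comp_app, Iso.hom_inv_id]
        rfl
      exact congrArg (fun φ => φ.hom z) h3
    rw [← h2 a, ← h2 b, hab]
  exact hinj h1.symm

end Groth.Agent.Lib.Helper17.LeftUnit
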