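import Groth.Agent.S0464

/-!
# A canonical, natural Leray comparison `Ȟ^p(U, F) ≃+ Ext^p(Z_W, F)` (helper17)

Refines helper5's `S0464` (existence of an isomorphism) to a definite isomorphism `leray`,
natural in morphisms of `U`-acyclic sheaves (`leray_naturality`).
-/

set_option autoImplicit false
universe u
open CategoryTheory CohTop

namespace Groth.Agent.Lib.Helper17.LerayNat

open Opposite CategoryTheory.Limits TopologicalSpace Abelian Groth.Agent.Lib.Helper5
  Groth.Agent.Lib.Lead Groth.Agent.S0463 Groth.Agent.S0464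

theorem addEquivOfKerEq_apply {B C₁ C₂ : Type*} [AddCommGroup B] [AddCommGroup C₁]
    [AddCommGroup C₂] (g₁ : B →+ C₁) (g₂ : B →+ C₂) (h₁ : Function.Surjective g₁)
    (h₂ : Function.Surjective g₂) (hk : g₁.ker = g₂.ker) (b : B) :
    addEquivOfKerEq g₁ g₂ h₁ h₂ hk (g₁ b) = g₂ b := by
  unfold addEquivOfKerEq
  have h : (QuotientAddGroup.quotientKerEquivOfSurjective g₁ h₁).symm (g₁ b) = (b : B ⧸ g₁.ker) := by
    apply (QuotientAddGroup.quotientKerEquivOfSurjective g₁ h₁).injective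
    rw [AddEquiv.apply_symm_apply]
    rfl
  rw [AddEquiv.trans_apply, AddEquiv.trans_apply, h]
  rfl

variable {X : TopCat.{u}} {ι : Type u} (U : ι → Opens X)

/-- the map on Čech cohomology induced by a morphism of sheaves. -/
noncomputable abbrev cechHMap {F G : Ab X} (ψ : F ⟶ G) (p : ℕ) :
    cechH F.obj U p ⟶ cechH G.obj U p :=
  HomologicalComplex.homologyMap ((cechComplexFunctor U).map ψ.hom) p

/-- degree `0` comparison. -/
noncomputable def e0 (F : Ab X) : cechH F.obj U 0 ≃+ Ext.{u} (freeSheaf (iSup U)) F 0 :=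
  ((asIso (cechEta U F.obj)).addCommGroupIsoToAddEquiv.symm.trans
    (βAdd (iSup U) F).symm).trans Ext.addEquiv₀.symm

theorem e0_eta (F : Ab X) (s : F.obj.obj (op (iSup U))) :
    e0 U F (cechEta U F.obj s) = Ext.mk₀ ((βAdd (iSup U) F).symm s) := by
  unfold e0
  rw [AddEquiv.trans_apply, AddEquiv.trans_apply]
  have h : (asIso (cechEta U F.obj)).addCommGroupIsoToAddEquiv.symm (cechEta U F.obj s) = s := by
    apply (asIso (cechEta U F.obj)).addCommGroupIsoToAddEquiv.injective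
    rw [AddEquiv.apply_symm_apply]
    rfl
  rw [h]
  rfl

theorem eta_surjective (F : Ab X) (x : cechH F.obj U 0) :
    ∃ s : F.obj.obj (op (iSup U)), cechEta U F.obj s = x :=
  (ConcreteCategory.bijective_of_isIso (cechEta U F.obj)).2 x

theorem cechHMap_eta {F G : Ab X} (ψ : F ⟶ G) (s : F.obj.obj (op (iSup U))) :
    cechHMap U ψ 0 (cechEta U F.obj s) = cechEta U G.obj (ψ.hom.app (op (iSup U)) s) := by
  have := ConcreteCategory.congr_hom (cechEta_naturality U ψ.hom) s
  rwa [ConcreteCategory.comp_apply, ConcreteCategory.comp_apply] at this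

theorem e0_naturality {F G : Ab X} (ψ : F ⟶ G) (x : cechH F.obj U 0) :
    e0 U G (cechHMap U ψ 0 x) = (e0 U F x).comp (Ext.mk₀ ψ) (add_zero 0) := by
  obtain ⟨s, rfl⟩ := eta_surjective U F x
  rw [cechHMap_eta, e0_eta, e0_eta, βAdd_symm_naturality, Ext.mk₀_comp_mk₀]

/-! ### degree one -/

/-- Čech side: `Q(W) → Ȟ¹(U, F)`. -/
noncomputable def g1 (F : Ab X) (hF : Acyc U F) :
    (sesInj F).X₃.obj.obj (op (iSup U)) →+ cechH F.obj U 1 :=
  (cechEta U (sesInj F).X₃.obj ≫ (cech_shortExact_sesInj U F hF).δ 0 1 rfl).hom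

/-- derived side: `Q(W) → Ext¹(Z_W, F)`. -/
noncomputable def g2 (F : Ab X) :
    (sesInj F).X₃.obj.obj (op (iSup U)) →+ Ext.{u} (freeSheaf (iSup U)) F 1 :=
  (extBoundary₀ (sesInj_shortExact F) (freeSheaf (iSup U))).comp
    (βAdd (iSup U) (sesInj F).X₃).symm.toAddMonoidHom

/-- `I(W) → Q(W)`. -/
noncomputable def gW (F : Ab X) :
    (sesInj F).X₂.obj.obj (op (iSup U)) →+ (sesInj F).X₃.obj.obj (op (iSup U)) :=
  ((sesInj F).g.hom.app (op (iSup U))).hom

theorem g1_surjective (F : Ab X) (hF : Acyc U F) : Function.Surjective (g1 U F hF) := by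
  have hT := cech_shortExact_sesInj U F hF
  have h1 : Epi (hT.δ 0 1 rfl) := hT.epi_δ 0 1 rfl (isZero_cechH_of_injective (sesInj F).X₂ U 0)
  have h2 : Epi (cechEta U (sesInj F).X₃.obj ≫ hT.δ 0 1 rfl) :=
    epi_comp' (IsIso.epi_of_iso (cechEta U (sesInj F).X₃.obj)) h1
  exact (AddCommGrpCat.epi_iff_surjective _).1 h2

theorem g1_ker (F : Ab X) (hF : Acyc U F) : (g1 U F hF).ker = (gW U F).range := by
  have hT := cech_shortExact_sesInj U F hF
  have hnat : ∀ t : (sesInj F).X₂.obj.obj (op (iSup U)),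
      (HomologicalComplex.homologyMap ((cechComplexFunctor U).map (sesInj F).g.hom) 0)
        (cechEta U (sesInj F).X₂.obj t) = cechEta U (sesInj F).X₃.obj (gW U F t) := fun t => by
    have := ConcreteCategory.congr_hom (cechEta_naturality U (sesInj F).g.hom) t
    rwa [ConcreteCategory.comp_apply, ConcreteCategory.comp_apply] at this
  ext s
  rw [AddMonoidHom.mem_ker, AddMonoidHom.mem_range]
  constructor
  · intro hs
    obtain ⟨y, hy⟩ := (ShortComplex.ab_exact_iff _).1 (hT.homology_exact₃ 0 1 rfl)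
      (cechEta U (sesInj F).X₃.obj s) hs
    obtain ⟨t, rfl⟩ := (ConcreteCategory.bijective_of_isIso (cechEta U (sesInj F).X₂.obj)).2 y
    refine ⟨t, ?_⟩
    apply (ConcreteCategory.bijective_of_isIso (cechEta U (sesInj F).X₃.obj)).1
    rw [← hy]
    exact (hnat t).symm
  · rintro ⟨t, rfl⟩
    change (hT.δ 0 1 rfl) (cechEta U (sesInj F).X₃.obj (gW U F t)) = 0
    rw [← hnat t]
    have := ConcreteCategory.congr_hom (hT.comp_δ 0 1 rfl) (cechEta U (sesInj F).X₂.obj t)
    exact (ConcreteCategory.comp_apply _ _ _).symm.trans this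

theorem g2_surjective (F : Ab X) : Function.Surjective (g2 U F) :=
  (extBoundary₀_surjective (sesInj_shortExact F) (freeSheaf (iSup U))).comp
    (βAdd (iSup U) (sesInj F).X₃).symm.surjective

theorem g2_ker (F : Ab X) : (g2 U F).ker = (gW U F).range := by
  ext s
  rw [AddMonoidHom.mem_ker, AddMonoidHom.mem_range]
  change extBoundary₀ (sesInj_shortExact F) (freeSheaf (iSup U))
    ((βAdd (iSup U) (sesInj F).X₃).symm s) = 0 ↔ _
  rw [extBoundary₀_eq_zero_iff]
  constructor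
  · rintro ⟨φ, hφ⟩
    refine ⟨βAdd (iSup U) (sesInj F).X₂ φ, ?_⟩
    change (sesInj F).g.hom.app (op (iSup U)) (βAdd (iSup U) (sesInj F).X₂ φ) = s
    rw [← βAdd_naturality, hφ, AddEquiv.apply_symm_apply]
  · rintro ⟨t, rfl⟩
    exact ⟨(βAdd (iSup U) (sesInj F).X₂).symm t, (βAdd_symm_naturality _ _ _).symm⟩

/-- degree `1` comparison. -/
noncomputable def e1 (F : Ab X) (hF : Acyc U F) :
    cechH F.obj U 1 ≃+ Ext.{u} (freeSheaf (iSup U)) F 1 :=
  addEquivOfKerEq (g1 U F hF) (g2 U F) (g1_surjective U F hF) (g2_surjective U F)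
    ((g1_ker U F hF).trans (g2_ker U F).symm)

theorem e1_g1 (F : Ab X) (hF : Acyc U F) (s : (sesInj F).X₃.obj.obj (op (iSup U))) :
    e1 U F hF (g1 U F hF s) = g2 U F s :=
  addEquivOfKerEq_apply _ _ _ _ _ s

/-! ### morphisms of the injective short exact sequences -/

section SesMap

variable {F G : Ab X} (ψ : F ⟶ G)

/-- an extension of `ψ` to the injective hulls. -/
noncomputable def ψI₀ : Injective.under F ⟶ Injective.under G :=
  Injective.factorThru (ψ ≫ Injective.ι G) (Injective.ι F)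

theorem ι_ψI₀ : Injective.ι F ≫ ψI₀ ψ = ψ ≫ Injective.ι G :=
  Injective.comp_factorThru _ _

/-- the induced map on cokernels. -/
noncomputable def ψQ₀ : cokernel (Injective.ι F) ⟶ cokernel (Injective.ι G) :=
  cokernel.map (Injective.ι F) (Injective.ι G) ψ (ψI₀ ψ) (ι_ψI₀ ψ)

theorem π_ψQ₀ : cokernel.π (Injective.ι F) ≫ ψQ₀ ψ = ψI₀ ψ ≫ cokernel.π (Injective.ι G) := by
  unfold ψQ₀
  simp

/-- an extension of `ψ` to the injective hulls. -/
noncomputable def ψI : (sesInj F).X₂ ⟶ (sesInj G).X₂ := ψI₀ ψ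

/-- the induced map on cokernels. -/
noncomputable def ψQ : (sesInj F).X₃ ⟶ (sesInj G).X₃ := ψQ₀ ψ

/-- the morphism of short exact sequences over `ψ`. -/
noncomputable def sesMap : sesInj F ⟶ sesInj G where
  τ₁ := ψ
  τ₂ := ψI ψ
  τ₃ := ψQ ψ
  comm₁₂ := (ι_ψI₀ ψ).symm
  comm₂₃ := (π_ψQ₀ ψ).symm

/-- the induced morphism of short exact sequences of Čech complexes. -/
noncomputable def cechSesMap :
    ((sesInj F).map (sheafToPresheaf _ _)).map (cechComplexFunctor U) ⟶
      ((sesInj G).map (sheafToPresheaf _ _)).map (cechComplexFunctor U) :=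
  (cechComplexFunctor U).mapShortComplex.map ((sheafToPresheaf _ _).mapShortComplex.map (sesMap ψ))

theorem δ_nat (hF : Acyc U F) (hG : Acyc U G) (i j : ℕ) (hij : i + 1 = j)
    (y : cechH (sesInj F).X₃.obj U i) :
    cechHMap U ψ j ((cech_shortExact_sesInj U F hF).δ i j hij y) =
      (cech_shortExact_sesInj U G hG).δ i j hij (cechHMap U (ψQ ψ) i y) := by
  have h := HomologicalComplex.HomologySequence.δ_naturality (cechSesMap U ψ)
    (cech_shortExact_sesInj U F hF) (cech_shortExact_sesInj U G hG) i j hij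
  have h2 := ConcreteCategory.congr_hom h y
  exact ((ConcreteCategory.comp_apply _ _ _).symm.trans h2).trans (ConcreteCategory.comp_apply _ _ _)

theorem extClass_nat :
    (sesInj_shortExact F).extClass.comp (Ext.mk₀ ψ) (add_zero 1) =
      (Ext.mk₀ (ψQ ψ)).comp (sesInj_shortExact G).extClass (zero_add 1) :=
  ShortComplex.ShortExact.extClass_naturality (sesInj_shortExact F) (sesInj_shortExact G) (sesMap ψ)

end SesMap

/-! ### naturality in degree one -/

theorem g1_nat {F G : Ab X} (ψ : F ⟶ G) (hF : Acyc U F) (hG : Acyc U G)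
    (s : (sesInj F).X₃.obj.obj (op (iSup U))) :
    cechHMap U ψ 1 (g1 U F hF s) = g1 U G hG ((ψQ ψ).hom.app (op (iSup U)) s) := by
  have h1 : g1 U F hF s =
      (cech_shortExact_sesInj U F hF).δ 0 1 rfl (cechEta U (sesInj F).X₃.obj s) :=
    ConcreteCategory.comp_apply _ _ _
  have h2 : g1 U G hG ((ψQ ψ).hom.app (op (iSup U)) s) =
      (cech_shortExact_sesInj U G hG).δ 0 1 rfl
        (cechEta U (sesInj G).X₃.obj ((ψQ ψ).hom.app (op (iSup U)) s)) :=
    ConcreteCategory.comp_apply _ _ _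
  rw [h1, h2, δ_nat U ψ hF hG 0 1 rfl]
  exact congrArg _ (cechHMap_eta U (ψQ ψ) s)

theorem g2_nat {F G : Ab X} (ψ : F ⟶ G) (s : (sesInj F).X₃.obj.obj (op (iSup U))) :
    g2 U G ((ψQ ψ).hom.app (op (iSup U)) s) = (g2 U F s).comp (Ext.mk₀ ψ) (add_zero 1) := by
  have h1 : ∀ (H : Ab X) (t : (sesInj H).X₃.obj.obj (op (iSup U))), g2 U H t =
      (Ext.mk₀ ((βAdd (iSup U) (sesInj H).X₃).symm t)).comp (sesInj_shortExact H).extClass
        (zero_add 1) := fun H t => rfl
  rw [h1, h1]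
  have h2 : (βAdd (iSup U) (sesInj G).X₃).symm ((ψQ ψ).hom.app (op (iSup U)) s) =
      (βAdd (iSup U) (sesInj F).X₃).symm s ≫ ψQ ψ := βAdd_symm_naturality _ _ _
  rw [h2, ← Ext.mk₀_comp_mk₀]
  rw [Ext.comp_assoc _ _ _ (zero_add 0) (zero_add 1) (by omega : 0 + 0 + 1 = 1)]
  rw [← extClass_nat ψ]
  exact (Ext.comp_assoc _ _ _ (zero_add 1) (add_zero 1) (by omega : 0 + 1 + 0 = 1)).symm

theorem e1_naturality {F G : Ab X} (ψ : F ⟶ G) (hF : Acyc U F) (hG : Acyc U G)
    (x : cechH F.obj U 1) :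
    e1 U G hG (cechHMap U ψ 1 x) = (e1 U F hF x).comp (Ext.mk₀ ψ) (add_zero 1) := by
  obtain ⟨s, rfl⟩ := g1_surjective U F hF x
  rw [g1_nat U ψ hF hG, e1_g1, e1_g1, g2_nat]

/-! ### all positive degrees -/

/-- the connecting isomorphism `Ȟ^{n+1}(Q) ≅ Ȟ^{n+2}(F)`. -/
noncomputable def δI (n : ℕ) (F : Ab X) (hF : Acyc U F) :
    cechH (sesInj F).X₃.obj U (n + 1) ≅ cechH F.obj U (n + 2) :=
  (cech_shortExact_sesInj U F hF).δIso (n + 1) (n + 2) rfl
    (isZero_cechH_of_injective (sesInj F).X₂ U n) (isZero_cechH_of_injective (sesInj F).X₂ U (n + 1))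

theorem δI_hom (n : ℕ) (F : Ab X) (hF : Acyc U F) (y : cechH (sesInj F).X₃.obj U (n + 1)) :
    (δI U n F hF).hom y = (cech_shortExact_sesInj U F hF).δ (n + 1) (n + 2) rfl y := rfl

/-- the comparison in degree `n + 1`. -/
noncomputable def eSucc : (n : ℕ) → (F : Ab X) → Acyc U F →
    (cechH F.obj U (n + 1) ≃+ Ext.{u} (freeSheaf (iSup U)) F (n + 1))
  | 0, F, hF => e1 U F hF
  | (n + 1), F, hF =>
    ((δI U n F hF).symm.addCommGroupIsoToAddEquiv.trans
      (eSucc n (sesInj F).X₃ (acyc_sesInj_X₃ U F hF))).trans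
    (extShiftAddEquiv (sesInj_shortExact F) (freeSheaf (iSup U)) n)

theorem eSucc_succ_δ (n : ℕ) (F : Ab X) (hF : Acyc U F)
    (y : cechH (sesInj F).X₃.obj U (n + 1)) :
    eSucc U (n + 1) F hF ((cech_shortExact_sesInj U F hF).δ (n + 1) (n + 2) rfl y) =
      (eSucc U n (sesInj F).X₃ (acyc_sesInj_X₃ U F hF) y).comp (sesInj_shortExact F).extClass
        (rfl : (n + 1) + 1 = n + 2) := by
  have h : (δI U n F hF).symm.addCommGroupIsoToAddEquiv
      ((cech_shortExact_sesInj U F hF).δ (n + 1) (n + 2) rfl y) = y := by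
    rw [← δI_hom]
    exact Iso.hom_inv_id_apply (δI U n F hF) y
  change extShiftAddEquiv (sesInj_shortExact F) (freeSheaf (iSup U)) n
    (eSucc U n (sesInj F).X₃ (acyc_sesInj_X₃ U F hF)
      ((δI U n F hF).symm.addCommGroupIsoToAddEquiv _)) = _
  rw [h]
  rfl

theorem exists_δ (n : ℕ) (F : Ab X) (hF : Acyc U F) (x : cechH F.obj U (n + 2)) :
    ∃ y, (cech_shortExact_sesInj U F hF).δ (n + 1) (n + 2) rfl y = x :=
  ⟨(δI U n F hF).inv x, Iso.inv_hom_id_apply (δI U n F hF) x⟩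

theorem eSucc_naturality (n : ℕ) : ∀ {F G : Ab X} (ψ : F ⟶ G) (hF : Acyc U F) (hG : Acyc U G)
    (x : cechH F.obj U (n + 1)),
    eSucc U n G hG (cechHMap U ψ (n + 1) x) =
      (eSucc U n F hF x).comp (Ext.mk₀ ψ) (add_zero (n + 1)) := by
  induction n with
  | zero => exact fun ψ hF hG x => e1_naturality U ψ hF hG x
  | succ n ih =>
    intro F G ψ hF hG x
    obtain ⟨y, rfl⟩ := exists_δ U n F hF x
    have e1 := δ_nat U ψ hF hG (n + 1) (n + 2) rfl y
    have e2 := eSucc_succ_δ U n G hG (cechHMap U (ψQ ψ) (n + 1) y)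
    have e3 := eSucc_succ_δ U n F hF y
    have e4 := ih (ψQ ψ) (acyc_sesInj_X₃ U F hF) (acyc_sesInj_X₃ U G hG) y
    refine (congrArg (eSucc U (n + 1) G hG) e1).trans (e2.trans ?_)
    refine Eq.trans ?_ (congrArg (fun z => z.comp (Ext.mk₀ ψ) (add_zero (n + 1 + 1))) e3).symm
    refine (congrArg (fun z => z.comp (sesInj_shortExact G).extClass
      (rfl : (n + 1) + 1 = n + 2)) e4).trans ?_
    refine (Ext.comp_assoc _ _ _ (add_zero (n + 1)) (zero_add 1)
      (by omega : n + 1 + 0 + 1 = n + 2)).trans ?_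
    refine Eq.trans ?_ (Ext.comp_assoc _ _ _ (rfl : n + 1 + 1 = n + 2) (add_zero 1)
      (by omega : n + 1 + 1 + 0 = n + 2)).symm
    exact congrArg (fun z => (eSucc U n (sesInj F).X₃ (acyc_sesInj_X₃ U F hF) y).comp z
      (rfl : n + 1 + 1 = n + 2)) (extClass_nat ψ).symm

/-- **The Leray comparison** `Ȟ^p(U, F) ≃+ Ext^p(Z_W, F)`, `W = ⋃ U_i`, for `U`-acyclic `F`. -/
noncomputable def leray (p : ℕ) (F : Ab X) (hF : Acyc U F) :
    cechH F.obj U p ≃+ Ext.{u} (freeSheaf (iSup U)) F p :=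
  match p with
  | 0 => e0 U F
  | (n + 1) => eSucc U n F hF

/-- **Naturality of the Leray comparison.** -/
theorem leray_naturality (p : ℕ) {F G : Ab X} (ψ : F ⟶ G) (hF : Acyc U F) (hG : Acyc U G)
    (x : cechH F.obj U p) :
    leray U p G hG (cechHMap U ψ p x) = (leray U p F hF x).comp (Ext.mk₀ ψ) (add_zero p) := by
  cases p with
  | zero => exact e0_naturality U ψ x
  | succ n => exact eSucc_naturality U n ψ hF hG x

end Groth.Agent.Lib.Helper17.LerayNat
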