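import Groth.Agent.Lib.Helper17.GrQCoh

/-!
# Fractions as sections of the structure sheaf of `Proj`, and total restriction maps (helper17)
-/

set_option autoImplicit false
universe u
open CategoryTheory AlgebraicGeometry TopologicalSpace Opposite HomogeneousLocalization

namespace Groth.Agent.Lib.Helper17.OFrac
open Groth.Agent.Lib.Helper17.GrQCoh

variable {R A : Type u} [CommRing R] [CommRing A] [Algebra R A] (𝒜 : ℕ → Submodule R A)
  [GradedAlgebra 𝒜]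

/-- `a / b` is a legitimate fraction of degree zero on `V`. -/
structure Good (V : (Proj 𝒜).Opens) (d : ℕ) (a b : A) : Prop where
  ha : a ∈ 𝒜 d
  hb : b ∈ 𝒜 d
  hV : ∀ y : V, b ∉ y.1.asHomogeneousIdeal

def ofO {V : (Proj 𝒜).Opens} (r : Twist.O (𝒜 := 𝒜) (op V)) : Γ(Proj 𝒜, V) := r

set_option backward.isDefEq.respectTransparency.types false in
/-- the section `a / b` of the structure sheaf over `V`. -/
def mkSec (V : (Proj 𝒜).Opens) {d : ℕ} {a b : A} (h : Good 𝒜 V d a b) : Twist.O (𝒜 := 𝒜) (op V) :=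
  ⟨fun y => HomogeneousLocalization.mk ⟨d, ⟨a, h.ha⟩, ⟨b, h.hb⟩, h.hV y⟩,
    fun y => ⟨V, y.2, 𝟙 _, d, ⟨a, h.ha⟩, ⟨b, h.hb⟩, h.hV, fun _ => rfl⟩⟩

open Classical in
/-- the section `a / b` of the structure sheaf over `V` (zero if the fraction is not legitimate). -/
noncomputable def oFrac (V : (Proj 𝒜).Opens) (d : ℕ) (a b : A) : Γ(Proj 𝒜, V) :=
  if h : Good 𝒜 V d a b then ofO 𝒜 (mkSec 𝒜 V h) else 0

set_option backward.isDefEq.respectTransparency.types false in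
theorem val_oFrac {V : (Proj 𝒜).Opens} {d : ℕ} {a b : A} (h : Good 𝒜 V d a b) (y : V) :
    ((toO 𝒜 (oFrac 𝒜 V d a b)).1 y).val = Localization.mk a ⟨b, h.hV y⟩ := by
  rw [oFrac, dif_pos h]
  simp only [toO, ofO, mkSec, HomogeneousLocalization.val_mk]

theorem o_ext {V : (Proj 𝒜).Opens} (r r' : Γ(Proj 𝒜, V))
    (h : ∀ y : V, ((toO 𝒜 r).1 y).val = ((toO 𝒜 r').1 y).val) : r = r' :=
  Subtype.ext (funext fun y => HomogeneousLocalization.val_injective _ (h y))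

theorem val_mul {V : (Proj 𝒜).Opens} (r r' : Γ(Proj 𝒜, V)) (y : V) :
    ((toO 𝒜 (r * r')).1 y).val = ((toO 𝒜 r).1 y).val * ((toO 𝒜 r').1 y).val :=
  HomogeneousLocalization.val_mul _ _

theorem val_add {V : (Proj 𝒜).Opens} (r r' : Γ(Proj 𝒜, V)) (y : V) :
    ((toO 𝒜 (r + r')).1 y).val = ((toO 𝒜 r).1 y).val + ((toO 𝒜 r').1 y).val :=
  HomogeneousLocalization.val_add _ _

theorem val_one {V : (Proj 𝒜).Opens} (y : V) :
    ((toO 𝒜 (1 : Γ(Proj 𝒜, V))).1 y).val = 1 :=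
  HomogeneousLocalization.val_one

theorem val_res {V W : (Proj 𝒜).Opens} (i : V ⟶ W) (r : Γ(Proj 𝒜, W)) (y : V) :
    (toO 𝒜 ((Proj 𝒜).presheaf.map i.op r)).1 y = (toO 𝒜 r).1 ⟨y.1, i.le y.2⟩ := rfl

variable {𝒜}

theorem Good.mono {V W : (Proj 𝒜).Opens} (hVW : V ≤ W) {d : ℕ} {a b : A} (h : Good 𝒜 W d a b) :
    Good 𝒜 V d a b :=
  ⟨h.ha, h.hb, fun y => h.hV ⟨y.1, hVW y.2⟩⟩

theorem Good.mul {V : (Proj 𝒜).Opens} {d d' : ℕ} {a b a' b' : A} (h : Good 𝒜 V d a b)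
    (h' : Good 𝒜 V d' a' b') : Good 𝒜 V (d + d') (a * a') (b * b') :=
  ⟨SetLike.mul_mem_graded h.ha h'.ha, SetLike.mul_mem_graded h.hb h'.hb,
    fun y hmem => (y.1.isPrime.mem_or_mem hmem).elim (h.hV y) (h'.hV y)⟩

theorem Good.add {V : (Proj 𝒜).Opens} {d : ℕ} {a a' b : A} (h : Good 𝒜 V d a b)
    (h' : Good 𝒜 V d a' b) : Good 𝒜 V d (a + a') b :=
  ⟨add_mem h.ha h'.ha, h.hb, h.hV⟩

theorem Good.pow {V : (Proj 𝒜).Opens} {d : ℕ} {a b : A} (h : Good 𝒜 V d a b) (k : ℕ) :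
    Good 𝒜 V (k * d) (a ^ k) (b ^ k) :=
  ⟨by simpa using SetLike.pow_mem_graded k h.ha, by simpa using SetLike.pow_mem_graded k h.hb,
    fun y hmem => h.hV y (y.1.isPrime.mem_of_pow_mem k hmem)⟩

/-- `b / b` for `b` nowhere vanishing. -/
theorem good_self {V : (Proj 𝒜).Opens} {d : ℕ} {b : A} (hb : b ∈ 𝒜 d)
    (hV : ∀ y : V, b ∉ y.1.asHomogeneousIdeal) : Good 𝒜 V d b b := ⟨hb, hb, hV⟩

variable (𝒜)

theorem oFrac_mul {V : (Proj 𝒜).Opens} {d d' : ℕ} {a b a' b' : A} (h : Good 𝒜 V d a b)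
    (h' : Good 𝒜 V d' a' b') :
    oFrac 𝒜 V d a b * oFrac 𝒜 V d' a' b' = oFrac 𝒜 V (d + d') (a * a') (b * b') := by
  apply o_ext
  intro y
  rw [val_mul, val_oFrac 𝒜 h, val_oFrac 𝒜 h', val_oFrac 𝒜 (h.mul h'), Localization.mk_mul]
  rfl

theorem oFrac_add {V : (Proj 𝒜).Opens} {d : ℕ} {a a' b : A} (h : Good 𝒜 V d a b)
    (h' : Good 𝒜 V d a' b) :
    oFrac 𝒜 V d a b + oFrac 𝒜 V d a' b = oFrac 𝒜 V d (a + a') b := by
  apply o_ext
  intro y
  rw [val_add, val_oFrac 𝒜 h, val_oFrac 𝒜 h', val_oFrac 𝒜 (h.add h'), Localization.add_mk_self]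

theorem oFrac_eq {V : (Proj 𝒜).Opens} {d d' : ℕ} {a b a' b' : A} (h : Good 𝒜 V d a b)
    (h' : Good 𝒜 V d' a' b') (e : a * b' = a' * b) :
    oFrac 𝒜 V d a b = oFrac 𝒜 V d' a' b' := by
  apply o_ext
  intro y
  rw [val_oFrac 𝒜 h, val_oFrac 𝒜 h', Localization.mk_eq_mk_iff, Localization.r_iff_exists]
  exact ⟨1, by simp only [OneMemClass.coe_one, one_mul]; rw [mul_comm, e, mul_comm]⟩

theorem oFrac_self {V : (Proj 𝒜).Opens} {d : ℕ} {b : A} (h : Good 𝒜 V d b b) :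
    oFrac 𝒜 V d b b = 1 := by
  apply o_ext
  intro y
  rw [val_oFrac 𝒜 h, val_one, Localization.mk_self ⟨b, h.hV y⟩]

theorem res_oFrac {V W : (Proj 𝒜).Opens} (i : V ⟶ W) {d : ℕ} {a b : A} (h : Good 𝒜 W d a b) :
    (Proj 𝒜).presheaf.map i.op (oFrac 𝒜 W d a b) = oFrac 𝒜 V d a b := by
  apply o_ext
  intro y
  refine Eq.trans (congrArg HomogeneousLocalization.val (val_res 𝒜 i _ y)) ?_
  refine Eq.trans (val_oFrac 𝒜 h ⟨y.1, i.le y.2⟩) ?_
  exact (val_oFrac 𝒜 (h.mono i.le) y).symm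


section rs
variable {X : Scheme.{u}} (F : X.Modules)

open Classical in
/-- total restriction map of sections (zero unless `V ≤ W`). -/
noncomputable def rs (V W : X.Opens) (x : Γ(F, W)) : Γ(F, V) :=
  if h : V ≤ W then F.presheaf.map (homOfLE h).op x else 0

theorem rs_of_le {V W : X.Opens} (h : V ≤ W) (x : Γ(F, W)) :
    rs F V W x = F.presheaf.map (homOfLE h).op x := dif_pos h

theorem rs_self (V : X.Opens) (x : Γ(F, V)) : rs F V V x = x := by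
  rw [rs_of_le F le_rfl]
  have : (homOfLE (le_refl V)).op = 𝟙 (op V) := rfl
  rw [this, F.presheaf.map_id]
  rfl

theorem rs_rs {V W W' : X.Opens} (h : V ≤ W) (h' : W ≤ W') (x : Γ(F, W')) :
    rs F V W (rs F W W' x) = rs F V W' x := by
  rw [rs_of_le F h, rs_of_le F h', rs_of_le F (h.trans h'), ← ConcreteCategory.comp_apply,
    ← F.presheaf.map_comp]
  rfl

theorem rs_add {V W : X.Opens} (x x' : Γ(F, W)) : rs F V W (x + x') = rs F V W x + rs F V W x' := by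
  by_cases h : V ≤ W
  · rw [rs_of_le F h, rs_of_le F h, rs_of_le F h, map_add]
  · simp only [rs, dif_neg h, add_zero]

theorem rs_zero {V W : X.Opens} : rs F V W (0 : Γ(F, W)) = 0 := by
  by_cases h : V ≤ W
  · rw [rs_of_le F h, map_zero]
  · simp only [rs, dif_neg h]

theorem rs_sub {V W : X.Opens} (x x' : Γ(F, W)) : rs F V W (x - x') = rs F V W x - rs F V W x' := by
  by_cases h : V ≤ W
  · rw [rs_of_le F h, rs_of_le F h, rs_of_le F h, map_sub]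
  · simp only [rs, dif_neg h, sub_zero]

theorem rs_smul {V W : X.Opens} (h : V ≤ W) (r : Γ(X, W)) (x : Γ(F, W)) :
    rs F V W (r • x) = X.presheaf.map (homOfLE h).op r • rs F V W x := by
  rw [rs_of_le F h, rs_of_le F h]
  exact Scheme.Modules.map_smul F (homOfLE h) r x

/-- sections agreeing locally are equal. -/
theorem rs_ext {V : X.Opens} (x x' : Γ(F, V))
    (h : ∀ y : V, ∃ W : X.Opens, W ≤ V ∧ y.1 ∈ W ∧ rs F W V x = rs F W V x') : x = x' := by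
  choose W hWV hyW hW using h
  refine TopCat.Sheaf.eq_of_locally_eq' ⟨F.presheaf, F.isSheaf⟩ W V (fun y => homOfLE (hWV y))
    (fun z hz => Opens.mem_iSup.mpr ⟨⟨z, hz⟩, hyW ⟨z, hz⟩⟩) x x' (fun y => ?_)
  have := hW y
  rwa [rs_of_le F (hWV y), rs_of_le F (hWV y)] at this

/-- unique gluing of sections. -/
theorem rs_glue {V : X.Opens} {κ : Type*} (W : κ → X.Opens) (hW : ∀ k, W k ≤ V)
    (hcov : V ≤ ⨆ k, W k) (t : ∀ k, Γ(F, W k))
    (hcompat : ∀ k k', rs F (W k ⊓ W k') (W k) (t k) = rs F (W k ⊓ W k') (W k') (t k')) :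
    ∃! x : Γ(F, V), ∀ k, rs F (W k) V x = t k := by
  obtain ⟨x, hx, hux⟩ := TopCat.Sheaf.existsUnique_gluing' ⟨F.presheaf, F.isSheaf⟩ W V
    (fun k => homOfLE (hW k)) hcov t (fun k k' => by
      have := hcompat k k'
      rwa [rs_of_le F inf_le_left, rs_of_le F inf_le_right] at this)
  refine ⟨x, fun k => (rs_of_le F (hW k) x).trans (hx k), fun x' hx' => hux x' (fun k => ?_)⟩
  exact (rs_of_le F (hW k) x').symm.trans (hx' k)

end rs

section more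
variable {R A : Type u} [CommRing R] [CommRing A] [Algebra R A] (𝒜 : ℕ → Submodule R A)
  [GradedAlgebra 𝒜]

theorem rs_oFrac_smul (F : (Proj 𝒜).Modules) {V W : (Proj 𝒜).Opens} (h : V ≤ W) {d : ℕ} {a b : A}
    (hg : Good 𝒜 W d a b) (x : Γ(F, W)) :
    rs F V W (oFrac 𝒜 W d a b • x) = oFrac 𝒜 V d a b • rs F V W x := by
  rw [rs_smul F h, res_oFrac 𝒜 (homOfLE h) hg]

theorem oFrac_pow {V : (Proj 𝒜).Opens} {d : ℕ} {a b : A} (h : Good 𝒜 V d a b) (k : ℕ) :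
    (oFrac 𝒜 V d a b) ^ k = oFrac 𝒜 V (k * d) (a ^ k) (b ^ k) := by
  apply o_ext
  intro y
  have e1 : ((toO 𝒜 ((oFrac 𝒜 V d a b) ^ k)).1 y).val = (((toO 𝒜 (oFrac 𝒜 V d a b)).1 y).val) ^ k :=
    HomogeneousLocalization.val_pow _ _
  rw [e1, val_oFrac 𝒜 h, val_oFrac 𝒜 (h.pow k), Localization.mk_pow]
  rfl

/-- every point of an open of `Proj` lies in a `D₊(g)`, `g` homogeneous of positive degree,
contained in it. -/
theorem exists_basicOpen_le (V : (Proj 𝒜).Opens) (y : Proj 𝒜) (hy : y ∈ V) :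
    ∃ (g : A) (e : ℕ), 0 < e ∧ g ∈ 𝒜 e ∧ g ∉ (y : ProjectiveSpectrum 𝒜).asHomogeneousIdeal ∧
      Proj.basicOpen 𝒜 g ≤ V := by
  obtain ⟨_, ⟨a, rfl⟩, hya, haV⟩ :=
    (ProjectiveSpectrum.isTopologicalBasis_basic_opens 𝒜).exists_subset_of_mem_open hy V.2
  have hya' : (y : ProjectiveSpectrum 𝒜) ∈ ProjectiveSpectrum.basicOpen 𝒜 a := hya
  rw [ProjectiveSpectrum.basicOpen_eq_union_of_projection 𝒜 a] at hya'
  obtain ⟨k, hk⟩ := (Opens.mem_iSup (x := (y : ProjectiveSpectrum 𝒜))).mp hya'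
  set b : A := GradedAlgebra.proj 𝒜 k a with hb
  have hbmem : b ∈ 𝒜 k := by
    rw [hb, GradedAlgebra.proj_apply]; exact SetLike.coe_mem _
  have hby : b ∉ (y : ProjectiveSpectrum 𝒜).asHomogeneousIdeal :=
    (ProjectiveSpectrum.mem_basicOpen 𝒜 b y).mp hk
  have hba : ProjectiveSpectrum.basicOpen 𝒜 b ≤ ProjectiveSpectrum.basicOpen 𝒜 a := by
    conv_rhs => rw [ProjectiveSpectrum.basicOpen_eq_union_of_projection 𝒜 a]
    exact le_iSup (fun i => ProjectiveSpectrum.basicOpen 𝒜 (GradedAlgebra.proj 𝒜 i a)) k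
  obtain ⟨g, e', he', hg, hyg⟩ := exists_homogeneous_pos_mem_basicOpen 𝒜 y
  have hgy : g ∉ (y : ProjectiveSpectrum 𝒜).asHomogeneousIdeal := (Proj.mem_basicOpen 𝒜 g y).mp hyg
  refine ⟨b * g, k + e', by omega, SetLike.mul_mem_graded hbmem hg,
    fun hmem => ((y : ProjectiveSpectrum 𝒜).isPrime.mem_or_mem hmem).elim hby hgy, ?_⟩
  intro z hz
  apply haV
  apply hba
  exact (ProjectiveSpectrum.mem_basicOpen 𝒜 b (z : ProjectiveSpectrum 𝒜)).mpr
    (fun hmem => (Proj.mem_basicOpen 𝒜 (b * g) z).mp hz (Ideal.mul_mem_right _ _ hmem))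

set_option backward.isDefEq.respectTransparency.types false in
/-- every section of the structure sheaf is locally a legitimate fraction. -/
theorem exists_good_rep {V : (Proj 𝒜).Opens} (r : Γ(Proj 𝒜, V)) (y : V) :
    ∃ (W : (Proj 𝒜).Opens) (hWV : W ≤ V) (d : ℕ) (a b : A), y.1 ∈ W ∧ Good 𝒜 W d a b ∧
      (Proj 𝒜).presheaf.map (homOfLE hWV).op r = oFrac 𝒜 W d a b := by
  obtain ⟨W, hyW, iW, d, ⟨a, ha⟩, ⟨b, hb⟩, hnin, hw⟩ := (toO 𝒜 r).2 y
  have hg : Good 𝒜 W d a b := ⟨ha, hb, hnin⟩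
  refine ⟨W, iW.le, d, a, b, hyW, hg, ?_⟩
  apply o_ext
  intro z
  refine Eq.trans (congrArg HomogeneousLocalization.val (val_res 𝒜 (homOfLE iW.le) r z)) ?_
  refine Eq.trans ?_ (val_oFrac 𝒜 hg z).symm
  have := hw z
  refine Eq.trans (congrArg HomogeneousLocalization.val this) ?_
  simp only [HomogeneousLocalization.val_mk]

/-- the non-vanishing locus of the section `a / b`. -/
theorem basicOpen_oFrac {V : (Proj 𝒜).Opens} {d : ℕ} {a b : A} (h : Good 𝒜 V d a b) :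
    (Proj 𝒜).basicOpen (oFrac 𝒜 V d a b) = V ⊓ Proj.basicOpen 𝒜 a := by
  ext y
  have hprime : (y : ProjectiveSpectrum 𝒜).asHomogeneousIdeal.toIdeal.IsPrime :=
    (y : ProjectiveSpectrum 𝒜).isPrime
  rw [SetLike.mem_coe, SetLike.mem_coe, mem_basicOpen_iff]
  constructor
  · rintro ⟨hy, hu⟩
    refine ⟨hy, (Proj.mem_basicOpen 𝒜 a y).mpr ?_⟩
    rw [← HomogeneousLocalization.isUnit_iff_isUnit_val] at hu
    have hu2 := Eq.mp (congrArg IsUnit (val_oFrac 𝒜 h ⟨y, hy⟩)) hu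
    rw [Localization.mk_eq_mk', IsLocalization.AtPrime.isUnit_mk'_iff] at hu2
    exact hu2
  · rintro ⟨hy, hay⟩
    refine ⟨hy, ?_⟩
    rw [← HomogeneousLocalization.isUnit_iff_isUnit_val]
    refine Eq.mpr (congrArg IsUnit (val_oFrac 𝒜 h ⟨y, hy⟩)) ?_
    rw [Localization.mk_eq_mk', IsLocalization.AtPrime.isUnit_mk'_iff]
    exact (Proj.mem_basicOpen 𝒜 a y).mp hay

end more

section nv
variable {R A : Type u} [CommRing R] [CommRing A] [Algebra R A] (𝒜 : ℕ → Submodule R A)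
  [GradedAlgebra 𝒜]

/-- `b` vanishes nowhere on `V`. -/
def NV (V : (Proj 𝒜).Opens) (b : A) : Prop := ∀ y : V, b ∉ y.1.asHomogeneousIdeal

variable {𝒜}

theorem NV.mul {V : (Proj 𝒜).Opens} {b b' : A} (h : NV 𝒜 V b) (h' : NV 𝒜 V b') :
    NV 𝒜 V (b * b') :=
  fun y hmem => (y.1.isPrime.mem_or_mem hmem).elim (h y) (h' y)

theorem NV.pow {V : (Proj 𝒜).Opens} {b : A} (h : NV 𝒜 V b) (k : ℕ) : NV 𝒜 V (b ^ k) :=
  fun y hmem => h y (y.1.isPrime.mem_of_pow_mem k hmem)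

theorem NV.mono {V W : (Proj 𝒜).Opens} (hVW : V ≤ W) {b : A} (h : NV 𝒜 W b) : NV 𝒜 V b :=
  fun y => h ⟨y.1, hVW y.2⟩

theorem nv_of_le_basicOpen {V : (Proj 𝒜).Opens} {b : A} (h : V ≤ Proj.basicOpen 𝒜 b) :
    NV 𝒜 V b :=
  fun y => (Proj.mem_basicOpen 𝒜 b y.1).mp (h y.2)

theorem nv_basicOpen (b : A) : NV 𝒜 (Proj.basicOpen 𝒜 b) b := nv_of_le_basicOpen le_rfl

theorem good_of {V : (Proj 𝒜).Opens} {d : ℕ} {a b : A} (ha : a ∈ 𝒜 d) (hb : b ∈ 𝒜 d)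
    (hV : NV 𝒜 V b) : Good 𝒜 V d a b := ⟨ha, hb, hV⟩

theorem pow_mem_one {b : A} (hb : b ∈ 𝒜 1) (k : ℕ) : b ^ k ∈ 𝒜 k := by
  have := SetLike.pow_mem_graded k hb
  rwa [smul_eq_mul, mul_one] at this

end nv

end Groth.Agent.Lib.Helper17.OFrac
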