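import Groth.Agent.Lib.Helper17.TwistLoc2
import Groth.Agent.Lib.Helper17.OFrac
import Groth.Agent.Lib.Helper11.RestrictTensor
import Groth.Agent.Lib.Helper11.GenLocusBasis

/-!
# A quasi-compact open subscheme of `Proj` carries an ample `O(d)` (helper17)
-/

set_option autoImplicit false
set_option linter.unusedSectionVars false
universe u
open CategoryTheory AlgebraicGeometry TopologicalSpace Opposite HomogeneousLocalization MonoidalCategory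

namespace Groth.Agent.Lib.Helper17.OpenProjAmple
open Groth.Agent.Lib.Helper17.TwistTriv Groth.Agent.Lib.Helper17.TwistTensor
  Groth.Agent.Lib.Helper17.TildeTwist Groth.Agent.Lib.Helper17.TwistGen
  Groth.Agent.Lib.Helper17.TwistAmple Groth.Agent.Lib.Helper17.EpiFree
  Groth.Agent.Lib.Helper17.TwistLoc Groth.Agent.Lib.Helper11.GenLocus

variable {R A : Type u} [CommRing R] [CommRing A] [Algebra R A] (𝒜 : ℕ → Submodule R A)
  [GradedAlgebra 𝒜]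

/-- pointwise version of `TwistLoc.le_basicOpen_of_isIso_restrict`: if `b / 1 : O ⟶ O(n)` is an
isomorphism near `y` and `O(n)` has a local generator at `y`, then `b` does not vanish at `y`. -/
theorem not_mem_of_isIso_restrict {n : ℕ} {b : A} (hb : b ∈ 𝒜 n)
    (U : (Proj 𝒜).Opens)
    (h : IsIso ((Scheme.Modules.restrictFunctor U.ι).map (secHom 𝒜 hb))) (y : Proj 𝒜) (hyU : y ∈ U)
    (hloc : ∃ (p q : ℕ) (u v : A), u ∈ 𝒜 p ∧ v ∈ 𝒜 q ∧ (p : ℤ) = q + n ∧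
      u ∉ (y : ProjectiveSpectrum 𝒜).asHomogeneousIdeal ∧
      v ∉ (y : ProjectiveSpectrum 𝒜).asHomogeneousIdeal) :
    b ∉ (y : ProjectiveSpectrum 𝒜).asHomogeneousIdeal := by
  intro hby
  obtain ⟨p, q, u, v, hu, hv, hpq, hux, hvx⟩ := hloc
  set V : (↑U : Scheme).Opens := U.ι ⁻¹ᵁ (Proj.basicOpen 𝒜 u ⊓ Proj.basicOpen 𝒜 v) with hV
  set W : (Proj 𝒜).Opens := U.ι ''ᵁ V with hW
  have hyW : y ∈ W :=
    ⟨⟨y, hyU⟩, ⟨(Proj.mem_basicOpen 𝒜 u y).mpr hux, (Proj.mem_basicOpen 𝒜 v y).mpr hvx⟩, rfl⟩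
  have hWuv : ∀ z : W, u ∉ z.1.asHomogeneousIdeal ∧ v ∉ z.1.asHomogeneousIdeal := by
    rintro ⟨_, w, hw, rfl⟩
    exact ⟨(Proj.mem_basicOpen 𝒜 u _).mp hw.1, (Proj.mem_basicOpen 𝒜 v _).mp hw.2⟩
  have hbij := bijective_of_isIso_restrict (secHom 𝒜 hb) U h V
  let t : Γ(Twist.twist 𝒜 (n : ℤ), W) := fracN 𝒜 (n : ℤ) hu hv hpq W (fun z => (hWuv z).2)
  obtain ⟨x, hx⟩ := hbij.2 t
  have h1 := val_secHom_app 𝒜 hb W x ⟨y, hyW⟩
  rw [hx] at h1
  have hprime : (y : ProjectiveSpectrum 𝒜).asHomogeneousIdeal.toIdeal.IsPrime := y.isPrime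
  have h2 : Localization.mk u (⟨v, hvx⟩ :
      (y : ProjectiveSpectrum 𝒜).asHomogeneousIdeal.toIdeal.primeCompl) = _ * Localization.mk b
      (1 : (y : ProjectiveSpectrum 𝒜).asHomogeneousIdeal.toIdeal.primeCompl) :=
    h1
  have hu1 : IsUnit (Localization.mk u (⟨v, hvx⟩ :
      (y : ProjectiveSpectrum 𝒜).asHomogeneousIdeal.toIdeal.primeCompl)) :=
    IsUnit.of_mul_eq_one _ (mk_mul_mk_eq_one 𝒜 y hvx hux)
  have hu2 : ¬ IsUnit (Localization.mk b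
      (1 : (y : ProjectiveSpectrum 𝒜).asHomogeneousIdeal.toIdeal.primeCompl)) := by
    rw [Localization.mk_one_eq_algebraMap,
      IsLocalization.AtPrime.isUnit_to_map_iff _
        (y : ProjectiveSpectrum 𝒜).asHomogeneousIdeal.toIdeal]
    exact fun hnot => hnot hby
  apply hu2
  rw [h2] at hu1
  exact isUnit_of_mul_isUnit_right hu1

theorem mem_genLocus_secHom_iff {n : ℕ} {b : A} (hb : b ∈ 𝒜 n) (y : Proj 𝒜)
    (hloc : ∃ (p q : ℕ) (u v : A), u ∈ 𝒜 p ∧ v ∈ 𝒜 q ∧ (p : ℤ) = q + n ∧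
      u ∉ (y : ProjectiveSpectrum 𝒜).asHomogeneousIdeal ∧
      v ∉ (y : ProjectiveSpectrum 𝒜).asHomogeneousIdeal) :
    y ∈ CohB1.genLocus (Twist.twist 𝒜 (n : ℤ)) (secHom 𝒜 hb) ↔ y ∈ Proj.basicOpen 𝒜 b := by
  constructor
  · intro hy
    obtain ⟨U, hU, hyU⟩ := Opens.mem_sSup.mp hy
    exact (Proj.mem_basicOpen 𝒜 b y).mpr (not_mem_of_isIso_restrict 𝒜 hb U hU y hyU hloc)
  · intro hy
    have : Proj.basicOpen 𝒜 b ≤ CohB1.genLocus (Twist.twist 𝒜 (n : ℤ)) (secHom 𝒜 hb) :=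
      le_sSup (isIso_restrict_secHom 𝒜 hb _ (fun y => (Proj.mem_basicOpen 𝒜 b y.1).mp y.2))
    exact this hy

/-- the general statement: if the image of the open immersion `j` is covered by `D₊(b i)`,
`b i ∈ 𝒜 d`, all contained in the image, then `O(d)|_X` is ample. -/
theorem isAmple_restrict_twist {X : Scheme.{u}} [CompactSpace X] (j : X ⟶ Proj 𝒜)
    [IsOpenImmersion j] (d : ℕ) (hd : 0 < d) {ι : Type*} (b : ι → A) (hb : ∀ i, b i ∈ 𝒜 d)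
    (hcov : ∀ x : X, ∃ i, b i ∉ (j.base x : ProjectiveSpectrum 𝒜).asHomogeneousIdeal)
    (hle : ∀ i, Proj.basicOpen 𝒜 (b i) ≤ j.opensRange) :
    CohB1.IsAmple ((Twist.twist 𝒜 (d : ℤ)).restrict j) := by
  have hloc : ∀ x : X, ∃ (p q : ℕ) (u v : A), u ∈ 𝒜 p ∧ v ∈ 𝒜 q ∧ (p : ℤ) = q + d ∧
      u ∉ (j.base x : ProjectiveSpectrum 𝒜).asHomogeneousIdeal ∧
      v ∉ (j.base x : ProjectiveSpectrum 𝒜).asHomogeneousIdeal := by
    intro x
    obtain ⟨i, hi⟩ := hcov x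
    exact ⟨d, 0, b i, 1, hb i, SetLike.GradedOne.one_mem, by simp, hi, one_not_mem 𝒜 _⟩
  have hgl : ∀ i, j ⁻¹ᵁ CohB1.genLocus (Twist.twist 𝒜 (d : ℤ)) (secHom 𝒜 (hb i)) =
      j ⁻¹ᵁ Proj.basicOpen 𝒜 (b i) := by
    intro i
    ext x
    exact mem_genLocus_secHom_iff 𝒜 (hb i) (j.base x) (hloc x)
  refine ⟨?_, inferInstance, ?_⟩
  · intro x
    obtain ⟨i, hi⟩ := hcov x
    refine ⟨j ⁻¹ᵁ Proj.basicOpen 𝒜 (b i), (Proj.mem_basicOpen 𝒜 (b i) _).mpr hi, ?_⟩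
    obtain ⟨e⟩ := nonempty_restrict_iso 𝒜 (d : ℤ) (hb i)
      (SetLike.GradedOne.one_mem : (1 : A) ∈ 𝒜 0) (by simp)
      ((j ⁻¹ᵁ Proj.basicOpen 𝒜 (b i)).ι ≫ j) (fun z => one_not_mem 𝒜 _)
      (fun z => (Proj.mem_basicOpen 𝒜 (b i) _).mp z.2)
    exact ⟨((Scheme.Modules.restrictFunctorComp (j ⁻¹ᵁ Proj.basicOpen 𝒜 (b i)).ι j).app _).symm ≪≫ e⟩
  · intro x
    obtain ⟨i, hi⟩ := hcov x
    obtain ⟨s', hs'⟩ := exists_tensorPow_one_genLocus_eq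
      ((Scheme.Modules.restrictUnitIso j).inv ≫
        (Scheme.Modules.restrictFunctor j).map (secHom 𝒜 (hb i)))
    refine ⟨0, s', ?_, ?_⟩
    · rw [hs', genLocus_restrict', hgl]
      exact (Proj.mem_basicOpen 𝒜 (b i) _).mpr hi
    · rw [hs', genLocus_restrict', hgl, ← Scheme.Hom.isAffineOpen_iff_of_isOpenImmersion j,
        j.image_preimage_eq_opensRange_inf, inf_eq_right.mpr (hle i)]
      exact Proj.isAffineOpen_basicOpen 𝒜 (b i) (hb i) hd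

/-- **A quasi-compact open subscheme of `Proj 𝒜` carries an ample `O(d)`, `d > 0`.** -/
theorem exists_isAmple_pullback_twist (X : Scheme.{u}) [CompactSpace X] (j : X ⟶ Proj 𝒜)
    [IsOpenImmersion j] :
    ∃ d : ℕ, 0 < d ∧
      CohB1.IsAmple ((Scheme.Modules.pullback j).obj (Twist.twist 𝒜 (d : ℤ))) := by
  classical
  have h1 : ∀ x : X, ∃ (g : A) (e : ℕ), 0 < e ∧ g ∈ 𝒜 e ∧
      g ∉ (j.base x : ProjectiveSpectrum 𝒜).asHomogeneousIdeal ∧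
      Proj.basicOpen 𝒜 g ≤ j.opensRange := fun x =>
    OFrac.exists_basicOpen_le 𝒜 j.opensRange (j.base x) ⟨x, rfl⟩
  choose g e he hg hgx hgle using h1
  obtain ⟨T, hT⟩ := isCompact_univ.elim_finite_subcover
    (fun x : X => ((j ⁻¹ᵁ Proj.basicOpen 𝒜 (g x) : X.Opens) : Set X))
    (fun x => (j ⁻¹ᵁ Proj.basicOpen 𝒜 (g x)).2)
    (fun x _ => Set.mem_iUnion.mpr ⟨x, (Proj.mem_basicOpen 𝒜 (g x) _).mpr (hgx x)⟩)
  set d := ∏ x ∈ T, e x with hd'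
  have hd : 0 < d := Finset.prod_pos (fun x _ => he x)
  have hdvd : ∀ x ∈ T, e x ∣ d := fun x hx => Finset.dvd_prod_of_mem e hx
  let b : T → A := fun x => g x ^ (d / e x)
  have hb : ∀ i, b i ∈ 𝒜 d := by
    intro i
    have := SetLike.pow_mem_graded (d / e i) (hg i)
    rwa [smul_eq_mul, Nat.div_mul_cancel (hdvd i i.2)] at this
  have hk : ∀ i : T, 0 < d / e i := fun i =>
    Nat.div_pos (Nat.le_of_dvd hd (hdvd i i.2)) (he i)
  refine ⟨d, hd, isAmple_of_iso ((Scheme.Modules.restrictFunctorIsoPullback j).app _)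
    (isAmple_restrict_twist 𝒜 j d hd b hb ?_ ?_)⟩
  · intro x
    have hx := hT (Set.mem_univ x)
    simp only [Set.mem_iUnion] at hx
    obtain ⟨y, hyT, hxy⟩ := hx
    refine ⟨⟨y, hyT⟩, fun hmem => ?_⟩
    exact ((Proj.mem_basicOpen 𝒜 (g y) _).mp hxy)
      ((j.base x : ProjectiveSpectrum 𝒜).isPrime.mem_of_pow_mem _ hmem)
  · intro i
    refine le_trans ?_ (hgle i)
    intro z hz
    rw [Proj.mem_basicOpen] at hz ⊢
    exact fun hmem => hz (Ideal.pow_mem_of_mem _ hmem _ (hk i))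

end Groth.Agent.Lib.Helper17.OpenProjAmple
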