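import Groth.Prelude.Def_PCone
import Groth.Agent.Lib.Helper17.Proj
import Mathlib

/-!
# The canonical morphism `G(φ) ⟶ Proj 𝒜` for a graded ring homomorphism `φ : 𝒜 →+*ᵍ ℬ`

We glue the chart morphisms `Spec ℬ_(φ f) ⟶ Spec 𝒜_(f) ⟶ Proj 𝒜`.
-/

set_option autoImplicit false
universe u
open CategoryTheory CategoryTheory.Limits AlgebraicGeometry HomogeneousLocalization

namespace Groth.Agent.Lib.Helper17.PConeLib

variable {R A B : Type u} [CommRing R] [CommRing A] [Algebra R A] {𝒜 : ℕ → Submodule R A}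
  [GradedAlgebra 𝒜] [CommRing B] [Algebra R B] {ℬ : ℕ → Submodule R B} [GradedAlgebra ℬ]
  (φ : 𝒜 →+*ᵍ ℬ)

/-- Naturality of `awayMap` with respect to a graded ring homomorphism. -/
theorem awayMap_comp_map {m m' : ℕ} {f g x : A} (hf : f ∈ 𝒜 m) (hg : g ∈ 𝒜 m') (hx : x = f * g)
    (hx' : φ x = φ f * φ g) :
    (awayMap ℬ (φ.2 hg) hx').comp (Away.map φ f) = (Away.map φ x).comp (awayMap 𝒜 hg hx) := by
  ext a
  obtain ⟨n, a, ha, rfl⟩ := Away.mk_surjective 𝒜 hf a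
  simp only [RingHom.coe_comp, Function.comp_apply]
  rw [Away.map_mk, awayMap_mk, awayMap_mk, Away.map_mk]
  simp only [Away.val_mk, map_mul, map_pow]
  rfl

@[reassoc]
theorem chart_ι {d : ℕ} {f : A} (hf : f ∈ 𝒜 d) (hd : 0 < d) :
    PCone.chart φ hf hd ≫ (PCone.dom φ).ι = Proj.awayι ℬ (φ f) (φ.2 hf) hd :=
  IsOpenImmersion.lift_fac _ _ _

instance {d : ℕ} {f : A} (hf : f ∈ 𝒜 d) (hd : 0 < d) : IsOpenImmersion (PCone.chart φ hf hd) := by
  have : IsOpenImmersion (PCone.chart φ hf hd ≫ (PCone.dom φ).ι) := by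
    rw [chart_ι]; infer_instance
  exact IsOpenImmersion.of_comp _ (PCone.dom φ).ι

theorem exists_chart_eq (x : (PCone.dom φ : Scheme.{u})) :
    ∃ (d : ℕ) (hd : 0 < d) (f : A) (hf : f ∈ 𝒜 d) (y : _), PCone.chart φ hf hd y = x := by
  have hx : ((PCone.dom φ).ι x) ∈ PCone.dom φ := x.2
  obtain ⟨⟨g, e, he, hg⟩, hxg⟩ := TopologicalSpace.Opens.mem_iSup.mp hx
  rw [← Proj.opensRange_awayι ℬ (φ g) (φ.2 hg) he] at hxg
  obtain ⟨y, hy⟩ := hxg
  refine ⟨e, he, g, hg, y, ?_⟩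
  apply (PCone.dom φ).ι.isOpenEmbedding.injective
  rw [← Scheme.Hom.comp_apply, chart_ι]; exact hy

/-- The open cover of `G(φ)` by the standard charts. -/
noncomputable def openCover : (PCone.dom φ : Scheme.{u}).OpenCover :=
  Scheme.Cover.mkOfCovers (Σ d : ℕ, {f : A // 0 < d ∧ f ∈ 𝒜 d})
    (fun i => Spec (CommRingCat.of (Away ℬ (φ i.2.1))))
    (fun i => PCone.chart φ i.2.2.2 i.2.2.1)
    (fun x => by
      obtain ⟨d, hd, f, hf, y, hy⟩ := exists_chart_eq φ x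
      exact ⟨⟨d, ⟨f, hd, hf⟩⟩, y, hy⟩)
    (fun i => inferInstanceAs (IsOpenImmersion (PCone.chart φ i.2.2.2 i.2.2.1)))

/-- The chart morphisms `Spec ℬ_(φ f) ⟶ Proj 𝒜`. -/
noncomputable def chartMap {d : ℕ} {f : A} (hf : f ∈ 𝒜 d) (hd : 0 < d) :
    Spec (CommRingCat.of (Away ℬ (φ f))) ⟶ Proj 𝒜 :=
  Spec.map (CommRingCat.ofHom (Away.map φ f)) ≫ Proj.awayι 𝒜 f hf hd

theorem chartMap_congr {d d' : ℕ} (h : d = d') {f : A} (hf : f ∈ 𝒜 d) (hf' : f ∈ 𝒜 d')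
    (hd : 0 < d) (hd' : 0 < d') : chartMap φ hf hd = chartMap φ hf' hd' := by
  subst h; rfl

theorem awayMap_chartMap {m m' : ℕ} {f g x : A} (hf : f ∈ 𝒜 m) (hg : g ∈ 𝒜 m') (hm : 0 < m)
    (hx : x = f * g) (hx' : φ x = φ f * φ g) :
    Spec.map (CommRingCat.ofHom (awayMap ℬ (φ.2 hg) hx')) ≫ chartMap φ hf hm =
      chartMap φ (hx ▸ SetLike.mul_mem_graded hf hg : x ∈ 𝒜 (m + m'))
        (hm.trans_le (m.le_add_right m')) := by
  unfold chartMap
  rw [← Category.assoc, ← Spec.map_comp, ← CommRingCat.ofHom_comp,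
    awayMap_comp_map φ hf hg hx hx', CommRingCat.ofHom_comp, Spec.map_comp,
    Category.assoc, Proj.SpecMap_awayMap_awayι]

/-- The canonical morphism `G(φ) ⟶ Proj 𝒜`. -/
noncomputable def retraction : (PCone.dom φ : Scheme.{u}) ⟶ Proj 𝒜 :=
  (openCover φ).glueMorphisms (fun i => chartMap φ i.2.2.2 i.2.2.1) (by
    rintro ⟨m, f, hm, hf⟩ ⟨m', g, hm', hg⟩
    change pullback.fst (PCone.chart φ hf hm) (PCone.chart φ hg hm') ≫ chartMap φ hf hm =
      pullback.snd (PCone.chart φ hf hm) (PCone.chart φ hg hm') ≫ chartMap φ hg hm'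
    let w := pullback.map (PCone.chart φ hf hm) (PCone.chart φ hg hm')
      (Proj.awayι ℬ (φ f) (φ.2 hf) hm) (Proj.awayι ℬ (φ g) (φ.2 hg) hm') (𝟙 _) (𝟙 _)
      (PCone.dom φ).ι (by rw [chart_ι, Category.id_comp]) (by rw [chart_ι, Category.id_comp])
    have h1 : pullback.fst (PCone.chart φ hf hm) (PCone.chart φ hg hm') = w ≫ pullback.fst _ _ :=
      ((pullback.lift_fst _ _ _).trans (Category.comp_id _)).symm
    have h2 : pullback.snd (PCone.chart φ hf hm) (PCone.chart φ hg hm') = w ≫ pullback.snd _ _ :=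
      ((pullback.lift_snd _ _ _).trans (Category.comp_id _)).symm
    rw [h1, h2, Category.assoc, Category.assoc]
    congr 1
    have hL := Proj.pullbackAwayιIso_hom_SpecMap_awayMap_left ℬ (f := φ f) (g := φ g)
      (x := φ (f * g)) (φ.2 hf) hm (φ.2 hg) hm' (map_mul φ f g)
    have hR := Proj.pullbackAwayιIso_hom_SpecMap_awayMap_right ℬ (f := φ f) (g := φ g)
      (x := φ (f * g)) (φ.2 hf) hm (φ.2 hg) hm' (map_mul φ f g)
    rw [← hL, ← hR, Category.assoc, Category.assoc]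
    congr 1
    rw [awayMap_chartMap φ hf hg hm rfl (map_mul φ f g),
      awayMap_chartMap φ hg hf hm' (mul_comm f g) ((map_mul φ f g).trans (mul_comm _ _))]
    exact chartMap_congr φ (add_comm m m') _ _ _ _)

@[reassoc]
theorem chart_retraction {d : ℕ} {f : A} (hf : f ∈ 𝒜 d) (hd : 0 < d) :
    PCone.chart φ hf hd ≫ retraction φ =
      Spec.map (CommRingCat.ofHom (Away.map φ f)) ≫ Proj.awayι 𝒜 f hf hd :=
  (openCover φ).ι_glueMorphisms _ _ ⟨d, ⟨f, hd, hf⟩⟩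

/-- Uniqueness of a morphism with the chart description. -/
theorem eq_of_chart {Y : Scheme.{u}} (p q : (PCone.dom φ : Scheme.{u}) ⟶ Y)
    (h : ∀ (d : ℕ) (f : A) (hd : 0 < d) (hf : f ∈ 𝒜 d),
      PCone.chart φ hf hd ≫ p = PCone.chart φ hf hd ≫ q) : p = q :=
  (openCover φ).hom_ext _ _ (fun i => h i.1 i.2.1 i.2.2.1 i.2.2.2)

/-! ### Appended: local structure of a morphism with the chart description -/

theorem opensRange_chart {d : ℕ} {f : A} (hf : f ∈ 𝒜 d) (hd : 0 < d) :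
    (PCone.chart φ hf hd).opensRange = (PCone.dom φ).ι ⁻¹ᵁ Proj.basicOpen ℬ (φ f) := by
  ext x
  rw [← Proj.opensRange_awayι ℬ (φ f) (φ.2 hf) hd]
  constructor
  · rintro ⟨y, rfl⟩
    exact ⟨y, by rw [← chart_ι φ hf hd, Scheme.Hom.comp_apply]⟩
  · rintro ⟨y, hy⟩
    refine ⟨y, ?_⟩
    apply (PCone.dom φ).ι.isOpenEmbedding.injective
    rw [← Scheme.Hom.comp_apply, chart_ι]; exact hy

/-- For a morphism `p : G(φ) ⟶ Proj 𝒜` with the chart description,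
`p⁻¹ D₊(f) = D₊(φ f)` (inside `G(φ)`). -/
theorem preimage_basicOpen (p : (PCone.dom φ : Scheme.{u}) ⟶ Proj 𝒜)
    (hp : ∀ (d : ℕ) (f : A) (hd : 0 < d) (hf : f ∈ 𝒜 d),
        PCone.chart φ hf hd ≫ p =
          Spec.map (CommRingCat.ofHom (Away.map φ f)) ≫ Proj.awayι 𝒜 f hf hd)
    {d : ℕ} {f : A} (hd : 0 < d) (hf : f ∈ 𝒜 d) :
    p ⁻¹ᵁ Proj.basicOpen 𝒜 f = (PCone.dom φ).ι ⁻¹ᵁ Proj.basicOpen ℬ (φ f) := by
  ext x
  obtain ⟨e, he, g, hg, y, rfl⟩ := exists_chart_eq φ x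
  have hfac := chart_ι φ hg he
  have h1 : (PCone.chart φ hg he y ∈ p ⁻¹ᵁ Proj.basicOpen 𝒜 f) ↔
      y ∈ (PCone.chart φ hg he ≫ p) ⁻¹ᵁ Proj.basicOpen 𝒜 f := by
    rw [Scheme.Hom.comp_preimage]; rfl
  have h2 : (PCone.chart φ hg he y ∈ (PCone.dom φ).ι ⁻¹ᵁ Proj.basicOpen ℬ (φ f)) ↔
      y ∈ (PCone.chart φ hg he ≫ (PCone.dom φ).ι) ⁻¹ᵁ Proj.basicOpen ℬ (φ f) := by
    rw [Scheme.Hom.comp_preimage]; rfl
  have e2 := Proj.awayι_preimage_basicOpen 𝒜 hg he hf hd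
  have e3 := Proj.awayι_preimage_basicOpen ℬ (φ.2 hg) he (φ.2 hf) hd
  rw [SetLike.mem_coe, SetLike.mem_coe, h1, h2, hp e g he hg, hfac, Scheme.Hom.comp_preimage]
  have h3 : (y ∈ Spec.map (CommRingCat.ofHom (Away.map φ g)) ⁻¹ᵁ
      (Proj.awayι 𝒜 g hg he ⁻¹ᵁ Proj.basicOpen 𝒜 f)) ↔
      (Spec.map (CommRingCat.ofHom (Away.map φ g)) y) ∈
        (Proj.awayι 𝒜 g hg he ⁻¹ᵁ Proj.basicOpen 𝒜 f) := Iff.rfl
  have hL : ((Spec.map (CommRingCat.ofHom (Away.map φ g)) y) ∈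
        (Proj.awayι 𝒜 g hg he ⁻¹ᵁ Proj.basicOpen 𝒜 f)) ↔
      Away.isLocalizationElem hg hf ∉
        (Spec.map (CommRingCat.ofHom (Away.map φ g)) y).asIdeal := by
    rw [e2]; rfl
  have hR : (y ∈ Proj.awayι ℬ (φ g) (φ.2 hg) he ⁻¹ᵁ Proj.basicOpen ℬ (φ f)) ↔
      Away.isLocalizationElem (φ.2 hg) (φ.2 hf) ∉
        (show PrimeSpectrum (Away ℬ (φ g)) from y).asIdeal := by
    have := SetLike.ext_iff.mp e3 y
    exact this
  rw [h3, hL, hR]
  have h4 : Away.map φ g (Away.isLocalizationElem hg hf) =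
      Away.isLocalizationElem (φ.2 hg) (φ.2 hf) := by
    unfold Away.isLocalizationElem
    rw [Away.map_mk]
    simp only [map_pow]
    rfl
  rw [← h4]
  rfl

/-- The chart squares of a morphism with the chart description are cartesian. -/
theorem isPullback_chart (p : (PCone.dom φ : Scheme.{u}) ⟶ Proj 𝒜)
    (hp : ∀ (d : ℕ) (f : A) (hd : 0 < d) (hf : f ∈ 𝒜 d),
        PCone.chart φ hf hd ≫ p =
          Spec.map (CommRingCat.ofHom (Away.map φ f)) ≫ Proj.awayι 𝒜 f hf hd)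
    {d : ℕ} {f : A} (hd : 0 < d) (hf : f ∈ 𝒜 d) :
    IsPullback (PCone.chart φ hf hd) (Spec.map (CommRingCat.ofHom (Away.map φ f)))
      p (Proj.awayι 𝒜 f hf hd) := by
  refine (IsOpenImmersion.isPullback _ _ _ _ (hp d f hd hf) ?_).flip
  rw [Proj.opensRange_awayι, opensRange_chart, preimage_basicOpen φ p hp hd hf]

/-- To check a target-local property of a morphism `p : G(φ) ⟶ Proj 𝒜` with the chart
description, it suffices to check it on the maps `Spec B_(φ s) → Spec A_(s)`. -/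
theorem of_forall_away {P : MorphismProperty Scheme.{u}} [IsZariskiLocalAtTarget P]
    (p : (PCone.dom φ : Scheme.{u}) ⟶ Proj 𝒜)
    (hp : ∀ (d : ℕ) (f : A) (hd : 0 < d) (hf : f ∈ 𝒜 d),
        PCone.chart φ hf hd ≫ p =
          Spec.map (CommRingCat.ofHom (Away.map φ f)) ≫ Proj.awayι 𝒜 f hf hd)
    (H : ∀ (n : ℕ) (_ : 0 < n) (s : A) (_ : s ∈ 𝒜 n),
      P (Spec.map (CommRingCat.ofHom (Away.map φ s)))) :
    P p := by
  apply IsZariskiLocalAtTarget.of_openCover (Proj.affineOpenCover 𝒜).openCover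
  intro i
  obtain ⟨⟨n, hn⟩, ⟨s, hs⟩⟩ : Σ i : PNat, 𝒜 i := i
  have hpb := isPullback_chart φ p hp hn hs
  have h2 : hpb.isoPullback.hom ≫ pullback.snd _ _ = _ := hpb.isoPullback_hom_snd
  have h3 : P (hpb.isoPullback.hom ≫ pullback.snd _ _) := by
    rw [h2]; exact H _ hn _ hs
  exact (P.cancel_left_of_respectsIso _ _).mp h3

end Groth.Agent.Lib.Helper17.PConeLib
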