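import Groth.Agent.Lib.Helper17.PnClosedPts
import Groth.Agent.Lib.Helper27.PnLight
import Groth.Agent.Lib.Helper20.InvUFD
import Groth.Agent.Lib.Helper11.AmpleLocal

/-!
# Invertible modules are trivial on the standard charts of `P^n_R`, `R` a UFD (helper17)
-/

set_option autoImplicit false
set_option linter.unusedSectionVars false
universe u
open AlgebraicGeometry CategoryTheory Limits TopologicalSpace Opposite HomogeneousLocalization

namespace Groth.Agent.Lib.Helper17.PicPnChart
open Groth.Agent.Lib.Helper11 Groth.Agent.Lib.Helper11.GenLocus Groth.Agent.Lib.Helper45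
  Groth.Agent.Lib.Helper49 Groth.Agent.Lib.Helper17.OFrac
  Groth.Agent.Lib.Helper17.PnSections Groth.Agent.Lib.Helper17.VeryAmpleCrit
  Groth.Agent.Lib.Helper17.PnClosedPts

/-- an invertible module is trivial over an affine open whose ring of functions is a UFD. -/
theorem exists_basis_of_ufd {X : Scheme.{u}} (L : X.Modules) (hL : PicF.IsInvertible L)
    (U : X.Opens) (hU : IsAffineOpen U) (hne : Nonempty U) (hdom : IsDomain Γ(X, U))
    (hufd : UniqueFactorizationMonoid Γ(X, U)) : ∃ e : Γ(L, U), IsBasisOn L U e := by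
  have hA : IsAffine U.toScheme := hU
  let e₀ : Γ(U.toScheme, ⊤) ≃+* Γ(X, U) := U.topIso.commRingCatIsoToRingEquiv
  have hdom' : IsDomain Γ(U.toScheme, ⊤) := e₀.toMulEquiv.isDomain _
  have hufd' : UniqueFactorizationMonoid Γ(U.toScheme, ⊤) :=
    MulEquiv.uniqueFactorizationMonoid e₀.symm.toMulEquiv hufd
  have hne' : Nonempty U.toScheme := hne
  have hint : IsIntegral U.toScheme := isIntegral_of_isAffine_of_isDomain _
  obtain ⟨φ⟩ := Groth.Agent.Lib.Helper20.InvUFD.nonempty_iso_structureModule_of_ufd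
    (X := U.toScheme) ⊤ ((L.restrict U.ι).restrict (⊤ : U.toScheme.Opens).ι)
    (isInvertible_restrict (isInvertible_restrict hL U) ⊤)
  obtain ⟨t, ht⟩ := exists_isBasisOn_of_iso (X := U.toScheme) (L := L.restrict U.ι) (V := ⊤) φ
  have h2 := isBasisOn_of_restrict U.ι (L := L) ⊤ t ht
  have hU' : U.ι ''ᵁ ⊤ = U := by simp
  exact ⟨_, h2.congr_open hU'⟩

section charts
variable {R : Type u} [CommRing R] (n : ℕ)

/-- the coordinate ring of the standard chart is a polynomial ring. -/
noncomputable def chartRingEquiv (i : Fin (n + 1)) :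
    Γ(CohB1.ProjSpace n R, D R n i) ≃+* MvPolynomial {k : Fin (n + 1) // k ≠ i} R :=
  ((Proj.basicOpenIsoAway (CohB1.polyGrading n R) (T n R i) (T_mem n R i)
    one_pos).commRingCatIsoToRingEquiv.symm).trans (Groth.Agent.Lib.Helper27.PnLight.chartEquiv i)

variable [IsDomain R]

theorem isDomain_chart (i : Fin (n + 1)) : IsDomain Γ(CohB1.ProjSpace n R, D R n i) :=
  (chartRingEquiv n i).toMulEquiv.isDomain _

theorem ufd_chart [UniqueFactorizationMonoid R] (i : Fin (n + 1)) :
    UniqueFactorizationMonoid Γ(CohB1.ProjSpace n R, D R n i) :=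
  MulEquiv.uniqueFactorizationMonoid (chartRingEquiv n i).symm.toMulEquiv inferInstance

/-- the generic point of projective space. -/
noncomputable def genPt : ProjectiveSpectrum (CohB1.polyGrading n R) :=
  ⟨⊥, by
    change (⊥ : Ideal (MvPolynomial (Fin (n + 1)) R)).IsPrime
    exact Ideal.isPrime_bot, by
    intro h
    have h1 : (MvPolynomial.X 0 : MvPolynomial (Fin (n + 1)) R) ∈
        (HomogeneousIdeal.irrelevant (CohB1.polyGrading n R)) :=
      HomogeneousIdeal.mem_irrelevant_of_mem _ one_pos (T_mem n R 0)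
    have h2 := h h1
    exact MvPolynomial.X_ne_zero (0 : Fin (n + 1)) ((Submodule.mem_bot _).mp h2)⟩

theorem genPt_mem (f : MvPolynomial (Fin (n + 1)) R)
    (hf : f ≠ 0) : (genPt (R := R) n : Proj (CohB1.polyGrading n R)) ∈
      Proj.basicOpen (CohB1.polyGrading n R) f := by
  apply (Proj.mem_basicOpen _ _ _).mpr
  intro h
  exact hf ((Submodule.mem_bot _).mp h)

theorem exists_basis_chart [UniqueFactorizationMonoid R] (L : (CohB1.ProjSpace n R).Modules)
    (hL : PicF.IsInvertible L) (i : Fin (n + 1)) :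
    ∃ e : Γ(L, D R n i), IsBasisOn L (D R n i) e :=
  exists_basis_of_ufd L hL (D R n i) (isAffineOpen_D n i)
    ⟨⟨genPt n, genPt_mem n _ (MvPolynomial.X_ne_zero i)⟩⟩ (isDomain_chart n i) (ufd_chart n i)

end charts

end Groth.Agent.Lib.Helper17.PicPnChart
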