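import Groth.Agent.Lib.Helper17.PicPnUnits
import Groth.Agent.Lib.Helper11.TensorBasis

/-!
# Normal form of an invertible module on `P^n_R`, `R` a UFD (helper17)

Every invertible module has bases `e_i` on the standard charts with `e_j = (T_j / T_i)^m e_i`.
-/

set_option autoImplicit false
set_option linter.unusedSectionVars false
universe u
open AlgebraicGeometry CategoryTheory Limits TopologicalSpace Opposite HomogeneousLocalization

namespace Groth.Agent.Lib.Helper17.PicPnGlue
open Groth.Agent.Lib.Helper11 Groth.Agent.Lib.Helper11.GenLocus Groth.Agent.Lib.Helper45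
  Groth.Agent.Lib.Helper49 Groth.Agent.Lib.Helper17.OFrac
  Groth.Agent.Lib.Helper17.PnSections Groth.Agent.Lib.Helper17.VeryAmpleCrit
  Groth.Agent.Lib.Helper17.PnClosedPts Groth.Agent.Lib.Helper17.PicPnChart
  Groth.Agent.Lib.Helper17.PicPnMono Groth.Agent.Lib.Helper17.PicPnUnits
open MvPolynomial

variable {R : Type u} [CommRing R] {n : ℕ}

/-- `L` has bases `e_i` on the charts with transition functions `(T_j / T_i)^m`. -/
def HasNF (L : (PP n R).Modules) (m : ℤ) : Prop :=
  ∃ e : ∀ i, Γ(L, DD n R i), (∀ i, IsBasisOn L (DD n R i) (e i)) ∧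
    ∀ i j, mres L (inf_le_right : DD n R i ⊓ DD n R j ≤ DD n R j) (e j) =
      lmc (DD n R i ⊓ DD n R j) (1 : R) (m • delta i j) •
        mres L (inf_le_left : DD n R i ⊓ DD n R j ≤ DD n R i) (e i)

theorem fres_lmc {V W : (PP n R).Opens} (h : V ≤ W) {α : Fin (n + 1) → ℤ} (hα : Adm n R W α)
    (c : R) : fres h (lmc W c α) = lmc V c α :=
  lmc_res (homOfLE h) hα c

theorem delta_sub (i j : Fin (n + 1)) (l : Fin (n + 1)) :
    delta (0 : Fin (n + 1)) j l - delta (0 : Fin (n + 1)) i l = delta i j l := by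
  unfold delta
  ring

variable [IsDomain R]

theorem nonempty_of_le_charts (W : (PP n R).Opens) (f : MvPolynomial (Fin (n + 1)) R) (hf : f ≠ 0)
    (hW : Proj.basicOpen (CohB1.polyGrading n R) f ≤ W) : Nonempty W :=
  ⟨⟨genPt n, hW (genPt_mem n f hf)⟩⟩

variable [UniqueFactorizationMonoid R]

theorem exists_basis_chart' (L : (PP n R).Modules) (hL : PicF.IsInvertible L) (i : Fin (n + 1)) :
    ∃ e : Γ(L, DD n R i), IsBasisOn L (DD n R i) e :=
  exists_basis_chart n L hL i

theorem exists_nf (L : (PP n R).Modules) (hL : PicF.IsInvertible L) : ∃ m : ℤ, HasNF L m := by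
  classical
  choose e he using fun i : Fin (n + 1) => exists_basis_chart' L hL i
  have hG : ∀ i j, ∃ g : Γ(PP n R, DD n R i ⊓ DD n R j),
      g • mres L (inf_le_left : DD n R i ⊓ DD n R j ≤ DD n R i) (e i) =
        mres L (inf_le_right : DD n R i ⊓ DD n R j ≤ DD n R j) (e j) :=
    fun i j => ((he i).mono inf_le_left).exists_eq_smul _
  choose G hG using hG
  have hGu : ∀ i j, IsUnit (G i j) := fun i j =>
    isUnit_of_isBasisOn_smul ((he i).mono inf_le_left) (G i j)
      (by rw [hG]; exact (he j).mono inf_le_right)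
  choose cc mm hcc hGl using fun i j => units_overlap (G i j) (hGu i j)
  -- the cocycle condition
  have hcoc : ∀ a b c, cc a c = cc b c * cc a b ∧
      mm a c • delta a c = mm b c • delta b c + mm a b • delta a b := by
    intro a b c
    have hWa : DD n R a ⊓ DD n R b ⊓ DD n R c ≤ DD n R a := inf_le_left.trans inf_le_left
    have hWb : DD n R a ⊓ DD n R b ⊓ DD n R c ≤ DD n R b := inf_le_left.trans inf_le_right
    have hWc : DD n R a ⊓ DD n R b ⊓ DD n R c ≤ DD n R c := inf_le_right
    have hWab : DD n R a ⊓ DD n R b ⊓ DD n R c ≤ DD n R a ⊓ DD n R b := inf_le_left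
    have hWac : DD n R a ⊓ DD n R b ⊓ DD n R c ≤ DD n R a ⊓ DD n R c := le_inf hWa hWc
    have hWbc : DD n R a ⊓ DD n R b ⊓ DD n R c ≤ DD n R b ⊓ DD n R c := le_inf hWb hWc
    have hne : Nonempty (DD n R a ⊓ DD n R b ⊓ DD n R c : (PP n R).Opens) := by
      refine nonempty_of_le_charts _ (T n R a * T n R b * T n R c)
        (mul_ne_zero (mul_ne_zero (X_ne_zero a) (X_ne_zero b)) (X_ne_zero c)) ?_
      rw [Proj.basicOpen_mul, Proj.basicOpen_mul]
    have h1 : mres L hWc (e c) = fres hWac (G a c) • mres L hWa (e a) := by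
      have := congrArg (mres L hWac) (hG a c)
      rw [mres_smul, mres_mres, mres_mres] at this
      exact this.symm
    have h2 : mres L hWc (e c) = fres hWbc (G b c) • mres L hWb (e b) := by
      have := congrArg (mres L hWbc) (hG b c)
      rw [mres_smul, mres_mres, mres_mres] at this
      exact this.symm
    have h3 : mres L hWb (e b) = fres hWab (G a b) • mres L hWa (e a) := by
      have := congrArg (mres L hWab) (hG a b)
      rw [mres_smul, mres_mres, mres_mres] at this
      exact this.symm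
    have h4 : fres hWac (G a c) = fres hWbc (G b c) * fres hWab (G a b) :=
      ((he a).mono hWa).eq_of_smul_eq (by rw [← h1, h2, h3, mul_smul])
    rw [hGl a c, hGl b c, hGl a b, fres_lmc hWac (adm_delta le_rfl _),
      fres_lmc hWbc (adm_delta le_rfl _), fres_lmc hWab (adm_delta le_rfl _),
      lmc_mul (adm_delta hWbc _) (adm_delta hWab _)] at h4
    exact lmc_inj hne (adm_delta hWac _) ((adm_delta hWbc _).add (adm_delta hWab _))
      (hcc a c).ne_zero h4
  -- exponents
  have hV0 : ∀ i j l, mm i j * delta i j l =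
      mm 0 j * delta (0 : Fin (n + 1)) j l - mm 0 i * delta (0 : Fin (n + 1)) i l := by
    intro i j l
    have := congrFun (hcoc 0 i j).2 l
    simp only [Pi.add_apply, Pi.smul_apply, smul_eq_mul] at this
    linarith
  have hm0 : ∀ i, i ≠ 0 → mm 0 i = mm 0 1 := by
    intro i hi
    by_cases h1 : i = 1
    · rw [h1]
    · have hn : n ≠ 0 := by
        rintro rfl
        exact hi (Fin.ext (by omega))
      have h01 : (0 : Fin (n + 1)) ≠ 1 := by
        obtain ⟨k, rfl⟩ := Nat.exists_eq_succ_of_ne_zero hn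
        exact Fin.zero_ne_one
      have := hV0 1 i 0
      have hi' : (0 : Fin (n + 1)) ≠ i := fun h => hi h.symm
      simp only [delta, hi', h01, if_false, if_true, sub_zero, mul_zero, zero_sub, mul_neg,
        mul_one] at this
      linarith
  have hV : ∀ i j l, mm i j * delta i j l = mm 0 1 * delta i j l := by
    intro i j l
    rw [hV0, ← delta_sub i j l, mul_sub]
    congr 1
    · by_cases hj : j = 0
      · subst hj; simp [delta]
      · rw [hm0 j hj]
    · by_cases hi : i = 0
      · subst hi; simp [delta]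
      · rw [hm0 i hi]
  -- constants
  have hc0 : ∀ i j, cc 0 j = cc i j * cc 0 i := fun i j => (hcoc 0 i j).1
  choose μ hμ using fun i => isUnit_iff_exists_inv.mp (hcc 0 i)
  have hμu : ∀ i, IsUnit (μ i) := fun i =>
    IsUnit.of_mul_eq_one (cc 0 i) (by rw [mul_comm]; exact hμ i)
  refine ⟨mm 0 1, fun i => lmc (DD n R i) (μ i) 0 • e i,
    fun i => (he i).smul_unit _ (isUnit_lmc (Adm.zero _) (hμu i)), ?_⟩
  intro i j
  rw [mres_smul, mres_smul, fres_lmc _ (Adm.zero _), fres_lmc _ (Adm.zero _), ← hG i j, hGl i j,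
    smul_smul, smul_smul, lmc_mul (Adm.zero _) (adm_delta le_rfl _),
    lmc_mul (adm_delta le_rfl _) (Adm.zero _)]
  congr 1
  congr 1
  · calc μ j * cc i j = μ j * cc i j * (cc 0 i * μ i) := by rw [hμ i, mul_one]
      _ = μ j * (cc i j * cc 0 i) * μ i := by ring
      _ = μ j * cc 0 j * μ i := by rw [← hc0]
      _ = 1 * μ i := by rw [mul_comm (μ j), hμ j]
  · funext l
    simp only [Pi.add_apply, Pi.zero_apply, Pi.smul_apply, smul_eq_mul, zero_add, add_zero]
    exact hV i j l

end Groth.Agent.Lib.Helper17.PicPnGlue
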