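import Groth.Agent.Lib.Helper45.InvBasis

/-!
# Gluing an isomorphism of modules from local bases with equal transition functions (helper17)

`GlueData L' L`: an open cover `U i` of `X`, bases `e' i` of `L'` and `e i` of `L` over `U i`,
with the same transition functions `c i j` on `U i ⊓ U j`.  Then there is a (unique) morphism
`L' ⟶ L` sending `e' i` to `e i`, and it is an isomorphism (`GlueData.exists_iso`).
-/

set_option autoImplicit false
universe u
open CategoryTheory AlgebraicGeometry TopologicalSpace Opposite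

namespace Groth.Agent.Lib.Helper17.UPGlue
open Groth.Agent.Lib.Helper45 Groth.Agent.Lib.Helper49

variable {X : Scheme.{u}}

/-- sections agreeing on an open cover are equal. -/
theorem mres_ext (F : X.Modules) {V : X.Opens} {κ : Type*} (W : κ → X.Opens) (hW : ∀ k, W k ≤ V)
    (hcov : V ≤ ⨆ k, W k) (x x' : Γ(F, V)) (h : ∀ k, mres F (hW k) x = mres F (hW k) x') :
    x = x' :=
  TopCat.Sheaf.eq_of_locally_eq' ⟨F.presheaf, F.isSheaf⟩ W V (fun k => homOfLE (hW k)) hcov x x' h

/-- unique gluing of sections. -/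
theorem mres_glue (F : X.Modules) {V : X.Opens} {κ : Type*} (W : κ → X.Opens) (hW : ∀ k, W k ≤ V)
    (hcov : V ≤ ⨆ k, W k) (t : ∀ k, Γ(F, W k))
    (hcompat : ∀ k k', mres F (inf_le_left : W k ⊓ W k' ≤ W k) (t k) =
      mres F (inf_le_right : W k ⊓ W k' ≤ W k') (t k')) :
    ∃ x : Γ(F, V), ∀ k, mres F (hW k) x = t k := by
  obtain ⟨x, hx, -⟩ := TopCat.Sheaf.existsUnique_gluing' ⟨F.presheaf, F.isSheaf⟩ W V
    (fun k => homOfLE (hW k)) hcov t (fun k k' => hcompat k k')
  exact ⟨x, hx⟩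

/-- Gluing data for an isomorphism `L' ≅ L`. -/
structure GlueData (L' L : X.Modules) where
  I : Type u
  U : I → X.Opens
  hcov : ∀ x : X, ∃ i, x ∈ U i
  e' : ∀ i, Γ(L', U i)
  e : ∀ i, Γ(L, U i)
  he' : ∀ i, IsBasisOn L' (U i) (e' i)
  he : ∀ i, IsBasisOn L (U i) (e i)
  c : ∀ i j, Γ(X, U i ⊓ U j)
  hc' : ∀ i j, mres L' (inf_le_right : U i ⊓ U j ≤ U j) (e' j) =
    c i j • mres L' (inf_le_left : U i ⊓ U j ≤ U i) (e' i)
  hc : ∀ i j, mres L (inf_le_right : U i ⊓ U j ≤ U j) (e j) =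
    c i j • mres L (inf_le_left : U i ⊓ U j ≤ U i) (e i)

namespace GlueData

variable {L' L : X.Modules} (D : GlueData L' L)

/-- `t` corresponds to `s`: they have the same coordinates in the bases `e i`, `e' i`. -/
def Rel {W : X.Opens} (s : Γ(L', W)) (t : Γ(L, W)) : Prop :=
  ∀ (i : D.I) (W' : X.Opens) (h : W' ≤ W) (h' : W' ≤ D.U i) (a : Γ(X, W')),
    mres L' h s = a • mres L' h' (D.e' i) → mres L h t = a • mres L h' (D.e i)

theorem Rel.restrict {W W₁ : X.Opens} {s : Γ(L', W)} {t : Γ(L, W)} (h : D.Rel s t) (hW : W₁ ≤ W) :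
    D.Rel (mres L' hW s) (mres L hW t) := by
  intro i W' h₁ h' a ha
  rw [mres_mres] at ha ⊢
  exact h i W' (h₁.trans hW) h' a ha

theorem Rel.add {W : X.Opens} {s s₁ : Γ(L', W)} {t t₁ : Γ(L, W)} (h : D.Rel s t)
    (h₁ : D.Rel s₁ t₁) : D.Rel (s + s₁) (t + t₁) := by
  intro i W' hW h' a ha
  obtain ⟨b, hb⟩ := ((D.he' i).mono h').exists_eq_smul (mres L' hW s)
  obtain ⟨b₁, hb₁⟩ := ((D.he' i).mono h').exists_eq_smul (mres L' hW s₁)
  have hab : a = b + b₁ := by
    apply ((D.he' i).mono h').eq_of_smul_eq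
    rw [add_smul, hb, hb₁, ← ha, map_add]
  rw [map_add, h i W' hW h' b hb.symm, h₁ i W' hW h' b₁ hb₁.symm, hab, add_smul]

theorem Rel.smul {W : X.Opens} {s : Γ(L', W)} {t : Γ(L, W)} (h : D.Rel s t) (f : Γ(X, W)) :
    D.Rel (f • s) (f • t) := by
  intro i W' hW h' a ha
  obtain ⟨b, hb⟩ := ((D.he' i).mono h').exists_eq_smul (mres L' hW s)
  have hab : a = fres hW f * b := by
    apply ((D.he' i).mono h').eq_of_smul_eq
    rw [mul_smul, hb, ← ha, mres_smul]
  rw [mres_smul, h i W' hW h' b hb.symm, hab, mul_smul]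

theorem Rel.unique {W : X.Opens} {s : Γ(L', W)} {t t₁ : Γ(L, W)} (h : D.Rel s t)
    (h₁ : D.Rel s t₁) : t = t₁ := by
  refine mres_ext L (fun i : D.I => W ⊓ D.U i) (fun i => inf_le_left) ?_ t t₁ (fun i => ?_)
  · intro x hx
    obtain ⟨i, hi⟩ := D.hcov x
    exact Opens.mem_iSup.mpr ⟨i, hx, hi⟩
  · obtain ⟨b, hb⟩ := ((D.he' i).mono (inf_le_right : W ⊓ D.U i ≤ D.U i)).exists_eq_smul
      (mres L' (inf_le_left : W ⊓ D.U i ≤ W) s)
    rw [h i _ inf_le_left inf_le_right b hb.symm, h₁ i _ inf_le_left inf_le_right b hb.symm]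

theorem exists_rel {W : X.Opens} (s : Γ(L', W)) : ∃ t : Γ(L, W), D.Rel s t := by
  -- coordinates of `s` on `W ⊓ U i`
  have hex : ∀ i : D.I, ∃ a : Γ(X, W ⊓ D.U i),
      a • mres L' (inf_le_right : W ⊓ D.U i ≤ D.U i) (D.e' i) =
        mres L' (inf_le_left : W ⊓ D.U i ≤ W) s := fun i =>
    ((D.he' i).mono inf_le_right).exists_eq_smul _
  choose a ha using hex
  obtain ⟨t, ht⟩ := mres_glue L (fun i : D.I => W ⊓ D.U i) (fun i => inf_le_left)
    (by
      intro x hx
      obtain ⟨i, hi⟩ := D.hcov x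
      exact Opens.mem_iSup.mpr ⟨i, hx, hi⟩)
    (fun i => a i • mres L (inf_le_right : W ⊓ D.U i ≤ D.U i) (D.e i))
    (by
      intro i j
      -- on `Z = (W ⊓ U i) ⊓ (W ⊓ U j)`
      set Z : X.Opens := (W ⊓ D.U i) ⊓ (W ⊓ D.U j) with hZ
      have hZi : Z ≤ D.U i := inf_le_left.trans inf_le_right
      have hZj : Z ≤ D.U j := inf_le_right.trans inf_le_right
      have hZij : Z ≤ D.U i ⊓ D.U j := le_inf hZi hZj
      have hZW : Z ≤ W := inf_le_left.trans inf_le_left
      have e1 : mres L' hZj (D.e' j) = fres hZij (D.c i j) • mres L' hZi (D.e' i) := by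
        have := congrArg (mres L' hZij) (D.hc' i j)
        rwa [mres_mres, mres_smul, mres_mres] at this
      have e2 : mres L hZj (D.e j) = fres hZij (D.c i j) • mres L hZi (D.e i) := by
        have := congrArg (mres L hZij) (D.hc i j)
        rwa [mres_mres, mres_smul, mres_mres] at this
      have hi := congrArg (mres L' (inf_le_left : Z ≤ W ⊓ D.U i)) (ha i)
      have hj := congrArg (mres L' (inf_le_right : Z ≤ W ⊓ D.U j)) (ha j)
      rw [mres_smul, mres_mres, mres_mres] at hi hj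
      have hcoef : fres (inf_le_left : Z ≤ W ⊓ D.U i) (a i) =
          fres (inf_le_right : Z ≤ W ⊓ D.U j) (a j) * fres hZij (D.c i j) := by
        apply ((D.he' i).mono hZi).eq_of_smul_eq
        rw [hi, mul_smul, ← e1, hj]
      rw [mres_smul, mres_smul, mres_mres, mres_mres, e2, ← mul_smul, hcoef])
  refine ⟨t, ?_⟩
  intro i W' hW h' b hb
  have hle : W' ≤ W ⊓ D.U i := le_inf hW h'
  have h1 := congrArg (mres L' hle) (ha i)
  rw [mres_smul, mres_mres, mres_mres] at h1
  have hcoef : b = fres hle (a i) := by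
    apply ((D.he' i).mono h').eq_of_smul_eq
    rw [h1, hb]
  have h2 := congrArg (mres L hle) (ht i)
  rw [mres_mres, mres_smul, mres_mres] at h2
  rw [h2, hcoef]

/-- the glued map on sections. -/
noncomputable def beta {W : X.Opens} (s : Γ(L', W)) : Γ(L, W) := (D.exists_rel s).choose

theorem beta_rel {W : X.Opens} (s : Γ(L', W)) : D.Rel s (D.beta s) := (D.exists_rel s).choose_spec

theorem beta_eq {W : X.Opens} {s : Γ(L', W)} {t : Γ(L, W)} (h : D.Rel s t) : D.beta s = t :=
  (D.beta_rel s).unique D h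

theorem beta_add {W : X.Opens} (s s₁ : Γ(L', W)) : D.beta (s + s₁) = D.beta s + D.beta s₁ :=
  D.beta_eq ((D.beta_rel s).add D (D.beta_rel s₁))

theorem beta_smul {W : X.Opens} (f : Γ(X, W)) (s : Γ(L', W)) : D.beta (f • s) = f • D.beta s :=
  D.beta_eq ((D.beta_rel s).smul D f)

theorem beta_mres {W W₁ : X.Opens} (hW : W₁ ≤ W) (s : Γ(L', W)) :
    D.beta (mres L' hW s) = mres L hW (D.beta s) :=
  D.beta_eq ((D.beta_rel s).restrict D hW)

theorem beta_e (i : D.I) : D.beta (D.e' i) = D.e i := by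
  have h := D.beta_rel (D.e' i) i (D.U i) le_rfl le_rfl 1 (by rw [one_smul])
  rw [one_smul] at h
  simpa using h

/-- `β` as an additive map. -/
noncomputable def betaHom (W : X.Opens) : Γ(L', W) →+ Γ(L, W) :=
  AddMonoidHom.mk' D.beta D.beta_add

/-- `β` as a morphism of presheaves of abelian groups. -/
noncomputable def betaNat : L'.val.presheaf ⟶ L.val.presheaf where
  app W := AddCommGrpCat.ofHom (D.betaHom W.unop)
  naturality W W₁ g := by
    ext s
    have hle : W₁.unop ≤ W.unop := g.unop.le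
    exact D.beta_mres hle s

/-- `β` as a morphism of `O`-modules. -/
noncomputable def betaMod : L' ⟶ L :=
  ⟨PresheafOfModules.homMk D.betaNat (fun W r s => D.beta_smul (W := W.unop) r s)⟩

theorem betaMod_app {W : X.Opens} (s : Γ(L', W)) : D.betaMod.app W s = D.beta s := rfl

/-- the symmetric data. -/
def symm : GlueData L L' where
  I := D.I
  U := D.U
  hcov := D.hcov
  e' := D.e
  e := D.e'
  he' := D.he
  he := D.he'
  c := D.c
  hc' := D.hc
  hc := D.hc'

theorem rel_symm {W : X.Opens} {s : Γ(L', W)} {t : Γ(L, W)} (h : D.Rel s t) : D.symm.Rel t s := by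
  intro i W' hW h' a ha
  obtain ⟨b, hb⟩ := ((D.he' i).mono h').exists_eq_smul (mres L' hW s)
  have h1 := h i W' hW h' b hb.symm
  have hab : a = b := by
    apply ((D.he i).mono h').eq_of_smul_eq
    exact ha.symm.trans h1
  rw [hab]
  exact hb.symm

theorem symm_beta_beta {W : X.Opens} (s : Γ(L', W)) : D.symm.beta (D.beta s) = s :=
  D.symm.beta_eq (D.rel_symm (D.beta_rel s))

theorem beta_symm_beta {W : X.Opens} (t : Γ(L, W)) : D.beta (D.symm.beta t) = t :=
  D.beta_eq (D.symm.rel_symm (D.symm.beta_rel t))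

/-- **Gluing**: the isomorphism `L' ≅ L` with `e' i ↦ e i`. -/
noncomputable def iso : L' ≅ L where
  hom := D.betaMod
  inv := D.symm.betaMod
  hom_inv_id := by
    apply Scheme.Modules.hom_ext
    intro W
    ext s
    exact D.symm_beta_beta s
  inv_hom_id := by
    apply Scheme.Modules.hom_ext
    intro W
    ext t
    exact D.beta_symm_beta t

theorem iso_hom_app_e (i : D.I) : D.iso.hom.app (D.U i) (D.e' i) = D.e i := D.beta_e i

end GlueData

end Groth.Agent.Lib.Helper17.UPGlue
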