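import Groth.Agent.Lib.Helper17.PicPnGlue
import Groth.Agent.Lib.Helper17.UPGlue
import Groth.Agent.Lib.Helper17.TwistLoc
import Groth.Agent.Lib.Helper17.TwistTensor
import Groth.Agent.Lib.Helper11.AmpleBasis

/-!
# `Pic(P^n_R) = ℤ` for a UFD `R` (helper17)
-/

set_option autoImplicit false
set_option linter.unusedSectionVars false
universe u
open AlgebraicGeometry CategoryTheory Limits TopologicalSpace Opposite HomogeneousLocalization

namespace Groth.Agent.Lib.Helper17.PicPnMain
open Groth.Agent.Lib.Helper11 Groth.Agent.Lib.Helper11.GenLocus Groth.Agent.Lib.Helper45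
  Groth.Agent.Lib.Helper49 Groth.Agent.Lib.Helper17.OFrac Groth.Agent.Lib.Helper17.TwistGen
  Groth.Agent.Lib.Helper17.TwistAmple Groth.Agent.Lib.Helper17.UPProj
  Groth.Agent.Lib.Helper17.PnSections Groth.Agent.Lib.Helper17.VeryAmpleCrit
  Groth.Agent.Lib.Helper17.PnClosedPts Groth.Agent.Lib.Helper17.PicPnChart
  Groth.Agent.Lib.Helper17.PicPnMono Groth.Agent.Lib.Helper17.PicPnUnits
  Groth.Agent.Lib.Helper17.PicPnGlue Groth.Agent.Lib.Helper17.UPSecKernel
open MvPolynomial

variable {R : Type u} [CommRing R] {n : ℕ}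

/-- two modules with the same normal form are isomorphic. -/
theorem iso_of_nf {L L' : (PP n R).Modules} {m : ℤ} (h : HasNF L m) (h' : HasNF L' m) :
    Nonempty (L' ≅ L) := by
  obtain ⟨e, he, hc⟩ := h
  obtain ⟨e', he', hc'⟩ := h'
  let D : Groth.Agent.Lib.Helper17.UPGlue.GlueData L' L :=
    { I := ULift.{u} (Fin (n + 1))
      U := fun i => DD n R i.down
      hcov := fun x => by
        obtain ⟨i, hi⟩ := exists_T_not_mem n R (x : ProjectiveSpectrum (CohB1.polyGrading n R))
        exact ⟨⟨i⟩, (Proj.mem_basicOpen _ _ _).mpr hi⟩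
      e' := fun i => e' i.down
      e := fun i => e i.down
      he' := fun i => he' i.down
      he := fun i => he i.down
      c := fun i j => lmc (DD n R i.down ⊓ DD n R j.down) (1 : R) (m • delta i.down j.down)
      hc' := fun i j => hc' i.down j.down
      hc := fun i j => hc i.down j.down }
  exact ⟨D.iso⟩

/-- the normal form of `O(d)`, `d ≥ 0`. -/
theorem nf_twist (d : ℕ) : HasNF (Twist.twist (CohB1.polyGrading n R) (d : ℤ)) (d : ℤ) := by
  refine ⟨fun i => sec (secHom (CohB1.polyGrading n R) (T_pow_mem n R i d)) (DD n R i),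
    fun i => ?_, fun i j => ?_⟩
  · apply (le_genLocus_iff_isBasisOn _ _).mp
    rw [TwistAmple.genLocus_secHom (CohB1.polyGrading n R) (iSup_basicOpen_deg_one n)
      (T_pow_mem n R i d)]
    intro y hy
    apply (Proj.mem_basicOpen _ _ _).mpr
    intro hmem
    exact (Proj.mem_basicOpen _ _ _).mp hy
      ((y : ProjectiveSpectrum (CohB1.polyGrading n R)).isPrime.mem_of_pow_mem _ hmem)
  · rw [sec_mres, sec_mres, ← oFrac_pow_eq_lmc le_rfl d]
    exact sec_secHom_eq_smul (CohB1.polyGrading n R) (T_pow_mem n R j d) (T_pow_mem n R i d) _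
      ((nv_of_le_basicOpen inf_le_left).pow d)

/-- normal forms multiply under tensor products. -/
theorem nf_tensor {L L' : (PP n R).Modules} {m m' : ℤ} (h : HasNF L m) (h' : HasNF L' m') :
    HasNF (CohB1.tensorMod L L') (m + m') := by
  obtain ⟨e, he, hc⟩ := h
  obtain ⟨e', he', hc'⟩ := h'
  refine ⟨fun i => tm L L' (DD n R i) (e i) (e' i), fun i => isBasisOn_tm (he i) (he' i),
    fun i j => ?_⟩
  rw [tm_res, tm_res, hc i j, hc' i j, tm_smul_left, tm_smul_right, smul_smul,
    lmc_mul (adm_delta le_rfl _) (adm_delta le_rfl _), one_mul, add_smul]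

variable [IsDomain R] [UniqueFactorizationMonoid R]

/-- **Every invertible module on `P^n_R`, `R` a UFD, is a twist `O(d)`.** -/
theorem exists_iso_twist (L : (PP n R).Modules) (hL : PicF.IsInvertible L) :
    ∃ d : ℤ, Nonempty (L ≅ Twist.twist (CohB1.polyGrading n R) d) := by
  obtain ⟨m, hm⟩ := exists_nf L hL
  by_cases h0 : 0 ≤ m
  · obtain ⟨d, rfl⟩ := Int.eq_ofNat_of_zero_le h0
    exact ⟨d, iso_of_nf (nf_twist d) hm⟩
  · push Not at h0
    obtain ⟨p, hp⟩ : ∃ p : ℕ, m = -(p : ℤ) := ⟨(-m).toNat, by omega⟩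
    subst hp
    refine ⟨-(p : ℤ), ?_⟩
    have h1 := nf_tensor hm (nf_twist (R := R) (n := n) p)
    rw [neg_add_cancel] at h1
    have h2 : HasNF (Twist.twist (CohB1.polyGrading n R) ((0 : ℕ) : ℤ)) ((0 : ℕ) : ℤ) := nf_twist 0
    rw [Nat.cast_zero] at h2
    obtain ⟨φ⟩ := iso_of_nf h2 h1
    have hloc := fun k : ℤ => TwistLoc.locGen_of_cover_one (CohB1.polyGrading n R)
      (iSup_basicOpen_deg_one n) k
    obtain ⟨e1⟩ := TwistLoc.nonempty_tensor_iso_right (CohB1.polyGrading n R) (-(p : ℤ)) (p : ℤ)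
      (hloc _)
    rw [neg_add_cancel] at e1
    obtain ⟨e2⟩ := TwistLoc.nonempty_tensor_iso_right (CohB1.polyGrading n R) (-(p : ℤ)) 0 (hloc _)
    rw [add_zero] at e2
    obtain ⟨z⟩ := TwistTensor.nonempty_twist_zero_iso (CohB1.polyGrading n R)
    exact ⟨(unitTensorIso L).symm ≪≫
      TwistTensor.tensorModCongr (e1 ≪≫ z).symm (Iso.refl L) ≪≫
      tensorModAssoc _ _ _ ≪≫
      TwistTensor.tensorModCongr (Iso.refl _) (TwistLoc.tensorModComm _ _ ≪≫ φ) ≪≫ e2⟩

end Groth.Agent.Lib.Helper17.PicPnMain
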