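import Groth.Agent.Lib.Helper17.PicPnChart
import Groth.Agent.Lib.Helper17.SerreFinite

/-!
# Laurent monomials as functions on opens of `P^n_R` (helper17)
-/

set_option autoImplicit false
set_option linter.unusedSectionVars false
universe u
open AlgebraicGeometry CategoryTheory Limits TopologicalSpace Opposite HomogeneousLocalization

namespace Groth.Agent.Lib.Helper17.PicPnMono
open Groth.Agent.Lib.Helper11 Groth.Agent.Lib.Helper11.GenLocus Groth.Agent.Lib.Helper45
  Groth.Agent.Lib.Helper49 Groth.Agent.Lib.Helper17.OFrac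
  Groth.Agent.Lib.Helper17.PnSections Groth.Agent.Lib.Helper17.VeryAmpleCrit
  Groth.Agent.Lib.Helper17.PnClosedPts Groth.Agent.Lib.Helper17.PicPnChart

section general
variable {R A : Type u} [CommRing R] [CommRing A] [Algebra R A] (𝒜 : ℕ → Submodule R A)
  [GradedAlgebra 𝒜]

set_option backward.isDefEq.respectTransparency.types false in
/-- every function on `D₊(f)`, `f` of positive degree `e`, is a fraction `a / f ^ N`. -/
theorem exists_eq_oFrac' {f : A} {e : ℕ} (hf : f ∈ 𝒜 e) (he : 0 < e)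
    (r : Γ(Proj 𝒜, Proj.basicOpen 𝒜 f)) :
    ∃ (N : ℕ) (a : A), a ∈ 𝒜 (N * e) ∧ r = oFrac 𝒜 (Proj.basicOpen 𝒜 f) (N * e) a (f ^ N) := by
  let ε := Proj.basicOpenIsoAway 𝒜 f hf he
  obtain ⟨x, rfl⟩ : ∃ x, (Proj.awayToSection 𝒜 f).hom x = r := by
    refine ⟨ε.inv.hom r, ?_⟩
    have h1 : ε.inv ≫ Proj.awayToSection 𝒜 f = 𝟙 _ := ε.inv_hom_id
    have := congrArg (fun φ => φ.hom r) h1
    simpa using this
  obtain ⟨N, a, ha, rfl⟩ := Away.mk_surjective 𝒜 hf x
  have ha' : a ∈ 𝒜 (N * e) := by simpa [smul_eq_mul] using ha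
  refine ⟨N, a, ha', ?_⟩
  have hfN : f ^ N ∈ 𝒜 (N * e) := by
    have := SetLike.pow_mem_graded N hf
    simpa [smul_eq_mul] using this
  have G : Good 𝒜 (Proj.basicOpen 𝒜 f) (N * e) a (f ^ N) :=
    good_of ha' hfN ((nv_basicOpen f).pow N)
  apply o_ext
  intro y
  rw [val_oFrac 𝒜 G]
  have h2 := ProjectiveSpectrum.Proj.awayToSection_apply 𝒜 f (Away.mk 𝒜 hf N a ha) y
  refine Eq.trans h2 ?_
  rw [Away.val_mk, Localization.mk_eq_mk', IsLocalization.map_mk', Localization.mk_eq_mk']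
  rfl

/-- equality of fractions over a nonempty open, for a domain. -/
theorem oFrac_eq_iff [IsDomain A] {W : (Proj 𝒜).Opens} (hW : Nonempty W) {d d' : ℕ} {a b a' b' : A}
    (h : Good 𝒜 W d a b) (h' : Good 𝒜 W d' a' b') :
    oFrac 𝒜 W d a b = oFrac 𝒜 W d' a' b' ↔ a * b' = a' * b := by
  constructor
  · intro he
    obtain ⟨y⟩ := hW
    have h1 := val_oFrac 𝒜 h y
    have h2 := val_oFrac 𝒜 h' y
    rw [he] at h1
    rw [h1, Localization.mk_eq_mk_iff, Localization.r_iff_exists] at h2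
    obtain ⟨s, hs⟩ := h2
    have hs0 : (s : A) ≠ 0 := by
      intro h0
      exact s.2 (by rw [h0]; exact Ideal.zero_mem _)
    have := mul_left_cancel₀ hs0 hs
    simp only at this
    rw [mul_comm a' b, mul_comm a b']
    exact this
  · intro he
    exact oFrac_eq 𝒜 h h' he

end general

section mono
open MvPolynomial
variable {R : Type u} [CommRing R] (n : ℕ)

/-- `P^n_R` as a `Proj`. -/
noncomputable abbrev PP (n : ℕ) (R : Type u) [CommRing R] : Scheme.{u} := Proj (CohB1.polyGrading n R)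

/-- the standard chart. -/
noncomputable abbrev DD (n : ℕ) (R : Type u) [CommRing R] (l : Fin (n + 1)) : (PP n R).Opens :=
  Proj.basicOpen (CohB1.polyGrading n R) (T n R l)

/-- positive part of an integer exponent vector. -/
noncomputable def pos (α : Fin (n + 1) → ℤ) : Fin (n + 1) →₀ ℕ :=
  Finsupp.equivFunOnFinite.symm (fun l => (α l).toNat)

@[simp] theorem pos_apply (α : Fin (n + 1) → ℤ) (l : Fin (n + 1)) : pos n α l = (α l).toNat := rfl

theorem degree_pos_neg (α : Fin (n + 1) → ℤ) (h : ∑ l, α l = 0) :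
    (pos n (-α)).degree = (pos n α).degree := by
  rw [Finsupp.degree_eq_sum, Finsupp.degree_eq_sum]
  have h1 : ((∑ l, pos n α l : ℕ) : ℤ) - ((∑ l, pos n (-α) l : ℕ) : ℤ) = 0 := by
    rw [← h]
    push_cast
    rw [← Finset.sum_sub_distrib]
    refine Finset.sum_congr rfl fun l _ => ?_
    simp only [pos_apply, Pi.neg_apply]
    omega
  omega

/-- admissible exponent vectors over `W`: total degree zero, and `W` avoids the zeros of the
coordinates occurring. -/
def Adm (R : Type u) [CommRing R] (W : (PP n R).Opens) (α : Fin (n + 1) → ℤ) : Prop :=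
  (∑ l, α l = 0) ∧ ∀ l, α l ≠ 0 → W ≤ DD n R l

variable {n}

theorem Adm.neg {W : (PP n R).Opens} {α : Fin (n + 1) → ℤ} (h : Adm n R W α) :
    Adm n R W (-α) :=
  ⟨by simp [Finset.sum_neg_distrib, h.1], fun l hl => h.2 l (by simpa using hl)⟩

theorem Adm.add {W : (PP n R).Opens} {α β : Fin (n + 1) → ℤ} (h : Adm n R W α)
    (h' : Adm n R W β) : Adm n R W (α + β) :=
  ⟨by simp [Finset.sum_add_distrib, h.1, h'.1], fun l hl => by
    by_cases h0 : α l = 0
    · exact h'.2 l (by intro h1; apply hl; simp [h0, h1])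
    · exact h.2 l h0⟩

theorem Adm.zero (W : (PP n R).Opens) : Adm n R W 0 :=
  ⟨by simp, fun l hl => absurd rfl hl⟩

theorem Adm.mono {V W : (PP n R).Opens} (hVW : V ≤ W) {α : Fin (n + 1) → ℤ}
    (h : Adm n R W α) : Adm n R V α :=
  ⟨h.1, fun l hl => hVW.trans (h.2 l hl)⟩

/-- the Laurent monomial `c T^α` as a function on `W`. -/
noncomputable def lmc (W : (PP n R).Opens) (c : R) (α : Fin (n + 1) → ℤ) :
    Γ(PP n R, W) :=
  oFrac (CohB1.polyGrading n R) W (pos n α).degree (monomial (pos n α) c) (monomial (pos n (-α)) 1)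

theorem nv_monomial {W : (PP n R).Opens} {α : Fin (n + 1) → ℤ} (h : Adm n R W α) :
    NV (CohB1.polyGrading n R) W (monomial (pos n (-α)) (1 : R)) := by
  intro y hy
  rw [monomial_eq, C_1, one_mul, Finsupp.prod] at hy
  obtain ⟨l, hl, hly⟩ := (y.1.isPrime.prod_mem_iff).mp hy
  have hl0 : pos n (-α) l ≠ 0 := Finsupp.mem_support_iff.mp hl
  have hX : (X l : MvPolynomial (Fin (n + 1)) R) ∈ y.1.asHomogeneousIdeal.toIdeal :=
    y.1.isPrime.mem_of_pow_mem _ hly
  have hαl : α l ≠ 0 := by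
    intro h0
    apply hl0
    simp [h0]
  have hyD : (y.1 : Proj (CohB1.polyGrading n R)) ∈ DD n R l := h.2 l hαl y.2
  exact (Proj.mem_basicOpen _ _ _).mp hyD hX

theorem good_lmc {W : (PP n R).Opens} {α : Fin (n + 1) → ℤ} (h : Adm n R W α) (c : R) :
    Good (CohB1.polyGrading n R) W (pos n α).degree (monomial (pos n α) c)
      (monomial (pos n (-α)) 1) :=
  good_of (isHomogeneous_monomial _ rfl) (isHomogeneous_monomial _ (degree_pos_neg n α h.1))
    (nv_monomial h)

theorem lmc_res {V W : (PP n R).Opens} (i : V ⟶ W) {α : Fin (n + 1) → ℤ}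
    (h : Adm n R W α) (c : R) :
    (PP n R).presheaf.map i.op (lmc W c α) = lmc V c α :=
  res_oFrac (CohB1.polyGrading n R) i (good_lmc h c)

theorem lmc_mul {W : (PP n R).Opens} {α β : Fin (n + 1) → ℤ} (h : Adm n R W α)
    (h' : Adm n R W β) (c c' : R) : lmc W c α * lmc W c' β = lmc W (c * c') (α + β) := by
  unfold lmc
  rw [oFrac_mul _ (good_lmc h c) (good_lmc h' c')]
  refine oFrac_eq _ ((good_lmc h c).mul (good_lmc h' c')) (good_lmc (h.add h') (c * c')) ?_
  rw [monomial_mul, monomial_mul, monomial_mul, monomial_mul, one_mul, mul_one]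
  have hexp : pos n α + pos n β + pos n (-(α + β)) =
      pos n (α + β) + (pos n (-α) + pos n (-β)) := by
    ext l
    simp only [Finsupp.add_apply, pos_apply, Pi.add_apply, Pi.neg_apply]
    omega
  rw [hexp]

theorem lmc_one_zero (W : (PP n R).Opens) : lmc W (1 : R) 0 = 1 := by
  unfold lmc
  have h : (-0 : Fin (n + 1) → ℤ) = 0 := neg_zero
  rw [h]
  exact oFrac_self _ (good_lmc (Adm.zero W) 1)

theorem isUnit_lmc {W : (PP n R).Opens} {α : Fin (n + 1) → ℤ} (h : Adm n R W α)
    {c : R} (hc : IsUnit c) : IsUnit (lmc W c α) := by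
  obtain ⟨c', hc'⟩ := isUnit_iff_exists_inv.mp hc
  refine isUnit_iff_exists_inv.mpr ⟨lmc W c' (-α), ?_⟩
  rw [lmc_mul h h.neg, hc', add_neg_cancel, lmc_one_zero]

theorem lmc_inj [IsDomain R] {W : (PP n R).Opens} (hW : Nonempty W)
    {α β : Fin (n + 1) → ℤ} (h : Adm n R W α) (h' : Adm n R W β) {c c' : R} (hc : c ≠ 0)
    (he : lmc W c α = lmc W c' β) : c = c' ∧ α = β := by
  unfold lmc at he
  rw [oFrac_eq_iff _ hW (good_lmc h c) (good_lmc h' c'), monomial_mul, monomial_mul, mul_one,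
    mul_one, monomial_eq_monomial_iff] at he
  rcases he with ⟨h1, h2⟩ | ⟨h1, -⟩
  · refine ⟨h2, ?_⟩
    funext l
    have := DFunLike.congr_fun h1 l
    simp only [Finsupp.add_apply, pos_apply, Pi.neg_apply] at this
    omega
  · exact absurd h1 hc

end mono

end Groth.Agent.Lib.Helper17.PicPnMono
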