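import Groth.Agent.Lib.Helper17.PicPnMain

/-!
# Uniqueness of the degree of an invertible module on `P^n_R`, `n ≥ 1`, `R` a UFD (helper17)

* `HasNF.of_iso`: normal forms transport along isomorphisms,
* `nf_unique`: the exponent of a normal form is unique when `n ≥ 1`,
* `nf_twist_int`: `O(d)` has normal form `d`, for every integer `d`,
* `twist_iso_imp_eq`: `O(d) ≅ O(d')` implies `d = d'`,
* `existsUnique_iso_twist`: every invertible module is `O(d)` for a unique `d`.
-/

set_option autoImplicit false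
set_option linter.unusedSectionVars false
universe u
open AlgebraicGeometry CategoryTheory Limits TopologicalSpace Opposite HomogeneousLocalization

namespace Groth.Agent.Lib.Helper17.PicPnUniq
open Groth.Agent.Lib.Helper11 Groth.Agent.Lib.Helper11.GenLocus Groth.Agent.Lib.Helper45
  Groth.Agent.Lib.Helper49 Groth.Agent.Lib.Helper17.OFrac Groth.Agent.Lib.Helper17.TwistGen
  Groth.Agent.Lib.Helper17.TwistAmple Groth.Agent.Lib.Helper17.UPProj
  Groth.Agent.Lib.Helper17.PnSections Groth.Agent.Lib.Helper17.VeryAmpleCrit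
  Groth.Agent.Lib.Helper17.PnClosedPts Groth.Agent.Lib.Helper17.PicPnChart
  Groth.Agent.Lib.Helper17.PicPnMono Groth.Agent.Lib.Helper17.PicPnUnits
  Groth.Agent.Lib.Helper17.PicPnGlue Groth.Agent.Lib.Helper17.PicPnMain
  Groth.Agent.Lib.Helper17.UPSecKernel
open MvPolynomial

section General
variable {X : Scheme.{u}}

theorem app_mres' {M N : X.Modules} (φ : M ⟶ N) {V W : X.Opens} (h : W ≤ V) (t : Γ(M, V)) :
    mres N h (φ.app V t) = φ.app W (mres M h t) :=
  (ConcreteCategory.congr_hom (φ.mapPresheaf.naturality (homOfLE h).op) t).symm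

theorem app_bijective_of_isIso' {M N : X.Modules} (φ : M ⟶ N) [IsIso φ] (W : X.Opens) :
    Function.Bijective (φ.app W) :=
  (ConcreteCategory.isIso_iff_bijective (φ.app W)).mp inferInstance

/-- the image of a basis under an isomorphism is a basis. -/
theorem isBasisOn_app' {M N : X.Modules} (φ : M ⟶ N) [IsIso φ] {V : X.Opens} {t : Γ(M, V)}
    (ht : IsBasisOn M V t) : IsBasisOn N V (φ.app V t) := by
  intro W hW
  have e : (fun r : Γ(X, W) => r • mres N hW (φ.app V t)) =
      (fun m : Γ(M, W) => φ.app W m) ∘ (fun r : Γ(X, W) => r • mres M hW t) := by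
    funext r
    simp only [Function.comp_apply]
    rw [app_mres', Scheme.Modules.Hom.app_smul]
  rw [e]
  exact (app_bijective_of_isIso' φ W).comp (ht W hW)

end General

variable {R : Type u} [CommRing R] {n : ℕ}

/-- normal forms transport along isomorphisms. -/
theorem HasNF.of_iso {M M' : (PP n R).Modules} {m : ℤ} (h : HasNF M m) (φ : M ≅ M') :
    HasNF M' m := by
  obtain ⟨e, he, hc⟩ := h
  refine ⟨fun i => φ.hom.app (DD n R i) (e i), fun i => isBasisOn_app' φ.hom (he i),
    fun i j => ?_⟩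
  rw [app_mres', app_mres', hc i j, Scheme.Modules.Hom.app_smul]

variable [IsDomain R] [UniqueFactorizationMonoid R]

/-- the exponent of a normal form is unique (for `n ≥ 1`). -/
theorem nf_unique {M : (PP n R).Modules} {a b : ℤ} (ha : HasNF M a) (hb : HasNF M b)
    (hn : 1 ≤ n) : a = b := by
  classical
  obtain ⟨e, he, hc⟩ := ha
  obtain ⟨e', he', hc'⟩ := hb
  choose u hu using fun i => (he i).exists_eq_smul (e' i)
  have huu : ∀ i, IsUnit (u i) := fun i =>
    isUnit_of_isBasisOn_smul (he i) (u i) (by rw [hu]; exact he' i)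
  have hconst : ∀ i, ∃ c : R, IsUnit c ∧
      fres (inf_le_left : DD n R i ⊓ DD n R i ≤ DD n R i) (u i) =
        lmc (DD n R i ⊓ DD n R i) c 0 := by
    intro i
    obtain ⟨c, m, hcu, hg⟩ := units_overlap
      (fres (inf_le_left : DD n R i ⊓ DD n R i ≤ DD n R i) (u i)) ((huu i).map _)
    refine ⟨c, hcu, ?_⟩
    rw [hg]
    congr 1
    funext l
    simp [delta]
  choose c hcu hcc using hconst
  have hres : ∀ (i : Fin (n + 1)) (W : (PP n R).Opens) (h : W ≤ DD n R i),
      fres h (u i) = lmc W (c i) 0 := by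
    intro i W h
    have h1 : W ≤ DD n R i ⊓ DD n R i := le_inf h h
    have h2 : fres h (u i) = fres h1 (fres inf_le_left (u i)) := (fres_fres h1 inf_le_left _).symm
    rw [h2, hcc i, fres_lmc h1 (Adm.zero _)]
  have h01 : (0 : Fin (n + 1)) ≠ 1 := by
    obtain ⟨k, rfl⟩ := Nat.exists_eq_succ_of_ne_zero (by omega : n ≠ 0)
    exact Fin.zero_ne_one
  have hne : Nonempty (DD n R 0 ⊓ DD n R 1 : (PP n R).Opens) := by
    refine nonempty_of_le_charts _ (T n R 0 * T n R 1) (mul_ne_zero (X_ne_zero _) (X_ne_zero _)) ?_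
    rw [Proj.basicOpen_mul]
  have hl : DD n R 0 ⊓ DD n R 1 ≤ DD n R (0 : Fin (n + 1)) := inf_le_left
  have hr : DD n R 0 ⊓ DD n R 1 ≤ DD n R (1 : Fin (n + 1)) := inf_le_right
  have key : fres hr (u 1) * lmc (DD n R 0 ⊓ DD n R 1) (1 : R) (a • delta 0 1) =
      lmc (DD n R 0 ⊓ DD n R 1) (1 : R) (b • delta 0 1) * fres hl (u 0) := by
    apply ((he 0).mono hl).eq_of_smul_eq
    have h1 := hc' 0 1
    rw [← hu 0, ← hu 1, mres_smul, mres_smul, hc 0 1, smul_smul, smul_smul] at h1
    exact h1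
  rw [hres 1 _ hr, hres 0 _ hl, lmc_mul (Adm.zero _) (adm_delta le_rfl _),
    lmc_mul (adm_delta le_rfl _) (Adm.zero _)] at key
  have h3 := (lmc_inj hne ((Adm.zero _).add (adm_delta le_rfl _))
    ((adm_delta le_rfl _).add (Adm.zero _)) (by
      rw [mul_one]; exact (hcu 1).ne_zero) key).2
  have h4 := congrFun h3 1
  simp only [Pi.add_apply, Pi.zero_apply, Pi.smul_apply, smul_eq_mul, zero_add, add_zero,
    delta, if_true, h01.symm, if_false, sub_zero, mul_one] at h4
  exact h4

/-- `O(d)` has normal form `d`, for every integer `d` (`n ≥ 1`). -/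
theorem nf_twist_int (hn : 1 ≤ n) (d : ℤ) :
    HasNF (Twist.twist (CohB1.polyGrading n R) d) d := by
  by_cases h0 : 0 ≤ d
  · obtain ⟨p, rfl⟩ := Int.eq_ofNat_of_zero_le h0
    exact nf_twist p
  · push Not at h0
    obtain ⟨p, hp⟩ : ∃ p : ℕ, d = -(p : ℤ) := ⟨(-d).toNat, by omega⟩
    subst hp
    have hloc := fun k : ℤ => TwistLoc.locGen_of_cover_one (CohB1.polyGrading n R)
      (iSup_basicOpen_deg_one n) k
    have hinv : PicF.IsInvertible (Twist.twist (CohB1.polyGrading n R) (-(p : ℤ))) :=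
      TwistTensor.isInvertible_twist (CohB1.polyGrading n R) (iSup_basicOpen_deg_one n) _
    obtain ⟨m', hm'⟩ := exists_nf _ hinv
    have h1 := nf_tensor hm' (nf_twist (R := R) (n := n) p)
    obtain ⟨e1⟩ := TwistLoc.nonempty_tensor_iso_right (CohB1.polyGrading n R) (-(p : ℤ)) (p : ℤ)
      (hloc _)
    rw [neg_add_cancel] at e1
    have h2 : HasNF (Twist.twist (CohB1.polyGrading n R) ((0 : ℕ) : ℤ)) ((0 : ℕ) : ℤ) := nf_twist 0
    rw [Nat.cast_zero] at h2
    have h3 := nf_unique (HasNF.of_iso h1 e1) h2 hn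
    have h4 : m' = -(p : ℤ) := by omega
    subst h4
    exact hm'

/-- `O(d) ≅ O(d')` implies `d = d'` (`n ≥ 1`). -/
theorem twist_iso_imp_eq (hn : 1 ≤ n) {d d' : ℤ}
    (φ : Twist.twist (CohB1.polyGrading n R) d ≅ Twist.twist (CohB1.polyGrading n R) d') :
    d = d' :=
  nf_unique (HasNF.of_iso (nf_twist_int hn d) φ) (nf_twist_int hn d') hn

/-- **`Pic(P^n_R) = ℤ`**: every invertible module is `O(d)` for a unique `d`. -/
theorem existsUnique_iso_twist (hn : 1 ≤ n) (L : (PP n R).Modules) (hL : PicF.IsInvertible L) :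
    ∃! d : ℤ, Nonempty (L ≅ Twist.twist (CohB1.polyGrading n R) d) := by
  obtain ⟨d, ⟨φ⟩⟩ := exists_iso_twist L hL
  refine ⟨d, ⟨φ⟩, ?_⟩
  rintro d' ⟨ψ⟩
  exact twist_iso_imp_eq hn (ψ.symm ≪≫ φ)

end Groth.Agent.Lib.Helper17.PicPnUniq
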