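import Groth.Agent.Lib.Helper17.PicPnMono

/-!
# Units on double overlaps of standard charts of `P^n_R`, `R` a UFD (helper17)
-/

set_option autoImplicit false
set_option linter.unusedSectionVars false
universe u
open AlgebraicGeometry CategoryTheory Limits TopologicalSpace Opposite HomogeneousLocalization

namespace Groth.Agent.Lib.Helper17.PicPnUnits
open Groth.Agent.Lib.Helper11 Groth.Agent.Lib.Helper11.GenLocus Groth.Agent.Lib.Helper45
  Groth.Agent.Lib.Helper49 Groth.Agent.Lib.Helper17.OFrac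
  Groth.Agent.Lib.Helper17.PnSections Groth.Agent.Lib.Helper17.VeryAmpleCrit
  Groth.Agent.Lib.Helper17.PnClosedPts Groth.Agent.Lib.Helper17.PicPnChart
  Groth.Agent.Lib.Helper17.PicPnMono
open MvPolynomial

variable {R : Type u} [CommRing R] {n : ℕ}

/-- the exponent vector of `T_j / T_i`. -/
def delta (i j : Fin (n + 1)) : Fin (n + 1) → ℤ :=
  fun l => (if l = j then 1 else 0) - (if l = i then 1 else 0)

theorem sum_delta (i j : Fin (n + 1)) : ∑ l, delta i j l = 0 := by
  unfold delta
  rw [Finset.sum_sub_distrib]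
  simp

theorem adm_delta {W : (PP n R).Opens} {i j : Fin (n + 1)} (hW : W ≤ DD n R i ⊓ DD n R j) (m : ℤ) :
    Adm n R W (m • delta i j) := by
  refine ⟨?_, fun l hl => ?_⟩
  · simp only [Pi.smul_apply, smul_eq_mul, ← Finset.mul_sum, sum_delta, mul_zero]
  · simp only [Pi.smul_apply, smul_eq_mul, delta] at hl
    by_cases h1 : l = j
    · subst h1; exact hW.trans inf_le_right
    · by_cases h2 : l = i
      · subst h2; exact hW.trans inf_le_left
      · simp [h1, h2] at hl

/-- `T_j^d / T_i^d` as a Laurent monomial. -/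
theorem oFrac_pow_eq_lmc {W : (PP n R).Opens} {i j : Fin (n + 1)} (hW : W ≤ DD n R i ⊓ DD n R j)
    (d : ℕ) :
    oFrac (CohB1.polyGrading n R) W d (T n R j ^ d) (T n R i ^ d) =
      lmc W (1 : R) ((d : ℤ) • delta i j) := by
  unfold lmc
  have hnv : NV (CohB1.polyGrading n R) W (T n R i ^ d) :=
    (nv_of_le_basicOpen (hW.trans inf_le_left)).pow d
  refine oFrac_eq _ (good_of (T_pow_mem n R j d) (T_pow_mem n R i d) hnv)
    (good_lmc (adm_delta hW d) 1) ?_
  rw [T_pow_eq, T_pow_eq, monomial_mul, monomial_mul, one_mul]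
  have hexp : Finsupp.single j d + pos n (-((d : ℤ) • delta i j)) =
      pos n ((d : ℤ) • delta i j) + Finsupp.single i d := by
    ext l
    simp only [Finsupp.add_apply, Finsupp.single_apply, pos_apply, Pi.neg_apply, Pi.smul_apply,
      smul_eq_mul, delta]
    by_cases h1 : l = j <;> by_cases h2 : l = i
    · subst h1; subst h2; simp
    · subst h1
      have : ¬ i = l := fun h => h2 h.symm
      simp [h2, this]
    · subst h2
      have : ¬ j = l := fun h => h1 h.symm
      simp [h1, this]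
    · have h3 : ¬ j = l := fun h => h1 h.symm
      have h4 : ¬ i = l := fun h => h2 h.symm
      simp [h1, h2, h3, h4]
  rw [hexp]

variable [IsDomain R]

theorem exists_monomial_of_mul_eq_pow [UniqueFactorizationMonoid R] (i j : Fin (n + 1))
    (F G : MvPolynomial (Fin (n + 1)) R) (M : ℕ)
    (h : F * G = ((X i : MvPolynomial (Fin (n + 1)) R) * X j) ^ M) :
    ∃ (c : R) (a b : ℕ), IsUnit c ∧ F = monomial (Finsupp.single i a + Finsupp.single j b) c := by
  have hdvd : F ∣ (X i : MvPolynomial (Fin (n + 1)) R) ^ M * X j ^ M :=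
    ⟨G, by rw [← mul_pow]; exact h.symm⟩
  obtain ⟨d₁, d₂, h₁, h₂, rfl⟩ := dvd_mul.mp hdvd
  obtain ⟨a, -, ha⟩ := (dvd_prime_pow (X_prime (R := R) (i := i)) M).mp h₁
  obtain ⟨b, -, hb⟩ := (dvd_prime_pow (X_prime (R := R) (i := j)) M).mp h₂
  obtain ⟨u₁, hu₁⟩ := ha.symm
  obtain ⟨u₂, hu₂⟩ := hb.symm
  obtain ⟨c₁, hc₁, hu₁'⟩ := isUnit_iff_eq_C_of_isReduced.mp u₁.isUnit
  obtain ⟨c₂, hc₂, hu₂'⟩ := isUnit_iff_eq_C_of_isReduced.mp u₂.isUnit
  refine ⟨c₁ * c₂, a, b, hc₁.mul hc₂, ?_⟩
  rw [← hu₁, ← hu₂, hu₁', hu₂', X_pow_eq_monomial, X_pow_eq_monomial, C_apply, C_apply,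
    monomial_mul, monomial_mul, monomial_mul]
  simp

theorem units_overlap [UniqueFactorizationMonoid R] {i j : Fin (n + 1)}
    (g : Γ(PP n R, DD n R i ⊓ DD n R j)) (hg : IsUnit g) :
    ∃ (c : R) (m : ℤ), IsUnit c ∧ g = lmc (DD n R i ⊓ DD n R j) c (m • delta i j) := by
  have key : ∀ (W : (PP n R).Opens) (_ : W = Proj.basicOpen (CohB1.polyGrading n R)
      (T n R i * T n R j)) (_ : W ≤ DD n R i ⊓ DD n R j) (g : Γ(PP n R, W)), IsUnit g →
      ∃ (c : R) (m : ℤ), IsUnit c ∧ g = lmc W c (m • delta i j) := by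
    intro W hW hle g hg
    subst hW
    obtain ⟨g', hgg'⟩ := isUnit_iff_exists_inv.mp hg
    have hf : T n R i * T n R j ∈ CohB1.polyGrading n R 2 :=
      SetLike.mul_mem_graded (T_mem n R i) (T_mem n R j)
    obtain ⟨N, F, hF, rfl⟩ := exists_eq_oFrac' (CohB1.polyGrading n R) hf two_pos g
    obtain ⟨N', G, hG, rfl⟩ := exists_eq_oFrac' (CohB1.polyGrading n R) hf two_pos g'
    have hfN : ∀ N : ℕ, (T n R i * T n R j) ^ N ∈ CohB1.polyGrading n R (N * 2) := by
      intro N
      have := SetLike.pow_mem_graded N hf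
      simpa [smul_eq_mul] using this
    have GF : Good (CohB1.polyGrading n R) (Proj.basicOpen (CohB1.polyGrading n R)
        (T n R i * T n R j)) (N * 2) F ((T n R i * T n R j) ^ N) :=
      good_of hF (hfN N) ((nv_basicOpen _).pow N)
    have GG : Good (CohB1.polyGrading n R) (Proj.basicOpen (CohB1.polyGrading n R)
        (T n R i * T n R j)) (N' * 2) G ((T n R i * T n R j) ^ N') :=
      good_of hG (hfN N') ((nv_basicOpen _).pow N')
    have G1 : Good (CohB1.polyGrading n R) (Proj.basicOpen (CohB1.polyGrading n R)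
        (T n R i * T n R j)) 0 1 1 :=
      ⟨SetLike.GradedOne.one_mem, SetLike.GradedOne.one_mem,
        fun y h => y.1.isPrime.ne_top ((Ideal.eq_top_iff_one _).mpr h)⟩
    have hne : Nonempty (Proj.basicOpen (CohB1.polyGrading n R) (T n R i * T n R j)) :=
      ⟨⟨genPt n, genPt_mem n _ (mul_ne_zero (X_ne_zero i) (X_ne_zero j))⟩⟩
    rw [oFrac_mul _ GF GG, ← oFrac_self _ G1, oFrac_eq_iff _ hne (GF.mul GG) G1, mul_one,
      one_mul, ← pow_add] at hgg'
    obtain ⟨c, a, b, hc, rfl⟩ := exists_monomial_of_mul_eq_pow i j F G (N + N') hgg'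
    have hc0 : c ≠ 0 := hc.ne_zero
    have hab : a + b = N * 2 := by
      have h1 : (monomial (Finsupp.single i a + Finsupp.single j b) c :
          MvPolynomial (Fin (n + 1)) R).IsHomogeneous (a + b) :=
        isHomogeneous_monomial _ (by rw [map_add, Finsupp.degree_single, Finsupp.degree_single])
      exact h1.inj_right hF (by rwa [Ne, monomial_eq_zero])
    refine ⟨c, (b : ℤ) - N, hc, ?_⟩
    unfold lmc
    refine oFrac_eq _ GF (good_lmc (adm_delta hle _) c) ?_
    have hfN' : (T n R i * T n R j) ^ N =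
        monomial (Finsupp.single i N + Finsupp.single j N) (1 : R) := by
      rw [mul_pow, T_pow_eq, T_pow_eq, monomial_mul, one_mul]
    rw [hfN', monomial_mul, monomial_mul, mul_one]
    have hexp : Finsupp.single i a + Finsupp.single j b + pos n (-(((b : ℤ) - N) • delta i j)) =
        pos n (((b : ℤ) - N) • delta i j) + (Finsupp.single i N + Finsupp.single j N) := by
      ext l
      simp only [Finsupp.add_apply, Finsupp.single_apply, pos_apply, Pi.neg_apply, Pi.smul_apply,
        smul_eq_mul, delta]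
      by_cases h1 : l = j <;> by_cases h2 : l = i
      · subst h1; subst h2; simp; omega
      · subst h1
        have : ¬ i = l := fun h => h2 h.symm
        simp [h2, this]; omega
      · subst h2
        have : ¬ j = l := fun h => h1 h.symm
        simp [h1, this]; omega
      · have h3 : ¬ j = l := fun h => h1 h.symm
        have h4 : ¬ i = l := fun h => h2 h.symm
        simp [h1, h2, h3, h4]
    rw [hexp]
  exact key _ (Proj.basicOpen_mul _ _ _).symm le_rfl g hg

end Groth.Agent.Lib.Helper17.PicPnUnits
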