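import Groth.Agent.Lib.Helper17.ProjMapTwist
import Groth.Agent.Lib.Helper61.PnIso
import Groth.Agent.Lib.Helper17.FinCoh

/-!
# `P^n_B = Proj B[T₀..Tₙ]` versus `P^n_ℤ × Spec B`, compatibly with the twisting sheaves (helper17)
-/

set_option autoImplicit false
set_option linter.unusedSectionVars false
universe u
open AlgebraicGeometry CategoryTheory Limits TopologicalSpace Opposite

namespace Groth.Agent.Lib.Helper17.PnBridge
open Groth.Agent.Lib.Helper61

/-- **The bridge between `CohB1.ProjSpace n B` with `Twist.twistProjSpace` and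
`CohB1.ProjSpaceOver n (Spec B)` with `Twist.twistOver`.** -/
theorem exists_iso_projSpaceOver (n : ℕ) (B : Type u) [CommRing B] :
    ∃ θ : CohB1.ProjSpace n B ≅ CohB1.ProjSpaceOver n (Spec (CommRingCat.of B)),
      θ.hom ≫ CohB1.ProjSpaceOver.toBase n (Spec (CommRingCat.of B)) = CohB1.ProjSpace.toSpec n B ∧
      ∀ d : ℤ, Nonempty ((Scheme.Modules.pullback θ.hom).obj
        (Twist.twistOver n (Spec (CommRingCat.of B)) d) ≅ Twist.twistProjSpace n B d) := by
  refine ⟨PnIso.iso n B, PnIso.iso_hom_toBase n B, fun d => ?_⟩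
  have hfst : (PnIso.iso n B).hom ≫ pullback.fst (CohB1.ProjSpace.toSpec n (ULift.{u} ℤ))
      (specULiftZIsTerminal.from (Spec (CommRingCat.of B))) =
      Proj.map (PnIso.phi n B) (PnIso.irrelevant_le_map n B) :=
    (PnIso.isPullback' n B).isoPullback_hom_fst
  obtain ⟨e⟩ := ProjMapTwist.nonempty_pullback_twist_iso (CohB1.polyGrading n (ULift.{u} ℤ))
    (CohB1.polyGrading n B) (PnIso.phi n B) (PnIso.irrelevant_le_map n B)
    (FinCoh.iSup_basicOpen_deg_one n (ULift.{u} ℤ)) d
  exact ⟨(Scheme.Modules.pullbackComp (PnIso.iso n B).hom _).app _ ≪≫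
    (Scheme.Modules.pullbackCongr hfst).app _ ≪≫ e⟩

end Groth.Agent.Lib.Helper17.PnBridge
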