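import Groth.Agent.Lib.Helper17.PnRep
import Groth.Agent.Lib.Helper1.Cech.Localizing

/-!
# The Čech complex of `O(d)` for the standard cover of `P^n_R` (helper17)

Exactness in positive degrees `q` whenever `q < n` or `d > -(n+1)`, by the cone homotopy on Laurent
coefficient functions.
-/

set_option autoImplicit false
set_option linter.unusedSectionVars false
universe u
open CategoryTheory AlgebraicGeometry TopologicalSpace Opposite MvPolynomial Limits

namespace Groth.Agent.Lib.Helper17.PnCech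
open Groth.Agent.Lib.Helper17.Laurent Groth.Agent.Lib.Helper17.PnSections
  Groth.Agent.Lib.Helper17.PnRep Groth.Agent.Lib.Helper1.Cech

variable (n : ℕ) (R : Type u) [CommRing R] (d : ℤ)

/-- the underlying space of `P^n_R`. -/
noncomputable abbrev Xt : TopCat.{u} := (CohB1.ProjSpace n R).toTopCat

/-- the abelian presheaf underlying `O(d)`. -/
noncomputable abbrev P : (Opens (Xt n R))ᵒᵖ ⥤ AddCommGrpCat.{u} :=
  (Coh.toAb (Twist.twistProjSpace n R d)).obj

/-- the index type of the standard cover, in universe `u`. -/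
abbrev ι : Type u := ULift.{u} (Fin (n + 1))

/-- the standard cover. -/
noncomputable def U (i : ι n) : Opens (Xt n R) :=
  Proj.basicOpen (CohB1.polyGrading n R) (T n R i.down)

/-- sections of the presheaf as sections of the twisting sheaf. -/
def toS {W : Opens (ProjectiveSpectrum.top (CohB1.polyGrading n R))} :
    (P n R d).obj (op W) →+ Twist.sectN (𝒜 := CohB1.polyGrading n R) d (op W) where
  toFun s := s
  map_zero' := rfl
  map_add' _ _ := rfl

def ofS {W : Opens (ProjectiveSpectrum.top (CohB1.polyGrading n R))}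
    (s : Twist.sectN (𝒜 := CohB1.polyGrading n R) d (op W)) : (P n R d).obj (op W) := s

theorem toS_ofS {W : Opens (ProjectiveSpectrum.top (CohB1.polyGrading n R))}
    (s : Twist.sectN (𝒜 := CohB1.polyGrading n R) d (op W)) : toS n R d (ofS n R d s) = s := rfl

theorem toS_injective {W : Opens (ProjectiveSpectrum.top (CohB1.polyGrading n R))} :
    Function.Injective (toS n R d (W := W)) := fun _ _ h => h

theorem toS_map {W W' : Opens (ProjectiveSpectrum.top (CohB1.polyGrading n R))} (h : W' ≤ W)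
    (s : (P n R d).obj (op W)) :
    toS n R d ((P n R d).map (homOfLE h).op s) = Twist.resN d (homOfLE h).op (toS n R d s) := rfl

/-- the tuple of coordinate indices. -/
def tup {q : ℕ} (x : Fin (q + 1) → ι n) : Fin (q + 1) → Fin (n + 1) := fun j => (x j).down

theorem mem_inter_iff {q : ℕ} (x : Fin (q + 1) → ι n)
    (y : ProjectiveSpectrum (CohB1.polyGrading n R)) :
    y ∈ inter (U n R) x ↔ ∀ j, T n R (tup n x j) ∉ y.asHomogeneousIdeal := by
  have h : inter (U n R) x = ⨅ a, U n R (x a) := inter_eq_iInf _ _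
  have h2 : ((⨅ a, U n R (x a) : Opens (Xt n R)) : Set (Xt n R)) = ⋂ a, (U n R (x a) : Set (Xt n R)) :=
    Opens.coe_iInf _
  constructor
  · intro hy j
    have h3 : (y : Xt n R) ∈ ((⨅ a, U n R (x a) : Opens (Xt n R)) : Set (Xt n R)) := h ▸ hy
    rw [h2] at h3
    exact Set.mem_iInter.mp h3 j
  · intro hy
    have h3 : (y : Xt n R) ∈ ((⨅ a, U n R (x a) : Opens (Xt n R)) : Set (Xt n R)) := by
      rw [h2]
      exact Set.mem_iInter.mpr hy
    exact h ▸ h3

theorem all_mem_inter {q : ℕ} (x : Fin (q + 1) → ι n)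
    (y : ProjectiveSpectrum (CohB1.polyGrading n R))
    (hy : ∀ i, T n R i ∉ y.asHomogeneousIdeal) : y ∈ inter (U n R) x :=
  (mem_inter_iff n R x y).mpr fun j => hy _

set_option maxHeartbeats 1000000 in
/-- expansions of the components of `d s` from expansions of the components of `s`. -/
theorem rep_comp_d (q : ℕ) (s : (K (U n R) (P n R d)).X q)
    (lam : (Fin (q + 1) → ι n) → (Fin (n + 1) → ℤ) → R)
    (hlam : ∀ w, Rep n R d (inter (U n R) w) (toS n R d (comp (U n R) (P n R d) q w s)) (lam w))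
    (z : Fin (q + 2) → ι n) :
    Rep n R d (inter (U n R) z)
      (toS n R d (comp (U n R) (P n R d) (q + 1) z ((K (U n R) (P n R d)).d q (q + 1) s)))
      (∑ k : Fin (q + 2), (-1 : ℤ) ^ (k : ℕ) • lam (z ∘ k.succAbove)) := by
  have e1 := comp_d s z
  have e2 : toS n R d (comp (U n R) (P n R d) (q + 1) z ((K (U n R) (P n R d)).d q (q + 1) s)) =
      ∑ k : Fin (q + 2), toS n R d ((-1 : ℤ) ^ (k : ℕ) •
        ((P n R d).map (face (U n R) z k).op) (comp (U n R) (P n R d) q (z ∘ k.succAbove) s)) :=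
    (congrArg (toS n R d) e1).trans (map_sum (toS n R d) _ _)
  refine rep_congr d _ e2.symm rfl ?_
  refine rep_sum d _ (tup n z 0) (fun y => (mem_inter_iff n R z y.1).mp y.2 0) _ _ _ fun k _ => ?_
  rw [map_zsmul]
  refine rep_sign d _ _ ?_ _
  have hface : face (U n R) z k = homOfLE (leOfHom (face (U n R) z k)) := Subsingleton.elim _ _
  rw [hface]
  exact rep_res d _ _ (hlam _)


/-- a coordinate along which `a` has no pole, if there is one. -/
noncomputable def vert (a : Fin (n + 1) → ℤ) : ι n :=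
  open Classical in if h : ∃ i, 0 ≤ a i then ⟨h.choose⟩ else ⟨0⟩

theorem vert_spec (a : Fin (n + 1) → ℤ) (h : ∃ i, 0 ≤ a i) : 0 ≤ a (vert n a).down := by
  unfold vert
  rw [dif_pos h]
  exact h.choose_spec

theorem sum_le_of_all_neg (a : Fin (n + 1) → ℤ) (h : ¬ ∃ i, 0 ≤ a i) :
    ∑ i, a i ≤ -((n : ℤ) + 1) := by
  push Not at h
  have h1 : ∑ i, a i ≤ ∑ _i : Fin (n + 1), (-1 : ℤ) :=
    Finset.sum_le_sum fun i _ => by have := h i; omega
  simp at h1
  omega

theorem range_tup_cons {q : ℕ} (j : ι n) (z : Fin (q + 1) → ι n) (i : Fin (n + 1))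
    (hi : i ∈ Set.range (tup n (Fin.cons j z : Fin (q + 2) → ι n))) :
    i = j.down ∨ i ∈ Set.range (tup n z) := by
  obtain ⟨k, rfl⟩ := hi
  refine Fin.cases ?_ (fun k' => ?_) k
  · left; rfl
  · right; exact ⟨k', rfl⟩

/-- the cocycle identity for the expansions of a cocycle. -/
theorem cocycle_expansion (q : ℕ) (c : (K (U n R) (P n R d)).X q)
    (hc : (K (U n R) (P n R d)).d q (q + 1) c = 0)
    (ℓ : (Fin (q + 1) → ι n) → (Fin (n + 1) → ℤ) → R)
    (hℓrep : ∀ x, Rep n R d (inter (U n R) x) (toS n R d (comp (U n R) (P n R d) q x c)) (ℓ x))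
    (z : Fin (q + 2) → ι n) :
    ∑ k : Fin (q + 2), (-1 : ℤ) ^ (k : ℕ) • ℓ (z ∘ k.succAbove) = 0 := by
  have h1 := rep_comp_d n R d q c ℓ hℓrep z
  have e0 : comp (U n R) (P n R d) (q + 1) z ((K (U n R) (P n R d)).d q (q + 1) c) = 0 :=
    (congrArg (comp (U n R) (P n R d) (q + 1) z) hc).trans (map_zero _)
  have e1 : toS n R d (comp (U n R) (P n R d) (q + 1) z
      ((K (U n R) (P n R d)).d q (q + 1) c)) = 0 :=
    (congrArg (toS n R d) e0).trans (map_zero _)
  exact rep_unique d _ (fun y hy => all_mem_inter n R z y hy) 0 (rep_congr d _ e1 rfl h1)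
    (rep_zero d _ (tup n z 0) (fun y => (mem_inter_iff n R z y.1).mp y.2 0))

/-- the cone homotopy on expansions. -/
noncomputable def cone {p : ℕ} (ℓ : (Fin (p + 2) → ι n) → (Fin (n + 1) → ℤ) → R)
    (z : Fin (p + 1) → ι n) : (Fin (n + 1) → ℤ) → R :=
  fun a => ℓ (Fin.cons (vert n a) z) a

theorem cone_mem {p : ℕ} (hcase : p + 2 < n + 1 ∨ -((n : ℤ) + 1) < d)
    (ℓ : (Fin (p + 2) → ι n) → (Fin (n + 1) → ℤ) → R)
    (hℓmem : ∀ x, ℓ x ∈ Ld R d (Set.range (tup n x))) (z : Fin (p + 1) → ι n) :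
    cone n R ℓ z ∈ Ld R d (Set.range (tup n z)) := by
  refine ⟨?_, fun a ha => ?_⟩
  · refine Set.Finite.subset (Set.finite_iUnion fun j : ι n =>
      (hℓmem (Fin.cons j z)).1) fun a ha => ?_
    exact Set.mem_iUnion.mpr ⟨vert n a, ha⟩
  · have h1 := (hℓmem (Fin.cons (vert n a) z)).2 a ha
    refine ⟨h1.1, fun i hi => ?_⟩
    have h2 := h1.2 i hi
    by_cases hnn : ∃ i, 0 ≤ a i
    · rcases range_tup_cons n (vert n a) z i h2 with h3 | h3
      · exfalso
        have := vert_spec n a hnn
        rw [← h3] at this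
        omega
      · exact h3
    · exfalso
      have hsum := sum_le_of_all_neg n a hnn
      rcases hcase with hp | hd
      · -- the tuple `cons (vert a) z` would have to be surjective
        push Not at hnn
        have hsurj : Function.Surjective (tup n (Fin.cons (vert n a) z : Fin (p + 2) → ι n)) :=
          fun i' => h1.2 i' (hnn i')
        have := Fintype.card_le_of_surjective _ hsurj
        simp only [Fintype.card_fin] at this
        omega
      · rw [h1.1] at hsum
        omega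

theorem sum_cone {p : ℕ} (ℓ : (Fin (p + 2) → ι n) → (Fin (n + 1) → ℤ) → R)
    (hcoc : ∀ z : Fin (p + 3) → ι n,
      ∑ k : Fin (p + 3), (-1 : ℤ) ^ (k : ℕ) • ℓ (z ∘ k.succAbove) = 0)
    (x : Fin (p + 2) → ι n) :
    ∑ k : Fin (p + 2), (-1 : ℤ) ^ (k : ℕ) • cone n R ℓ (x ∘ k.succAbove) = ℓ x := by
  funext a
  have h2 := congrFun (hcoc (Fin.cons (vert n a) x)) a
  rw [Fin.sum_univ_succ] at h2
  simp only [Fin.val_zero, pow_zero, one_smul, Pi.add_apply, Finset.sum_apply, Pi.smul_apply,
    Pi.zero_apply] at h2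
  rw [cons_comp_succAbove_zero] at h2
  simp only [Finset.sum_apply, Pi.smul_apply, cone]
  have h3 : ∀ k : Fin (p + 2),
      (-1 : ℤ) ^ ((k.succ : Fin (p + 3)) : ℕ) •
        ℓ ((Fin.cons (vert n a) x : Fin (p + 3) → ι n) ∘ k.succ.succAbove) a =
      -((-1 : ℤ) ^ (k : ℕ) • ℓ (Fin.cons (vert n a) (x ∘ k.succAbove)) a) := by
    intro k
    rw [cons_comp_succAbove_succ, Fin.val_succ, pow_succ, mul_neg_one, neg_smul]
  rw [Finset.sum_congr rfl fun k _ => h3 k, Finset.sum_neg_distrib] at h2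
  exact (add_neg_eq_zero.mp h2).symm

set_option maxHeartbeats 1000000 in
/-- **Exactness of the Čech complex of `O(d)` in degree `p + 1`** when `p + 1 < n` or
`d > -(n+1)`. -/
theorem exists_cobound (p : ℕ) (hcase : p + 2 < n + 1 ∨ -((n : ℤ) + 1) < d)
    (c : (K (U n R) (P n R d)).X (p + 1))
    (hc : (K (U n R) (P n R d)).d (p + 1) (p + 1 + 1) c = 0) :
    ∃ b : (K (U n R) (P n R d)).X p, (K (U n R) (P n R d)).d p (p + 1) b = c := by
  classical
  -- expansions of the components of `c`
  have hex : ∀ x : Fin (p + 2) → ι n, ∃ ℓ ∈ Ld R d (Set.range (tup n x)),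
      Rep n R d (inter (U n R) x) (toS n R d (comp (U n R) (P n R d) (p + 1) x c)) ℓ :=
    fun x => exists_rep d (tup n x) _ (fun y hy => (mem_inter_iff n R x y).mp hy)
      (fun y hy => (mem_inter_iff n R x y).mpr hy) _
  choose ℓ hℓmem hℓrep using hex
  have hcoc := cocycle_expansion n R d (p + 1) c hc ℓ hℓrep
  have hsect : ∀ z : Fin (p + 1) → ι n,
      ∃ s : Twist.sectN (𝒜 := CohB1.polyGrading n R) d (op (inter (U n R) z)),
        Rep n R d (inter (U n R) z) s (cone n R ℓ z) :=
    fun z => exists_sect_of_mem_Ld d (tup n z) _ (fun y hy => (mem_inter_iff n R z y).mp hy)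
      (cone_mem n R d hcase ℓ hℓmem z)
  choose bS hbS using hsect
  obtain ⟨b, hb⟩ := exists_mk (U := U n R) (P := P n R d) (q := p) fun z => ofS n R d (bS z)
  refine ⟨b, ext fun x => ?_⟩
  apply toS_injective n R d
  have hbrep : ∀ w, Rep n R d (inter (U n R) w)
      (toS n R d (comp (U n R) (P n R d) p w b)) (cone n R ℓ w) := by
    intro w
    exact rep_congr d _ (congrArg (toS n R d) (hb w)).symm rfl (hbS w)
  have h1 := rep_comp_d n R d p b (cone n R ℓ) hbrep x
  exact rep_injective d _ _ _ h1 (rep_congr d _ rfl (sum_cone n R ℓ hcoc x).symm (hℓrep x))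

end Groth.Agent.Lib.Helper17.PnCech
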