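import Groth.Agent.Lib.Helper17.SepTrans

/-!
# Closed points of `P^n_k`, `k` algebraically closed (helper17)
-/

set_option autoImplicit false
set_option linter.unusedSectionVars false
universe u
open AlgebraicGeometry CategoryTheory Limits TopologicalSpace Opposite HomogeneousLocalization

namespace Groth.Agent.Lib.Helper17.PnClosedPts
open Groth.Agent.Lib.Helper17.OFrac Groth.Agent.Lib.Helper17.PnSections
  Groth.Agent.Lib.Helper17.VeryAmpleCrit Groth.Agent.Lib.Helper17.UPChart
  Groth.Agent.Lib.Helper17.SepTrans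

section general
variable {R : Type u} [CommRing R] (n : ℕ)

theorem isAffineOpen_D (j : Fin (n + 1)) : IsAffineOpen (D R n j) :=
  Proj.isAffineOpen_basicOpen (CohB1.polyGrading n R) (T n R j) (T_mem n R j) one_pos

/-- the prime ideal of the chart ring `Γ(D₊(T_j))` at `y`. -/
noncomputable def my (j : Fin (n + 1)) (y : CohB1.ProjSpace n R) (hy : y ∈ D R n j) :
    Ideal Γ(CohB1.ProjSpace n R, D R n j) :=
  ((isAffineOpen_D n j).primeIdealOf ⟨y, hy⟩).asIdeal

theorem mem_my_iff (j : Fin (n + 1)) (y : CohB1.ProjSpace n R) (hy : y ∈ D R n j)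
    (b : Γ(CohB1.ProjSpace n R, D R n j)) :
    b ∈ my n j y hy ↔ y ∉ (CohB1.ProjSpace n R).basicOpen b := by
  unfold my
  rw [(isAffineOpen_D n j).primeIdealOf_eq_map_closedPoint ⟨y, hy⟩]
  change ((CohB1.ProjSpace n R).presheaf.germ (D R n j) y hy).hom b ∈
    IsLocalRing.maximalIdeal _ ↔ _
  rw [IsLocalRing.mem_maximalIdeal, mem_nonunits_iff,
    ← (CohB1.ProjSpace n R).mem_basicOpen b y hy]

theorem dh_mem_my_iff (j : Fin (n + 1)) (y : CohB1.ProjSpace n R) (hy : y ∈ D R n j) {d : ℕ}
    {F : MvPolynomial (Fin (n + 1)) R} (hF : F ∈ CohB1.polyGrading n R d) :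
    dh n j F ∈ my n j y hy ↔
      F ∈ ((y : Proj (CohB1.polyGrading n R)) :
        ProjectiveSpectrum (CohB1.polyGrading n R)).asHomogeneousIdeal := by
  rw [mem_my_iff, basicOpen_dh n j hF]
  constructor
  · intro h
    by_contra hc
    exact h ⟨hy, (Proj.mem_basicOpen _ _ _).mpr hc⟩
  · rintro h ⟨-, h3⟩
    exact (Proj.mem_basicOpen _ _ _).mp h3 h

theorem dh_X_self (j : Fin (n + 1)) :
    dh n j (MvPolynomial.X j : MvPolynomial (Fin (n + 1)) R) = 1 := by
  have h2 := dehom_of_mem (CohB1.polyGrading n R) (T_mem n R j) (T_mem n R j)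
  rw [pow_one] at h2
  have G := good_chart (CohB1.polyGrading n R) (T_mem n R j) (T_mem n R j)
  rw [pow_one] at G
  exact h2.trans (oFrac_self _ G)

/-- a polynomial is congruent to its value modulo the ideal of the point. -/
theorem sub_C_eval_mem (a : Fin (n + 1) → R) (F : MvPolynomial (Fin (n + 1)) R) :
    F - MvPolynomial.C (MvPolynomial.eval a F) ∈
      Ideal.span (Set.range fun i => (MvPolynomial.X i - MvPolynomial.C (a i) :
        MvPolynomial (Fin (n + 1)) R)) := by
  induction F using MvPolynomial.induction_on with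
  | C r => simp
  | add p q hp hq =>
    have : p + q - MvPolynomial.C (MvPolynomial.eval a (p + q)) =
        (p - MvPolynomial.C (MvPolynomial.eval a p)) +
          (q - MvPolynomial.C (MvPolynomial.eval a q)) := by
      rw [map_add, map_add]; ring
    rw [this]
    exact Ideal.add_mem _ hp hq
  | mul_X p i hp =>
    have : p * MvPolynomial.X i - MvPolynomial.C (MvPolynomial.eval a (p * MvPolynomial.X i)) =
        (p - MvPolynomial.C (MvPolynomial.eval a p)) * MvPolynomial.X i +
          MvPolynomial.C (MvPolynomial.eval a p) *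
            (MvPolynomial.X i - MvPolynomial.C (a i)) := by
      rw [map_mul, MvPolynomial.eval_X, map_mul]; ring
    rw [this]
    exact Ideal.add_mem _ (Ideal.mul_mem_right _ _ hp)
      (Ideal.mul_mem_left _ _ (Ideal.subset_span ⟨i, rfl⟩))

/-- the coefficient vector of `T_i - a_i T_j`. -/
noncomputable def cvec (a : Fin (n + 1) → R) (j i : Fin (n + 1)) : Fin (n + 1) → R :=
  Pi.single i 1 - a i • Pi.single j 1

theorem lin_cvec (a : Fin (n + 1) → R) (j i : Fin (n + 1)) :
    lin n (cvec n a j i) = MvPolynomial.X i - MvPolynomial.C (a i) * MvPolynomial.X j := by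
  classical
  unfold lin cvec
  simp only [Pi.sub_apply, Pi.smul_apply, smul_eq_mul, map_sub, map_mul, sub_mul,
    Finset.sum_sub_distrib, Pi.single_apply]
  congr 1
  · rw [Finset.sum_eq_single i]
    · simp
    · intro b _ hb; simp [hb]
    · intro h; exact absurd (Finset.mem_univ i) h
  · rw [Finset.sum_eq_single j]
    · simp
    · intro b _ hb; simp [hb]
    · intro h; exact absurd (Finset.mem_univ j) h

theorem dh_lin_cvec (a : Fin (n + 1) → R) (j i : Fin (n + 1)) :
    dh n j (lin n (cvec n a j i)) = dh n j (MvPolynomial.X i - MvPolynomial.C (a i)) := by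
  rw [lin_cvec, map_sub, map_sub, map_mul, dh_X_self, mul_one]

end general

section field
variable {k : Type u} [Field k] [IsAlgClosed k] (n : ℕ)

/-- **coordinates of a closed point of `P^n_k`.** -/
theorem exists_coords (j : Fin (n + 1)) (y : CohB1.ProjSpace n k) (hy : y ∈ D k n j)
    (hcl : IsClosed ({y} : Set (CohB1.ProjSpace n k))) :
    ∃ a : Fin (n + 1) → k, a j = 1 ∧
      ∀ F : MvPolynomial (Fin (n + 1)) k, dh n j F ∈ my n j y hy ↔ MvPolynomial.eval a F = 0 := by
  have hmax : (my n j y hy).IsMaximal :=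
    (isAffineOpen_D n j).primeIdealOf_isMaximal_of_isClosed ⟨y, hy⟩ hcl
  have hsurj : Function.Surjective (dh n j) :=
    dehom_surjective (CohB1.polyGrading n k) (T_mem n k j)
  have hq : (Ideal.comap (dh n j) (my n j y hy)).IsMaximal :=
    Ideal.comap_isMaximal_of_surjective _ hsurj
  obtain ⟨a, ha⟩ := MvPolynomial.eq_vanishingIdeal_singleton_of_isMaximal k hq
  have key : ∀ F : MvPolynomial (Fin (n + 1)) k,
      dh n j F ∈ my n j y hy ↔ MvPolynomial.eval a F = 0 := by
    intro F
    rw [← Ideal.mem_comap, ha, MvPolynomial.mem_vanishingIdeal_singleton_iff]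
    rfl
  refine ⟨a, ?_, key⟩
  have h1 : dh n j (MvPolynomial.X j - 1) ∈ my n j y hy := by
    rw [map_sub, dh_X_self, map_one, sub_self]
    exact Ideal.zero_mem _
  have h2 := (key _).mp h1
  rw [map_sub, MvPolynomial.eval_X, map_one, sub_eq_zero] at h2
  exact h2

/-- the maximal ideal at a closed point is generated by the `T_i/T_j - a_i`. -/
theorem my_le_span (j : Fin (n + 1)) (y : CohB1.ProjSpace n k) (hy : y ∈ D k n j)
    (a : Fin (n + 1) → k)
    (ha : ∀ F : MvPolynomial (Fin (n + 1)) k, dh n j F ∈ my n j y hy ↔ MvPolynomial.eval a F = 0) :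
    my n j y hy ≤ Ideal.span (Set.range fun i => dh n j (lin n (cvec n a j i))) := by
  intro b hb
  obtain ⟨F, rfl⟩ := dehom_surjective (CohB1.polyGrading n k) (T_mem n k j) b
  have h0 := (ha F).mp hb
  have h1 := sub_C_eval_mem n a F
  rw [h0, map_zero, sub_zero] at h1
  have h2 := Ideal.mem_map_of_mem (dh n j) h1
  rw [Ideal.map_span] at h2
  refine Ideal.span_mono ?_ h2
  rintro _ ⟨_, ⟨i, rfl⟩, rfl⟩
  exact ⟨i, dh_lin_cvec n a j i⟩

theorem lin_cvec_mem (j : Fin (n + 1)) (y : CohB1.ProjSpace n k) (hy : y ∈ D k n j)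
    (a : Fin (n + 1) → k)
    (ha : ∀ F : MvPolynomial (Fin (n + 1)) k, dh n j F ∈ my n j y hy ↔ MvPolynomial.eval a F = 0)
    (i : Fin (n + 1)) :
    lin n (cvec n a j i) ∈ ((y : Proj (CohB1.polyGrading n k)) :
        ProjectiveSpectrum (CohB1.polyGrading n k)).asHomogeneousIdeal := by
  rw [← dh_mem_my_iff n j y hy (lin_mem n _), dh_lin_cvec, ha]
  simp

/-- **two closed points of `P^n_k` with the same linear forms vanishing are equal.** -/
theorem eq_of_lin_mem (y y' : CohB1.ProjSpace n k)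
    (hcl : IsClosed ({y} : Set (CohB1.ProjSpace n k)))
    (h : ∀ c : Fin (n + 1) → k,
      lin n c ∈ ((y : Proj (CohB1.polyGrading n k)) :
        ProjectiveSpectrum (CohB1.polyGrading n k)).asHomogeneousIdeal →
      lin n c ∈ ((y' : Proj (CohB1.polyGrading n k)) :
        ProjectiveSpectrum (CohB1.polyGrading n k)).asHomogeneousIdeal) : y = y' := by
  obtain ⟨j, hj⟩ := exists_T_not_mem n k (y : ProjectiveSpectrum (CohB1.polyGrading n k))
  have hy : y ∈ D k n j := (Proj.mem_basicOpen _ _ _).mpr hj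
  obtain ⟨a, haj, ha⟩ := exists_coords n j y hy hcl
  have h1 : ∀ i, lin n (cvec n a j i) ∈ ((y' : Proj (CohB1.polyGrading n k)) :
        ProjectiveSpectrum (CohB1.polyGrading n k)).asHomogeneousIdeal :=
    fun i => h _ (lin_cvec_mem n j y hy a ha i)
  have hy' : y' ∈ D k n j := by
    refine (Proj.mem_basicOpen _ _ _).mpr ?_
    intro hX
    obtain ⟨i, hi⟩ := exists_T_not_mem n k (y' : ProjectiveSpectrum (CohB1.polyGrading n k))
    apply hi
    have h2 := h1 i
    rw [lin_cvec] at h2
    have h3 : (T n k i : MvPolynomial (Fin (n + 1)) k) =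
        (MvPolynomial.X i - MvPolynomial.C (a i) * MvPolynomial.X j) +
          MvPolynomial.C (a i) * MvPolynomial.X j := by ring
    rw [h3]
    exact Ideal.add_mem _ h2 (Ideal.mul_mem_left _ _ hX)
  have hle : my n j y hy ≤ my n j y' hy' := by
    refine (my_le_span n j y hy a ha).trans ?_
    rw [Ideal.span_le]
    rintro _ ⟨i, rfl⟩
    exact (dh_mem_my_iff n j y' hy' (lin_mem n _)).mpr (h1 i)
  have hmax : (my n j y hy).IsMaximal :=
    (isAffineOpen_D n j).primeIdealOf_isMaximal_of_isClosed ⟨y, hy⟩ hcl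
  have hne : my n j y' hy' ≠ ⊤ :=
    ((isAffineOpen_D n j).primeIdealOf ⟨y', hy'⟩).isPrime.ne_top
  have heq : my n j y hy = my n j y' hy' := hmax.eq_of_le hne hle
  have h5 : (isAffineOpen_D n j).primeIdealOf ⟨y, hy⟩ =
      (isAffineOpen_D n j).primeIdealOf ⟨y', hy'⟩ := PrimeSpectrum.ext heq
  have h6 := (isAffineOpen_D n j).fromSpec_primeIdealOf ⟨y, hy⟩
  have h7 := (isAffineOpen_D n j).fromSpec_primeIdealOf ⟨y', hy'⟩
  rw [h5] at h6
  exact h6.symm.trans h7

end field

end Groth.Agent.Lib.Helper17.PnClosedPts
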