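import Groth.Agent.Lib.Helper17.PnSections

/-!
# The irrelevant ideal of a polynomial ring is generated by the variables (helper17)
-/

set_option autoImplicit false
universe u
open AlgebraicGeometry

namespace Groth.Agent.Lib.Helper17.PnIrrelevant

variable (n : ℕ) (R : Type u) [CommRing R]

open Classical in
theorem irrelevant_le_span :
    (HomogeneousIdeal.irrelevant (CohB1.polyGrading n R)).toIdeal ≤
      Ideal.span (Set.range (Groth.Agent.Lib.Helper17.PnSections.T n R)) := by
  intro p hp
  rw [HomogeneousIdeal.mem_iff, HomogeneousIdeal.mem_irrelevant_iff] at hp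
  have hr : Set.range (Groth.Agent.Lib.Helper17.PnSections.T n R) =
      (MvPolynomial.X : Fin (n + 1) → MvPolynomial (Fin (n + 1)) R) '' Set.univ := by
    rw [Set.image_univ]
  rw [hr, MvPolynomial.mem_ideal_span_X_image]
  intro m hm
  by_contra h
  push Not at h
  have hm0 : m = 0 := by
    ext i
    simpa using h i (Set.mem_univ i)
  subst hm0
  have h1 : GradedRing.proj (CohB1.polyGrading n R) 0 p =
      MvPolynomial.homogeneousComponent 0 p :=
    MvPolynomial.decomposition.decompose'_apply p 0
  rw [h1, MvPolynomial.homogeneousComponent_zero] at hp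
  rw [MvPolynomial.mem_support_iff] at hm
  apply hm
  simpa using congrArg (MvPolynomial.coeff 0) hp

end Groth.Agent.Lib.Helper17.PnIrrelevant
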