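import Groth.Agent.Lib.Helper17.Laurent
import Groth.Agent.Lib.Helper17.PnSections
import Groth.Agent.Lib.Helper17.TwistTriv

/-!
# Sections of `O(d)` on `P^n_R` as Laurent coefficient functions (helper17)

`Rep W s ℓ` says that the section `s` of `O(d)` over `W` is a fraction `m / x^u` on all of `W`
whose Laurent expansion is `ℓ`.
-/

set_option autoImplicit false
set_option linter.unusedSectionVars false
universe u
open CategoryTheory AlgebraicGeometry TopologicalSpace Opposite MvPolynomial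

namespace Groth.Agent.Lib.Helper17.PnRep
open Groth.Agent.Lib.Helper17.Laurent Groth.Agent.Lib.Helper17.PnSections
  Groth.Agent.Lib.Helper17.GrSect

variable (n : ℕ) (R : Type u) [CommRing R]

/-- the monomial `x^u`. -/
noncomputable abbrev xpow (u : Fin (n + 1) →₀ ℕ) : MvPolynomial (Fin (n + 1)) R := monomial u 1

/-- total degree of an exponent vector, as an integer. -/
def deg (u : Fin (n + 1) →₀ ℕ) : ℤ := ∑ i, (u i : ℤ)

theorem deg_add (u v : Fin (n + 1) →₀ ℕ) : deg n (u + v) = deg n u + deg n v := by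
  simp [deg, Finset.sum_add_distrib]

theorem deg_eq (u : Fin (n + 1) →₀ ℕ) : deg n u = (u.degree : ℤ) := by
  rw [deg, Finsupp.degree_eq_sum]
  push_cast
  rfl

theorem xpow_mem (u : Fin (n + 1) →₀ ℕ) : xpow n R u ∈ CohB1.polyGrading n R u.degree :=
  isHomogeneous_monomial _ rfl

theorem xpow_add (u v : Fin (n + 1) →₀ ℕ) : xpow n R (u + v) = xpow n R u * xpow n R v := by
  rw [xpow, xpow, xpow, monomial_mul, one_mul]

theorem xpow_smul (k : ℕ) (u : Fin (n + 1) →₀ ℕ) : xpow n R (k • u) = xpow n R u ^ k := by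
  rw [xpow, xpow, monomial_pow, one_pow]

theorem xpow_not_mem (u : Fin (n + 1) →₀ ℕ) (y : ProjectiveSpectrum (CohB1.polyGrading n R))
    (h : ∀ i, 0 < u i → T n R i ∉ y.asHomogeneousIdeal) : xpow n R u ∉ y.asHomogeneousIdeal := by
  classical
  intro hmem
  rw [xpow, monomial_eq, C_1, one_mul, Finsupp.prod] at hmem
  have hmem' : (∏ i ∈ u.support, X i ^ u i) ∈ y.asHomogeneousIdeal.toIdeal := hmem
  rw [Ideal.IsPrime.prod_mem_iff (hp := y.isPrime)] at hmem'
  obtain ⟨i, hi, hmem''⟩ := hmem'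
  exact h i (Nat.pos_of_ne_zero (Finsupp.mem_support_iff.mp hi)) (y.isPrime.mem_of_pow_mem _ hmem'')

theorem T_not_mem_of_xpow_not_mem (u : Fin (n + 1) →₀ ℕ)
    (y : ProjectiveSpectrum (CohB1.polyGrading n R))
    (h : xpow n R u ∉ y.asHomogeneousIdeal) (i : Fin (n + 1)) (hi : 0 < u i) :
    T n R i ∉ y.asHomogeneousIdeal := by
  intro hmem
  apply h
  have h1 : u = Finsupp.single i 1 + (u - Finsupp.single i 1) := by
    ext j
    by_cases hj : j = i
    · subst hj; simp; omega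
    · simp [Ne.symm hj]
  rw [h1, xpow_add]
  have h2 : xpow n R (Finsupp.single i 1) = T n R i := by
    rw [xpow, T, X]
  rw [h2]
  exact Ideal.mul_mem_right _ _ hmem

/-- `s` is given on all of `W` by the fraction `m / x^u`. -/
def IsRep (d : ℤ) (W : Opens (ProjectiveSpectrum.top (CohB1.polyGrading n R)))
    (s : Twist.sectN (𝒜 := CohB1.polyGrading n R) d (op W))
    (m : MvPolynomial (Fin (n + 1)) R) (u : Fin (n + 1) →₀ ℕ) : Prop :=
  ∀ (y : W) (hy : xpow n R u ∉ y.1.asHomogeneousIdeal),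
    ((s.1 y : Twist.twistAt (CohB1.polyGrading n R) d y.1) :
      Twist.Loc (CohB1.polyGrading n R) y.1) = Localization.mk m ⟨xpow n R u, hy⟩

/-- `s` is a homogeneous fraction `m / x^u` on `W` with Laurent expansion `ℓ`. -/
def Rep (d : ℤ) (W : Opens (ProjectiveSpectrum.top (CohB1.polyGrading n R)))
    (s : Twist.sectN (𝒜 := CohB1.polyGrading n R) d (op W)) (ℓ : (Fin (n + 1) → ℤ) → R) : Prop :=
  ∃ (m : MvPolynomial (Fin (n + 1)) R) (u : Fin (n + 1) →₀ ℕ) (e : ℕ),
    m.IsHomogeneous e ∧ (e : ℤ) = d + deg n u ∧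
    (∀ y : W, xpow n R u ∉ y.1.asHomogeneousIdeal) ∧ IsRep n R d W s m u ∧ ℓ = lau m u

variable {n R}

theorem rep_zero (d : ℤ) (W : Opens (ProjectiveSpectrum.top (CohB1.polyGrading n R)))
    (i : Fin (n + 1)) (hi : ∀ y : W, T n R i ∉ y.1.asHomogeneousIdeal) :
    Rep n R d W 0 0 := by
  refine ⟨0, Finsupp.single i d.natAbs, (d + d.natAbs).toNat, isHomogeneous_zero _ _ _, ?_, ?_, ?_,
    (lau_zero _).symm⟩
  · rw [deg_eq, Finsupp.degree_single, Int.toNat_of_nonneg (by omega)]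
  · intro y
    exact xpow_not_mem n R _ y.1 (fun j hj => by
      have : j = i := by
        by_contra hne
        rw [Finsupp.single_apply, if_neg (Ne.symm hne)] at hj
        exact absurd hj (lt_irrefl _)
      exact this ▸ hi y)
  · intro y hy
    exact (Localization.mk_zero _).symm

theorem rep_res (d : ℤ) {W W' : Opens (ProjectiveSpectrum.top (CohB1.polyGrading n R))}
    (h : W' ≤ W) (s : Twist.sectN (𝒜 := CohB1.polyGrading n R) d (op W))
    {ℓ : (Fin (n + 1) → ℤ) → R} (hs : Rep n R d W s ℓ) :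
    Rep n R d W' (Twist.resN d (homOfLE h).op s) ℓ := by
  obtain ⟨m, u, e, hm, he, hnv, hrep, rfl⟩ := hs
  exact ⟨m, u, e, hm, he, fun y => hnv ⟨y.1, h y.2⟩, fun y hy => hrep ⟨y.1, h y.2⟩ hy, rfl⟩

theorem rep_add (d : ℤ) (W : Opens (ProjectiveSpectrum.top (CohB1.polyGrading n R)))
    (s s' : Twist.sectN (𝒜 := CohB1.polyGrading n R) d (op W))
    {ℓ ℓ' : (Fin (n + 1) → ℤ) → R} (hs : Rep n R d W s ℓ) (hs' : Rep n R d W s' ℓ') :
    Rep n R d W (s + s') (ℓ + ℓ') := by
  obtain ⟨m, u, e, hm, he, hnv, hrep, rfl⟩ := hs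
  obtain ⟨m', u', e', hm', he', hnv', hrep', rfl⟩ := hs'
  have hdeg : u.degree + e' = u'.degree + e := by
    have h1 := deg_eq n u
    have h2 := deg_eq n u'
    omega
  refine ⟨xpow n R u' * m + xpow n R u * m', u + u', u'.degree + e, ?_, ?_, ?_, ?_, ?_⟩
  · refine IsHomogeneous.add ((xpow_mem n R u').mul hm) ?_
    rw [← hdeg]
    exact (xpow_mem n R u).mul hm'
  · rw [deg_add]
    have h2 := deg_eq n u'
    push_cast
    omega
  · intro y
    rw [xpow_add]
    exact fun hmem => (y.1.isPrime.mem_or_mem hmem).elim (hnv y) (hnv' y)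
  · intro y hy
    have h1 : ((((s + s').1 y : Twist.twistAt (CohB1.polyGrading n R) d y.1)) :
        Twist.Loc (CohB1.polyGrading n R) y.1) =
        ((s.1 y : Twist.twistAt (CohB1.polyGrading n R) d y.1) :
          Twist.Loc (CohB1.polyGrading n R) y.1) +
        ((s'.1 y : Twist.twistAt (CohB1.polyGrading n R) d y.1) :
          Twist.Loc (CohB1.polyGrading n R) y.1) := rfl
    rw [h1, hrep y (hnv y), hrep' y (hnv' y), Localization.add_mk]
    congr 1
    · simp only [add_comm]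
    · exact Subtype.ext (xpow_add n R u u').symm
  · rw [lau_add, lau_monomial_mul, add_comm u u', lau_monomial_mul]

theorem rep_neg (d : ℤ) (W : Opens (ProjectiveSpectrum.top (CohB1.polyGrading n R)))
    (s : Twist.sectN (𝒜 := CohB1.polyGrading n R) d (op W))
    {ℓ : (Fin (n + 1) → ℤ) → R} (hs : Rep n R d W s ℓ) :
    Rep n R d W (-s) (-ℓ) := by
  obtain ⟨m, u, e, hm, he, hnv, hrep, rfl⟩ := hs
  refine ⟨-m, u, e, ?_, he, hnv, ?_, (lau_neg m u).symm⟩
  · exact (CohB1.polyGrading n R e).neg_mem hm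
  · intro y hy
    have h1 : ((((-s).1 y : Twist.twistAt (CohB1.polyGrading n R) d y.1)) :
        Twist.Loc (CohB1.polyGrading n R) y.1) =
        -((s.1 y : Twist.twistAt (CohB1.polyGrading n R) d y.1) :
          Twist.Loc (CohB1.polyGrading n R) y.1) := rfl
    rw [h1, hrep y hy, Localization.neg_mk]

theorem rep_congr (d : ℤ) (W : Opens (ProjectiveSpectrum.top (CohB1.polyGrading n R)))
    {s s' : Twist.sectN (𝒜 := CohB1.polyGrading n R) d (op W)}
    {ℓ ℓ' : (Fin (n + 1) → ℤ) → R} (h1 : s = s') (h2 : ℓ = ℓ') (hs : Rep n R d W s ℓ) :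
    Rep n R d W s' ℓ' := by
  subst h1 h2
  exact hs

theorem rep_sign_even (d : ℤ) (W : Opens (ProjectiveSpectrum.top (CohB1.polyGrading n R)))
    (s : Twist.sectN (𝒜 := CohB1.polyGrading n R) d (op W))
    {ℓ : (Fin (n + 1) → ℤ) → R} (hs : Rep n R d W s ℓ) (k : ℕ) (hk : Even k) :
    Rep n R d W ((-1 : ℤ) ^ k • s) ((-1 : ℤ) ^ k • ℓ) := by
  have e : (-1 : ℤ) ^ k = 1 := hk.neg_one_pow
  have e1 : (-1 : ℤ) ^ k • s = s := (congrArg (fun z : ℤ => z • s) e).trans (one_zsmul s)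
  have e2 : (-1 : ℤ) ^ k • ℓ = ℓ := (congrArg (fun z : ℤ => z • ℓ) e).trans (one_zsmul ℓ)
  exact rep_congr d W e1.symm e2.symm hs

theorem rep_sign_odd (d : ℤ) (W : Opens (ProjectiveSpectrum.top (CohB1.polyGrading n R)))
    (s : Twist.sectN (𝒜 := CohB1.polyGrading n R) d (op W))
    {ℓ : (Fin (n + 1) → ℤ) → R} (hs : Rep n R d W s ℓ) (k : ℕ) (hk : Odd k) :
    Rep n R d W ((-1 : ℤ) ^ k • s) ((-1 : ℤ) ^ k • ℓ) := by
  have e : (-1 : ℤ) ^ k = -1 := hk.neg_one_pow
  have e1 : (-1 : ℤ) ^ k • s = -s := (congrArg (fun z : ℤ => z • s) e).trans (neg_one_zsmul s)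
  have e2 : (-1 : ℤ) ^ k • ℓ = -ℓ := (congrArg (fun z : ℤ => z • ℓ) e).trans (neg_one_zsmul ℓ)
  exact rep_congr d W e1.symm e2.symm (rep_neg d W s hs)

theorem rep_sign (d : ℤ) (W : Opens (ProjectiveSpectrum.top (CohB1.polyGrading n R)))
    (s : Twist.sectN (𝒜 := CohB1.polyGrading n R) d (op W))
    {ℓ : (Fin (n + 1) → ℤ) → R} (hs : Rep n R d W s ℓ) (k : ℕ) :
    Rep n R d W ((-1 : ℤ) ^ k • s) ((-1 : ℤ) ^ k • ℓ) :=
  (Nat.even_or_odd k).elim (rep_sign_even d W s hs k) (rep_sign_odd d W s hs k)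

set_option maxHeartbeats 1000000 in
theorem rep_sum (d : ℤ) (W : Opens (ProjectiveSpectrum.top (CohB1.polyGrading n R)))
    (i : Fin (n + 1)) (hi : ∀ y : W, T n R i ∉ y.1.asHomogeneousIdeal)
    {α : Type*} (F : Finset α) (s : α → Twist.sectN (𝒜 := CohB1.polyGrading n R) d (op W))
    (ℓ : α → (Fin (n + 1) → ℤ) → R) (hs : ∀ k ∈ F, Rep n R d W (s k) (ℓ k)) :
    Rep n R d W (∑ k ∈ F, s k) (∑ k ∈ F, ℓ k) := by
  classical
  induction F using Finset.induction_on with
  | empty =>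
    simp only [Finset.sum_empty]
    exact rep_zero d W i hi
  | insert a F ha ih =>
    rw [Finset.sum_insert ha, Finset.sum_insert ha]
    exact rep_add d W _ _ (hs a (Finset.mem_insert_self a F))
      (ih fun k hk => hs k (Finset.mem_insert_of_mem hk))

/-- two sections with the same expansion are equal. -/
theorem rep_injective (d : ℤ) (W : Opens (ProjectiveSpectrum.top (CohB1.polyGrading n R)))
    (s s' : Twist.sectN (𝒜 := CohB1.polyGrading n R) d (op W))
    {ℓ : (Fin (n + 1) → ℤ) → R} (hs : Rep n R d W s ℓ) (hs' : Rep n R d W s' ℓ) : s = s' := by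
  obtain ⟨m, u, e, hm, he, hnv, hrep, rfl⟩ := hs
  obtain ⟨m', u', e', hm', he', hnv', hrep', heq⟩ := hs'
  have hmul : xpow n R u' * m = xpow n R u * m' := by
    apply lau_injective (u + u')
    rw [lau_monomial_mul, heq, add_comm u u', lau_monomial_mul]
  apply Subtype.ext
  funext y
  apply Subtype.ext
  rw [hrep y (hnv y), hrep' y (hnv' y), Localization.mk_eq_mk_iff, Localization.r_iff_exists]
  exact ⟨1, by simp only [OneMemClass.coe_one, one_mul]; exact hmul⟩

/-- the expansion of a section is unique, on opens containing the locus where all coordinates are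
invertible. -/
theorem rep_unique (d : ℤ) (W : Opens (ProjectiveSpectrum.top (CohB1.polyGrading n R)))
    (hV : ∀ y : ProjectiveSpectrum (CohB1.polyGrading n R),
      (∀ i, T n R i ∉ y.asHomogeneousIdeal) → y ∈ W)
    (s : Twist.sectN (𝒜 := CohB1.polyGrading n R) d (op W))
    {ℓ ℓ' : (Fin (n + 1) → ℤ) → R} (hs : Rep n R d W s ℓ) (hs' : Rep n R d W s ℓ') : ℓ = ℓ' := by
  obtain ⟨m, u, e, hm, he, hnv, hrep, rfl⟩ := hs
  obtain ⟨m', u', e', hm', he', hnv', hrep', rfl⟩ := hs'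
  have hdeg : u.degree + e' = u'.degree + e := by
    have h1 := deg_eq n u
    have h2 := deg_eq n u'
    omega
  have hw : xpow n R u' * m - xpow n R u * m' ∈ CohB1.polyGrading n R (u'.degree + e) := by
    refine sub_mem ((xpow_mem n R u').mul hm) ?_
    rw [← hdeg]
    exact (xpow_mem n R u).mul hm'
  have hmul : xpow n R u' * m = xpow n R u * m' := by
    refine sub_eq_zero.mp (eq_zero_of_forall_mk_eq_zero n R _ hw Finset.univ Finset.univ_nonempty
      fun y hy => ?_)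
    have hyW : y ∈ W := hV y fun i => hy i (Finset.mem_univ i)
    have h1 := (hrep ⟨y, hyW⟩ (hnv ⟨y, hyW⟩)).symm.trans (hrep' ⟨y, hyW⟩ (hnv' ⟨y, hyW⟩))
    rw [Localization.mk_eq_mk_iff, Localization.r_iff_exists] at h1
    obtain ⟨c, hc⟩ := h1
    refine ⟨c.1, c.2, ?_⟩
    rw [mul_sub]
    exact sub_eq_zero.mpr hc
  rw [← lau_monomial_mul m u u', hmul, add_comm u u', lau_monomial_mul]

/-- the exponent vector counting the entries of a tuple. -/
noncomputable def cnt {q : ℕ} (t : Fin (q + 1) → Fin (n + 1)) : Fin (n + 1) →₀ ℕ :=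
  ∑ j, Finsupp.single (t j) 1

theorem cnt_apply {q : ℕ} (t : Fin (q + 1) → Fin (n + 1)) (i : Fin (n + 1)) :
    cnt t i = ∑ j, if t j = i then 1 else 0 := by
  rw [cnt, Finsupp.finsetSum_apply]
  refine Finset.sum_congr rfl fun j _ => ?_
  rw [Finsupp.single_apply]

theorem cnt_pos_iff {q : ℕ} (t : Fin (q + 1) → Fin (n + 1)) (i : Fin (n + 1)) :
    0 < cnt t i ↔ i ∈ Set.range t := by
  rw [cnt_apply]
  constructor
  · intro h
    by_contra hne
    have : ∑ j, (if t j = i then 1 else 0 : ℕ) = 0 :=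
      Finset.sum_eq_zero fun j _ => if_neg fun hj => hne ⟨j, hj⟩
    omega
  · rintro ⟨j, rfl⟩
    refine lt_of_lt_of_le ?_ (Finset.single_le_sum (f := fun j' => if t j' = t j then 1 else 0)
      (fun _ _ => Nat.zero_le _) (Finset.mem_univ j))
    simp

theorem degree_cnt {q : ℕ} (t : Fin (q + 1) → Fin (n + 1)) : (cnt t).degree = q + 1 := by
  rw [cnt, map_sum]
  simp [Finsupp.degree_single]

theorem deg_cnt {q : ℕ} (t : Fin (q + 1) → Fin (n + 1)) : deg n (cnt t) = q + 1 := by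
  rw [deg_eq, degree_cnt]
  push_cast
  rfl

theorem deg_smul (k : ℕ) (u : Fin (n + 1) →₀ ℕ) : deg n (k • u) = k * deg n u := by
  rw [deg, deg, Finset.mul_sum]
  refine Finset.sum_congr rfl fun i _ => ?_
  simp

theorem xpow_cnt_not_mem_iff {q : ℕ} (t : Fin (q + 1) → Fin (n + 1))
    (y : ProjectiveSpectrum (CohB1.polyGrading n R)) :
    xpow n R (cnt t) ∉ y.asHomogeneousIdeal ↔ ∀ j, T n R (t j) ∉ y.asHomogeneousIdeal := by
  constructor
  · intro h j
    exact T_not_mem_of_xpow_not_mem n R _ y h (t j) ((cnt_pos_iff t _).mpr ⟨j, rfl⟩)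
  · intro h
    refine xpow_not_mem n R _ y fun i hi => ?_
    obtain ⟨j, rfl⟩ := (cnt_pos_iff t i).mp hi
    exact h j

/-- every Laurent function in `Ld d (range t)` comes from a section over `D₊(x_t)`. -/
theorem exists_sect_of_mem_Ld (d : ℤ) {q : ℕ} (t : Fin (q + 1) → Fin (n + 1))
    (W : Opens (ProjectiveSpectrum.top (CohB1.polyGrading n R)))
    (hW1 : ∀ y ∈ W, ∀ j, T n R (t j) ∉ y.asHomogeneousIdeal)
    {ℓ : (Fin (n + 1) → ℤ) → R} (hℓ : ℓ ∈ Ld R d (Set.range t)) :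
    ∃ s : Twist.sectN (𝒜 := CohB1.polyGrading n R) d (op W), Rep n R d W s ℓ := by
  obtain ⟨k, e, m, he, hm, hlau⟩ := exists_lau_eq_of_mem_Ld hℓ (cnt t)
    (fun i hi => (cnt_pos_iff t i).mpr hi) (by
      have := deg_cnt (n := n) t
      rw [deg] at this
      rw [this]
      positivity)
  have hnv : ∀ y : W, xpow n R (k • cnt t) ∉ y.1.asHomogeneousIdeal := by
    intro y
    rw [xpow_smul]
    intro hmem
    exact (xpow_cnt_not_mem_iff t y.1).mpr (hW1 y.1 y.2) (y.1.isPrime.mem_of_pow_mem _ hmem)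
  have hpq : (e : ℤ) = ((k • cnt t).degree : ℕ) + d := by
    rw [he, ← deg_eq, deg_smul, deg]
    ring
  refine ⟨TwistTriv.fracN (CohB1.polyGrading n R) d (p := e) (q := (k • cnt t).degree) hm
    (xpow_mem n R (k • cnt t)) hpq W hnv, m, k • cnt t, e, hm, ?_, hnv, ?_, hlau.symm⟩
  · rw [hpq, deg_eq]; ring
  · intro y hy
    rfl

/-- every section over `D₊(x_t)` has an expansion in `Ld d (range t)`. -/
theorem exists_rep (d : ℤ) {q : ℕ} (t : Fin (q + 1) → Fin (n + 1))
    (W : Opens (ProjectiveSpectrum.top (CohB1.polyGrading n R)))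
    (hW1 : ∀ y ∈ W, ∀ j, T n R (t j) ∉ y.asHomogeneousIdeal)
    (hW2 : ∀ y : ProjectiveSpectrum (CohB1.polyGrading n R),
      (∀ j, T n R (t j) ∉ y.asHomogeneousIdeal) → y ∈ W)
    (s : Twist.sectN (𝒜 := CohB1.polyGrading n R) d (op W)) :
    ∃ ℓ ∈ Ld R d (Set.range t), Rep n R d W s ℓ := by
  have hle : ProjectiveSpectrum.basicOpen (CohB1.polyGrading n R) (xpow n R (cnt t)) ≤ W := by
    intro y hy
    exact hW2 y ((xpow_cnt_not_mem_iff t y).mp
      ((ProjectiveSpectrum.mem_basicOpen _ _ y).mp hy))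
  obtain ⟨k, i, m, hm, hi, hval⟩ := exists_frac (CohB1.polyGrading n R) (CohB1.polyGrading n R) d
    (Nat.succ_pos q) (show xpow n R (cnt t) ∈ CohB1.polyGrading n R (q + 1) from
      degree_cnt (n := n) t ▸ xpow_mem n R (cnt t))
    (TwistIso.toTilde (CohB1.polyGrading n R) d _ (Twist.resN d (homOfLE hle).op s))
  have hnv : ∀ y : W, xpow n R (k • cnt t) ∉ y.1.asHomogeneousIdeal := by
    intro y
    rw [xpow_smul]
    intro hmem
    exact (xpow_cnt_not_mem_iff t y.1).mpr (hW1 y.1 y.2) (y.1.isPrime.mem_of_pow_mem _ hmem)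
  have he : (i : ℤ) = d + deg n (k • cnt t) := by
    rw [hi, deg_smul, deg_cnt]
    push_cast
    ring
  refine ⟨lau m (k • cnt t), ?_, m, k • cnt t, i, hm, he, hnv, ?_, rfl⟩
  · refine lau_mem_Ld m hm (k • cnt t) d he _ fun j hj => ?_
    rw [← cnt_pos_iff]
    simp only [Finsupp.smul_apply, smul_eq_mul] at hj
    exact Nat.pos_of_mul_pos_left hj
  · intro y hy
    have hy' : xpow n R (cnt t) ∉ y.1.asHomogeneousIdeal :=
      (xpow_cnt_not_mem_iff t y.1).mpr (hW1 y.1 y.2)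
    have h1 := hval y.1 hy'
    refine Eq.trans ?_ (h1.trans ?_)
    · rfl
    · unfold frac
      change Localization.mk _ _ = _
      congr 1
      exact Subtype.ext (xpow_smul n R k (cnt t)).symm

end Groth.Agent.Lib.Helper17.PnRep
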