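import Groth.Agent.Lib.Helper17.PicPnMain
import Groth.Agent.Lib.Helper17.FormsZero
import Groth.Agent.Lib.Helper17.PnVanish
import Groth.Agent.Lib.Helper96.ProjSpaceGlobal
import Groth.Agent.Lib.Helper11.PullbackTensor

/-!
# Morphisms `P^n_k ⟶ P^m_k` with `m < n` are constant (helper17)
-/

set_option autoImplicit false
set_option linter.unusedSectionVars false
universe u
open AlgebraicGeometry CategoryTheory Limits TopologicalSpace Opposite HomogeneousLocalization

namespace Groth.Agent.Lib.Helper17.PnToPm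
open Groth.Agent.Lib.Helper11 Groth.Agent.Lib.Helper11.GenLocus Groth.Agent.Lib.Helper45
  Groth.Agent.Lib.Helper49 Groth.Agent.Lib.Helper17.OFrac Groth.Agent.Lib.Helper17.TwistGen
  Groth.Agent.Lib.Helper17.TwistAmple Groth.Agent.Lib.Helper17.UPProj
  Groth.Agent.Lib.Helper17.UPGen Groth.Agent.Lib.Helper17.UPPull
  Groth.Agent.Lib.Helper17.PnSections Groth.Agent.Lib.Helper17.VeryAmpleCrit
  Groth.Agent.Lib.Helper17.PnClosedPts Groth.Agent.Lib.Helper17.PicPnChart
  Groth.Agent.Lib.Helper17.PicPnMono Groth.Agent.Lib.Helper17.PicPnUnits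
  Groth.Agent.Lib.Helper17.PicPnGlue Groth.Agent.Lib.Helper17.PicPnMain
  Groth.Agent.Lib.Helper17.UPSecKernel
open MvPolynomial

section General

theorem sec_zero'' {X : Scheme.{u}} (L : X.Modules) (U : X.Opens) :
    sec (0 : Coh.structureModule X ⟶ L) U = 0 := by
  unfold sec
  rfl

/-- the zero section generates nowhere. -/
theorem genLocus_zero {X : Scheme.{u}} (L : X.Modules) :
    CohB1.genLocus L (0 : Coh.structureModule X ⟶ L) = ⊥ := by
  have hb := (le_genLocus_iff_isBasisOn (0 : Coh.structureModule X ⟶ L) _).mp le_rfl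
  rw [sec_zero''] at hb
  have h10 : (1 : Γ(X, CohB1.genLocus L (0 : Coh.structureModule X ⟶ L))) = 0 :=
    hb.eq_of_smul_eq (by rw [smul_zero, smul_zero])
  have h1 : X.basicOpen (1 : Γ(X, CohB1.genLocus L (0 : Coh.structureModule X ⟶ L))) =
      CohB1.genLocus L (0 : Coh.structureModule X ⟶ L) :=
    Scheme.basicOpen_of_isUnit _ isUnit_one
  rw [h10, Scheme.basicOpen_zero] at h1
  exact h1.symm

/-- a morphism to an affine scheme factors through `π` when `π` is an isomorphism on global
functions. -/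
theorem exists_factor {X Z : Scheme.{u}} {K : CommRingCat.{u}} [IsAffine Z] (π : X ⟶ Spec K)
    (hπ : IsIso π.appTop) (g : X ⟶ Z) : ∃ q : Spec K ⟶ Z, g = π ≫ q := by
  have := hπ
  refine ⟨(Spec K).toSpecΓ ≫ inv (Spec.map π.appTop) ≫ Spec.map g.appTop ≫ inv Z.toSpecΓ, ?_⟩
  have h1 : π ≫ (Spec K).toSpecΓ = X.toSpecΓ ≫ Spec.map π.appTop := Scheme.toSpecΓ_naturality π
  have h2 : g ≫ Z.toSpecΓ = X.toSpecΓ ≫ Spec.map g.appTop := Scheme.toSpecΓ_naturality g
  rw [← Category.assoc, h1, Category.assoc, IsIso.hom_inv_id_assoc, ← Category.assoc, ← h2,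
    Category.assoc, IsIso.hom_inv_id, Category.comp_id]

end General

variable {R : Type u} [CommRing R] {n : ℕ}

/-- every section of `O(e)` on `P^n_R` is a form of degree `e`. -/
theorem exists_form (e : ℕ)
    (s : Coh.structureModule (PP n R) ⟶ Twist.twist (CohB1.polyGrading n R) (e : ℤ)) :
    ∃ (F : MvPolynomial (Fin (n + 1)) R) (hF : F ∈ CohB1.polyGrading n R e),
      s = secHom (CohB1.polyGrading n R) hF := by
  obtain ⟨⟨ℓ, hℓ⟩, hℓs⟩ := PnSections.globalOf_surjective n R e
    (sec s ⊤ : Twist.sectN (𝒜 := CohB1.polyGrading n R) ((e : ℕ) : ℤ) (op ⊤))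
  refine ⟨ℓ, hℓ, ?_⟩
  apply hom_ext_of_sec_top
  refine Eq.trans ?_ (sec_secHom_top (CohB1.polyGrading n R) hℓ).symm
  exact hℓs.symm

/-- `O(d)`, `d < 0`, has no nonzero sections on `P^n_R`, `n ≥ 1`. -/
theorem hom_eq_zero_of_neg (hn : 1 ≤ n) {d : ℤ} (hd : d < 0)
    (τ : Coh.structureModule (PP n R) ⟶ Twist.twist (CohB1.polyGrading n R) d) : τ = 0 := by
  apply hom_ext_of_sec_top
  rw [sec_zero'']
  exact PnVanish.sect_top_eq_zero n R d hn hd (sec τ ⊤)

section Field
variable (k : Type u) [Field k]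

/-- the structure map of `P^n_k`, `n ≥ 1`, is an isomorphism on global functions. -/
theorem isIso_appTop_toSpec (n : ℕ) (hn : 1 ≤ n) : IsIso (CohB1.ProjSpace.toSpec n k).appTop := by
  obtain ⟨p, rfl⟩ := Nat.exists_eq_succ_of_ne_zero (by omega : n ≠ 0)
  rw [ConcreteCategory.isIso_iff_bijective]
  exact ⟨Groth.Agent.Lib.Helper96.ProjSpaceGlobal.appTop_toSpec'_injective,
    Groth.Agent.Lib.Helper96.ProjSpaceGlobal.appTop_toSpec'_surjective p⟩

/-- **every morphism `P^n_k ⟶ P^m_k` with `m < n` is constant.** -/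
theorem exists_factor_toSpec (n m : ℕ) (hmn : m < n) (f : PP n k ⟶ PP m k) :
    ∃ q : Spec (CommRingCat.of k) ⟶ PP m k, f = CohB1.ProjSpace.toSpec n k ≫ q := by
  classical
  have hn : 1 ≤ n := by omega
  have hcovm := iSup_basicOpen_deg_one (R := k) m
  have hcovn := iSup_basicOpen_deg_one (R := k) n
  have hL : PicF.IsInvertible ((Scheme.Modules.pullback f).obj
      (Twist.twist (CohB1.polyGrading m k) ((1 : ℕ) : ℤ))) :=
    PullbackTensor.isInvertible_pullback f
      (TwistTensor.isInvertible_twist (CohB1.polyGrading m k) hcovm _)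
  obtain ⟨d, ⟨φ⟩⟩ := exists_iso_twist _ hL
  have hτ : ∀ j : Fin (m + 1), CohB1.genLocus _
      (pullHom f (secHom (CohB1.polyGrading m k) (T_mem m k j)) ≫ φ.hom) = f ⁻¹ᵁ DD m k j :=
    fun j => (GenLocus.genLocus_comp_iso _ φ).trans
      (genLocus_pullHom_secHom (CohB1.polyGrading m k) hcovm f (T_mem m k j))
  have hcover : ∀ x : PP n k, ∃ j, x ∈ f ⁻¹ᵁ DD m k j := by
    intro x
    obtain ⟨j, hj⟩ := exists_T_not_mem m k (f.base x)
    exact ⟨j, (Proj.mem_basicOpen _ _ _).mpr hj⟩
  have key : ∃ j, f ⁻¹ᵁ DD m k j = ⊤ := by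
    by_cases h0 : 0 ≤ d
    · obtain ⟨e, rfl⟩ := Int.eq_ofNat_of_zero_le h0
      choose F hF hFτ using fun j : Fin (m + 1) => exists_form e
        (pullHom f (secHom (CohB1.polyGrading m k) (T_mem m k j)) ≫ φ.hom)
      have hD : ∀ j, f ⁻¹ᵁ DD m k j = Proj.basicOpen (CohB1.polyGrading n k) (F j) := by
        intro j
        rw [← hτ j, hFτ j, TwistAmple.genLocus_secHom (CohB1.polyGrading n k) hcovn (hF j)]
      rcases Nat.eq_zero_or_pos e with he | he
      · subst he
        obtain ⟨j, hj⟩ := hcover (genPt n)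
        refine ⟨j, ?_⟩
        rw [hD j] at hj ⊢
        have hF0 := hF j
        rw [show CohB1.polyGrading n k 0 = 1 from homogeneousSubmodule_zero _, Submodule.mem_one]
          at hF0
        obtain ⟨c, hc⟩ := hF0
        have hne : F j ≠ 0 := by
          intro h
          apply (Proj.mem_basicOpen _ _ _).mp hj
          rw [h]
          exact Submodule.zero_mem _
        have hc0 : c ≠ 0 := by
          rintro rfl
          exact hne (by rw [← hc, map_zero])
        have hunit : IsUnit (F j) := by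
          rw [← hc]
          exact (hc0.isUnit).map _
        rw [eq_top_iff]
        intro y _
        apply (Proj.mem_basicOpen _ _ _).mpr
        intro hmem
        exact (y : ProjectiveSpectrum (CohB1.polyGrading n k)).isPrime.ne_top
          (Ideal.eq_top_of_isUnit_mem _ hmem hunit)
      · exfalso
        obtain ⟨y, hy⟩ := FormsZero.exists_common_zero k n (Finset.univ.image F)
          (by
            have := Finset.card_image_le (s := (Finset.univ : Finset (Fin (m + 1)))) (f := F)
            rw [Finset.card_univ, Fintype.card_fin] at this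
            omega)
          (by
            intro G hG
            obtain ⟨j, -, rfl⟩ := Finset.mem_image.mp hG
            exact ⟨e, he, hF j⟩)
        obtain ⟨j, hj⟩ := hcover y
        rw [hD j] at hj
        exact (Proj.mem_basicOpen _ _ _).mp hj
          (hy (F j) (Finset.mem_image_of_mem _ (Finset.mem_univ j)))
    · exfalso
      push Not at h0
      obtain ⟨j, hj⟩ := hcover (genPt n)
      rw [← hτ j, hom_eq_zero_of_neg hn h0
        (pullHom f (secHom (CohB1.polyGrading m k) (T_mem m k j)) ≫ φ.hom), genLocus_zero] at hj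
      exact hj
  obtain ⟨j, hj⟩ := key
  have hU : IsAffineOpen (DD m k j) :=
    Proj.isAffineOpen_basicOpen (CohB1.polyGrading m k) (T m k j) (T_mem m k j) one_pos
  have : IsAffine (DD m k j).toScheme := hU
  have hrange : Set.range f ⊆ Set.range (DD m k j).ι := by
    rw [Scheme.Opens.range_ι]
    rintro _ ⟨x, rfl⟩
    have : x ∈ f ⁻¹ᵁ DD m k j := by rw [hj]; trivial
    exact this
  obtain ⟨q, hq⟩ := exists_factor (CohB1.ProjSpace.toSpec n k) (isIso_appTop_toSpec k n hn)
    (IsOpenImmersion.lift (DD m k j).ι f hrange)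
  refine ⟨q ≫ (DD m k j).ι, ?_⟩
  rw [← Category.assoc, ← hq, IsOpenImmersion.lift_fac]

end Field

end Groth.Agent.Lib.Helper17.PnToPm
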