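import Groth.Agent.Lib.Helper17.PnCech
import Groth.Agent.Lib.Helper17.OFrac
import Groth.Agent.Lib.Helper17.ProjGlobal

/-!
# Expansions of Čech cochains of `O(d)` on `P^n_R` (helper17)

`ell c x`: the Laurent expansion of the `x`-component of a cochain `c`, with its calculus
(`ell_add`, `ell_d`, `ell_cocycle`, `ext_of_ell`), the refined cone homotopy `exists_cobound'`
(a cocycle whose expansions have no all-negative terms is a coboundary), integer multiples
(`rep_zsmul`) and the action of the base ring (`rep_smul`).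
-/

set_option autoImplicit false
set_option linter.unusedSectionVars false
universe u
open CategoryTheory AlgebraicGeometry TopologicalSpace Opposite MvPolynomial Limits

namespace Groth.Agent.Lib.Helper17.PnTop
open Groth.Agent.Lib.Helper17.Laurent Groth.Agent.Lib.Helper17.PnSections
  Groth.Agent.Lib.Helper17.PnRep Groth.Agent.Lib.Helper1.Cech Groth.Agent.Lib.Helper17.PnCech

variable (n : ℕ) (R : Type u) [CommRing R] (d : ℤ)

/-! ### the expansion of the components of a cochain -/

theorem exists_ell (q : ℕ) (c : (K (U n R) (P n R d)).X q) (x : Fin (q + 1) → ι.{u} n) :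
    ∃ ℓ ∈ Ld R d (Set.range (tup n x)),
      Rep n R d (inter (U n R) x) (toS n R d (comp (U n R) (P n R d) q x c)) ℓ :=
  exists_rep d (tup n x) _ (fun y hy => (mem_inter_iff n R x y).mp hy)
    (fun y hy => (mem_inter_iff n R x y).mpr hy) _

/-- the Laurent expansion of the `x`-component of the cochain `c`. -/
noncomputable def ell (q : ℕ) (c : (K (U n R) (P n R d)).X q) (x : Fin (q + 1) → ι.{u} n) :
    (Fin (n + 1) → ℤ) → R :=
  (exists_ell n R d q c x).choose

theorem ell_mem (q : ℕ) (c : (K (U n R) (P n R d)).X q) (x : Fin (q + 1) → ι.{u} n) :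
    ell n R d q c x ∈ Ld R d (Set.range (tup n x)) :=
  (exists_ell n R d q c x).choose_spec.1

theorem ell_rep (q : ℕ) (c : (K (U n R) (P n R d)).X q) (x : Fin (q + 1) → ι.{u} n) :
    Rep n R d (inter (U n R) x) (toS n R d (comp (U n R) (P n R d) q x c)) (ell n R d q c x) :=
  (exists_ell n R d q c x).choose_spec.2

theorem ell_unique (q : ℕ) (c : (K (U n R) (P n R d)).X q) (x : Fin (q + 1) → ι.{u} n)
    {ℓ : (Fin (n + 1) → ℤ) → R}
    (h : Rep n R d (inter (U n R) x) (toS n R d (comp (U n R) (P n R d) q x c)) ℓ) :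
    ell n R d q c x = ℓ :=
  rep_unique d _ (fun y hy => all_mem_inter n R x y hy) _ (ell_rep n R d q c x) h

theorem ell_add (q : ℕ) (c c' : (K (U n R) (P n R d)).X q) (x : Fin (q + 1) → ι.{u} n) :
    ell n R d q (c + c') x = ell n R d q c x + ell n R d q c' x := by
  apply ell_unique
  have e : toS n R d (comp (U n R) (P n R d) q x (c + c')) =
      toS n R d (comp (U n R) (P n R d) q x c) + toS n R d (comp (U n R) (P n R d) q x c') :=
    (congrArg (toS n R d) (map_add _ c c')).trans (map_add _ _ _)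
  exact rep_congr d _ e.symm rfl (rep_add d _ _ _ (ell_rep n R d q c x) (ell_rep n R d q c' x))

theorem ell_zero (q : ℕ) (x : Fin (q + 1) → ι.{u} n) :
    ell n R d q 0 x = 0 := by
  apply ell_unique
  have e : toS n R d (comp (U n R) (P n R d) q x 0) = 0 :=
    (congrArg (toS n R d) (map_zero _)).trans (map_zero _)
  exact rep_congr d _ e.symm rfl
    (rep_zero d _ (tup n x 0) (fun y => (mem_inter_iff n R x y.1).mp y.2 0))

theorem ell_d (q : ℕ) (b : (K (U n R) (P n R d)).X q) (z : Fin (q + 2) → ι.{u} n) :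
    ell n R d (q + 1) ((K (U n R) (P n R d)).d q (q + 1) b) z =
      ∑ k : Fin (q + 2), (-1 : ℤ) ^ (k : ℕ) • ell n R d q b (z ∘ k.succAbove) :=
  ell_unique n R d (q + 1) _ z (rep_comp_d n R d q b (ell n R d q b) (ell_rep n R d q b) z)

theorem ell_cocycle (q : ℕ) (c : (K (U n R) (P n R d)).X q)
    (hc : (K (U n R) (P n R d)).d q (q + 1) c = 0) (z : Fin (q + 2) → ι.{u} n) :
    ∑ k : Fin (q + 2), (-1 : ℤ) ^ (k : ℕ) • ell n R d q c (z ∘ k.succAbove) = 0 :=
  cocycle_expansion n R d q c hc (ell n R d q c) (ell_rep n R d q c) z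

/-- a cochain is determined by its expansions. -/
theorem ext_of_ell (q : ℕ) (c c' : (K (U n R) (P n R d)).X q)
    (h : ∀ x, ell n R d q c x = ell n R d q c' x) : c = c' := by
  refine ext fun x => ?_
  apply toS_injective n R d
  exact rep_injective d _ _ _ (ell_rep n R d q c x) (rep_congr d _ rfl (h x).symm (ell_rep n R d q c' x))

/-! ### the cone homotopy when the all-negative coefficients vanish -/

theorem cone_mem' {p : ℕ} (ℓ : (Fin (p + 2) → ι.{u} n) → (Fin (n + 1) → ℤ) → R)
    (hℓmem : ∀ x, ℓ x ∈ Ld R d (Set.range (tup n x)))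
    (hneg : ∀ x a, (∀ i, a i < 0) → ℓ x a = 0) (z : Fin (p + 1) → ι.{u} n) :
    cone n R ℓ z ∈ Ld R d (Set.range (tup n z)) := by
  refine ⟨?_, fun a ha => ?_⟩
  · refine Set.Finite.subset (Set.finite_iUnion fun j : ι.{u} n =>
      (hℓmem (Fin.cons j z)).1) fun a ha => ?_
    exact Set.mem_iUnion.mpr ⟨vert n a, ha⟩
  · have h1 := (hℓmem (Fin.cons (vert n a) z)).2 a ha
    refine ⟨h1.1, fun i hi => ?_⟩
    have h2 := h1.2 i hi
    by_cases hnn : ∃ i, 0 ≤ a i
    · rcases range_tup_cons n (vert n a) z i h2 with h3 | h3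
      · exfalso
        have := vert_spec n a hnn
        rw [← h3] at this
        omega
      · exact h3
    · exfalso
      push Not at hnn
      exact ha (hneg _ a hnn)

set_option maxHeartbeats 1000000 in
/-- a cocycle whose expansions have no all-negative terms is a coboundary. -/
theorem exists_cobound' (p : ℕ) (c : (K (U n R) (P n R d)).X (p + 1))
    (hc : (K (U n R) (P n R d)).d (p + 1) (p + 1 + 1) c = 0)
    (hneg : ∀ x a, (∀ i, a i < 0) → ell n R d (p + 1) c x a = 0) :
    ∃ b : (K (U n R) (P n R d)).X p, (K (U n R) (P n R d)).d p (p + 1) b = c := by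
  classical
  have hcoc := ell_cocycle n R d (p + 1) c hc
  have hsect : ∀ z : Fin (p + 1) → ι.{u} n,
      ∃ s : Twist.sectN (𝒜 := CohB1.polyGrading n R) d (op (inter (U n R) z)),
        Rep n R d (inter (U n R) z) s (cone n R (ell n R d (p + 1) c) z) :=
    fun z => exists_sect_of_mem_Ld d (tup n z) _ (fun y hy => (mem_inter_iff n R z y).mp hy)
      (cone_mem' n R d (ell n R d (p + 1) c) (ell_mem n R d (p + 1) c) hneg z)
  choose bS hbS using hsect
  obtain ⟨b, hb⟩ := exists_mk (U := U n R) (P := P n R d) (q := p) fun z => ofS n R d (bS z)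
  refine ⟨b, ext fun x => ?_⟩
  apply toS_injective n R d
  have hbrep : ∀ w, Rep n R d (inter (U n R) w)
      (toS n R d (comp (U n R) (P n R d) p w b)) (cone n R (ell n R d (p + 1) c) w) := by
    intro w
    exact rep_congr d _ (congrArg (toS n R d) (hb w)).symm rfl (hbS w)
  have h1 := rep_comp_d n R d p b (cone n R (ell n R d (p + 1) c)) hbrep x
  exact rep_injective d _ _ _ h1
    (rep_congr d _ rfl (sum_cone n R (ell n R d (p + 1) c) hcoc x).symm (ell_rep n R d (p + 1) c x))

/-! ### integer multiples and the action of `R` -/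

theorem lau_smul (r : R) (m : MvPolynomial (Fin (n + 1)) R) (u : Fin (n + 1) →₀ ℕ) :
    lau (r • m) u = r • lau m u := by
  funext a
  by_cases h : ∀ i, 0 ≤ a i + u i
  · simp [lau_apply_of_nonneg _ _ _ h]
  · simp [lau_apply_of_not _ _ _ h]

theorem rep_nsmul (W : Opens (ProjectiveSpectrum.top (CohB1.polyGrading n R)))
    (i : Fin (n + 1)) (hi : ∀ y : W, T n R i ∉ y.1.asHomogeneousIdeal)
    (s : Twist.sectN (𝒜 := CohB1.polyGrading n R) d (op W))
    {ℓ : (Fin (n + 1) → ℤ) → R} (hs : Rep n R d W s ℓ) (k : ℕ) :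
    Rep n R d W (k • s) (k • ℓ) := by
  induction k with
  | zero => exact rep_congr d W (zero_nsmul s).symm (zero_nsmul ℓ).symm (rep_zero d W i hi)
  | succ k ih =>
    exact rep_congr d W (succ_nsmul s k).symm (succ_nsmul ℓ k).symm (rep_add d W _ _ ih hs)

theorem rep_zsmul (W : Opens (ProjectiveSpectrum.top (CohB1.polyGrading n R)))
    (i : Fin (n + 1)) (hi : ∀ y : W, T n R i ∉ y.1.asHomogeneousIdeal)
    (s : Twist.sectN (𝒜 := CohB1.polyGrading n R) d (op W))
    {ℓ : (Fin (n + 1) → ℤ) → R} (hs : Rep n R d W s ℓ) (z : ℤ) :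
    Rep n R d W (z • s) (z • ℓ) := by
  have hz := z.eq_nat_or_neg
  refine Exists.elim hz fun k hk => Or.elim hk (fun h1 => ?_) (fun h1 => ?_)
  · have e1 : z • s = k • s := (congrArg (fun w : ℤ => w • s) h1).trans (natCast_zsmul s k)
    have e2 : z • ℓ = k • ℓ := (congrArg (fun w : ℤ => w • ℓ) h1).trans (natCast_zsmul ℓ k)
    exact rep_congr d W e1.symm e2.symm (rep_nsmul n R d W i hi s hs k)
  · have e1 : z • s = -(k • s) := (congrArg (fun w : ℤ => w • s) h1).trans
      ((neg_zsmul s (k : ℤ)).trans (congrArg Neg.neg (natCast_zsmul s k)))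
    have e2 : z • ℓ = -(k • ℓ) := (congrArg (fun w : ℤ => w • ℓ) h1).trans
      ((neg_zsmul ℓ (k : ℤ)).trans (congrArg Neg.neg (natCast_zsmul ℓ k)))
    exact rep_congr d W e1.symm e2.symm (rep_neg d W _ (rep_nsmul n R d W i hi s hs k))

open Groth.Agent.Lib.Helper17.OFrac Groth.Agent.Lib.Helper17.GrQCoh in
theorem isRep_smul (W : Opens (ProjectiveSpectrum.top (CohB1.polyGrading n R)))
    (s : Twist.sectN (𝒜 := CohB1.polyGrading n R) d (op W))
    (m : MvPolynomial (Fin (n + 1)) R) (u : Fin (n + 1) →₀ ℕ) (hrep : IsRep n R d W s m u)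
    (f : (CohB1.ProjSpace n R).ringCatSheaf.obj.obj (op W)) (r : R)
    (hf : ∀ y : W, ((toO (CohB1.polyGrading n R) f).1 y).val =
      Localization.mk (algebraMap R (MvPolynomial (Fin (n + 1)) R) r) 1) :
    IsRep n R d W (toS n R d
      (@HSMul.hSMul ((CohB1.ProjSpace n R).ringCatSheaf.obj.obj (op W))
        ((Twist.twistProjSpace n R d).val.obj (op W))
        ((Twist.twistProjSpace n R d).val.obj (op W)) _ f (ofS n R d s))) (r • m) u := by
  intro y hy
  refine Eq.trans (Twist.coe_smul_val d y.1 ((toO (CohB1.polyGrading n R) f).1 y) (s.1 y)) ?_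
  refine Eq.trans (congrArg₂ (· * ·) (hf y) (hrep y hy)) ?_
  rw [Localization.mk_mul]
  congr 1
  · rw [MvPolynomial.smul_eq_C_mul]
    rfl
  · exact Subtype.ext (one_mul _)

open Groth.Agent.Lib.Helper17.OFrac Groth.Agent.Lib.Helper17.GrQCoh in
theorem val_resTop_toGlobal (W : Opens (ProjectiveSpectrum.top (CohB1.polyGrading n R))) (r : R)
    (y : W) :
    ((toO (CohB1.polyGrading n R) (Coh.resTop (CohB1.ProjSpace n R) (op W)
      (Coh.toGlobal (CohB1.ProjSpace.toSpec n R) r))).1 y).val =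
      Localization.mk (algebraMap R (MvPolynomial (Fin (n + 1)) R) r) 1 := by
  have h1 : Coh.toGlobal (CohB1.ProjSpace.toSpec n R) r =
      oFrac (CohB1.polyGrading n R) ⊤ 0 (algebraMap R (MvPolynomial (Fin (n + 1)) R) r) 1 :=
    ProjGlobal.toGlobal_apply (CohB1.polyGrading n R) r
  have G : Good (CohB1.polyGrading n R) ⊤ 0
      (algebraMap R (MvPolynomial (Fin (n + 1)) R) r) 1 :=
    ProjGlobal.good_zero (CohB1.polyGrading n R) (algebraMap R (CohB1.polyGrading n R 0) r)
  have GW : Good (CohB1.polyGrading n R) W 0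
      (algebraMap R (MvPolynomial (Fin (n + 1)) R) r) 1 := G.mono le_top
  have h2 : Coh.resTop (CohB1.ProjSpace n R) (op W) (Coh.toGlobal (CohB1.ProjSpace.toSpec n R) r) =
      oFrac (CohB1.polyGrading n R) W 0 (algebraMap R (MvPolynomial (Fin (n + 1)) R) r) 1 := by
    rw [h1]
    exact res_oFrac (CohB1.polyGrading n R) (homOfLE (le_top : W ≤ ⊤)) G
  rw [h2]
  exact val_oFrac (CohB1.polyGrading n R) GW y

/-- the action of `r : R` on sections multiplies the expansion by `r`. -/
theorem rep_smul (W : Opens (ProjectiveSpectrum.top (CohB1.polyGrading n R)))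
    (s : Twist.sectN (𝒜 := CohB1.polyGrading n R) d (op W))
    {ℓ : (Fin (n + 1) → ℤ) → R} (hs : Rep n R d W s ℓ) (r : R) :
    Rep n R d W (toS n R d
      (@HSMul.hSMul ((CohB1.ProjSpace n R).ringCatSheaf.obj.obj (op W))
        ((Twist.twistProjSpace n R d).val.obj (op W))
        ((Twist.twistProjSpace n R d).val.obj (op W)) _
        (Coh.resTop (CohB1.ProjSpace n R) (op W)
          (Coh.toGlobal (CohB1.ProjSpace.toSpec n R) r)) (ofS n R d s))) (r • ℓ) := by
  obtain ⟨m, u, e, hm, he, hnv, hrep, rfl⟩ := hs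
  exact ⟨r • m, u, e, (homogeneousSubmodule (Fin (n + 1)) R e).smul_mem r hm, he, hnv,
    isRep_smul n R d W s m u hrep _ r (val_resTop_toGlobal n R W r), (lau_smul n R r m u).symm⟩

end Groth.Agent.Lib.Helper17.PnTop
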