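import Mathlib

/-!
# Monomial divisibility lemmas for multivariate polynomials over any commutative ring (helper17)
-/

set_option autoImplicit false
open MvPolynomial

namespace Groth.Agent.Lib.Helper17.PolyAux

variable {σ : Type*} {R : Type*} [CommRing R]

theorem monomial_mul_cancel (s : σ →₀ ℕ) {p : MvPolynomial σ R}
    (h : monomial s (1 : R) * p = 0) : p = 0 := by
  rw [MvPolynomial.eq_zero_iff]
  intro m
  have := congrArg (coeff (s + m)) h
  rwa [coeff_monomial_mul, one_mul, coeff_zero] at this

theorem monomial_mul_left_cancel (s : σ →₀ ℕ) {p q : MvPolynomial σ R}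
    (h : monomial s (1 : R) * p = monomial s (1 : R) * q) : p = q := by
  have : monomial s (1 : R) * (p - q) = 0 := by rw [mul_sub, h, sub_self]
  exact sub_eq_zero.mp (monomial_mul_cancel s this)

theorem isHomogeneous_of_monomial_mul (s : σ →₀ ℕ) {c : MvPolynomial σ R} {d : ℕ}
    (h : (monomial s (1 : R) * c).IsHomogeneous (s.degree + d)) : c.IsHomogeneous d := by
  intro μ hμ
  have h1 : coeff (s + μ) (monomial s (1 : R) * c) ≠ 0 := by
    rwa [coeff_monomial_mul, one_mul]
  have h2 := h h1
  rw [map_add, Finsupp.degree_eq_weight_one] at h2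
  exact Nat.add_left_cancel h2

/-- if `X j ^ l * p = X i ^ k * q` with `j ≠ i`, then `X i ^ k` divides `p`. -/
theorem modMonomial_eq_zero_of_mul_eq {i j : σ} (hij : j ≠ i) (k l : ℕ)
    {p q : MvPolynomial σ R}
    (h : monomial (Finsupp.single j l) (1 : R) * p = monomial (Finsupp.single i k) (1 : R) * q) :
    p.modMonomial (Finsupp.single i k) = 0 := by
  classical
  rw [MvPolynomial.eq_zero_iff]
  intro μ
  by_cases hs : Finsupp.single i k ≤ μ
  · exact coeff_modMonomial_of_le p hs
  · rw [coeff_modMonomial_of_not_le p hs]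
    have h1 := congrArg (coeff (Finsupp.single j l + μ)) h
    rw [coeff_monomial_mul, one_mul, coeff_monomial_mul'] at h1
    have h2 : ¬ Finsupp.single i k ≤ Finsupp.single j l + μ := by
      intro hle
      apply hs
      rw [Finsupp.single_le_iff] at hle ⊢
      rwa [Finsupp.add_apply, Finsupp.single_eq_of_ne hij.symm, zero_add] at hle
    rw [if_neg h2] at h1
    exact h1

/-- if `X j ^ l * p = X i ^ k * q` with `j ≠ i`, then `p = X i ^ k * (p / X i ^ k)`. -/
theorem eq_monomial_mul_divMonomial {i j : σ} (hij : j ≠ i) (k l : ℕ)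
    {p q : MvPolynomial σ R}
    (h : monomial (Finsupp.single j l) (1 : R) * p = monomial (Finsupp.single i k) (1 : R) * q) :
    p = monomial (Finsupp.single i k) (1 : R) * (p.divMonomial (Finsupp.single i k)) := by
  have h1 := divMonomial_add_modMonomial p (Finsupp.single i k)
  rw [modMonomial_eq_zero_of_mul_eq hij k l h, add_zero] at h1
  exact h1.symm

end Groth.Agent.Lib.Helper17.PolyAux
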