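import Groth.Agent.Lib.Helper17.Proj
import Mathlib.AlgebraicGeometry.Morphisms.ClosedImmersion
import Mathlib.AlgebraicGeometry.Properties

set_option autoImplicit false
universe u
open CategoryTheory CategoryTheory.Limits AlgebraicGeometry HomogeneousLocalization

/-! Helper lemmas about `Proj.map` (helper17). Only append to this file. -/

namespace Groth.Agent.Lib.Helper17

section
variable {A B σ τ : Type u} [CommRing A] [SetLike σ A] [AddSubgroupClass σ A]
  [CommRing B] [SetLike τ B] [AddSubgroupClass τ B]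
  {𝒜 : ℕ → σ} {ℬ : ℕ → τ} [GradedRing 𝒜] [GradedRing ℬ]
  (φ : 𝒜 →+*ᵍ ℬ) (hφ : HomogeneousIdeal.irrelevant ℬ ≤ (HomogeneousIdeal.irrelevant 𝒜).map φ)

/-- The square `Spec B_(φ s) → Proj ℬ`, `Spec A_(s) → Proj 𝒜` is cartesian. -/
theorem proj_map_isPullback {n : ℕ} (hn : 0 < n) (s : A) (hs : s ∈ 𝒜 n) :
    IsPullback (Proj.awayι ℬ (φ s) (φ.2 hs) hn)
      (Spec.map (CommRingCat.ofHom (Away.map φ s)))
      (Proj.map φ hφ) (Proj.awayι 𝒜 s hs hn) := by
  refine (IsOpenImmersion.isPullback _ _ _ _ (Proj.awayι_comp_map φ hφ hn s hs) ?_).flip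
  rw [Proj.opensRange_awayι, Proj.opensRange_awayι, Proj.map_preimage_basicOpen]

/-- To check a target-local property of `Proj.map φ`, it suffices to check it on the
maps `Spec B_(φ s) → Spec A_(s)`. -/
theorem proj_map_of_forall_away {P : MorphismProperty Scheme.{u}} [IsZariskiLocalAtTarget P]
    (H : ∀ (n : ℕ) (_ : 0 < n) (s : A) (_ : s ∈ 𝒜 n),
      P (Spec.map (CommRingCat.ofHom (Away.map φ s)))) :
    P (Proj.map φ hφ) := by
  apply IsZariskiLocalAtTarget.of_openCover (Proj.affineOpenCover 𝒜).openCover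
  intro i
  obtain ⟨⟨n, hn⟩, ⟨s, hs⟩⟩ : Σ i : PNat, 𝒜 i := i
  have hpb := proj_map_isPullback φ hφ hn s hs
  have h2 : hpb.isoPullback.hom ≫ pullback.snd _ _ = _ := hpb.isoPullback_hom_snd
  have h3 : P (hpb.isoPullback.hom ≫ pullback.snd _ _) := by
    rw [h2]; exact H _ hn _ hs
  exact (P.cancel_left_of_respectsIso _ _).mp h3

/-- A surjective graded ring hom is surjective on graded pieces. -/
theorem exists_mem_of_surjective (hsurj : Function.Surjective φ) {m : ℕ} {b : B} (hb : b ∈ ℬ m) :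
    ∃ a ∈ 𝒜 m, φ a = b := by
  obtain ⟨a₀, rfl⟩ := hsurj b
  refine ⟨DirectSum.decompose 𝒜 a₀ m, SetLike.coe_mem _, ?_⟩
  rw [GradedRingHom.map_directSumDecompose, DirectSum.decompose_of_mem_same ℬ hb]

theorem away_map_surjective (hsurj : Function.Surjective φ) {n : ℕ} (s : A) (hs : s ∈ 𝒜 n) :
    Function.Surjective (Away.map φ s) := by
  intro x
  obtain ⟨k, b, hb, rfl⟩ := Away.mk_surjective ℬ (φ.2 hs) x
  obtain ⟨a, ha, rfl⟩ := exists_mem_of_surjective φ hsurj hb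
  exact ⟨Away.mk 𝒜 hs k a ha, by rw [Away.map_mk]⟩

end

/-- If `b` lies in every point of `Proj ℬ`, then `b * t` is nilpotent for every `t ∈ ℬ₊`. -/
theorem isNilpotent_mul_of_forall_mem {B τ : Type*} [CommRing B] [SetLike τ B]
    [AddSubgroupClass τ B] (ℬ : ℕ → τ) [GradedRing ℬ] (b : B)
    (hb : ∀ x : ProjectiveSpectrum ℬ, b ∈ x.asHomogeneousIdeal)
    (t : B) (ht : t ∈ (HomogeneousIdeal.irrelevant ℬ).toIdeal) : IsNilpotent (b * t) := by
  rw [← mem_nilradical]
  change b * t ∈ (⊥ : Ideal B).radical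
  rw [(Ideal.IsHomogeneous.bot ℬ).radical_eq]
  refine Ideal.mem_sInf.mpr ?_
  rintro J ⟨hJhom, -, hJprime⟩
  by_cases hJ : (HomogeneousIdeal.irrelevant ℬ).toIdeal ≤ J
  · exact J.mul_mem_left _ (hJ ht)
  · exact J.mul_mem_right _ (hb ⟨⟨J, hJhom⟩, hJprime, fun hle => hJ hle⟩)

section
variable {A B σ τ : Type u} [CommRing A] [SetLike σ A] [AddSubgroupClass σ A]
  [CommRing B] [SetLike τ B] [AddSubgroupClass τ B]
  {𝒜 : ℕ → σ} {ℬ : ℕ → τ} [GradedRing 𝒜] [GradedRing ℬ]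
  (φ : 𝒜 →+*ᵍ ℬ) (hφ : HomogeneousIdeal.irrelevant ℬ ≤ (HomogeneousIdeal.irrelevant 𝒜).map φ)

theorem map_mem_irrelevant {s : A} (hs : s ∈ (HomogeneousIdeal.irrelevant 𝒜).toIdeal) :
    φ s ∈ (HomogeneousIdeal.irrelevant ℬ).toIdeal := by
  change s ∈ HomogeneousIdeal.irrelevant 𝒜 at hs
  change φ s ∈ HomogeneousIdeal.irrelevant ℬ
  rw [HomogeneousIdeal.mem_irrelevant_iff, GradedRing.proj_apply] at hs ⊢
  rw [← GradedRingHom.map_directSumDecompose, hs, map_zero]

theorem proj_map_denseRange (hker : ∀ a : A, φ a = 0 → IsNilpotent a) :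
    DenseRange (Proj.map φ hφ).base := by
  change Dense (Set.range (Proj.map φ hφ).base : Set (ProjectiveSpectrum 𝒜))
  refine (ProjectiveSpectrum.isTopologicalBasis_basic_opens 𝒜).dense_iff.mpr ?_
  rintro _ ⟨a, rfl⟩ ⟨p, hp⟩
  by_contra hcon
  have hall : ∀ q : ProjectiveSpectrum ℬ, φ a ∈ q.asHomogeneousIdeal := by
    intro q
    by_contra hq
    exact hcon ⟨(Proj.map φ hφ).base q, hq, q, rfl⟩
  obtain ⟨s, hs, hsp⟩ := SetLike.not_le_iff_exists.mp p.not_irrelevant_le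
  have hnil := isNilpotent_mul_of_forall_mem ℬ (φ a) hall (φ s) (map_mem_irrelevant φ hs)
  rw [← map_mul] at hnil
  obtain ⟨N, hN⟩ := hnil
  rw [← map_pow] at hN
  have h2 : IsNilpotent (a * s) := by
    obtain ⟨M, hM⟩ := hker _ hN
    exact ⟨N * M, by rw [pow_mul, hM]⟩
  have h3 : a * s ∈ p.asHomogeneousIdeal.toIdeal := by
    obtain ⟨K, hK⟩ := h2
    exact p.isPrime.mem_of_pow_mem K (hK ▸ Ideal.zero_mem _)
  rcases p.isPrime.mem_or_mem h3 with h | h
  · exact hp h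
  · exact hsp h

end

/-- If `S₊` has no nonzero nilpotents then `Proj S` is reduced. -/
theorem proj_isReduced {A σ : Type u} [CommRing A] [SetLike σ A]
    [AddSubgroupClass σ A] (𝒜 : ℕ → σ) [GradedRing 𝒜]
    (hred : ∀ f ∈ (HomogeneousIdeal.irrelevant 𝒜).toIdeal, IsNilpotent f → f = 0) :
    AlgebraicGeometry.IsReduced (Proj 𝒜) := by
  have : ∀ i, AlgebraicGeometry.IsReduced ((Proj.affineOpenCover 𝒜).openCover.X i) := by
    intro i
    have : _root_.IsReduced (HomogeneousLocalization.Away 𝒜 i.2.1) :=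
      isReduced_away 𝒜 hred i.1.2 i.2.2
    change AlgebraicGeometry.IsReduced (Spec (.of (HomogeneousLocalization.Away 𝒜 i.2.1)))
    infer_instance
  exact AlgebraicGeometry.IsReduced.of_openCover _ (Proj.affineOpenCover 𝒜).openCover

section
variable {A B σ τ : Type u} [CommRing A] [SetLike σ A] [AddSubgroupClass σ A]
  [CommRing B] [SetLike τ B] [AddSubgroupClass τ B]
  {𝒜 : ℕ → σ} {ℬ : ℕ → τ} [GradedRing 𝒜] [GradedRing ℬ]
  (φ : 𝒜 →+*ᵍ ℬ) (hφ : HomogeneousIdeal.irrelevant ℬ ≤ (HomogeneousIdeal.irrelevant 𝒜).map φ)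

/-- A surjective graded ring hom maps `𝒜₊` onto `ℬ₊`. -/
theorem exists_mem_irrelevant_of_surjective (hsurj : Function.Surjective φ) {t : B}
    (ht : t ∈ (HomogeneousIdeal.irrelevant ℬ).toIdeal) :
    ∃ a ∈ (HomogeneousIdeal.irrelevant 𝒜).toIdeal, φ a = t := by
  obtain ⟨a₀, rfl⟩ := hsurj t
  refine ⟨a₀ - DirectSum.decompose 𝒜 a₀ 0, ?_, ?_⟩
  · change _ ∈ HomogeneousIdeal.irrelevant 𝒜
    rw [HomogeneousIdeal.mem_irrelevant_iff, GradedRing.proj_apply, DirectSum.decompose_sub,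
      DirectSum.sub_apply, AddSubgroupClass.coe_sub, DirectSum.decompose_coe,
      DirectSum.of_eq_same, sub_self]
  · change φ a₀ ∈ HomogeneousIdeal.irrelevant ℬ at ht
    rw [HomogeneousIdeal.mem_irrelevant_iff, GradedRing.proj_apply] at ht
    rw [map_sub, GradedRingHom.map_directSumDecompose, ht, sub_zero]

theorem proj_map_red_aux (hsurj : Function.Surjective φ)
    (hker : ∀ a : A, φ a = 0 ↔ a ∈ (HomogeneousIdeal.irrelevant 𝒜).toIdeal ∧ IsNilpotent a) :
    IsClosedImmersion (Proj.map φ hφ) ∧ IsHomeomorph (Proj.map φ hφ).base ∧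
      AlgebraicGeometry.IsReduced (Proj ℬ) := by
  have hcl : IsClosedImmersion (Proj.map φ hφ) :=
    proj_map_of_forall_away (P := @IsClosedImmersion) φ hφ
      (fun _ _ s hs => IsClosedImmersion.spec_of_surjective _ (away_map_surjective φ hsurj s hs))
  refine ⟨hcl, ?_, ?_⟩
  · have hemb := (Proj.map φ hφ).isClosedEmbedding
    rw [isHomeomorph_iff_isEmbedding_surjective]
    refine ⟨hemb.isEmbedding, ?_⟩
    have hdense : DenseRange (Proj.map φ hφ).base :=
      proj_map_denseRange φ hφ (fun a ha => ((hker a).mp ha).2)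
    rw [← Set.range_eq_univ, ← hemb.isClosed_range.closure_eq]
    exact hdense.closure_range
  · apply proj_isReduced
    intro t ht hnil
    obtain ⟨a, ha, rfl⟩ := exists_mem_irrelevant_of_surjective φ hsurj ht
    obtain ⟨N, hN⟩ := hnil
    rw [← map_pow] at hN
    obtain ⟨-, M, hM⟩ := (hker _).mp hN
    exact (hker a).mpr ⟨ha, N * M, by rw [pow_mul, hM]⟩

end

end Groth.Agent.Lib.Helper17
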