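import Groth.Agent.Lib.Helper17.ProjIdeal
import Groth.Agent.Lib.Helper17.ProjMap

/-!
# Closed subschemes of `Proj 𝒜` are `Proj` of graded quotients (helper17)
-/

set_option autoImplicit false
universe u
open CategoryTheory CategoryTheory.Limits AlgebraicGeometry HomogeneousLocalization

namespace Groth.Agent.Lib.Helper17.PC

variable {R A : Type u} [CommRing R] [CommRing A] [Algebra R A] (𝒜 : ℕ → Submodule R A)
  [GradedAlgebra 𝒜]

/-- The affine open `D₊(x)` for `x` homogeneous of positive degree. -/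
noncomputable abbrev bo {x : A} {d : ℕ} (hx : x ∈ 𝒜 d) (hd : 0 < d) : (Proj 𝒜).affineOpens :=
  ⟨Proj.basicOpen 𝒜 x, Proj.isAffineOpen_basicOpen 𝒜 x hx hd⟩

theorem awayToSection_bijective {x : A} {d : ℕ} (hx : x ∈ 𝒜 d) (hd : 0 < d) :
    Function.Bijective (Proj.awayToSection 𝒜 x).hom := by
  have : IsIso (Proj.awayToSection 𝒜 x) := by
    rw [← Proj.basicOpenIsoAway_hom 𝒜 x hx hd]; infer_instance
  exact (ConcreteCategory.isIso_iff_bijective _).mp this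

variable (𝓘 : (Proj 𝒜).IdealSheafData)

/-- The ideal of `A_(x)` corresponding to the ideal sheaf on `D₊(x)`. -/
noncomputable def Jx {x : A} {d : ℕ} (hx : x ∈ 𝒜 d) (hd : 0 < d) : Ideal (Away 𝒜 x) :=
  (𝓘.ideal (bo 𝒜 hx hd)).comap (Proj.awayToSection 𝒜 x).hom

theorem map_Jx {x : A} {d : ℕ} (hx : x ∈ 𝒜 d) (hd : 0 < d) :
    (Jx 𝒜 𝓘 hx hd).map (Proj.awayToSection 𝒜 x).hom = 𝓘.ideal (bo 𝒜 hx hd) :=
  Ideal.map_comap_of_surjective _ (awayToSection_bijective 𝒜 hx hd).2 _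

/-- Compatibility of the `Jx` with localization. -/
theorem Jx_mul {f g x : A} {m m' : ℕ} (hf : f ∈ 𝒜 m) (hm : 0 < m) (hg : g ∈ 𝒜 m')
    (hx : x = f * g) :
    Jx 𝒜 𝓘 (hx ▸ SetLike.mul_mem_graded hf hg : x ∈ 𝒜 (m + m')) (hm.trans_le (m.le_add_right m')) =
      (Jx 𝒜 𝓘 hf hm).map (awayMap 𝒜 hg hx) := by
  have hxd : x ∈ 𝒜 (m + m') := hx ▸ SetLike.mul_mem_graded hf hg
  have hd : 0 < m + m' := hm.trans_le (m.le_add_right m')
  have hle : bo 𝒜 hxd hd ≤ bo 𝒜 hf hm := Proj.basicOpen_mono _ _ _ ⟨_, hx⟩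
  have h1 := 𝓘.map_ideal hle
  have h2 := Proj.awayMap_awayToSection 𝒜 hg hx
  -- `ofHom awayMap ≫ ats_x = ats_f ≫ res`
  have h3 : ((Proj 𝒜).presheaf.map (homOfLE hle).op).hom.comp (Proj.awayToSection 𝒜 f).hom =
      (Proj.awayToSection 𝒜 x).hom.comp (awayMap 𝒜 hg hx) := by
    have := congrArg CommRingCat.Hom.hom h2
    simp only [CommRingCat.hom_comp, CommRingCat.hom_ofHom] at this
    exact this.symm
  have h4 : 𝓘.ideal (bo 𝒜 hf hm) = (Jx 𝒜 𝓘 hf hm).map (Proj.awayToSection 𝒜 f).hom :=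
    (map_Jx 𝒜 𝓘 hf hm).symm
  calc Jx 𝒜 𝓘 hxd hd
      = (𝓘.ideal (bo 𝒜 hxd hd)).comap (Proj.awayToSection 𝒜 x).hom := rfl
    _ = (((Jx 𝒜 𝓘 hf hm).map (Proj.awayToSection 𝒜 f).hom).map
          ((Proj 𝒜).presheaf.map (homOfLE hle).op).hom).comap (Proj.awayToSection 𝒜 x).hom := by
        rw [← h1, h4]
    _ = ((Jx 𝒜 𝓘 hf hm).map (((Proj 𝒜).presheaf.map (homOfLE hle).op).hom.comp
          (Proj.awayToSection 𝒜 f).hom)).comap (Proj.awayToSection 𝒜 x).hom := by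
        rw [Ideal.map_map]
    _ = (((Jx 𝒜 𝓘 hf hm).map (awayMap 𝒜 hg hx)).map (Proj.awayToSection 𝒜 x).hom).comap
          (Proj.awayToSection 𝒜 x).hom := by
        rw [h3, ← Ideal.map_map]
    _ = (Jx 𝒜 𝓘 hf hm).map (awayMap 𝒜 hg hx) :=
        Ideal.comap_map_of_bijective _ (awayToSection_bijective 𝒜 hxd hd)

section ker
variable {B : Type u} [CommRing B] [Algebra R B] {ℬ : ℕ → Submodule R B} [GradedAlgebra ℬ]
  (φ : 𝒜 →+*ᵍ ℬ) (hφ : HomogeneousIdeal.irrelevant ℬ ≤ (HomogeneousIdeal.irrelevant 𝒜).map φ)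

/-- The kernel of `Proj.map φ` on `D₊(f)` corresponds to the kernel of `A_(f) → B_(φ f)`. -/
theorem comap_ker_app {f : A} {d : ℕ} (hf : f ∈ 𝒜 d) (hd : 0 < d) :
    (RingHom.ker ((Proj.map φ hφ).app (Proj.basicOpen 𝒜 f)).hom).comap
      (Proj.awayToSection 𝒜 f).hom = RingHom.ker (Away.map φ f) := by
  have h := Proj.awayToSection_comp_appLE φ hφ hf
  have hinj := (awayToSection_bijective ℬ (φ.2 hf) hd).1
  ext x
  rw [Ideal.mem_comap, RingHom.mem_ker, RingHom.mem_ker]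
  have h2 : ((Proj.map φ hφ).app (Proj.basicOpen 𝒜 f)).hom ((Proj.awayToSection 𝒜 f).hom x) =
      (Proj.awayToSection ℬ (φ f)).hom (Away.map φ f x) := by
    have := congrArg (fun g => g.hom x) h
    simp only [CommRingCat.hom_comp, CommRingCat.hom_ofHom, RingHom.coe_comp,
      Function.comp_apply] at this
    rw [← this, Scheme.Hom.app_eq_appLE]
    rfl
  rw [h2]
  constructor
  · intro h0
    apply hinj
    exact h0.trans (map_zero _).symm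
  · intro h0
    rw [h0]
    exact map_zero _

end ker

section main
open Groth.Agent.Lib.Helper17

/-- A surjective graded ring hom satisfies the irrelevant-ideal condition. -/
theorem irrelevant_le_map_of_surjective {B : Type u} [CommRing B] [Algebra R B]
    {ℬ : ℕ → Submodule R B} [GradedAlgebra ℬ] (φ : 𝒜 →+*ᵍ ℬ) (hsurj : Function.Surjective φ) :
    HomogeneousIdeal.irrelevant ℬ ≤ (HomogeneousIdeal.irrelevant 𝒜).map φ := by
  intro t ht
  change t ∈ ((HomogeneousIdeal.irrelevant 𝒜).map φ).toIdeal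
  rw [HomogeneousIdeal.toIdeal_map]
  obtain ⟨a, ha, rfl⟩ := exists_mem_irrelevant_of_surjective φ hsurj ht
  exact Ideal.mem_map_of_mem _ ha

theorem isClosedImmersion_map_of_surjective {B : Type u} [CommRing B] [Algebra R B]
    {ℬ : ℕ → Submodule R B} [GradedAlgebra ℬ] (φ : 𝒜 →+*ᵍ ℬ) (hsurj : Function.Surjective φ)
    (hφ : HomogeneousIdeal.irrelevant ℬ ≤ (HomogeneousIdeal.irrelevant 𝒜).map φ) :
    IsClosedImmersion (Proj.map φ hφ) :=
  proj_map_of_forall_away (P := @IsClosedImmersion) φ hφ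
    (fun _ _ s hs => IsClosedImmersion.spec_of_surjective _ (away_map_surjective φ hsurj s hs))

variable {ι : Type*} (f : ι → A) (hf : ∀ i, f i ∈ 𝒜 1)

/-- The graded ideal of `A` attached to an ideal sheaf on `Proj 𝒜`. -/
noncomputable def idealOf : Ideal A := PI.idealI 𝒜 f hf (fun i => Jx 𝒜 𝓘 (hf i) one_pos)

theorem idealOf_isHomogeneous : (idealOf 𝒜 𝓘 f hf).IsHomogeneous 𝒜 :=
  PI.idealI_isHomogeneous 𝒜 f hf _

theorem ker_map_quotHom [Finite ι]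
    (hspan : (HomogeneousIdeal.irrelevant 𝒜).toIdeal ≤ Ideal.span (Set.range f)) :
    letI := GQ.gradedAlgebra 𝒜 (idealOf 𝒜 𝓘 f hf) (idealOf_isHomogeneous 𝒜 𝓘 f hf)
    ∀ hφ : HomogeneousIdeal.irrelevant (GQ.grading 𝒜 (idealOf 𝒜 𝓘 f hf)) ≤
      (HomogeneousIdeal.irrelevant 𝒜).map (GQ.quotHom 𝒜 (idealOf 𝒜 𝓘 f hf)),
    (Proj.map (GQ.quotHom 𝒜 (idealOf 𝒜 𝓘 f hf)) hφ).ker = 𝓘 := by
  let _ := GQ.gradedAlgebra 𝒜 (idealOf 𝒜 𝓘 f hf) (idealOf_isHomogeneous 𝒜 𝓘 f hf)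
  intro hφ
  have H : ∀ i j, (Jx 𝒜 𝓘 (hf i) one_pos).map
      (awayMap 𝒜 (hf j) rfl : Away 𝒜 (f i) →+* Away 𝒜 (f i * f j)) =
      (Jx 𝒜 𝓘 (hf j) one_pos).map (awayMap 𝒜 (hf i) (mul_comm (f i) (f j)) :
        Away 𝒜 (f j) →+* Away 𝒜 (f i * f j)) := by
    intro i j
    rw [← Jx_mul 𝒜 𝓘 (hf i) one_pos (hf j) rfl,
      ← Jx_mul 𝒜 𝓘 (hf j) one_pos (hf i) (mul_comm (f i) (f j))]
  refine Scheme.IdealSheafData.ext_of_iSup_eq_top (fun i => bo 𝒜 (hf i) one_pos)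
    (Proj.iSup_basicOpen_eq_top 𝒜 f hspan) ?_
  intro i
  have hcl : IsClosedImmersion (Proj.map (GQ.quotHom 𝒜 (idealOf 𝒜 𝓘 f hf)) hφ) :=
    isClosedImmersion_map_of_surjective 𝒜 _ (GQ.quotHom_surjective 𝒜 _) hφ
  rw [Scheme.Hom.ker_apply]
  have h1 := comap_ker_app 𝒜 (GQ.quotHom 𝒜 (idealOf 𝒜 𝓘 f hf)) hφ (hf i) one_pos
  have h2 := PI.ker_away_map_quot 𝒜 f hf (fun i => Jx 𝒜 𝓘 (hf i) one_pos) H i
  rw [← map_Jx 𝒜 𝓘 (hf i) one_pos]
  rw [← Ideal.map_comap_of_surjective _ (awayToSection_bijective 𝒜 (hf i) one_pos).2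
    (RingHom.ker _)]
  congr 1
  exact h1.trans h2

end main

end Groth.Agent.Lib.Helper17.PC
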