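import Groth.Agent.Lib.Helper17.AffineLocus

/-!
# Closed immersions into projective space over a ring from an ample module (helper17)

* `isImmersion_of_sections`: the criterion of `VeryAmpleCrit` for a morphism `r : X ⟶ P^n_R`
  (Mathlib's `Proj` of the polynomial ring over `R`), over `Spec R`.
* `exists_closedImmersion_projSpace`: `f : X ⟶ Spec R` proper, `L` ample: some power `L^M` is the
  pull back of `O(1)` along a closed immersion `r : X ⟶ P^n_R` over `Spec R`.
-/

set_option autoImplicit false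
set_option linter.unusedSectionVars false
set_option linter.style.haveILetI false
universe u
open AlgebraicGeometry CategoryTheory Limits TopologicalSpace Opposite

namespace Groth.Agent.Lib.Helper17.ProjEmbed
open Groth.Agent.Lib.Helper11 Groth.Agent.Lib.Helper11.GenLocus Groth.Agent.Lib.Helper45
  Groth.Agent.Lib.Helper49 Groth.Agent.Lib.Helper17.UPGen Groth.Agent.Lib.Helper17.UPCoef
  Groth.Agent.Lib.Helper17.VeryAmpleCrit Groth.Agent.Lib.Helper17.RatioGen
  Groth.Agent.Lib.Helper17.VeryAmpleTensor Groth.Agent.Lib.Helper17.PnSections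
  Groth.Agent.Lib.Helper17.VeryAmpleRel Groth.Agent.Lib.Helper17.AmpleVeryAmple

theorem isImmersion_of_sections {R : Type u} [CommRing R] {X : Scheme.{u}} (n : ℕ)
    (r : X ⟶ CohB1.ProjSpace n R) {L : X.Modules}
    (τ : (Scheme.Modules.pullback r).obj (Twist.twistProjSpace n R 1) ≅ L)
    (w : Fin (n + 1) → Γ(L, ⊤))
    (hτ : ∀ i, τ.hom.app ⊤ (ProjUP.pullSec r (Twist.twistProjSpace n R 1) (ProjUP.coord n R i)) = w i)
    {κ : Type*} (j : κ → Fin (n + 1)) (c : κ → Γ(L, ⊤)) (hc : ∀ k, c k = w (j k))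
    (hcov : ∀ x : X, ∃ k, x ∈ loc (c k))
    (V : κ → (Spec (CommRingCat.of R)).Opens) (hV : ∀ k, IsAffineOpen (V k))
    (hU : ∀ k, IsAffineOpen (loc (c k)))
    (hle : ∀ k, loc (c k) ≤ (r ≫ CohB1.ProjSpace.toSpec n R) ⁻¹ᵁ V k)
    (hgen : ∀ k, Subring.closure
      (Set.range ((r ≫ CohB1.ProjSpace.toSpec n R).appLE (V k) (loc (c k)) (hle k)).hom ∪
      Set.range (fun c' => coef (c k) (w c'))) = ⊤) :
    IsImmersion r := by
  obtain rfl : c = fun k => w (j k) := funext hc
  obtain ⟨i, hi1, hi2⟩ : ∃ i : X ⟶ pullback (CohB1.ProjSpace.toSpec n R)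
        (𝟙 (Spec (CommRingCat.of R))),
      i ≫ pullback.fst (CohB1.ProjSpace.toSpec n R) (𝟙 (Spec (CommRingCat.of R))) = r ∧
      i ≫ pullback.snd (CohB1.ProjSpace.toSpec n R) (𝟙 (Spec (CommRingCat.of R))) =
        r ≫ CohB1.ProjSpace.toSpec n R :=
    ⟨pullback.lift r (r ≫ CohB1.ProjSpace.toSpec n R) (by simp), pullback.lift_fst _ _ _,
      pullback.lift_snd _ _ _⟩
  subst hi1
  have him : IsImmersion i := by
    refine isImmersion_of_charts _ _ i (fun k => D R n (j k)) V
      (fun k => Proj.isAffineOpen_basicOpen (CohB1.polyGrading n R) _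
        (T_mem n R (j k)) one_pos) hV (fun k => loc (w (j k))) hU hcov
      (fun k => loc_eq n _ τ w hτ (j k)) (fun k => by rw [hi2]; exact hle k) (fun k => ?_)
    apply top_unique
    rw [← hgen k]
    apply Subring.closure_mono
    apply Set.union_subset_union
    · have key : ∀ (g g' : X ⟶ Spec (CommRingCat.of R)) (_ : g = g')
          (V' : (Spec (CommRingCat.of R)).Opens) (U' : X.Opens) (e : U' ≤ g ⁻¹ᵁ V')
          (e' : U' ≤ g' ⁻¹ᵁ V'),
          Set.range (g.appLE V' U' e).hom = Set.range (g'.appLE V' U' e').hom := by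
        intro g g' h
        subst h
        intros
        rfl
      exact (key _ _ hi2.symm _ _ _ _).le
    · rintro _ ⟨c', rfl⟩
      exact ⟨_, appLE_oFrac n _ τ w hτ (j k) c'⟩
  infer_instance

/-- **A proper scheme over `Spec R` with an ample module embeds as a closed subscheme of some
`P^n_R`**, a power of the ample module being the pull back of `O(1)`. -/
theorem exists_closedImmersion_projSpace {R : Type u} [CommRing R] {X : Scheme.{u}}
    (f : X ⟶ Spec (CommRingCat.of R)) [IsProper f] (L : X.Modules) (hL : CohB1.IsAmple L) :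
    ∃ (M n : ℕ) (r : X ⟶ CohB1.ProjSpace n R), IsClosedImmersion r ∧
      r ≫ CohB1.ProjSpace.toSpec n R = f ∧
      Nonempty ((Scheme.Modules.pullback r).obj (Twist.twistProjSpace n R 1) ≅
        CohB1.tensorPow L M) := by
  classical
  obtain ⟨M, A, hA, ⟨eA⟩, ι, κ, _, a, jA, V, hle, hcov, hV, hU, hgen⟩ :=
    exists_veryAmple_data f L hL
  obtain ⟨n, hn⟩ : ∃ n, Fintype.card (Option ι) = n + 1 :=
    ⟨Fintype.card ι, Fintype.card_option⟩
  let e : Fin (n + 1) ≃ Option ι := (Fintype.equivFinOfCardEq hn).symm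
  let w' : Option ι → Γ(A, ⊤) := fun o => o.elim 0 a
  have hw : ∀ k, a (jA k) = (w' ∘ e) (e.symm (some (jA k))) := fun k => by simp [w']
  obtain ⟨r, hr, τ, hτ⟩ := UPExist.exists_to_projSpace_of_cover (R := R) n f A (w' ∘ e)
    (fun x => by
      obtain ⟨k, hk⟩ := hcov x
      exact ⟨e.symm (some (jA k)), by rw [← hw k]; exact hk⟩)
  subst hr
  have him : IsImmersion r := by
    refine isImmersion_of_sections n r τ (w' ∘ e) hτ (fun k => e.symm (some (jA k)))
      (fun k => a (jA k)) hw hcov V hV hU hle (fun k => ?_)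
    apply top_unique
    rw [← hgen k]
    apply Subring.closure_mono
    apply Set.union_subset_union_right
    rintro _ ⟨i, rfl⟩
    exact ⟨e.symm (some i), by simp [w']⟩
  haveI : UniversallyClosed r :=
    UniversallyClosed.of_comp_of_isSeparated r (CohB1.ProjSpace.toSpec n R)
  have hcl : IsClosedImmersion r :=
    IsClosedImmersion.of_isPreimmersion r r.isClosedMap.isClosed_range
  exact ⟨M, n, r, hcl, rfl, ⟨τ ≪≫ eA⟩⟩

end Groth.Agent.Lib.Helper17.ProjEmbed
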