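import Groth.Agent.Lib.Helper17.GradedQuotient

/-!
# The homogeneous ideal attached to a compatible family of ideals of the `A_(f)` (helper17)

`f i` are elements of degree one, `J i` an ideal of `Away 𝒜 (f i)`.  `idealI` is the homogeneous
ideal of `A` whose elements of degree `d` are the `a` with `a / (f i)^d ∈ J i` for all `i`.
-/

set_option autoImplicit false
universe u
open HomogeneousLocalization

namespace Groth.Agent.Lib.Helper17.PI

variable {R A : Type u} [CommRing R] [CommRing A] [Algebra R A] (𝒜 : ℕ → Submodule R A)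
  [GradedAlgebra 𝒜]

section fr
variable {f : A} (hf : f ∈ 𝒜 1)

/-- `a_n / f^n`, where `a_n` is the degree-`n` component of `a`. -/
noncomputable def fr (n : ℕ) (a : A) : Away 𝒜 f :=
  Away.mk 𝒜 hf n (DirectSum.decompose 𝒜 a n : A)
    (by rw [smul_eq_mul, mul_one]; exact SetLike.coe_mem _)

theorem val_fr (n : ℕ) (a : A) :
    (fr 𝒜 hf n a).val = Localization.mk (DirectSum.decompose 𝒜 a n : A)
      ⟨f ^ n, Submonoid.pow_mem _ (Submonoid.mem_powers f) n⟩ := rfl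

theorem fr_of_mem {n : ℕ} {a : A} (ha : a ∈ 𝒜 n) :
    fr 𝒜 hf n a = Away.mk 𝒜 hf n a (by rw [smul_eq_mul, mul_one]; exact ha) := by
  ext
  rw [val_fr, Away.val_mk, DirectSum.decompose_of_mem_same 𝒜 ha]

theorem fr_of_mem_ne {n m : ℕ} {a : A} (ha : a ∈ 𝒜 m) (h : m ≠ n) : fr 𝒜 hf n a = 0 := by
  ext
  rw [val_fr, DirectSum.decompose_of_mem_ne 𝒜 ha h, HomogeneousLocalization.val_zero,
    Localization.mk_zero]

theorem fr_zero (n : ℕ) : fr 𝒜 hf n 0 = 0 := by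
  ext
  rw [val_fr, DirectSum.decompose_zero, DirectSum.zero_apply, ZeroMemClass.coe_zero,
    HomogeneousLocalization.val_zero, Localization.mk_zero]

theorem fr_add (n : ℕ) (a b : A) : fr 𝒜 hf n (a + b) = fr 𝒜 hf n a + fr 𝒜 hf n b := by
  ext
  rw [HomogeneousLocalization.val_add, val_fr, val_fr, val_fr, DirectSum.decompose_add,
    DirectSum.add_apply, AddMemClass.coe_add, Localization.add_mk_self]

theorem fr_mul_of_mem {e : ℕ} {c : A} (hc : c ∈ 𝒜 e) (d : ℕ) (a : A) :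
    fr 𝒜 hf (e + d) (c * a) = fr 𝒜 hf e c * fr 𝒜 hf d a := by
  ext
  rw [HomogeneousLocalization.val_mul, val_fr, val_fr, val_fr,
    DirectSum.coe_decompose_mul_add_of_left_mem 𝒜 hc, DirectSum.decompose_of_mem_same 𝒜 hc,
    Localization.mk_mul]
  congr 1
  ext
  simp [pow_add]

theorem fr_mul_of_mem_of_lt {e : ℕ} {c : A} (hc : c ∈ 𝒜 e) {d : ℕ} (hd : d < e) (a : A) :
    fr 𝒜 hf d (c * a) = 0 := by
  ext
  rw [val_fr, DirectSum.coe_decompose_mul_of_left_mem_of_not_le 𝒜 hc (by omega),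
    HomogeneousLocalization.val_zero, Localization.mk_zero]

theorem exists_fr (x : Away 𝒜 f) : ∃ (n : ℕ) (a : A), a ∈ 𝒜 n ∧ fr 𝒜 hf n a = x := by
  obtain ⟨n, a, ha, rfl⟩ := Away.mk_surjective 𝒜 hf x
  have ha' : a ∈ 𝒜 n := by rwa [smul_eq_mul, mul_one] at ha
  exact ⟨n, a, ha', fr_of_mem 𝒜 hf ha'⟩

end fr

section ideal
variable {ι : Type*} (f : ι → A) (hf : ∀ i, f i ∈ 𝒜 1) (J : ∀ i, Ideal (Away 𝒜 (f i)))

/-- The homogeneous ideal whose degree-`d` elements are the `a` with `a/(f i)^d ∈ J i`. -/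
noncomputable def idealI : Ideal A where
  carrier := {a | ∀ (d : ℕ) (i : ι), fr 𝒜 (hf i) d a ∈ J i}
  add_mem' := by
    intro a b ha hb d i
    rw [fr_add]
    exact (J i).add_mem (ha d i) (hb d i)
  zero_mem' := by
    intro d i
    rw [fr_zero]
    exact (J i).zero_mem
  smul_mem' := by
    intro c a ha
    change c * a ∈ {a | ∀ (d : ℕ) (i : ι), fr 𝒜 (hf i) d a ∈ J i}
    induction c using DirectSum.Decomposition.inductionOn 𝒜 with
    | zero =>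
      intro d i
      rw [zero_mul, fr_zero]
      exact (J i).zero_mem
    | @homogeneous e c =>
      intro d i
      by_cases hde : e ≤ d
      · obtain ⟨d', rfl⟩ := Nat.exists_eq_add_of_le hde
        rw [fr_mul_of_mem 𝒜 (hf i) c.2]
        exact (J i).mul_mem_left _ (ha d' i)
      · rw [fr_mul_of_mem_of_lt 𝒜 (hf i) c.2 (by omega)]
        exact (J i).zero_mem
    | add c c' hc hc' =>
      intro d i
      rw [add_mul, fr_add]
      exact (J i).add_mem (hc d i) (hc' d i)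

theorem mem_idealI_iff (a : A) : a ∈ idealI 𝒜 f hf J ↔ ∀ (d : ℕ) (i : ι), fr 𝒜 (hf i) d a ∈ J i :=
  Iff.rfl

theorem idealI_isHomogeneous : (idealI 𝒜 f hf J).IsHomogeneous 𝒜 := by
  intro n a ha d i
  by_cases hdn : n = d
  · subst hdn
    rw [fr_of_mem 𝒜 (hf i) (SetLike.coe_mem _), ← fr_of_mem 𝒜 (hf i) (SetLike.coe_mem _)]
    have := ha n i
    rw [fr] at this ⊢
    convert this using 2
    rw [DirectSum.decompose_coe, DirectSum.of_eq_same]
  · rw [fr_of_mem_ne 𝒜 (hf i) (SetLike.coe_mem _) hdn]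
    exact (J i).zero_mem

theorem mem_idealI_of_mem {n : ℕ} {a : A} (ha : a ∈ 𝒜 n) :
    a ∈ idealI 𝒜 f hf J ↔ ∀ i, fr 𝒜 (hf i) n a ∈ J i := by
  constructor
  · intro h i
    exact h n i
  · intro h d i
    by_cases hdn : n = d
    · subst hdn; exact h i
    · rw [fr_of_mem_ne 𝒜 (hf i) ha hdn]
      exact (J i).zero_mem

end ideal

section powers
variable {f : A} (hf : f ∈ 𝒜 1)

theorem fr_pow_self (k : ℕ) : fr 𝒜 hf k (f ^ k) = 1 := by
  have hk : f ^ k ∈ 𝒜 k := by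
    have := SetLike.pow_mem_graded k hf
    rwa [smul_eq_mul, mul_one] at this
  rw [fr_of_mem 𝒜 hf hk]
  ext
  rw [Away.val_mk, HomogeneousLocalization.val_one]
  exact Localization.mk_self (⟨f ^ k, _⟩ : Submonoid.powers f)

theorem fr_pow {g : A} (hg : g ∈ 𝒜 1) (k : ℕ) : fr 𝒜 hf k (g ^ k) = (fr 𝒜 hf 1 g) ^ k := by
  induction k with
  | zero =>
    rw [pow_zero, pow_zero]
    have := fr_pow_self 𝒜 hf 0
    rwa [pow_zero] at this
  | succ k ih =>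
    have hk : g ^ k ∈ 𝒜 k := by
      have := SetLike.pow_mem_graded k hg
      rwa [smul_eq_mul, mul_one] at this
    rw [pow_succ, pow_succ, fr_mul_of_mem 𝒜 hf hk, ih]

end powers

section main
variable {ι : Type*} (f : ι → A) (hf : ∀ i, f i ∈ 𝒜 1) (J : ∀ i, Ideal (Away 𝒜 (f i)))

/-- The kernel of `A_(g) → (A/I)_(g)`. -/
theorem away_map_quot_eq_zero_iff (I : Ideal A) (hI : I.IsHomogeneous 𝒜) {g : A} (hg : g ∈ 𝒜 1)
    {n : ℕ} {a : A} (ha : a ∈ 𝒜 n) :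
    letI := GQ.gradedAlgebra 𝒜 I hI
    Away.map (GQ.quotHom 𝒜 I) g (fr 𝒜 hg n a) = 0 ↔ ∃ k : ℕ, g ^ k * a ∈ I := by
  let _ := GQ.gradedAlgebra 𝒜 I hI
  rw [fr_of_mem 𝒜 hg ha, Away.map_mk]
  rw [HomogeneousLocalization.ext_iff_val, Away.val_mk,
    HomogeneousLocalization.val_zero, Localization.mk_eq_mk', IsLocalization.mk'_eq_zero_iff]
  constructor
  · rintro ⟨⟨_, k, rfl⟩, hk⟩
    refine ⟨k, ?_⟩
    rw [← GQ.quotHom_eq_zero_iff 𝒜 I, map_mul, map_pow]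
    exact hk
  · rintro ⟨k, hk⟩
    refine ⟨⟨_, k, rfl⟩, ?_⟩
    rw [← GQ.quotHom_eq_zero_iff 𝒜 I, map_mul, map_pow] at hk
    exact hk

/-- The key localization step: if `a / f_i^n ∈ J i` then `f_i^k a / f_j^(n+k) ∈ J j` for
`k ≫ 0`. -/
theorem exists_pow_mul_mem
    (H : ∀ i j, (J i).map (awayMap 𝒜 (hf j) rfl : Away 𝒜 (f i) →+* Away 𝒜 (f i * f j)) =
      (J j).map (awayMap 𝒜 (hf i) (mul_comm (f i) (f j)) :
        Away 𝒜 (f j) →+* Away 𝒜 (f i * f j)))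
    (i j : ι) {n : ℕ} {a : A} (ha : a ∈ 𝒜 n) (hx : fr 𝒜 (hf i) n a ∈ J i) :
    ∃ k₀ : ℕ, ∀ k, k₀ ≤ k → (fr 𝒜 (hf j) 1 (f i)) ^ k * fr 𝒜 (hf j) n a ∈ J j := by
  let alg : Algebra (Away 𝒜 (f j)) (Away 𝒜 (f i * f j)) :=
    (awayMap 𝒜 (hf i) (mul_comm (f i) (f j))).toAlgebra
  have hloc : IsLocalization.Away (Away.isLocalizationElem (hf j) (hf i))
      (Away 𝒜 (f i * f j)) :=
    Away.isLocalization_mul (𝒜 := 𝒜) (hf j) (hf i) (mul_comm (f i) (f j)) one_ne_zero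
  set t : Away 𝒜 (f j) := Away.isLocalizationElem (hf j) (hf i) with ht
  have ht' : fr 𝒜 (hf j) 1 (f i) = t := by
    rw [fr_of_mem 𝒜 (hf j) (hf i)]
    ext
    rw [ht, Away.val_mk, Away.val_mk]
    congr 1
    exact (pow_one _).symm
  have hx' : awayMap 𝒜 (hf j) rfl (fr 𝒜 (hf i) n a) ∈
      (J j).map (algebraMap (Away 𝒜 (f j)) (Away 𝒜 (f i * f j))) := by
    rw [RingHom.algebraMap_toAlgebra, ← H i j]
    exact Ideal.mem_map_of_mem _ hx
  rw [IsLocalization.mem_map_algebraMap_iff (Submonoid.powers t)] at hx'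
  obtain ⟨⟨⟨y, hy⟩, ⟨_, m, rfl⟩⟩, hym⟩ := hx'
  have hstar : awayMap 𝒜 (hf j) rfl (fr 𝒜 (hf i) n a) *
      algebraMap (Away 𝒜 (f j)) (Away 𝒜 (f i * f j)) (t ^ n) =
      algebraMap (Away 𝒜 (f j)) (Away 𝒜 (f i * f j)) (fr 𝒜 (hf j) n a) := by
    rw [RingHom.algebraMap_toAlgebra, map_pow, ht, fr_of_mem 𝒜 (hf i) ha, fr_of_mem 𝒜 (hf j) ha,
      awayMap_mk, awayMap_mk, awayMap_mk]
    ext
    simp only [val_mul, val_pow, Away.val_mk, Localization.mk_pow, Localization.mk_mul]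
    rw [Localization.mk_eq_mk_iff, Localization.r_iff_exists]
    refine ⟨1, ?_⟩
    simp only [OneMemClass.coe_one, one_mul, Submonoid.coe_mul, SubmonoidClass.coe_pow, pow_one]
    ring
  have heq : algebraMap (Away 𝒜 (f j)) (Away 𝒜 (f i * f j)) (fr 𝒜 (hf j) n a * t ^ m) =
      algebraMap (Away 𝒜 (f j)) (Away 𝒜 (f i * f j)) (y * t ^ n) := by
    rw [map_mul, map_mul, ← hstar, ← hym]
    ring
  obtain ⟨⟨_, m', rfl⟩, hm'⟩ := (IsLocalization.eq_iff_exists (Submonoid.powers t) _).mp heq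
  replace hm' : t ^ m' * (fr 𝒜 (hf j) n a * t ^ m) = t ^ m' * (y * t ^ n) := hm'
  refine ⟨m + m', fun k hk => ?_⟩
  obtain ⟨k', rfl⟩ := Nat.exists_eq_add_of_le hk
  have h1 : t ^ (m + m' + k') * fr 𝒜 (hf j) n a = t ^ k' * (t ^ m' * (y * t ^ n)) := by
    rw [← hm']; ring
  rw [ht', h1]
  exact (J j).mul_mem_left _ ((J j).mul_mem_left _ ((J j).mul_mem_right _ hy))

/-- The main algebraic statement: the image of `idealI` in `A_(f i)` is `J i`. -/
theorem ker_away_map_quot [Finite ι]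
    (H : ∀ i j, (J i).map (awayMap 𝒜 (hf j) rfl : Away 𝒜 (f i) →+* Away 𝒜 (f i * f j)) =
      (J j).map (awayMap 𝒜 (hf i) (mul_comm (f i) (f j)) :
        Away 𝒜 (f j) →+* Away 𝒜 (f i * f j)))
    (i : ι) :
    letI := GQ.gradedAlgebra 𝒜 (idealI 𝒜 f hf J) (idealI_isHomogeneous 𝒜 f hf J)
    RingHom.ker (Away.map (GQ.quotHom 𝒜 (idealI 𝒜 f hf J)) (f i)) = J i := by
  let _ := GQ.gradedAlgebra 𝒜 (idealI 𝒜 f hf J) (idealI_isHomogeneous 𝒜 f hf J)
  have hpow : ∀ (g : A) (_ : g ∈ 𝒜 1) (k : ℕ), g ^ k ∈ 𝒜 k := by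
    intro g hg k
    have := SetLike.pow_mem_graded k hg
    rwa [smul_eq_mul, mul_one] at this
  ext x
  obtain ⟨n, a, ha, rfl⟩ := exists_fr 𝒜 (hf i) x
  rw [RingHom.mem_ker,
    away_map_quot_eq_zero_iff 𝒜 (idealI 𝒜 f hf J) (idealI_isHomogeneous 𝒜 f hf J) (hf i) ha]
  constructor
  · rintro ⟨k, hk⟩
    have hdeg : f i ^ k * a ∈ 𝒜 (k + n) := SetLike.mul_mem_graded (hpow _ (hf i) k) ha
    have := (mem_idealI_of_mem 𝒜 f hf J hdeg).mp hk i
    rwa [fr_mul_of_mem 𝒜 (hf i) (hpow _ (hf i) k), fr_pow_self, one_mul] at this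
  · intro hx
    choose k₀ hk₀ using fun j => exists_pow_mul_mem 𝒜 f hf J H i j ha hx
    obtain ⟨K, hK⟩ := (Set.finite_range k₀).bddAbove
    refine ⟨K, ?_⟩
    have hdeg : f i ^ K * a ∈ 𝒜 (K + n) := SetLike.mul_mem_graded (hpow _ (hf i) K) ha
    rw [mem_idealI_of_mem 𝒜 f hf J hdeg]
    intro j
    rw [fr_mul_of_mem 𝒜 (hf j) (hpow _ (hf i) K), fr_pow 𝒜 (hf j) (hf i)]
    exact hk₀ j K (hK ⟨j, rfl⟩)

end main

end Groth.Agent.Lib.Helper17.PI
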