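import Groth.Agent.Lib.Helper17.UPCoef
import Groth.Agent.Lib.Helper11.TensorBasis
import Groth.Agent.Lib.Helper11.AmpleFinite

/-!
# Generation of coordinate rings by ratios of sections (helper17)

`closure_ratios_eq_top`: if the global sections `u' a` of `N` generate `N` over an affine open `U'`,
then `Γ(U' ∩ X_u, O)` is generated as a ring by `Γ(U', O)` and the ratios `u' a / u`.
-/

set_option autoImplicit false
set_option linter.unusedSectionVars false
set_option linter.style.haveILetI false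
universe u
open AlgebraicGeometry CategoryTheory Limits TopologicalSpace Opposite

namespace Groth.Agent.Lib.Helper17.RatioGen
open Groth.Agent.Lib.Helper11 Groth.Agent.Lib.Helper11.GenLocus Groth.Agent.Lib.Helper45
  Groth.Agent.Lib.Helper49 Groth.Agent.Lib.Helper17.UPGen Groth.Agent.Lib.Helper17.UPCoef

variable {Y : Scheme.{u}} {N : Y.Modules}

theorem restrict_eq_fres {U V : Y.Opens} (h : V ≤ U) (x : Γ(Y, U)) :
    TopCat.Presheaf.restrictOpen (C := CommRingCat) x V h = fres h x := rfl

/-- on an open where `t'` is a basis, the locus of `t` is the nonvanishing locus of `t / t'`. -/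
theorem loc_inf_eq_basicOpen (t t' : Γ(N, ⊤)) {U : Y.Opens} (hU : U ≤ loc t') :
    loc t ⊓ U = Y.basicOpen (fres hU (coef t' t)) := by
  have hs : sec (homOfSection N t) U = fres hU (coef t' t) • resT U t' := by
    rw [sec_homOfSection, coef_res t' t hU]
    rfl
  apply le_antisymm
  · exact genLocus_inf_le_basicOpen (homOfSection N t) (resT U t') (isBasisOn_of_le_loc t' hU) _ hs
  · exact le_inf (basicOpen_le_genLocus (homOfSection N t) (resT U t') (isBasisOn_of_le_loc t' hU) _ hs)
      (Y.basicOpen_le _)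


/-- on a compact open `W` inside an affine open `U'` and containing `D(g)`, every function on `W`
becomes the restriction of a function on `U'` after multiplication by a power of `g`. -/
theorem exists_pow_mul_eq_fres {U' W : Y.Opens} (hU' : IsAffineOpen U') (hWU : W ≤ U')
    (hW : IsCompact (W : Set Y)) (g : Γ(Y, U')) (hg : Y.basicOpen g ≤ W) (b : Γ(Y, W)) :
    ∃ (n : ℕ) (β : Γ(Y, U')), fres hWU g ^ n * b = fres hWU β := by
  obtain ⟨E, β, hβ⟩ := exists_eq_pow_mul_of_isAffineOpen Y U' hU' g (fres hg b)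
  rw [restrict_eq_fres, restrict_eq_fres] at hβ
  have hbo1 : Y.basicOpen (fres hWU g) = W ⊓ Y.basicOpen g := basicOpen_fres _ _
  have hle1 : Y.basicOpen (fres hWU g) ≤ Y.basicOpen g := hbo1.le.trans inf_le_right
  have H1 : TopCat.Presheaf.restrictOpen (C := CommRingCat) (fres hWU g ^ E * b - fres hWU β)
      (Y.basicOpen (fres hWU g)) (Y.basicOpen_le _) = 0 := by
    have e1 : fres (Y.basicOpen_le (fres hWU g)) (fres hWU g) =
        fres hle1 (fres (Y.basicOpen_le g) g) :=
      (fres_fres _ _ _).trans (fres_fres _ _ _).symm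
    have e2 : fres (Y.basicOpen_le (fres hWU g)) (fres hWU β) =
        fres hle1 (fres (Y.basicOpen_le g) β) :=
      (fres_fres _ _ _).trans (fres_fres _ _ _).symm
    have e3 : fres (Y.basicOpen_le (fres hWU g)) b = fres hle1 (fres hg b) :=
      (fres_fres _ _ _).symm
    rw [restrict_eq_fres, map_sub, map_mul, map_pow, e1, e2, e3, hβ, map_mul, map_pow, sub_self]
  obtain ⟨E', hE'⟩ := exists_pow_mul_eq_zero_of_res_basicOpen_eq_zero_of_isCompact Y hW _ _ H1
  refine ⟨E' + E, g ^ E' * β, ?_⟩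
  rw [mul_sub, sub_eq_zero] at hE'
  rw [pow_add, mul_assoc, hE', map_mul, map_pow]

/-- **Generation by ratios**: on an affine open `U'` over which the sections `u' a` generate `N`,
the ring of functions on `U' ∩ X_u` is generated by the functions on `U'` and the ratios
`u' a / u`. -/
theorem closure_ratios_eq_top (u : Γ(N, ⊤)) {Λ : Type*} (u' : Λ → Γ(N, ⊤))
    {U' : Y.Opens} (hU' : IsAffineOpen U') (hcov : ∀ y ∈ U', ∃ a, y ∈ loc (u' a))
    (hW : IsCompact ((U' ⊓ loc u : Y.Opens) : Set Y)) :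
    Subring.closure (Set.range (fres (inf_le_left : U' ⊓ loc u ≤ U')) ∪
      Set.range (fun a => fres (inf_le_right : U' ⊓ loc u ≤ loc u) (coef u (u' a)))) = ⊤ := by
  set B' := Subring.closure (Set.range (fres (inf_le_left : U' ⊓ loc u ≤ U')) ∪
      Set.range (fun a => fres (inf_le_right : U' ⊓ loc u ≤ loc u) (coef u (u' a)))) with hB'
  have hρ : ∀ x : Γ(Y, U'), fres (inf_le_left : U' ⊓ loc u ≤ U') x ∈ B' :=
    fun x => Subring.subset_closure (Or.inl ⟨x, rfl⟩)
  have hc : ∀ a, fres (inf_le_right : U' ⊓ loc u ≤ loc u) (coef u (u' a)) ∈ B' :=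
    fun a => Subring.subset_closure (Or.inr ⟨a, rfl⟩)
  rw [eq_top_iff]
  intro b _
  have core : ∀ y ∈ U', ∃ h : Γ(Y, U'), y ∈ Y.basicOpen h ∧
      fres (inf_le_left : U' ⊓ loc u ≤ U') h * b ∈ B' := by
    intro y hy
    obtain ⟨a, hya⟩ := hcov y hy
    obtain ⟨h, hhle, hyh⟩ := hU'.exists_basicOpen_le (V := loc (u' a)) ⟨y, hya⟩ hy
    have hDU : Y.basicOpen h ≤ U' := Y.basicOpen_le h
    obtain ⟨e, α, hα⟩ := exists_eq_pow_mul_of_isAffineOpen Y U' hU' h
      (fres hhle (coef (u' a) u))
    rw [restrict_eq_fres, restrict_eq_fres] at hα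
    -- `X_u ∩ D(h) = D(h α)`
    have hloc : loc u ⊓ Y.basicOpen h = Y.basicOpen (h * α) := by
      rw [loc_inf_eq_basicOpen u (u' a) hhle]
      have h1 : Y.basicOpen (fres hDU α) = Y.basicOpen h ⊓ Y.basicOpen α := basicOpen_fres hDU α
      have hunit : IsUnit (fres hDU h) := RingedSpace.isUnit_res_basicOpen _ h
      rw [hα, Scheme.basicOpen_mul, Scheme.basicOpen_of_isUnit _ (hunit.pow e)] at h1
      rw [Scheme.basicOpen_mul, ← h1]
      exact (inf_eq_right.mpr (Y.basicOpen_le _)).symm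
    have hDW : Y.basicOpen (h * α) ≤ U' ⊓ loc u := by
      rw [← hloc]
      exact le_inf (inf_le_right.trans hDU) inf_le_left
    -- step 1
    set ρ := fres (inf_le_left : U' ⊓ loc u ≤ U') with hρdef
    obtain ⟨E'', β, K1⟩ := exists_pow_mul_eq_fres hU' inf_le_left hW (h * α) hDW b
    change ρ (h * α) ^ E'' * b = ρ β at K1
    -- step 2
    set c' := fres (inf_le_right : U' ⊓ loc u ≤ loc u) (coef u (u' a)) with hc'def
    have hbo2 : Y.basicOpen (ρ h) = (U' ⊓ loc u) ⊓ Y.basicOpen h := basicOpen_fres _ _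
    have hle2 : Y.basicOpen (ρ h) ≤ Y.basicOpen h := hbo2.le.trans inf_le_right
    have hle3 : Y.basicOpen (ρ h) ≤ loc u := (Y.basicOpen_le _).trans inf_le_right
    have H2 : TopCat.Presheaf.restrictOpen (C := CommRingCat) (ρ α * c' - ρ h ^ e)
        (Y.basicOpen (ρ h)) (Y.basicOpen_le _) = 0 := by
      have e1 : fres (Y.basicOpen_le (ρ h)) (ρ α) = fres hle2 (fres hDU α) :=
        (fres_fres _ _ _).trans (fres_fres _ _ _).symm
      have e2 : fres (Y.basicOpen_le (ρ h)) (ρ h) = fres hle2 (fres hDU h) :=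
        (fres_fres _ _ _).trans (fres_fres _ _ _).symm
      have e3 : fres (Y.basicOpen_le (ρ h)) c' = fres hle3 (coef u (u' a)) :=
        fres_fres _ _ _
      have e4 : fres hle2 (fres hhle (coef (u' a) u)) = fres (hle2.trans hhle) (coef (u' a) u) :=
        fres_fres _ _ _
      have e5 : fres (Y.basicOpen_le (ρ h)) (ρ α * c' - ρ h ^ e) =
          fres (Y.basicOpen_le (ρ h)) (ρ α) * fres (Y.basicOpen_le (ρ h)) c' -
            fres (Y.basicOpen_le (ρ h)) (ρ h) ^ e := by
        rw [map_sub, map_mul, map_pow]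
      rw [restrict_eq_fres, e5, e1, e2, e3, hα, map_mul, map_pow, e4, mul_assoc,
        mul_comm (fres (hle2.trans hhle) (coef (u' a) u)), coef_inv u (u' a) hle3 (hle2.trans hhle),
        mul_one, sub_self]
    obtain ⟨e', he'⟩ := exists_pow_mul_eq_zero_of_res_basicOpen_eq_zero_of_isCompact Y hW _ _ H2
    have K2 : ρ h ^ e' * (ρ α * c') = ρ h ^ (e' + e) := by
      have := he'
      rw [mul_sub, sub_eq_zero] at this
      rw [pow_add]
      exact this
    -- conclusion
    refine ⟨h ^ ((e' + e) * E'' + E'' + 1), ?_, ?_⟩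
    · rw [Y.basicOpen_pow h (Nat.succ_pos _)]
      exact hyh
    · have key : ρ (h ^ ((e' + e) * E'' + E'' + 1)) * b =
          ρ h * (ρ h ^ (e' * E'') * c' ^ E'' * ρ β) := by
        rw [← K1, map_pow, map_mul]
        calc ρ h ^ ((e' + e) * E'' + E'' + 1) * b
            = ρ h * ((ρ h ^ (e' + e)) ^ E'' * (ρ h ^ E'' * b)) := by ring
          _ = ρ h * ((ρ h ^ e' * (ρ α * c')) ^ E'' * (ρ h ^ E'' * b)) := by rw [K2]
          _ = _ := by ring
      rw [key]
      exact B'.mul_mem (hρ h) (B'.mul_mem (B'.mul_mem (B'.pow_mem (hρ h) _) (B'.pow_mem (hc a) _))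
        (hρ β))
  -- the ideal argument
  have hspan : Ideal.span {h : Γ(Y, U') | fres (inf_le_left : U' ⊓ loc u ≤ U') h * b ∈ B'} = ⊤ := by
    rw [← hU'.self_le_iSup_basicOpen_iff]
    intro y hy
    obtain ⟨h, hyh, hh⟩ := core y hy
    exact Opens.mem_iSup.mpr ⟨⟨h, hh⟩, hyh⟩
  have hall : ∀ x ∈ Ideal.span {h : Γ(Y, U') | fres (inf_le_left : U' ⊓ loc u ≤ U') h * b ∈ B'},
      fres (inf_le_left : U' ⊓ loc u ≤ U') x * b ∈ B' := by
    intro x hx
    induction hx using Submodule.span_induction with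
    | mem x hx => exact hx
    | zero => rw [map_zero, zero_mul]; exact B'.zero_mem
    | add x z _ _ hx hz => rw [map_add, add_mul]; exact B'.add_mem hx hz
    | smul r x _ hx => rw [smul_eq_mul, map_mul, mul_assoc]; exact B'.mul_mem (hρ r) hx
  have h1 := hall 1 (by rw [hspan]; trivial)
  rwa [map_one, one_mul] at h1

end Groth.Agent.Lib.Helper17.RatioGen
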