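import Groth.Agent.Lib.Helper17.VeryAmpleCrit
import Groth.Agent.Lib.Helper17.RatioGen

/-!
# Very ample data tensored with a globally generated invertible module (helper17)

* `isRelVeryAmplePn_of_fintype`: the criterion of `VeryAmpleCrit` for a family of sections indexed
  by an arbitrary finite type.
* `ts`, `loc_ts`, `coef_ts`: tensor products of global sections, their loci and ratios.
* `isRelVeryAmplePn_tensor`: if `A` has sections satisfying the criterion and `G` is an invertible
  module generated by finitely many global sections, then `A ⊗ G` is very ample relative to `f`.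
-/

set_option autoImplicit false
set_option linter.unusedSectionVars false
set_option linter.style.haveILetI false
universe u
open AlgebraicGeometry CategoryTheory Limits TopologicalSpace Opposite

namespace Groth.Agent.Lib.Helper17.VeryAmpleTensor
open Groth.Agent.Lib.Helper11 Groth.Agent.Lib.Helper11.GenLocus Groth.Agent.Lib.Helper45
  Groth.Agent.Lib.Helper49 Groth.Agent.Lib.Helper17.UPGen Groth.Agent.Lib.Helper17.UPCoef
  Groth.Agent.Lib.Helper17.VeryAmpleCrit Groth.Agent.Lib.Helper17.RatioGen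

section crit
variable {X S : Scheme.{u}} (f : X ⟶ S) (L : X.Modules)

/-- the criterion, with the chart sections named separately. -/
theorem isRelVeryAmplePn_of_sections_aux (n : ℕ) (w : Fin (n + 1) → Γ(L, ⊤))
    {κ : Type*} (j : κ → Fin (n + 1)) (c : κ → Γ(L, ⊤)) (hc : ∀ k, c k = w (j k))
    (hcov : ∀ x : X, ∃ k, x ∈ loc (c k))
    (V : κ → S.Opens) (hV : ∀ k, IsAffineOpen (V k))
    (hU : ∀ k, IsAffineOpen (loc (c k)))
    (hle : ∀ k, loc (c k) ≤ f ⁻¹ᵁ V k)
    (hgen : ∀ k, Subring.closure (Set.range (f.appLE (V k) (loc (c k)) (hle k)).hom ∪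
      Set.range (fun c' => coef (c k) (w c'))) = ⊤) :
    RelAmple.IsRelVeryAmplePn f L := by
  obtain rfl : c = fun k => w (j k) := funext hc
  exact isRelVeryAmplePn_of_sections f L n w j hcov V hV hU hle hgen

/-- the criterion for a finite family of sections indexed by an arbitrary finite type. -/
theorem isRelVeryAmplePn_of_fintype {ι : Type*} [Fintype ι] (w : ι → Γ(L, ⊤))
    {κ : Type*} (j : κ → ι) (hcov : ∀ x : X, ∃ k, x ∈ loc (w (j k)))
    (V : κ → S.Opens) (hV : ∀ k, IsAffineOpen (V k))
    (hU : ∀ k, IsAffineOpen (loc (w (j k))))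
    (hle : ∀ k, loc (w (j k)) ≤ f ⁻¹ᵁ V k)
    (hgen : ∀ k, Subring.closure (Set.range (f.appLE (V k) (loc (w (j k))) (hle k)).hom ∪
      Set.range (fun i => coef (w (j k)) (w i))) = ⊤) :
    RelAmple.IsRelVeryAmplePn f L := by
  classical
  obtain ⟨n, hn⟩ : ∃ n, Fintype.card (Option ι) = n + 1 :=
    ⟨Fintype.card ι, Fintype.card_option⟩
  let e : Fin (n + 1) ≃ Option ι := (Fintype.equivFinOfCardEq hn).symm
  let w' : Option ι → Γ(L, ⊤) := fun o => o.elim 0 w
  refine isRelVeryAmplePn_of_sections_aux f L n (w' ∘ e) (fun k => e.symm (some (j k)))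
    (fun k => w (j k)) (fun k => ?_) hcov V hV hU hle (fun k => ?_)
  · simp [w']
  · apply top_unique
    rw [← hgen k]
    apply Subring.closure_mono
    apply Set.union_subset_union_right
    rintro _ ⟨i, rfl⟩
    exact ⟨e.symm (some i), by simp [w']⟩

end crit


section tensor
variable {X : Scheme.{u}} {A G : X.Modules}

/-- the global section `sA ⊗ sG` of `A ⊗ G`. -/
noncomputable def ts (sA : Γ(A, ⊤)) (sG : Γ(G, ⊤)) : Γ(CohB1.tensorMod A G, ⊤) := tm A G ⊤ sA sG

theorem homOfSection_ts (sA : Γ(A, ⊤)) (sG : Γ(G, ⊤)) :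
    homOfSection (CohB1.tensorMod A G) (ts sA sG) =
      SecTwist.tmulHom (homOfSection A sA) (homOfSection G sG) := by
  apply hom_ext_of_sec_top
  rw [sec_homOfSection, sec_tmulHom, sec_homOfSection, sec_homOfSection]
  simp only [mres_self]
  rfl

theorem loc_ts (hA : PicF.IsInvertible A) (hG : PicF.IsInvertible G) (sA : Γ(A, ⊤)) (sG : Γ(G, ⊤)) :
    loc (ts sA sG) = loc sA ⊓ loc sG := by
  unfold UPCoef.loc
  rw [homOfSection_ts, genLocus_tmulHom X A G hA hG]

theorem resT_ts (W : X.Opens) (sA : Γ(A, ⊤)) (sG : Γ(G, ⊤)) :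
    resT W (ts sA sG) = tm A G W (resT W sA) (resT W sG) :=
  tm_res A G le_top sA sG

theorem coef_ts (sA sA' : Γ(A, ⊤)) (sG sG' : Γ(G, ⊤)) {W : X.Opens}
    (hW : W ≤ loc (ts sA sG)) (hWA : W ≤ loc sA) (hWG : W ≤ loc sG) :
    fres hW (coef (ts sA sG) (ts sA' sG')) = fres hWA (coef sA sA') * fres hWG (coef sG sG') := by
  apply (isBasisOn_of_le_loc (ts sA sG) hW).eq_of_smul_eq
  rw [coef_res _ _ hW, resT_ts, resT_ts, mul_smul, ← tm_smul_right, ← tm_smul_left,
    coef_res _ _ hWA, coef_res _ _ hWG]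

end tensor


theorem fres_self {X : Scheme.{u}} {W : X.Opens} (x : Γ(X, W)) : fres (le_refl W) x = x := by
  rw [fres_apply]
  have : (homOfLE (le_refl W)).op = 𝟙 (op W) := rfl
  rw [this, X.presheaf.map_id]
  rfl

theorem fres_appLE {X S : Scheme.{u}} (f : X ⟶ S) {V : S.Opens} {U W : X.Opens}
    (e : U ≤ f ⁻¹ᵁ V) (h : W ≤ U) (z : Γ(S, V)) :
    fres h ((f.appLE V U e).hom z) = (f.appLE V W (h.trans e)).hom z := by
  have := Scheme.Hom.appLE_map f e (homOfLE h).op
  exact congrArg (fun φ => φ.hom z) this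

/-- **very ample data ⊗ globally generated is very ample.** -/
theorem isRelVeryAmplePn_tensor {X S : Scheme.{u}} (f : X ⟶ S) {A G : X.Modules}
    (hA : PicF.IsInvertible A) (hG : PicF.IsInvertible G)
    {ι κ Λ : Type*} [Fintype ι] [Fintype Λ]
    (a : ι → Γ(A, ⊤)) (jA : κ → ι) (hcov : ∀ x : X, ∃ k, x ∈ loc (a (jA k)))
    (V : κ → S.Opens) (hV : ∀ k, IsAffineOpen (V k))
    (hU : ∀ k, IsAffineOpen (loc (a (jA k))))
    (hle : ∀ k, loc (a (jA k)) ≤ f ⁻¹ᵁ V k)
    (hgen : ∀ k, Subring.closure (Set.range (f.appLE (V k) (loc (a (jA k))) (hle k)).hom ∪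
      Set.range (fun i => coef (a (jA k)) (a i))) = ⊤)
    (g : Λ → Γ(G, ⊤)) (hg : ∀ x : X, ∃ l, x ∈ loc (g l)) :
    RelAmple.IsRelVeryAmplePn f (CohB1.tensorMod A G) := by
  have hAG : PicF.IsInvertible (CohB1.tensorMod A G) := isInvertible_tensorMod hA hG
  have hlocle : ∀ (k : κ) (l : Λ), loc (ts (a (jA k)) (g l)) ≤ loc (a (jA k)) := by
    intro k l
    rw [loc_ts hA hG]
    exact inf_le_left
  have hlocle' : ∀ (k : κ) (l : Λ), loc (ts (a (jA k)) (g l)) ≤ loc (g l) := by
    intro k l
    rw [loc_ts hA hG]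
    exact inf_le_right
  have haff : ∀ (k : κ) (l : Λ), IsAffineOpen (loc (ts (a (jA k)) (g l))) := fun k l =>
    isAffineOpen_genLocus_of_le hAG (homOfSection _ (ts (a (jA k)) (g l))) (hU k) (hlocle k l)
  refine isRelVeryAmplePn_of_fintype f _ (fun p : ι × Λ => ts (a p.1) (g p.2))
    (fun p : κ × Λ => (jA p.1, p.2)) ?_ (fun p => V p.1) (fun p => hV p.1)
    (fun p => haff p.1 p.2) (fun p => (hlocle p.1 p.2).trans (hle p.1)) ?_
  · intro x
    obtain ⟨k, hk⟩ := hcov x
    obtain ⟨l, hl⟩ := hg x
    refine ⟨(k, l), ?_⟩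
    change x ∈ loc (ts (a (jA k)) (g l))
    rw [loc_ts hA hG]
    exact ⟨hk, hl⟩
  · rintro ⟨k, l⟩
    change Subring.closure (Set.range (f.appLE (V k) (loc (ts (a (jA k)) (g l)))
        ((hlocle k l).trans (hle k))).hom ∪
      Set.range (fun p : ι × Λ => coef (ts (a (jA k)) (g l)) (ts (a p.1) (g p.2)))) = ⊤
    set W := loc (ts (a (jA k)) (g l)) with hWdef
    set B' := Subring.closure (Set.range (f.appLE (V k) W ((hlocle k l).trans (hle k))).hom ∪
      Set.range (fun p : ι × Λ => coef (ts (a (jA k)) (g l)) (ts (a p.1) (g p.2)))) with hB'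
    have hWW' : W ≤ loc (a (jA k)) ⊓ loc (g l) := (loc_ts hA hG _ _).le
    have hW'W : loc (a (jA k)) ⊓ loc (g l) ≤ W := (loc_ts hA hG _ _).ge
    -- functions on `U'` land in `B'`
    have h1 : ∀ x : Γ(X, loc (a (jA k))), fres (hlocle k l) x ∈ B' := by
      intro x
      have hx : x ∈ Subring.closure (Set.range (f.appLE (V k) (loc (a (jA k))) (hle k)).hom ∪
          Set.range (fun i => coef (a (jA k)) (a i))) := by rw [hgen k]; trivial
      induction hx using Subring.closure_induction with
      | mem x hx =>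
        rcases hx with ⟨z, rfl⟩ | ⟨i, rfl⟩
        · rw [fres_appLE]
          exact Subring.subset_closure (Or.inl ⟨z, rfl⟩)
        · refine Subring.subset_closure (Or.inr ⟨(i, l), ?_⟩)
          have := coef_ts (a (jA k)) (a i) (g l) (g l) le_rfl (hlocle k l) (hlocle' k l)
          rw [fres_self, coef_self, map_one, mul_one] at this
          exact this
      | zero => rw [map_zero]; exact B'.zero_mem
      | one => rw [map_one]; exact B'.one_mem
      | add x y _ _ hx hy => rw [map_add]; exact B'.add_mem hx hy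
      | neg x _ hx => rw [map_neg]; exact B'.neg_mem hx
      | mul x y _ _ hx hy => rw [map_mul]; exact B'.mul_mem hx hy
    have h2 : ∀ l', fres (hlocle' k l) (coef (g l) (g l')) ∈ B' := by
      intro l'
      refine Subring.subset_closure (Or.inr ⟨(jA k, l'), ?_⟩)
      have := coef_ts (a (jA k)) (a (jA k)) (g l) (g l') le_rfl (hlocle k l) (hlocle' k l)
      rw [fres_self, coef_self, map_one, one_mul] at this
      exact this
    have hA' := closure_ratios_eq_top (g l) g (hU k) (fun y _ => hg y)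
      (by
        have : ((loc (a (jA k)) ⊓ loc (g l) : X.Opens) : Set X) = (W : Set X) :=
          congrArg (fun O : X.Opens => (O : Set X)) (loc_ts hA hG _ _).symm
        rw [this]
        exact (haff k l).isCompact)
    apply top_unique
    intro b _
    have hb : fres hW'W b ∈ (⊤ : Subring Γ(X, loc (a (jA k)) ⊓ loc (g l))) := trivial
    rw [← hA'] at hb
    have key : ∀ y ∈ Subring.closure (Set.range (fres (inf_le_left :
          loc (a (jA k)) ⊓ loc (g l) ≤ loc (a (jA k)))) ∪
        Set.range (fun a' => fres (inf_le_right : loc (a (jA k)) ⊓ loc (g l) ≤ loc (g l))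
          (coef (g l) (g a')))), fres hWW' y ∈ B' := by
      intro y hy
      induction hy using Subring.closure_induction with
      | mem y hy =>
        rcases hy with ⟨x, rfl⟩ | ⟨l', rfl⟩
        · rw [fres_fres]; exact h1 x
        · dsimp only
          rw [fres_fres]; exact h2 l'
      | zero => rw [map_zero]; exact B'.zero_mem
      | one => rw [map_one]; exact B'.one_mem
      | add x y _ _ hx hy => rw [map_add]; exact B'.add_mem hx hy
      | neg x _ hx => rw [map_neg]; exact B'.neg_mem hx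
      | mul x y _ _ hx hy => rw [map_mul]; exact B'.mul_mem hx hy
    have := key _ hb
    rwa [fres_fres, fres_self] at this

end Groth.Agent.Lib.Helper17.VeryAmpleTensor
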