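import Groth.Agent.Lib.Helper17.UPExist2
import Groth.Agent.Lib.Helper17.UPUniq
import Groth.Agent.Lib.Helper17.VeryAmpleTensor
import Groth.Agent.Lib.Helper17.ProjQuot
import Groth.Agent.Lib.Helper11.PullbackTensor

/-!
# Pullback of the twisting sheaves along `Proj.map` (helper17)

For a graded ring homomorphism `φ : 𝒜 →+*ᵍ ℬ` (with `ℬ₊ ≤ 𝒜₊.map φ`), where `Proj 𝒜` is covered by
the `D₊(f)`, `f ∈ 𝒜₁`: `(Proj.map φ)^* O(d) ≅ O(d)` for all integers `d`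
(`nonempty_pullback_twist_iso`; `pullbackTwistNatIso` for `d ≥ 0`, by gluing).
`appLE_oFrac`: `Proj.map` on fractions.
-/

set_option autoImplicit false
set_option linter.unusedSectionVars false
universe u
open AlgebraicGeometry CategoryTheory Limits TopologicalSpace Opposite HomogeneousLocalization
open scoped HomogeneousIdeal

namespace Groth.Agent.Lib.Helper17.ProjMapTwist
open Groth.Agent.Lib.Helper11 Groth.Agent.Lib.Helper11.GenLocus Groth.Agent.Lib.Helper45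
  Groth.Agent.Lib.Helper49 Groth.Agent.Lib.Helper17.OFrac Groth.Agent.Lib.Helper17.TwistGen
  Groth.Agent.Lib.Helper17.TwistAmple Groth.Agent.Lib.Helper17.UPPull
  Groth.Agent.Lib.Helper17.UPGen Groth.Agent.Lib.Helper17.UPProj
  Groth.Agent.Lib.Helper17.UPCoef Groth.Agent.Lib.Helper17.VeryAmpleTensor

variable {R₁ A₁ : Type u} [CommRing R₁] [CommRing A₁] [Algebra R₁ A₁] (𝒜 : ℕ → Submodule R₁ A₁)
  [GradedAlgebra 𝒜]
  {R₂ A₂ : Type u} [CommRing R₂] [CommRing A₂] [Algebra R₂ A₂] (ℬ : ℕ → Submodule R₂ A₂)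
  [GradedAlgebra ℬ]
  (φ : 𝒜 →+*ᵍ ℬ) (hφ : ℬ₊ ≤ 𝒜₊.map φ)

/-- `Proj.map` on fractions `a / s ^ n` over the standard chart `D₊(s)`. -/
theorem appLE_oFrac {s : A₁} (hs : s ∈ 𝒜 1) (n : ℕ) (a : A₁) (ha : a ∈ 𝒜 n) :
    ((Proj.map φ hφ).appLE (Proj.basicOpen 𝒜 s) (Proj.basicOpen ℬ (φ s)) le_rfl).hom
      (oFrac 𝒜 (Proj.basicOpen 𝒜 s) n a (s ^ n)) =
      oFrac ℬ (Proj.basicOpen ℬ (φ s)) n (φ a) (φ s ^ n) := by
  have ha' : a ∈ 𝒜 (n • 1) := by simpa using ha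
  rw [← awayToSection_mk 𝒜 hs n a ha']
  have h := Proj.awayToSection_comp_appLE φ hφ hs
  have h2 := congrArg (fun ψ => ψ.hom (Away.mk 𝒜 hs n a ha')) h
  simp only [CommRingCat.hom_comp, RingHom.coe_comp, Function.comp_apply,
    CommRingCat.hom_ofHom] at h2
  refine h2.trans ?_
  rw [Away.map_mk]
  exact awayToSection_mk ℬ (φ.map_mem hs) n (φ a) _

/-- `Proj.map` on fractions `a / s ^ n` over opens inside the standard chart `D₊(φ s)`. -/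
theorem appLE_oFrac' {s : A₁} (hs : s ∈ 𝒜 1) (n : ℕ) (a : A₁) (ha : a ∈ 𝒜 n)
    (W : (Proj ℬ).Opens) (hW : W ≤ Proj.basicOpen ℬ (φ s)) :
    ((Proj.map φ hφ).appLE (Proj.basicOpen 𝒜 s) W hW).hom
      (oFrac 𝒜 (Proj.basicOpen 𝒜 s) n a (s ^ n)) = oFrac ℬ W n (φ a) (φ s ^ n) := by
  have h1 := fres_appLE (Proj.map φ hφ) (V := Proj.basicOpen 𝒜 s)
    (U := Proj.basicOpen ℬ (φ s)) (W := W) le_rfl hW (oFrac 𝒜 (Proj.basicOpen 𝒜 s) n a (s ^ n))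
  rw [← h1, appLE_oFrac 𝒜 ℬ φ hφ hs n a ha]
  have G : Good ℬ (Proj.basicOpen ℬ (φ s)) n (φ a) (φ s ^ n) :=
    good_of (φ.map_mem ha) (pow_mem_one (φ.map_mem hs) n) ((nv_basicOpen (φ s)).pow n)
  exact res_oFrac ℬ (homOfLE hW) G

theorem basicOpen_le_pow (s : A₂) (n : ℕ) : Proj.basicOpen ℬ s ≤ Proj.basicOpen ℬ (s ^ n) := by
  rcases Nat.eq_zero_or_pos n with rfl | hn
  · rw [pow_zero, Proj.basicOpen_one]; exact le_top
  · rw [Proj.basicOpen_pow ℬ s n hn]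

section cover
variable (hcov : (⨆ f : 𝒜 1, Proj.basicOpen 𝒜 (f : A₁)) = ⊤)

include hcov φ hφ in
theorem cover_target : (⨆ g : ℬ 1, Proj.basicOpen ℬ (g : A₂)) = ⊤ := by
  apply top_unique
  intro x _
  have hy : (Proj.map φ hφ) x ∈ (⨆ f : 𝒜 1, Proj.basicOpen 𝒜 (f : A₁)) := by rw [hcov]; trivial
  obtain ⟨f, hf⟩ := Opens.mem_iSup.mp hy
  exact Opens.mem_iSup.mpr ⟨⟨φ f, φ.map_mem f.2⟩, hf⟩

/-- the gluing data for `(Proj.map φ)^* O(n) ≅ O(n)`, `n ≥ 0`. -/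
noncomputable def glueData (n : ℕ) :
    UPGlue.GlueData ((Scheme.Modules.pullback (Proj.map φ hφ)).obj (Twist.twist 𝒜 (n : ℤ)))
      (Twist.twist ℬ (n : ℤ)) where
  I := 𝒜 1
  U := fun s => Proj.basicOpen ℬ (φ s)
  hcov := fun x => by
    have hy : (Proj.map φ hφ) x ∈ (⨆ f : 𝒜 1, Proj.basicOpen 𝒜 (f : A₁)) := by
      rw [hcov]; trivial
    obtain ⟨f, hf⟩ := Opens.mem_iSup.mp hy
    exact ⟨f, hf⟩
  e' := fun s => sec (pullHom (Proj.map φ hφ) (secHom 𝒜 (pow_mem_one s.2 n)))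
    (Proj.basicOpen ℬ (φ s))
  e := fun s => sec (secHom ℬ (pow_mem_one (φ.map_mem s.2) n)) (Proj.basicOpen ℬ (φ s))
  he' := fun s => by
    rw [← le_genLocus_iff_isBasisOn,
      genLocus_pullHom_secHom 𝒜 hcov (Proj.map φ hφ) (pow_mem_one s.2 n)]
    change Proj.basicOpen ℬ (φ s) ≤ Proj.basicOpen ℬ (φ ((s : A₁) ^ n))
    rw [map_pow]
    exact basicOpen_le_pow ℬ _ n
  he := fun s => by
    rw [← le_genLocus_iff_isBasisOn,
      TwistAmple.genLocus_secHom ℬ (cover_target 𝒜 ℬ φ hφ hcov) (pow_mem_one (φ.map_mem s.2) n)]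
    exact basicOpen_le_pow ℬ _ n
  c := fun s s' => oFrac ℬ (Proj.basicOpen ℬ (φ s) ⊓ Proj.basicOpen ℬ (φ s')) n
    (φ s' ^ n) (φ s ^ n)
  hc' := fun s s' => by
    have h1 := sec_secHom_eq_smul 𝒜 (pow_mem_one s'.2 n) (pow_mem_one s.2 n)
      (Proj.basicOpen 𝒜 (s : A₁)) ((nv_basicOpen (s : A₁)).pow n)
    have h2 := sec_pullHom_of_eq_smul (Proj.map φ hφ) _ _ _ _ h1
      (Proj.basicOpen ℬ (φ s) ⊓ Proj.basicOpen ℬ (φ s')) inf_le_left
    rw [sec_mres, sec_mres, h2]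
    congr 1
    have h3 := appLE_oFrac' 𝒜 ℬ φ hφ s.2 n ((s' : A₁) ^ n) (pow_mem_one s'.2 n)
      (Proj.basicOpen ℬ (φ s) ⊓ Proj.basicOpen ℬ (φ s')) inf_le_left
    rw [map_pow] at h3
    exact h3
  hc := fun s s' => by
    rw [sec_mres, sec_mres]
    exact sec_secHom_eq_smul ℬ (pow_mem_one (φ.map_mem s'.2) n) (pow_mem_one (φ.map_mem s.2) n) _
      ((nv_of_le_basicOpen inf_le_left).pow n)

/-- **`(Proj.map φ)^* O(n) ≅ O(n)`, `n ≥ 0`,** when the source ring has `Proj` covered by the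
`D₊(f)`, `f` of degree one. -/
noncomputable def pullbackTwistNatIso (n : ℕ) :
    (Scheme.Modules.pullback (Proj.map φ hφ)).obj (Twist.twist 𝒜 (n : ℤ)) ≅ Twist.twist ℬ (n : ℤ) :=
  (glueData 𝒜 ℬ φ hφ hcov n).iso

open Groth.Agent.Lib.Helper17.TwistLoc in
include hcov in
/-- **`(Proj.map φ)^* O(d) ≅ O(d)` for every integer `d`**. -/
theorem nonempty_pullback_twist_iso (d : ℤ) :
    Nonempty ((Scheme.Modules.pullback (Proj.map φ hφ)).obj (Twist.twist 𝒜 d) ≅ Twist.twist ℬ d) := by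
  obtain ⟨n, rfl | rfl⟩ := Int.eq_nat_or_neg d
  · exact ⟨pullbackTwistNatIso 𝒜 ℬ φ hφ hcov n⟩
  · have hcovB := cover_target 𝒜 ℬ φ hφ hcov
    have hlocA : ∀ k : ℤ, LocGen 𝒜 k := fun k => locGen_of_cover_one 𝒜 hcov k
    have hlocB : ∀ k : ℤ, LocGen ℬ k := fun k => locGen_of_cover_one ℬ hcovB k
    obtain ⟨e1⟩ := nonempty_tensor_iso_right 𝒜 (-(n : ℤ)) (n : ℤ) (hlocA _)
    rw [neg_add_cancel] at e1
    obtain ⟨z⟩ := TwistTensor.nonempty_twist_zero_iso 𝒜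
    have ε : CohB1.tensorMod ((Scheme.Modules.pullback (Proj.map φ hφ)).obj (Twist.twist 𝒜 (-(n : ℤ))))
        (Twist.twist ℬ (n : ℤ)) ≅ Coh.structureModule (Proj ℬ) :=
      TwistTensor.tensorModCongr (Iso.refl _) (pullbackTwistNatIso 𝒜 ℬ φ hφ hcov n).symm ≪≫
        (PullbackTensor.pullbackTensorIso (Proj.map φ hφ) _ _
          (isInvertible_twist 𝒜 _ (hlocA _)) (isInvertible_twist 𝒜 _ (hlocA _))).symm ≪≫
        (Scheme.Modules.pullback (Proj.map φ hφ)).mapIso (e1 ≪≫ z) ≪≫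
        CounitEpi.pullbackUnitIso (Proj.map φ hφ)
    exact ProjQuot.iso_twist_neg_of_inverse (hlocB _) _ ε

end cover

end Groth.Agent.Lib.Helper17.ProjMapTwist
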