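import Groth.Agent.Lib.Helper17.FamilyCrit
import Groth.Agent.Lib.Helper17.TwistLoc2
import Groth.Agent.Lib.Helper17.UPChart
import Groth.Agent.Lib.Helper17.ProjSpaceProper

/-!
# `O(n)` on `Proj B` is very ample for `B` generated in degrees `1, …, d ≤ n` (helper17)
-/

set_option autoImplicit false
set_option linter.unusedSectionVars false
universe u
open AlgebraicGeometry CategoryTheory Limits TopologicalSpace Opposite HomogeneousLocalization

namespace Groth.Agent.Lib.Helper17.ProjVeryAmple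
open Groth.Agent.Lib.Helper11 Groth.Agent.Lib.Helper11.GenLocus Groth.Agent.Lib.Helper45
  Groth.Agent.Lib.Helper49 Groth.Agent.Lib.Helper17.OFrac Groth.Agent.Lib.Helper17.TwistGen
  Groth.Agent.Lib.Helper17.TwistAmple Groth.Agent.Lib.Helper17.UPGen
  Groth.Agent.Lib.Helper17.UPProj Groth.Agent.Lib.Helper17.UPCoef
  Groth.Agent.Lib.Helper17.ProjGlobal Groth.Agent.Lib.Helper17.UPChart
  Groth.Agent.Lib.Helper17.VeryAmpleTensor Groth.Agent.Lib.Helper17.FamilyCrit

variable {R A : Type u} [CommRing R] [CommRing A] [Algebra R A] (𝒜 : ℕ → Submodule R A)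
  [GradedAlgebra 𝒜]

/-- if `A` is generated over `R` by homogeneous elements of positive degree, `R ⟶ 𝒜 0` is
surjective. -/
theorem algebraMap_zero_surjective (d : ℕ)
    (hgen : Algebra.adjoin R (⋃ i ∈ Finset.Icc 1 d, (𝒜 i : Set A)) = ⊤) :
    Function.Surjective (algebraMap R (𝒜 0)) := by
  have key : ∀ a : A, GradedRing.projZeroRingHom 𝒜 a ∈ (algebraMap R A).range := by
    intro a
    have ha : a ∈ Algebra.adjoin R (⋃ i ∈ Finset.Icc 1 d, (𝒜 i : Set A)) := by
      rw [hgen]; trivial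
    induction ha using Algebra.adjoin_induction with
    | mem x hx =>
      simp only [Set.mem_iUnion, Finset.mem_Icc] at hx
      obtain ⟨i, ⟨hi1, -⟩, hxi⟩ := hx
      have : GradedRing.projZeroRingHom 𝒜 x = 0 := by
        rw [GradedRing.projZeroRingHom_apply]
        exact DirectSum.decompose_of_mem_ne 𝒜 hxi (by omega)
      rw [this]
      exact Subring.zero_mem _
    | algebraMap r =>
      refine ⟨r, ?_⟩
      rw [GradedRing.projZeroRingHom_apply]
      exact (DirectSum.decompose_of_mem_same 𝒜 (SetLike.algebraMap_mem_graded 𝒜 r)).symm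
    | add x y _ _ hx hy => rw [map_add]; exact Subring.add_mem _ hx hy
    | mul x y _ _ hx hy => rw [map_mul]; exact Subring.mul_mem _ hx hy
  intro a
  obtain ⟨r, hr⟩ := key (a : A)
  refine ⟨r, Subtype.ext ?_⟩
  rw [GradedRing.projZeroRingHom_apply, DirectSum.decompose_of_mem_same 𝒜 a.2] at hr
  exact hr

/-- the structure morphism `Proj 𝒜 ⟶ Spec R` is proper. -/
theorem isProper_strMap [Algebra.FiniteType R A] (d : ℕ)
    (hgen : Algebra.adjoin R (⋃ i ∈ Finset.Icc 1 d, (𝒜 i : Set A)) = ⊤) :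
    IsProper (strMap 𝒜) := by
  have : IsScalarTower R (𝒜 0) A := ⟨fun r a x => smul_mul_assoc r (a : A) x⟩
  have : Algebra.FiniteType (𝒜 0) A := Algebra.FiniteType.of_restrictScalars_finiteType R (𝒜 0) A
  have h1 : IsProper (Proj.toSpecZero 𝒜) := inferInstance
  have h2 : IsClosedImmersion (Spec.map (CommRingCat.ofHom (algebraMap R ↥(𝒜 0)))) :=
    IsClosedImmersion.spec_of_surjective _ (algebraMap_zero_surjective 𝒜 d hgen)
  have h3 : IsProper (Spec.map (CommRingCat.ofHom (algebraMap R ↥(𝒜 0)))) := inferInstance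
  exact MorphismProperty.comp_mem _ _ _ h1 h3

theorem dehom_algebraMap_eq {g : A} (hg : g ∈ 𝒜 1) (r : R) :
    UPChart.dehom 𝒜 hg (algebraMap R A r) =
      ((strMap 𝒜).appLE ⊤ (Proj.basicOpen 𝒜 g) le_top).hom
        ((Scheme.ΓSpecIso (CommRingCat.of R)).inv.hom r) := by
  rw [dehom_of_mem 𝒜 hg (SetLike.algebraMap_mem_graded 𝒜 r), pow_zero]
  have h1 := toGlobal_apply 𝒜 r
  have h2 := res_oFrac 𝒜 (homOfLE (le_top : Proj.basicOpen 𝒜 g ≤ ⊤))
    (good_zero 𝒜 (algebraMap R (𝒜 0) r))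
  have h2' : oFrac 𝒜 (Proj.basicOpen 𝒜 g) 0 (algebraMap R A r) 1 =
      (Proj 𝒜).presheaf.map (homOfLE (le_top : Proj.basicOpen 𝒜 g ≤ ⊤)).op
        (oFrac 𝒜 ⊤ 0 (algebraMap R A r) 1) := h2.symm
  rw [h2', ← h1]
  rfl

/-- the coordinate ring of `D₊(g)`, `g` of degree one, is generated over `R` by the fractions
`b / g ^ n`, `b ∈ 𝒜 n`, when `A` is generated in degrees `≤ n`. -/
theorem closure_eq_top_basicOpen (d n : ℕ) (hdn : d ≤ n)
    (hgen : Algebra.adjoin R (⋃ i ∈ Finset.Icc 1 d, (𝒜 i : Set A)) = ⊤) {g : A} (hg : g ∈ 𝒜 1) :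
    Subring.closure
      (Set.range ((strMap 𝒜).appLE ⊤ (Proj.basicOpen 𝒜 g) le_top).hom ∪
        Set.range (fun b : 𝒜 n => oFrac 𝒜 (Proj.basicOpen 𝒜 g) n (b : A) (g ^ n))) = ⊤ := by
  apply top_unique
  intro z _
  obtain ⟨a, rfl⟩ := UPChart.dehom_surjective 𝒜 hg z
  clear ‹_ ∈ (⊤ : Subring _)›
  have ha : a ∈ Algebra.adjoin R (⋃ i ∈ Finset.Icc 1 d, (𝒜 i : Set A)) := by
    rw [hgen]; trivial
  induction ha using Algebra.adjoin_induction with
  | mem x hx =>
    simp only [Set.mem_iUnion, Finset.mem_Icc] at hx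
    obtain ⟨i, ⟨-, hid⟩, hxi⟩ := hx
    have hin : i ≤ n := hid.trans hdn
    have hxg : x * g ^ (n - i) ∈ 𝒜 n := by
      have := SetLike.mul_mem_graded hxi (pow_mem_one hg (n - i))
      rwa [Nat.add_sub_cancel' hin] at this
    refine Subring.subset_closure (Or.inr ⟨⟨x * g ^ (n - i), hxg⟩, ?_⟩)
    rw [dehom_of_mem 𝒜 hg hxi]
    refine oFrac_eq 𝒜 (good_chart 𝒜 hg hxg) (good_chart 𝒜 hg hxi) ?_
    rw [mul_assoc, ← pow_add, Nat.sub_add_cancel hin]
  | algebraMap r =>
    rw [dehom_algebraMap_eq]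
    exact Subring.subset_closure (Or.inl ⟨_, rfl⟩)
  | add x y _ _ hx hy => rw [map_add]; exact Subring.add_mem _ hx hy
  | mul x y _ _ hx hy => rw [map_mul]; exact Subring.mul_mem _ hx hy

/-- **`O(n)` on `Proj 𝒜` is very ample, by a closed immersion into a projective space over `R`**,
when `𝒜` is of finite type, generated in degrees `1, …, d ≤ n`, and `Proj 𝒜` is covered by the
`D₊(g)`, `g` of degree one. -/
theorem exists_closedImmersion_twist [Algebra.FiniteType R A] (d : ℕ)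
    (hgen : Algebra.adjoin R (⋃ i ∈ Finset.Icc 1 d, (𝒜 i : Set A)) = ⊤)
    (hcov : (⨆ g : 𝒜 1, Proj.basicOpen 𝒜 (g : A)) = ⊤) (n : ℕ) (hn : d ≤ n) (hn1 : 0 < n) :
    ∃ (N : ℕ) (i : Proj 𝒜 ⟶ CohB1.ProjSpaceOver N (Spec (CommRingCat.of R))),
      IsClosedImmersion i ∧
      i ≫ pullback.snd (CohB1.ProjSpace.toSpec N (ULift.{u} ℤ))
          (specULiftZIsTerminal.from (Spec (CommRingCat.of R))) = strMap 𝒜 ∧
      Nonempty (Twist.twist 𝒜 (n : ℤ) ≅
        (Scheme.Modules.pullback i).obj (Twist.twistOver N (Spec (CommRingCat.of R)) 1)) := by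
  classical
  have hprop := isProper_strMap 𝒜 d hgen
  have hloc : TwistLoc.LocGen 𝒜 (n : ℤ) := TwistLoc.locGen_of_cover_one 𝒜 hcov n
  set L := Twist.twist 𝒜 (n : ℤ) with hL
  let w : 𝒜 n → Γ(L, ⊤) := fun b => sec (secHom 𝒜 b.2) ⊤
  have hhom : ∀ b : 𝒜 n, homOfSection L (w b) = secHom 𝒜 b.2 := fun b => homOfSection_sec_top _
  have hlocw : ∀ b : 𝒜 n, loc (w b) = Proj.basicOpen 𝒜 (b : A) := fun b => by
    unfold UPCoef.loc
    rw [hhom, TwistLoc.genLocus_secHom 𝒜 hloc b.2]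
  have hcoef : ∀ b b' : 𝒜 n, coef (w b) (w b') = oFrac 𝒜 (loc (w b)) n (b' : A) (b : A) := by
    intro b b'
    symm
    apply coef_unique
    have hNV : NV 𝒜 (loc (w b)) (b : A) := by
      rw [hlocw]
      exact nv_basicOpen _
    have h := sec_secHom_eq_smul 𝒜 b'.2 b.2 (loc (w b)) hNV
    change oFrac 𝒜 (loc (w b)) n (b' : A) (b : A) • mres L le_top (sec (secHom 𝒜 b.2) ⊤) =
      mres L le_top (sec (secHom 𝒜 b'.2) ⊤)
    rw [sec_mres, sec_mres]
    exact h.symm
  let j : 𝒜 1 → 𝒜 n := fun g => ⟨(g : A) ^ n, pow_mem_one g.2 n⟩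
  have hlocj : ∀ g : 𝒜 1, loc (w (j g)) = Proj.basicOpen 𝒜 (g : A) := fun g => by
    rw [hlocw]
    exact Proj.basicOpen_pow 𝒜 _ n hn1
  have hcompact : CompactSpace (Proj 𝒜) :=
    (HasAffineProperty.iff_of_isAffine (P := @QuasiCompact) (f := strMap 𝒜)).mp inferInstance
  have hva : RelAmple.IsRelVeryAmplePn (strMap 𝒜) L := by
    refine isRelVeryAmplePn_of_family (strMap 𝒜) L w j ?_ (fun _ => ⊤)
      (fun _ => isAffineOpen_top _) ?_ (fun _ => le_top) ?_
    · intro x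
      have hx : x ∈ (⨆ g : 𝒜 1, Proj.basicOpen 𝒜 (g : A)) := by rw [hcov]; trivial
      obtain ⟨g, hg⟩ := Opens.mem_iSup.mp hx
      exact ⟨g, by rw [hlocj]; exact hg⟩
    · intro g
      rw [hlocj]
      exact Proj.isAffineOpen_basicOpen 𝒜 _ g.2 one_pos
    · intro g
      have hfun : (fun i => coef (w (j g)) (w i)) =
          fun i : 𝒜 n => oFrac 𝒜 (loc (w (j g))) n (i : A) ((g : A) ^ n) :=
        funext fun i => hcoef (j g) i
      rw [hfun]
      have key : ∀ (U : (Proj 𝒜).Opens) (_ : U = Proj.basicOpen 𝒜 (g : A)),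
          Subring.closure (Set.range ((strMap 𝒜).appLE ⊤ U le_top).hom ∪
            Set.range (fun i : 𝒜 n => oFrac 𝒜 U n (i : A) ((g : A) ^ n))) = ⊤ := by
        rintro U rfl
        exact closure_eq_top_basicOpen 𝒜 d n hn hgen g.2
      exact key _ (hlocj g)
  obtain ⟨N, i₀, hi, hif, hiso⟩ := hva
  obtain ⟨i, hii⟩ : ∃ i : Proj 𝒜 ⟶ pullback (CohB1.ProjSpace.toSpec N (ULift.{u} ℤ))
      (specULiftZIsTerminal.from (Spec (CommRingCat.of R))), i = i₀ := ⟨_, rfl⟩
  subst hii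
  refine ⟨N, i, ?_, hif, hiso⟩
  have hpN : IsProper (pullback.snd (CohB1.ProjSpace.toSpec N (ULift.{u} ℤ))
      (specULiftZIsTerminal.from (Spec (CommRingCat.of R)))) :=
    ProjSpaceProper.isProper_toBase N _
  have huc : UniversallyClosed (i ≫ pullback.snd (CohB1.ProjSpace.toSpec N (ULift.{u} ℤ))
      (specULiftZIsTerminal.from (Spec (CommRingCat.of R)))) := by
    have h : i ≫ pullback.snd (CohB1.ProjSpace.toSpec N (ULift.{u} ℤ))
        (specULiftZIsTerminal.from (Spec (CommRingCat.of R))) = strMap 𝒜 := hif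
    rw [h]
    infer_instance
  have : UniversallyClosed i := UniversallyClosed.of_comp_of_isSeparated i
    (pullback.snd (CohB1.ProjSpace.toSpec N (ULift.{u} ℤ))
      (specULiftZIsTerminal.from (Spec (CommRingCat.of R))))
  have hi' : IsImmersion i := hi
  have : IsPreimmersion i := inferInstance
  exact IsClosedImmersion.of_isPreimmersion i i.isClosedMap.isClosed_range

end Groth.Agent.Lib.Helper17.ProjVeryAmple
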