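import Groth.Agent.Lib.Helper17.ProjVeryAmple
import Groth.Agent.Lib.Helper17.GrQCoh
import Groth.Agent.Lib.Helper17.LcmMonomials

/-!
# `O(a * lcm)` on `Proj` of a finitely generated graded algebra is very ample (helper17)

For `𝒜` generated over `R` by `s` homogeneous elements `f_i` of positive degrees `d_i`,
`l = lcm d_i`, `a ≥ max 1 (s - 1)`: a closed immersion `Proj 𝒜 ⟶ P^N_R` with `i^*O(1) ≅ O(a l)`.
-/

set_option autoImplicit false
set_option linter.unusedSectionVars false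
universe u
open AlgebraicGeometry CategoryTheory Limits TopologicalSpace Opposite HomogeneousLocalization

namespace Groth.Agent.Lib.Helper17.ProjVeryAmpleLcm
open Groth.Agent.Lib.Helper11 Groth.Agent.Lib.Helper11.GenLocus Groth.Agent.Lib.Helper45
  Groth.Agent.Lib.Helper49 Groth.Agent.Lib.Helper17.OFrac Groth.Agent.Lib.Helper17.TwistGen
  Groth.Agent.Lib.Helper17.TwistAmple Groth.Agent.Lib.Helper17.UPGen
  Groth.Agent.Lib.Helper17.UPProj Groth.Agent.Lib.Helper17.UPCoef
  Groth.Agent.Lib.Helper17.ProjGlobal Groth.Agent.Lib.Helper17.UPChart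
  Groth.Agent.Lib.Helper17.VeryAmpleTensor Groth.Agent.Lib.Helper17.FamilyCrit
  Groth.Agent.Lib.Helper17.LcmMonomials

variable {R A : Type u} [CommRing R] [CommRing A] [Algebra R A] (𝒜 : ℕ → Submodule R A)
  [GradedAlgebra 𝒜] {s : ℕ} (f : Fin s → A) (deg : Fin s → ℕ)

/-- the monomial `∏ f_j ^ e_j`. -/
def mon (e : Fin s → ℕ) : A := ∏ j, f j ^ e j

theorem mon_add (e e' : Fin s → ℕ) : mon f (e + e') = mon f e * mon f e' := by
  unfold mon
  rw [← Finset.prod_mul_distrib]
  exact Finset.prod_congr rfl fun j _ => by rw [Pi.add_apply, pow_add]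

theorem mon_zero : mon f (0 : Fin s → ℕ) = 1 := by
  unfold mon
  exact Finset.prod_eq_one fun j _ => by rw [Pi.zero_apply, pow_zero]

variable {f deg}

theorem mon_mem (hf : ∀ i, f i ∈ 𝒜 (deg i)) (e : Fin s → ℕ) : mon f e ∈ 𝒜 (wdeg deg e) := by
  have := SetLike.prod_pow_mem_graded 𝒜 deg f e (F := Finset.univ) (fun j _ => hf j)
  simpa only [smul_eq_mul, mon, wdeg] using this

/-- homogeneous elements are combinations of monomials of the same degree. -/
theorem mem_span_mon (hf : ∀ i, f i ∈ 𝒜 (deg i)) (hgen : Algebra.adjoin R (Set.range f) = ⊤)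
    (N : ℕ) (x : A) (hx : x ∈ 𝒜 N) :
    x ∈ Submodule.span R {y | ∃ e : Fin s → ℕ, wdeg deg e = N ∧ y = mon f e} := by
  classical
  have hx' : x ∈ Subalgebra.toSubmodule (Algebra.adjoin R (Set.range f)) := by
    rw [hgen]; trivial
  rw [Algebra.adjoin_eq_span] at hx'
  have key : ∀ y ∈ Submodule.span R (Submonoid.closure (Set.range f) : Set A),
      GradedAlgebra.proj 𝒜 N y ∈
        Submodule.span R {y | ∃ e : Fin s → ℕ, wdeg deg e = N ∧ y = mon f e} := by
    intro y hy
    induction hy using Submodule.span_induction with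
    | mem y hy =>
      obtain ⟨e, rfl⟩ := (Submonoid.mem_closure_range_iff_of_fintype).mp hy
      rw [GradedAlgebra.proj_apply]
      change ((DirectSum.decompose 𝒜 (mon f e)) N : A) ∈ _
      by_cases he : wdeg deg e = N
      · rw [DirectSum.decompose_of_mem_same 𝒜 (he ▸ mon_mem 𝒜 hf e)]
        exact Submodule.subset_span ⟨e, he, rfl⟩
      · rw [DirectSum.decompose_of_mem_ne 𝒜 (mon_mem 𝒜 hf e) he]
        exact Submodule.zero_mem _
    | zero => rw [map_zero]; exact Submodule.zero_mem _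
    | add y z _ _ hy hz => rw [map_add]; exact Submodule.add_mem _ hy hz
    | smul r y _ hy => rw [map_smul]; exact Submodule.smul_mem _ r hy
  have := key x hx'
  rwa [GradedAlgebra.proj_apply, DirectSum.decompose_of_mem_same 𝒜 hx] at this

section closure
variable (hdeg : ∀ i, 0 < deg i) (hf : ∀ i, f i ∈ 𝒜 (deg i))
  (hgen : Algebra.adjoin R (Set.range f) = ⊤)

/-- constants on a chart come from the base. -/
theorem oFrac_algebraMap_eq (U : (Proj 𝒜).Opens) (r : R) :
    oFrac 𝒜 U 0 (algebraMap R A r) 1 =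
      ((strMap 𝒜).appLE ⊤ U le_top).hom ((Scheme.ΓSpecIso (CommRingCat.of R)).inv.hom r) := by
  have h1 := toGlobal_apply 𝒜 r
  have h2 := res_oFrac 𝒜 (homOfLE (le_top : U ≤ ⊤)) (good_zero 𝒜 (algebraMap R (𝒜 0) r))
  have h2' : oFrac 𝒜 U 0 (algebraMap R A r) 1 =
      (Proj 𝒜).presheaf.map (homOfLE (le_top : U ≤ ⊤)).op (oFrac 𝒜 ⊤ 0 (algebraMap R A r) 1) :=
    h2.symm
  rw [h2', ← h1]
  rfl

theorem oFrac_zero_num {V : (Proj 𝒜).Opens} {d : ℕ} {b : A} (h : Good 𝒜 V d 0 b) :
    oFrac 𝒜 V d 0 b = 0 := by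
  have h1 := oFrac_add 𝒜 h h
  rw [add_zero] at h1
  exact add_eq_left.mp h1

include hdeg hf hgen in
/-- the coordinate ring of `D₊(f_i)` is generated over `R` by the fractions `c / f_i^(n / d_i)`,
`c ∈ 𝒜 n`, for `n = a * lcm` with `a ≥ 1`, `a ≥ s - 1`. -/
theorem closure_eq_top_chart (a : ℕ) (ha : 0 < a) (has : s - 1 ≤ a) (i : Fin s) :
    Subring.closure
      (Set.range ((strMap 𝒜).appLE ⊤ (Proj.basicOpen 𝒜 (f i)) le_top).hom ∪
        Set.range (fun c : 𝒜 (a * Finset.univ.lcm deg) =>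
          oFrac 𝒜 (Proj.basicOpen 𝒜 (f i)) (a * Finset.univ.lcm deg) (c : A)
            (f i ^ (a * Finset.univ.lcm deg / deg i)))) = ⊤ := by
  classical
  set l := Finset.univ.lcm deg with hl
  set n := a * l with hn
  set U := Proj.basicOpen 𝒜 (f i) with hU
  set b := f i ^ (n / deg i) with hb
  set G := Subring.closure
      (Set.range ((strMap 𝒜).appLE ⊤ U le_top).hom ∪
        Set.range (fun c : 𝒜 n => oFrac 𝒜 U n (c : A) b)) with hG
  have hdvd : deg i ∣ n := Dvd.dvd.mul_left (Finset.dvd_lcm (Finset.mem_univ i)) a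
  have hbn : b ∈ 𝒜 n := by
    have := SetLike.pow_mem_graded (n / deg i) (hf i)
    rwa [smul_eq_mul, Nat.div_mul_cancel hdvd] at this
  have hNVf : NV 𝒜 U (f i) := nv_basicOpen (f i)
  have hNVb : NV 𝒜 U b := hNVf.pow _
  have hbk : ∀ k : ℕ, b ^ k ∈ 𝒜 (k * n) := fun k => by
    have := SetLike.pow_mem_graded k hbn
    rwa [smul_eq_mul] at this
  -- constants
  have hR : ∀ r : R, oFrac 𝒜 U 0 (algebraMap R A r) 1 ∈ G := fun r => by
    rw [oFrac_algebraMap_eq]
    exact Subring.subset_closure (Or.inl ⟨_, rfl⟩)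
  -- generators
  have hgenr : ∀ c : A, c ∈ 𝒜 n → oFrac 𝒜 U n c b ∈ G := fun c hc =>
    Subring.subset_closure (Or.inr ⟨⟨c, hc⟩, rfl⟩)
  -- monomials
  have hmon : ∀ k : ℕ, ∀ e : Fin s → ℕ, wdeg deg e = k * n →
      oFrac 𝒜 U (k * n) (mon f e) (b ^ k) ∈ G := by
    intro k
    induction k with
    | zero =>
      intro e he
      rw [zero_mul] at he
      rw [eq_zero_of_wdeg_eq_zero hdeg e he, mon_zero, pow_zero]
      have h1 : (1 : A) ∈ 𝒜 (0 * n) := by rw [zero_mul]; exact SetLike.GradedOne.one_mem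
      have hnv1 : NV 𝒜 U (1 : A) := by
        have := hNVb.pow 0
        rwa [pow_zero] at this
      rw [oFrac_self 𝒜 (good_of h1 h1 hnv1)]
      exact Subring.one_mem _
    | succ k ih =>
      intro e he
      rcases Nat.eq_zero_or_pos k with rfl | hk
      · rw [zero_add, one_mul] at he
        have hm := mon_mem 𝒜 hf e
        rw [he] at hm
        have h1 : oFrac 𝒜 U ((0 + 1) * n) (mon f e) (b ^ (0 + 1)) = oFrac 𝒜 U n (mon f e) b := by
          refine oFrac_eq 𝒜 (good_of ?_ (hbk _) (hNVb.pow _)) (good_of hm hbn hNVb) ?_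
          · rw [zero_add, one_mul]; exact hm
          · rw [zero_add, pow_one]
        rw [h1]
        exact hgenr _ hm
      · have hmk : s ≤ k * a + 1 := by
          have : a ≤ k * a := Nat.le_mul_of_pos_left a hk
          omega
        have he' : wdeg deg e = (k * a + a) * l := by
          rw [he, hn]; ring
        obtain ⟨e', e'', hsplit, h1, h2⟩ := exists_split hdeg a (k * a) hmk e he'
        have h1' : wdeg deg e' = n := h1
        have h2' : wdeg deg e'' = k * n := by rw [h2, hn]; ring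
        have hm' := mon_mem 𝒜 hf e'
        rw [h1'] at hm'
        have hm'' := mon_mem 𝒜 hf e''
        rw [h2'] at hm''
        have G1 : Good 𝒜 U n (mon f e') b := good_of hm' hbn hNVb
        have G2 : Good 𝒜 U (k * n) (mon f e'') (b ^ k) := good_of hm'' (hbk k) (hNVb.pow k)
        have hprod := oFrac_mul 𝒜 G1 G2
        have hm := mon_mem 𝒜 hf e
        rw [he] at hm
        have h3 : oFrac 𝒜 U ((k + 1) * n) (mon f e) (b ^ (k + 1)) =
            oFrac 𝒜 U (n + k * n) (mon f e' * mon f e'') (b * b ^ k) := by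
          refine oFrac_eq 𝒜 (good_of hm (hbk _) (hNVb.pow _)) (G1.mul G2) ?_
          rw [hsplit, mon_add, pow_succ']
        rw [h3, ← hprod]
        exact Subring.mul_mem _ (hgenr _ hm') (ih e'' h2')
  -- homogeneous elements
  have hhom : ∀ k : ℕ, ∀ x : A, x ∈ 𝒜 (k * n) → oFrac 𝒜 U (k * n) x (b ^ k) ∈ G := by
    intro k x hx
    have hspan := mem_span_mon 𝒜 hf hgen (k * n) x hx
    have hle : Submodule.span R {y | ∃ e : Fin s → ℕ, wdeg deg e = k * n ∧ y = mon f e} ≤
        𝒜 (k * n) := by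
      rw [Submodule.span_le]
      rintro _ ⟨e, he, rfl⟩
      exact he ▸ mon_mem 𝒜 hf e
    induction hspan using Submodule.span_induction with
    | mem y hy =>
      obtain ⟨e, he, rfl⟩ := hy
      exact hmon k e he
    | zero =>
      rw [oFrac_zero_num 𝒜 (good_of (Submodule.zero_mem _) (hbk k) (hNVb.pow k))]
      exact Subring.zero_mem _
    | add y z hy hz ihy ihz =>
      have Gy := good_of (hle hy) (hbk k) (hNVb.pow k)
      have Gz := good_of (hle hz) (hbk k) (hNVb.pow k)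
      rw [← oFrac_add 𝒜 Gy Gz]
      exact Subring.add_mem _ (ihy (hle hy)) (ihz (hle hz))
    | smul r y hy ihy =>
      have Gy := good_of (hle hy) (hbk k) (hNVb.pow k)
      have hnv1 : NV 𝒜 U (1 : A) := by
        have := hNVb.pow 0
        rwa [pow_zero] at this
      have Gr : Good 𝒜 U 0 (algebraMap R A r) 1 :=
        good_of (SetLike.algebraMap_mem_graded 𝒜 r) SetLike.GradedOne.one_mem hnv1
      have h3 : oFrac 𝒜 U (k * n) (r • y) (b ^ k) =
          oFrac 𝒜 U (0 + k * n) (algebraMap R A r * y) (1 * b ^ k) := by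
        refine oFrac_eq 𝒜 (good_of (Submodule.smul_mem _ r (hle hy)) (hbk k) (hNVb.pow k))
          (Gr.mul Gy) ?_
        rw [Algebra.smul_def, one_mul]
      rw [h3, ← oFrac_mul 𝒜 Gr Gy]
      exact Subring.mul_mem _ (hR r) (ihy (hle hy))
  -- all sections
  apply top_unique
  intro z _
  obtain ⟨w, rfl⟩ := GrQCoh.awayToSection_surjective 𝒜 (hdeg i) (hf i) z
  obtain ⟨k, x, hx, rfl⟩ := Away.mk_surjective 𝒜 (hf i) w
  have hx' : x ∈ 𝒜 (k * deg i) := by rwa [smul_eq_mul] at hx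
  -- rewrite as a fraction with denominator `b ^ k`
  have hq : 1 ≤ n / deg i := by
    have hnpos : 0 < n := by
      rw [hn]
      refine Nat.mul_pos ha (Nat.pos_of_ne_zero ?_)
      rw [hl]
      intro h0
      rw [Finset.lcm_eq_zero_iff] at h0
      obtain ⟨j, -, hj⟩ := h0
      exact (hdeg j).ne' hj
    exact Nat.div_pos (Nat.le_of_dvd hnpos hdvd) (hdeg i)
  set t := k * (n / deg i) - k with ht
  have htk : k + t = k * (n / deg i) := by
    have : k ≤ k * (n / deg i) := Nat.le_mul_of_pos_right k hq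
    omega
  have hxt : x * f i ^ t ∈ 𝒜 (k * n) := by
    have h1 := SetLike.mul_mem_graded hx' (SetLike.pow_mem_graded t (hf i))
    have h2 : k * deg i + t • deg i = k * n := by
      rw [smul_eq_mul, ← add_mul, htk, mul_assoc, Nat.div_mul_cancel hdvd]
    rwa [h2] at h1
  have hfk : f i ^ k ∈ 𝒜 (k * deg i) := by
    have := SetLike.pow_mem_graded k (hf i)
    rwa [smul_eq_mul] at this
  have hz : (Proj.awayToSection 𝒜 (f i)).hom (Away.mk 𝒜 (hf i) k x hx) =
      oFrac 𝒜 U (k * n) (x * f i ^ t) (b ^ k) := by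
    have G1 : Good 𝒜 U (k * deg i) x (f i ^ k) := good_of hx' hfk (hNVf.pow k)
    have h1 : (Proj.awayToSection 𝒜 (f i)).hom (Away.mk 𝒜 (hf i) k x hx) =
        oFrac 𝒜 U (k * deg i) x (f i ^ k) := by
      apply o_ext
      intro y
      rw [val_oFrac 𝒜 G1]
      exact GrQCoh.val_awayToSection_mk 𝒜 (hf i) k x hx y.1
        ((Proj.mem_basicOpen 𝒜 (f i) y.1).mp y.2)
    rw [h1]
    refine oFrac_eq 𝒜 G1 (good_of hxt (hbk k) (hNVb.pow k)) ?_
    rw [hb, ← pow_mul, mul_comm (n / deg i) k, ← htk, pow_add]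
    ring
  rw [hz]
  exact hhom k _ hxt

end closure

theorem lcm_pos (hdeg : ∀ i, 0 < deg i) : 0 < Finset.univ.lcm deg := by
  refine Nat.pos_of_ne_zero ?_
  intro h0
  rw [Finset.lcm_eq_zero_iff] at h0
  obtain ⟨j, -, hj⟩ := h0
  exact (hdeg j).ne' hj

section main
variable (hdeg : ∀ i, 0 < deg i) (hf : ∀ i, f i ∈ 𝒜 (deg i))
  (hgen : Algebra.adjoin R (Set.range f) = ⊤)

include hdeg hf hgen in
/-- **`O(a * lcm)` on `Proj 𝒜` is very ample, by a closed immersion into a projective space over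
`R`**, for `𝒜` generated by `s` homogeneous elements of positive degrees, `a ≥ max 1 (s - 1)`. -/
theorem exists_closedImmersion_twist_lcm (a : ℕ) (ha : 0 < a) (has : s - 1 ≤ a) :
    ∃ (N : ℕ) (i : Proj 𝒜 ⟶ CohB1.ProjSpaceOver N (Spec (CommRingCat.of R))),
      IsClosedImmersion i ∧
      i ≫ pullback.snd (CohB1.ProjSpace.toSpec N (ULift.{u} ℤ))
          (specULiftZIsTerminal.from (Spec (CommRingCat.of R))) = strMap 𝒜 ∧
      Nonempty (Twist.twist 𝒜 ((a * Finset.univ.lcm deg : ℕ) : ℤ) ≅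
        (Scheme.Modules.pullback i).obj (Twist.twistOver N (Spec (CommRingCat.of R)) 1)) := by
  classical
  set n := a * Finset.univ.lcm deg with hn
  have hnpos : 0 < n := Nat.mul_pos ha (lcm_pos hdeg)
  have hdvd : ∀ i, deg i ∣ n := fun i =>
    Dvd.dvd.mul_left (Finset.dvd_lcm (Finset.mem_univ i)) a
  have hq : ∀ i, 0 < n / deg i := fun i =>
    Nat.div_pos (Nat.le_of_dvd hnpos (hdvd i)) (hdeg i)
  have hFT : Algebra.FiniteType R A :=
    ⟨⟨Finset.univ.image f, by
      rw [Finset.coe_image, Finset.coe_univ, Set.image_univ]; exact hgen⟩⟩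
  have hgen' : Algebra.adjoin R
      (⋃ i ∈ Finset.Icc 1 (Finset.univ.sup deg), (𝒜 i : Set A)) = ⊤ := by
    apply top_unique
    rw [← hgen]
    apply Algebra.adjoin_mono
    rintro _ ⟨j, rfl⟩
    simp only [Set.mem_iUnion, Finset.mem_Icc, SetLike.mem_coe, exists_prop]
    exact ⟨deg j, ⟨hdeg j, Finset.le_sup (Finset.mem_univ j)⟩, hf j⟩
  have hprop := ProjVeryAmple.isProper_strMap 𝒜 _ hgen'
  have hcovf : (⨆ i, Proj.basicOpen 𝒜 (f i)) = ⊤ :=
    TwistLoc.iSup_basicOpen_eq_top_of_adjoin 𝒜 f (fun i => ⟨deg i, hf i⟩) hgen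
  have hloc : TwistLoc.LocGen 𝒜 (n : ℤ) :=
    TwistLoc.locGen_of_dvd 𝒜 f deg hf hcovf n (fun i => by exact_mod_cast hdvd i)
  set L := Twist.twist 𝒜 (n : ℤ) with hL
  let w : 𝒜 n → Γ(L, ⊤) := fun b => sec (secHom 𝒜 b.2) ⊤
  have hhom : ∀ b : 𝒜 n, homOfSection L (w b) = secHom 𝒜 b.2 := fun b => homOfSection_sec_top _
  have hlocw : ∀ b : 𝒜 n, loc (w b) = Proj.basicOpen 𝒜 (b : A) := fun b => by
    unfold UPCoef.loc
    rw [hhom, TwistLoc.genLocus_secHom 𝒜 hloc b.2]
  have hcoef : ∀ b b' : 𝒜 n, coef (w b) (w b') = oFrac 𝒜 (loc (w b)) n (b' : A) (b : A) := by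
    intro b b'
    symm
    apply coef_unique
    have hNV : NV 𝒜 (loc (w b)) (b : A) := by
      rw [hlocw]
      exact nv_basicOpen _
    have h := sec_secHom_eq_smul 𝒜 b'.2 b.2 (loc (w b)) hNV
    change oFrac 𝒜 (loc (w b)) n (b' : A) (b : A) • mres L le_top (sec (secHom 𝒜 b.2) ⊤) =
      mres L le_top (sec (secHom 𝒜 b'.2) ⊤)
    rw [sec_mres, sec_mres]
    exact h.symm
  let j : Fin s → 𝒜 n := fun i => ⟨f i ^ (n / deg i), by
    have := SetLike.pow_mem_graded (n / deg i) (hf i)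
    rwa [smul_eq_mul, Nat.div_mul_cancel (hdvd i)] at this⟩
  have hlocj : ∀ i : Fin s, loc (w (j i)) = Proj.basicOpen 𝒜 (f i) := fun i => by
    rw [hlocw]
    exact Proj.basicOpen_pow 𝒜 _ _ (hq i)
  have hcompact : CompactSpace (Proj 𝒜) :=
    (HasAffineProperty.iff_of_isAffine (P := @QuasiCompact) (f := strMap 𝒜)).mp inferInstance
  have hva : RelAmple.IsRelVeryAmplePn (strMap 𝒜) L := by
    refine isRelVeryAmplePn_of_family (strMap 𝒜) L w j ?_ (fun _ => ⊤)
      (fun _ => isAffineOpen_top _) ?_ (fun _ => le_top) ?_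
    · intro x
      have hx : x ∈ (⨆ i, Proj.basicOpen 𝒜 (f i)) := by rw [hcovf]; trivial
      obtain ⟨i, hi⟩ := Opens.mem_iSup.mp hx
      exact ⟨i, by rw [hlocj]; exact hi⟩
    · intro i
      rw [hlocj]
      exact Proj.isAffineOpen_basicOpen 𝒜 _ (hf i) (hdeg i)
    · intro i
      have hfun : (fun c => coef (w (j i)) (w c)) =
          fun c : 𝒜 n => oFrac 𝒜 (loc (w (j i))) n (c : A) (f i ^ (n / deg i)) :=
        funext fun c => hcoef (j i) c
      rw [hfun]
      have key : ∀ (U : (Proj 𝒜).Opens) (_ : U = Proj.basicOpen 𝒜 (f i)),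
          Subring.closure (Set.range ((strMap 𝒜).appLE ⊤ U le_top).hom ∪
            Set.range (fun c : 𝒜 n => oFrac 𝒜 U n (c : A) (f i ^ (n / deg i)))) = ⊤ := by
        rintro U rfl
        exact closure_eq_top_chart 𝒜 hdeg hf hgen a ha has i
      exact key _ (hlocj i)
  obtain ⟨N, i₀, hi, hif, hiso⟩ := hva
  obtain ⟨i, hii⟩ : ∃ i : Proj 𝒜 ⟶ pullback (CohB1.ProjSpace.toSpec N (ULift.{u} ℤ))
      (specULiftZIsTerminal.from (Spec (CommRingCat.of R))), i = i₀ := ⟨_, rfl⟩
  subst hii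
  refine ⟨N, i, ?_, hif, hiso⟩
  have hpN : IsProper (pullback.snd (CohB1.ProjSpace.toSpec N (ULift.{u} ℤ))
      (specULiftZIsTerminal.from (Spec (CommRingCat.of R)))) :=
    ProjSpaceProper.isProper_toBase N _
  have huc : UniversallyClosed (i ≫ pullback.snd (CohB1.ProjSpace.toSpec N (ULift.{u} ℤ))
      (specULiftZIsTerminal.from (Spec (CommRingCat.of R)))) := by
    have h : i ≫ pullback.snd (CohB1.ProjSpace.toSpec N (ULift.{u} ℤ))
        (specULiftZIsTerminal.from (Spec (CommRingCat.of R))) = strMap 𝒜 := hif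
    rw [h]
    infer_instance
  have : UniversallyClosed i := UniversallyClosed.of_comp_of_isSeparated i
    (pullback.snd (CohB1.ProjSpace.toSpec N (ULift.{u} ℤ))
      (specULiftZIsTerminal.from (Spec (CommRingCat.of R))))
  have hi' : IsImmersion i := hi
  have : IsPreimmersion i := inferInstance
  exact IsClosedImmersion.of_isPreimmersion i i.isClosedMap.isClosed_range

end main

end Groth.Agent.Lib.Helper17.ProjVeryAmpleLcm
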