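import Groth.Agent.Lib.Helper17.SepFwd
import Groth.Agent.Lib.Helper17.ProjSpaceProper

/-!
# Separating points and tangent vectors implies closed immersion (helper17)
-/

set_option autoImplicit false
set_option linter.unusedSectionVars false
universe u
open AlgebraicGeometry CategoryTheory Limits TopologicalSpace Opposite HomogeneousLocalization

namespace Groth.Agent.Lib.Helper17.SepBwd
open Groth.Agent.Lib.Helper45
  Groth.Agent.Lib.Helper49 Groth.Agent.Lib.Helper17.OFrac
  Groth.Agent.Lib.Helper17.UPCoef Groth.Agent.Lib.Helper17.PnSections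
  Groth.Agent.Lib.Helper17.VeryAmpleCrit Groth.Agent.Lib.Helper17.StalkBasis
  Groth.Agent.Lib.Helper17.UPChart Groth.Agent.Lib.Helper17.SepTrans
  Groth.Agent.Lib.Helper17.PnClosedPts Groth.Agent.Lib.Helper17.SepFwd

/-- a finite ring map which is surjective modulo every maximal ideal is surjective. -/
theorem surjective_of_finite_of_forall_maximal {B A : Type*} [CommRing B] [CommRing A]
    (φ : B →+* A) (hfin : φ.Finite)
    (h : ∀ (m : Ideal B), m.IsMaximal → ∀ a : A, ∃ b : B, a - φ b ∈ Ideal.map φ m) :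
    Function.Surjective φ := by
  algebraize [φ]
  set N : Submodule B A := LinearMap.range (Algebra.linearMap B A) with hN
  suffices hNtop : N = ⊤ by
    intro a
    have : a ∈ N := by rw [hNtop]; trivial
    obtain ⟨b, hb⟩ := this
    exact ⟨b, hb⟩
  by_contra hne
  set I : Ideal B := (⊤ : Submodule B (A ⧸ N)).annihilator with hI
  have hI1 : I ≠ ⊤ := by
    intro h1
    apply hne
    rw [Submodule.annihilator_eq_top_iff] at h1
    have h2 : ∀ a : A, N.mkQ a = 0 := fun a => by
      have : N.mkQ a ∈ (⊤ : Submodule B (A ⧸ N)) := trivial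
      rw [h1] at this
      exact this
    rw [eq_top_iff]
    intro a _
    exact (Submodule.Quotient.mk_eq_zero N).mp (h2 a)
  obtain ⟨m, hm, hIm⟩ := Ideal.exists_le_maximal I hI1
  have hfg : (⊤ : Submodule B (A ⧸ N)).FG := Module.Finite.fg_top
  have hle : (⊤ : Submodule B (A ⧸ N)) ≤ m • ⊤ := by
    rintro x -
    obtain ⟨a, rfl⟩ := N.mkQ_surjective x
    obtain ⟨b, hb⟩ := h m hm a
    have h1 : N.mkQ a = N.mkQ (a - φ b) := by
      have h0 : N.mkQ (φ b) = 0 := (Submodule.Quotient.mk_eq_zero N).mpr ⟨b, rfl⟩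
      rw [map_sub, h0, sub_zero]
    rw [h1]
    have h2 : a - φ b ∈ (m • ⊤ : Submodule B A) := by
      rw [Ideal.smul_top_eq_map]
      exact hb
    have h3 : Submodule.map N.mkQ (m • ⊤ : Submodule B A) ≤ m • ⊤ := by
      rw [Submodule.map_smul'']
      exact Submodule.smul_mono le_rfl le_top
    exact h3 (Submodule.mem_map_of_mem h2)
  obtain ⟨r, hr1, hr2⟩ :=
    Submodule.exists_sub_one_mem_and_smul_eq_zero_of_fg_of_le_smul m ⊤ hfg hle
  have hrI : r ∈ I := by
    rw [hI, Submodule.mem_annihilator]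
    intro x _
    exact hr2 x trivial
  have : (1 : B) ∈ m := by
    have := m.sub_mem (hIm hrI) hr1
    simpa using this
  exact hm.ne_top ((Ideal.eq_top_iff_one m).mpr this)

section affine
variable {X : Scheme.{u}} {U : X.Opens} (hU : IsAffineOpen U)

theorem fromSpec_mem (z : PrimeSpectrum Γ(X, U)) : hU.fromSpec z ∈ U := by
  have : hU.fromSpec z ∈ Set.range hU.fromSpec := ⟨z, rfl⟩
  rw [hU.range_fromSpec] at this
  exact this

theorem primeIdealOf_fromSpec (z : PrimeSpectrum Γ(X, U)) :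
    hU.primeIdealOf ⟨hU.fromSpec z, fromSpec_mem hU z⟩ = z := by
  apply hU.fromSpec.isOpenEmbedding.injective
  exact hU.fromSpec_primeIdealOf ⟨hU.fromSpec z, fromSpec_mem hU z⟩

theorem eq_of_primeIdealOf_eq {x x' : X} (hx : x ∈ U) (hx' : x' ∈ U)
    (h : hU.primeIdealOf ⟨x, hx⟩ = hU.primeIdealOf ⟨x', hx'⟩) : x = x' := by
  have h6 := hU.fromSpec_primeIdealOf ⟨x, hx⟩
  have h7 := hU.fromSpec_primeIdealOf ⟨x', hx'⟩
  rw [h] at h6
  exact h6.symm.trans h7

/-- points over a prime: the image of the point of a prime `M` lying over `z`. -/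
theorem apply_fromSpec_eq {Y : Scheme.{u}} (g : X ⟶ Y) {V : Y.Opens} (hV : IsAffineOpen V)
    (e : U ≤ g ⁻¹ᵁ V) (M : PrimeSpectrum Γ(X, U)) (z : PrimeSpectrum Γ(Y, V))
    (h : M.asIdeal.comap (g.appLE V U e).hom = z.asIdeal) :
    g.base (hU.fromSpec M) = hV.fromSpec z := by
  have h1 := IsAffineOpen.comap_primeIdealOf_appLE V hV U hU e (fromSpec_mem hU M)
  rw [primeIdealOf_fromSpec] at h1
  have h2 : PrimeSpectrum.comap (g.appLE V U e).hom M = z := PrimeSpectrum.ext h
  rw [h2] at h1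
  rw [h1]
  exact (hV.fromSpec_primeIdealOf ⟨g.base (hU.fromSpec M), e (fromSpec_mem hU M)⟩).symm

end affine

section main
variable {k : Type u} [Field k] [IsAlgClosed k] (n : ℕ) {X : Scheme.{u}}
  (f : X ⟶ CohB1.ProjSpace n k) (pX : X ⟶ Spec (CommRingCat.of k))
  (hf : f ≫ CohB1.ProjSpace.toSpec n k = pX)

/-- `germ of S c at P` lies in `m_P L_P`. -/
def InAt (c : Fin (n + 1) → k) (P : X) : Prop :=
  gen (Lf n f) (S n f pX c) P ∈ IsLocalRing.maximalIdeal (X.presheaf.stalk P) •
    (⊤ : Submodule (X.presheaf.stalk P) ((Lf n f).presheaf.stalk P))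

include hf in
theorem inj_closed
    (hsep : ∀ P Q : X, IsClosed ({P} : Set X) → IsClosed ({Q} : Set X) → P ≠ Q →
      ∃ c : Fin (n + 1) → k, (InAt n f pX c P ∧ ¬ InAt n f pX c Q) ∨
        (InAt n f pX c Q ∧ ¬ InAt n f pX c P))
    (P Q : X) (hP : IsClosed ({P} : Set X)) (hQ : IsClosed ({Q} : Set X))
    (h : f.base P = f.base Q) : P = Q := by
  by_contra hne
  obtain ⟨c, hc⟩ := hsep P Q hP hQ hne
  obtain ⟨j, hj⟩ := exists_chart n f P
  have hj' : Q ∈ loc (w n f j) := by
    rw [loc_w] at hj ⊢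
    have hj2 : f.base P ∈ D k n j := hj
    rw [h] at hj2
    exact hj2
  have e1 := gen_S_mem_iff n f pX hf j P hj c
  have e2 := gen_S_mem_iff n f pX hf j Q hj' c
  rw [h] at e1
  unfold InAt at hc
  rcases hc with ⟨h1, h2⟩ | ⟨h1, h2⟩
  · exact h2 (e2.mpr (e1.mp h1))
  · exact h2 (e1.mpr (e2.mp h1))

theorem jacobsonSpace_of_lft [LocallyOfFiniteType pX] : JacobsonSpace X :=
  LocallyOfFiniteType.jacobsonSpace pX

theorem jacobsonSpace_projSpace : JacobsonSpace (CohB1.ProjSpace n k) := by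
  have := ProjSpaceProper.isProper_toSpec n k
  exact LocallyOfFiniteType.jacobsonSpace (CohB1.ProjSpace.toSpec n k)

/-- points of the fibre over a closed point are closed. -/
theorem isClosed_of_fibre [JacobsonSpace X]
    (hinj : ∀ P Q : X, IsClosed ({P} : Set X) → IsClosed ({Q} : Set X) →
      f.base P = f.base Q → P = Q)
    (y : CohB1.ProjSpace n k) (hy : IsClosed ({y} : Set (CohB1.ProjSpace n k)))
    (P : X) (hP : f.base P = y) : IsClosed ({P} : Set X) := by
  set Z : Set X := f.base ⁻¹' {y} with hZ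
  have hZcl : IsClosed Z := hy.preimage f.continuous
  have hcl : closure (Z ∩ closedPoints X) = Z := by
    rw [JacobsonSpace.closure_inter_closedPoints_eq_closure hZcl.isLocallyClosed, hZcl.closure_eq]
  have hsub : (Z ∩ closedPoints X).Subsingleton := by
    rintro a ⟨ha1, ha2⟩ b ⟨hb1, hb2⟩
    exact hinj a b ha2 hb2 (ha1.trans hb1.symm)
  have hPZ : P ∈ Z := hP
  rcases hsub.eq_empty_or_singleton with h0 | ⟨c, hc⟩
  · rw [h0, closure_empty] at hcl
    rw [← hcl] at hPZ
    exact hPZ.elim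
  · have hcc : c ∈ Z ∩ closedPoints X := by rw [hc]; rfl
    have hccl : IsClosed ({c} : Set X) := hcc.2
    rw [hc, hccl.closure_eq] at hcl
    rw [← hcl] at hPZ
    rw [Set.mem_singleton_iff.mp hPZ]
    exact hccl

include hf in
theorem isFinite_of_inj [IsProper pX]
    (hinj : ∀ P Q : X, IsClosed ({P} : Set X) → IsClosed ({Q} : Set X) →
      f.base P = f.base Q → P = Q) : IsFinite f := by
  have hJX : JacobsonSpace X := jacobsonSpace_of_lft pX
  have hJY : JacobsonSpace (CohB1.ProjSpace n k) := jacobsonSpace_projSpace n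
  have hpr := ProjSpaceProper.isProper_toSpec n k
  have : IsProper (f ≫ CohB1.ProjSpace.toSpec n k) := by rw [hf]; infer_instance
  have hfp : IsProper f := IsProper.of_comp f (CohB1.ProjSpace.toSpec n k)
  have hfin : ∀ y : closedPoints (CohB1.ProjSpace n k), (f ⁻¹' {y.1}).Finite := by
    intro y
    apply Set.Subsingleton.finite
    intro a ha b hb
    exact hinj a b (isClosed_of_fibre n f hinj y.1 y.2 a ha) (isClosed_of_fibre n f hinj y.1 y.2 b hb)
      (ha.trans hb.symm)
  choose V hyV hV using fun y : closedPoints (CohB1.ProjSpace n k) =>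
    exists_isFinite_morphismRestrict_of_finite_preimage_singleton f y.1 (hfin y)
  have hcov : iSup V = ⊤ := by
    rw [eq_top_iff]
    intro x _
    by_contra hx
    have hne : ((iSup V : (CohB1.ProjSpace n k).Opens) : Set (CohB1.ProjSpace n k))ᶜ.Nonempty := ⟨x, hx⟩
    have hcl : IsClosed ((iSup V : (CohB1.ProjSpace n k).Opens) : Set (CohB1.ProjSpace n k))ᶜ :=
      (iSup V).isOpen.isClosed_compl
    obtain ⟨z, hz1, hz2⟩ := nonempty_inter_closedPoints hne hcl.isLocallyClosed
    exact hz1 (Opens.mem_iSup.mpr ⟨⟨z, hz2⟩, hyV ⟨z, hz2⟩⟩)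
  exact IsZariskiLocalAtTarget.of_iSup_eq_top V hcov hV

include hf in
set_option maxHeartbeats 1600000 in
/-- the key surjectivity modulo a maximal ideal on a chart. -/
theorem chart_claim [IsProper pX]
    (hinj : ∀ P Q : X, IsClosed ({P} : Set X) → IsClosed ({Q} : Set X) →
      f.base P = f.base Q → P = Q)
    (htan : ∀ P : X, IsClosed ({P} : Set X) →
      IsLocalRing.maximalIdeal (X.presheaf.stalk P) •
        (⊤ : Submodule (X.presheaf.stalk P) ((Lf n f).presheaf.stalk P)) ≤
      Submodule.span (X.presheaf.stalk P)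
        {v | ∃ c : Fin (n + 1) → k, v = gen (Lf n f) (S n f pX c) P ∧
          v ∈ IsLocalRing.maximalIdeal (X.presheaf.stalk P) •
            (⊤ : Submodule (X.presheaf.stalk P) ((Lf n f).presheaf.stalk P))} ⊔
        IsLocalRing.maximalIdeal (X.presheaf.stalk P) ^ 2 •
          (⊤ : Submodule (X.presheaf.stalk P) ((Lf n f).presheaf.stalk P)))
    (j : Fin (n + 1)) (hW : IsAffineOpen (loc (w n f j)))
    (m : Ideal Γ(CohB1.ProjSpace n k, D k n j)) (hm : m.IsMaximal)
    (a : Γ(X, loc (w n f j))) :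
    ∃ b, a - φ n f j b ∈ Ideal.map (φ n f j) m := by
  have hJX : JacobsonSpace X := jacobsonSpace_of_lft pX
  have hJY : JacobsonSpace (CohB1.ProjSpace n k) := jacobsonSpace_projSpace n
  have hLN : IsLocallyNoetherian X := LocallyOfFiniteType.isLocallyNoetherian pX
  have hU := isAffineOpen_D (R := k) n j
  by_cases htop : Ideal.map (φ n f j) m = ⊤
  · exact ⟨0, by rw [htop]; trivial⟩
  obtain ⟨M, hM, hmM⟩ := Ideal.exists_le_maximal _ htop
  have hMp : M.IsPrime := hM.isPrime
  have hmp : m.IsPrime := hm.isPrime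
  have hcomap_of : ∀ M' : Ideal Γ(X, loc (w n f j)), M'.IsPrime →
      Ideal.map (φ n f j) m ≤ M' → M'.comap (φ n f j) = m := by
    intro M' hM'p hle
    have h1 : m ≤ M'.comap (φ n f j) := Ideal.map_le_iff_le_comap.mp hle
    have h2 : M'.comap (φ n f j) ≠ ⊤ := Ideal.comap_ne_top _ hM'p.ne_top
    exact (hm.eq_of_le h2 h1).symm
  have hcomap := hcomap_of M hMp hmM
  set z : PrimeSpectrum Γ(CohB1.ProjSpace n k, D k n j) := ⟨m, hmp⟩ with hz
  set y := hU.fromSpec z with hy
  have hyU : y ∈ D k n j := fromSpec_mem hU z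
  have hmy : my n j y hyU = m := congrArg PrimeSpectrum.asIdeal (primeIdealOf_fromSpec hU z)
  have hycl : IsClosed ({y} : Set (CohB1.ProjSpace n k)) := by
    have h1 : IsClosed ({z} : Set (PrimeSpectrum Γ(CohB1.ProjSpace n k, D k n j))) :=
      (PrimeSpectrum.isClosed_singleton_iff_isMaximal z).mpr hm
    have h2 := hU.fromSpec.isOpenEmbedding.preimage_closedPoints
    have h3 : z ∈ hU.fromSpec ⁻¹' closedPoints (CohB1.ProjSpace n k) := by
      rw [h2]; exact h1
    exact h3
  have hpt_of : ∀ (M' : Ideal Γ(X, loc (w n f j))) (hM'p : M'.IsPrime),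
      Ideal.map (φ n f j) m ≤ M' → f.base (hW.fromSpec ⟨M', hM'p⟩) = y := by
    intro M' hM'p hle
    exact apply_fromSpec_eq hW f hU (loc_w n f j).le ⟨M', hM'p⟩ z (hcomap_of M' hM'p hle)
  set Mz : PrimeSpectrum Γ(X, loc (w n f j)) := ⟨M, hMp⟩ with hMz
  set P₀ := hW.fromSpec Mz with hP₀
  have hP₀W : P₀ ∈ loc (w n f j) := fromSpec_mem hW Mz
  have hfP₀ : f.base P₀ = y := hpt_of M hMp hmM
  have hP₀cl : IsClosed ({P₀} : Set X) := isClosed_of_fibre n f hinj y hycl P₀ hfP₀
  have hp₀ : (hW.primeIdealOf ⟨P₀, hP₀W⟩).asIdeal = M :=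
    congrArg PrimeSpectrum.asIdeal (primeIdealOf_fromSpec hW Mz)
  have huniq : ∀ M' : Ideal Γ(X, loc (w n f j)), M'.IsMaximal →
      Ideal.map (φ n f j) m ≤ M' → M' = M := by
    intro M' hM' hle
    have hM'p := hM'.isPrime
    have h1 := hpt_of M' hM'p hle
    have h2 := isClosed_of_fibre n f hinj y hycl _ h1
    have h3 : hW.fromSpec ⟨M', hM'p⟩ = P₀ := hinj _ _ h2 hP₀cl (h1.trans hfP₀.symm)
    have h4 := hW.fromSpec.isOpenEmbedding.injective h3
    exact congrArg PrimeSpectrum.asIdeal h4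
  let _ := X.presheaf.algebra_section_stalk ⟨P₀, hP₀W⟩
  have hloc := hW.isLocalization_stalk ⟨P₀, hP₀W⟩
  have hmax_le : IsLocalRing.maximalIdeal (X.presheaf.stalk P₀) ≤
      Ideal.map (algebraMap Γ(X, loc (w n f j)) (X.presheaf.stalk P₀))
        (Ideal.map (φ n f j) m) := by
    have h1 := (tangent_iff n f pX hf j P₀ hP₀W).mp (htan P₀ hP₀cl)
    have hJ : Ideal.span {a | ∃ c : Fin (n + 1) → k,
          a = fgerm (loc (w n f j)) P₀ hP₀W (φ n f j (dh n j (lin n c))) ∧
          lin n c ∈ ((f.base P₀ : Proj (CohB1.polyGrading n k)) :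
            ProjectiveSpectrum (CohB1.polyGrading n k)).asHomogeneousIdeal} ≤
        Ideal.map (algebraMap Γ(X, loc (w n f j)) (X.presheaf.stalk P₀))
          (Ideal.map (φ n f j) m) := by
      rw [Ideal.span_le]
      rintro _ ⟨c, rfl, hc⟩
      have hc' : dh n j (lin n c) ∈ m := by
        rw [← hmy]
        rw [hfP₀] at hc
        exact (dh_mem_my_iff n j y hyU (lin_mem n c)).mpr hc
      exact Ideal.mem_map_of_mem _ (Ideal.mem_map_of_mem _ hc')
    refine le_trans ?_ hJ
    apply Submodule.le_of_le_smul_of_le_jacobson_bot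
      (I := IsLocalRing.maximalIdeal (X.presheaf.stalk P₀))
    · exact IsNoetherian.noetherian _
    · exact IsLocalRing.maximalIdeal_le_jacobson _
    · rw [Ideal.smul_eq_mul, ← pow_two]
      exact h1
  have hMle : M ≤ Ideal.map (φ n f j) m := by
    intro x hx
    have h1 : algebraMap Γ(X, loc (w n f j)) (X.presheaf.stalk P₀) x ∈
        IsLocalRing.maximalIdeal (X.presheaf.stalk P₀) :=
      (IsLocalization.AtPrime.to_map_mem_maximal_iff (X.presheaf.stalk P₀)
        (hW.primeIdealOf ⟨P₀, hP₀W⟩).asIdeal x).mpr (hp₀ ▸ hx)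
    have h2 := hmax_le h1
    rw [IsLocalization.mem_map_algebraMap_iff (hW.primeIdealOf ⟨P₀, hP₀W⟩).asIdeal.primeCompl] at h2
    obtain ⟨⟨⟨i, hi⟩, ⟨s, hs⟩⟩, h3⟩ := h2
    rw [← map_mul,
      IsLocalization.eq_iff_exists (hW.primeIdealOf ⟨P₀, hP₀W⟩).asIdeal.primeCompl] at h3
    obtain ⟨⟨c, hc⟩, h4⟩ := h3
    have hs' : s ∉ M := hp₀ ▸ hs
    have hc' : c ∉ M := hp₀ ▸ hc
    have ht : c * s ∉ M := fun h => (hMp.mem_or_mem h).elim hc' hs'
    have htx : (c * s) * x ∈ Ideal.map (φ n f j) m := by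
      have : (c * s) * x = c * i := by
        have h5 : c * (x * s) = c * i := h4
        rw [← h5]; ring
      rw [this]
      exact Ideal.mul_mem_left _ _ hi
    have hsup : Ideal.map (φ n f j) m ⊔ Ideal.span {c * s} = ⊤ := by
      by_contra hne
      obtain ⟨M', hM', hle⟩ := Ideal.exists_le_maximal _ hne
      have h5 := huniq M' hM' (le_sup_left.trans hle)
      apply ht
      rw [← h5]
      exact hle (Ideal.mem_sup_right (Ideal.mem_span_singleton_self _))
    have h6 : (1 : Γ(X, loc (w n f j))) ∈ Ideal.map (φ n f j) m ⊔ Ideal.span {c * s} := by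
      rw [hsup]; trivial
    obtain ⟨u, hu, v, hv, huv⟩ := Submodule.mem_sup.mp h6
    obtain ⟨r, rfl⟩ := Ideal.mem_span_singleton'.mp hv
    have h7 : x = u * x + r * ((c * s) * x) := by
      rw [← mul_assoc, ← add_mul, huv, one_mul]
    rw [h7]
    exact Ideal.add_mem _ (Ideal.mul_mem_right _ _ hu) (Ideal.mul_mem_left _ _ htx)
  -- the residue field of `M` is `k`
  let κ : k →+* Γ(X, loc (w n f j)) := (φ n f j).comp ((dh n j).comp MvPolynomial.C)
  have hκ : κ.FiniteType := by
    have h1 : (pX.appLE ⊤ (loc (w n f j)) le_top).hom.FiniteType :=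
      pX.finiteType_appLE (isAffineOpen_top _) hW le_top
    have h2 : κ = (pX.appLE ⊤ (loc (w n f j)) le_top).hom.comp
        (Scheme.ΓSpecIso (CommRingCat.of k)).inv.hom := by
      ext a
      exact φ_dh_C n f pX hf j a
    rw [h2]
    exact h1.comp (RingHom.FiniteType.of_surjective _
      (ConcreteCategory.bijective_of_isIso (Scheme.ΓSpecIso (CommRingCat.of k)).inv).2)
  let _ : Field (Γ(X, loc (w n f j)) ⧸ M) := Ideal.Quotient.field M
  let q : k →+* (Γ(X, loc (w n f j)) ⧸ M) := (Ideal.Quotient.mk M).comp κ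
  have hq : q.FiniteType :=
    (RingHom.FiniteType.of_surjective _ Ideal.Quotient.mk_surjective).comp hκ
  have hqf : q.Finite := RingHom.finite_iff_finiteType_of_isJacobsonRing.mpr hq
  have hqb := IsAlgClosed.ringHom_bijective_of_isIntegral q hqf.to_isIntegral
  obtain ⟨l, hl⟩ := hqb.2 (Ideal.Quotient.mk M a)
  refine ⟨dh n j (MvPolynomial.C l), hMle ?_⟩
  rw [← Ideal.Quotient.eq]
  exact hl.symm

theorem finite_appLE_of_eq {X Y : Scheme.{u}} (g : X ⟶ Y) [IsFinite g] (V : Y.Opens)
    (hV : IsAffineOpen V) (U : X.Opens) (e : U = g ⁻¹ᵁ V) : (g.appLE V U e.le).hom.Finite := by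
  subst e
  rw [← Scheme.Hom.app_eq_appLE]
  exact IsFinite.finite_app g V hV

theorem iSup_D {R : Type u} [CommRing R] (n : ℕ) : (⨆ j, D R n j) = ⊤ := by
  rw [eq_top_iff]
  intro y _
  obtain ⟨j, hj⟩ := exists_T_not_mem n R
    ((y : Proj (CohB1.polyGrading n R)) : ProjectiveSpectrum (CohB1.polyGrading n R))
  exact Opens.mem_iSup.mpr ⟨j, (Proj.mem_basicOpen _ _ _).mpr hj⟩

include hf in
/-- **A morphism from a proper `k`-scheme to `P^n_k` that separates points and tangent vectors is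
a closed immersion.** -/
theorem isClosedImmersion_of_sep [IsProper pX]
    (hsep : ∀ P Q : X, IsClosed ({P} : Set X) → IsClosed ({Q} : Set X) → P ≠ Q →
      ∃ c : Fin (n + 1) → k, (InAt n f pX c P ∧ ¬ InAt n f pX c Q) ∨
        (InAt n f pX c Q ∧ ¬ InAt n f pX c P))
    (htan : ∀ P : X, IsClosed ({P} : Set X) →
      IsLocalRing.maximalIdeal (X.presheaf.stalk P) •
        (⊤ : Submodule (X.presheaf.stalk P) ((Lf n f).presheaf.stalk P)) ≤
      Submodule.span (X.presheaf.stalk P)
        {v | ∃ c : Fin (n + 1) → k, v = gen (Lf n f) (S n f pX c) P ∧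
          v ∈ IsLocalRing.maximalIdeal (X.presheaf.stalk P) •
            (⊤ : Submodule (X.presheaf.stalk P) ((Lf n f).presheaf.stalk P))} ⊔
        IsLocalRing.maximalIdeal (X.presheaf.stalk P) ^ 2 •
          (⊤ : Submodule (X.presheaf.stalk P) ((Lf n f).presheaf.stalk P))) :
    IsClosedImmersion f := by
  have hinj := inj_closed n f pX hf hsep
  have hfin : IsFinite f := isFinite_of_inj n f pX hf hinj
  apply IsZariskiLocalAtTarget.of_iSup_eq_top (fun j => D k n j) (iSup_D n)
  intro j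
  have hW : IsAffineOpen (loc (w n f j)) := by
    rw [loc_w]
    exact (isAffineOpen_D n j).preimage f
  have hφfin : (φ n f j).Finite :=
    finite_appLE_of_eq f (D k n j) (isAffineOpen_D n j) (loc (w n f j)) (loc_w n f j)
  have hsurj := surjective_of_finite_of_forall_maximal (φ n f j) hφfin
    (fun m hm a => chart_claim n f pX hf hinj htan j hW m hm a)
  exact isClosedImmersion_morphismRestrict f (D k n j) (isAffineOpen_D n j) (loc (w n f j)) hW
    (loc_w n f j) hsurj

end main

end Groth.Agent.Lib.Helper17.SepBwd
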