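import Groth.Agent.Lib.Helper17.PnClosedPts

/-!
# Closed immersions into `P^n_k` separate points and tangent vectors (helper17)
-/

set_option autoImplicit false
set_option linter.unusedSectionVars false
universe u
open AlgebraicGeometry CategoryTheory Limits TopologicalSpace Opposite HomogeneousLocalization

namespace Groth.Agent.Lib.Helper17.SepFwd
open Groth.Agent.Lib.Helper45
  Groth.Agent.Lib.Helper49 Groth.Agent.Lib.Helper17.OFrac
  Groth.Agent.Lib.Helper17.UPCoef Groth.Agent.Lib.Helper17.PnSections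
  Groth.Agent.Lib.Helper17.VeryAmpleCrit Groth.Agent.Lib.Helper17.StalkBasis
  Groth.Agent.Lib.Helper17.UPChart Groth.Agent.Lib.Helper17.SepTrans
  Groth.Agent.Lib.Helper17.PnClosedPts

theorem surjective_appLE_of_isClosedImmersion {X Y : Scheme.{u}} (g : X ⟶ Y) [IsClosedImmersion g]
    (W : Y.Opens) (hW : IsAffineOpen W) :
    Function.Surjective (g.appLE W (g ⁻¹ᵁ W) le_rfl).hom := by
  have : IsAffine W.toScheme := hW
  have hcl : IsClosedImmersion (g ∣_ W) := IsZariskiLocalAtTarget.restrict ‹_› W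
  obtain ⟨-, hs⟩ := IsClosedImmersion.isAffine_surjective_of_isAffine (g ∣_ W)
  rw [morphismRestrict_appTop] at hs
  have key : ∀ (W' : Y.Opens) (_ : W' = W) (U' : X.Opens) (e : U' = g ⁻¹ᵁ W'),
      Function.Surjective (g.app W' ≫ X.presheaf.map (eqToHom e).op) →
        Function.Surjective (g.app W).hom := by
    intro W' hW' U' e h
    subst hW' e
    simpa using h
  have h0 := key _ (by simp) _ _ hs
  rwa [Scheme.Hom.app_eq_appLE] at h0

theorem surjective_appLE_of_isClosedImmersion' {X Y : Scheme.{u}} (g : X ⟶ Y) [IsClosedImmersion g]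
    (W : Y.Opens) (hW : IsAffineOpen W) (U : X.Opens) (hUW : U = g ⁻¹ᵁ W) :
    Function.Surjective (g.appLE W U hUW.le).hom := by
  subst hUW
  exact surjective_appLE_of_isClosedImmersion g W hW

variable {k : Type u} [Field k] [IsAlgClosed k] (n : ℕ) {X : Scheme.{u}}
  (f : X ⟶ CohB1.ProjSpace n k) (pX : X ⟶ Spec (CommRingCat.of k))
  (hf : f ≫ CohB1.ProjSpace.toSpec n k = pX)

theorem exists_chart (P : X) : ∃ j, P ∈ loc (w n f j) := by
  obtain ⟨j, hj⟩ := exists_T_not_mem n k
    ((f.base P : Proj (CohB1.polyGrading n k)) : ProjectiveSpectrum (CohB1.polyGrading n k))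
  exact ⟨j, (loc_w n f j).ge ((Proj.mem_basicOpen _ _ _).mpr hj)⟩

include hf in
/-- a closed immersion separates closed points (strong form). -/
theorem sep_points [IsClosedImmersion f] (P Q : X) (hP : IsClosed ({P} : Set X)) (hPQ : P ≠ Q) :
    ∃ c : Fin (n + 1) → k,
      gen (Lf n f) (S n f pX c) P ∈ IsLocalRing.maximalIdeal (X.presheaf.stalk P) •
        (⊤ : Submodule (X.presheaf.stalk P) ((Lf n f).presheaf.stalk P)) ∧
      gen (Lf n f) (S n f pX c) Q ∉ IsLocalRing.maximalIdeal (X.presheaf.stalk Q) •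
        (⊤ : Submodule (X.presheaf.stalk Q) ((Lf n f).presheaf.stalk Q)) := by
  have hy : IsClosed ({f.base P} : Set (CohB1.ProjSpace n k)) := by
    have := f.isClosedEmbedding.isClosedMap _ hP
    rwa [Set.image_singleton] at this
  have hne : f.base P ≠ f.base Q := fun h => hPQ (f.isClosedEmbedding.injective h)
  by_contra hcon
  push Not at hcon
  apply hne
  apply eq_of_lin_mem n _ _ hy
  intro c hc
  obtain ⟨j, hj⟩ := exists_chart n f P
  obtain ⟨j', hj'⟩ := exists_chart n f Q
  have h1 := (gen_S_mem_iff n f pX hf j P hj c).mpr hc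
  exact (gen_S_mem_iff n f pX hf j' Q hj' c).mp (hcon c h1)

include hf in
/-- a closed immersion separates tangent vectors. -/
theorem sep_tangent [IsClosedImmersion f] (P : X) (hP : IsClosed ({P} : Set X)) :
    IsLocalRing.maximalIdeal (X.presheaf.stalk P) •
        (⊤ : Submodule (X.presheaf.stalk P) ((Lf n f).presheaf.stalk P)) ≤
      Submodule.span (X.presheaf.stalk P)
        {v | ∃ c : Fin (n + 1) → k, v = gen (Lf n f) (S n f pX c) P ∧
          v ∈ IsLocalRing.maximalIdeal (X.presheaf.stalk P) •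
            (⊤ : Submodule (X.presheaf.stalk P) ((Lf n f).presheaf.stalk P))} ⊔
        IsLocalRing.maximalIdeal (X.presheaf.stalk P) ^ 2 •
          (⊤ : Submodule (X.presheaf.stalk P) ((Lf n f).presheaf.stalk P)) := by
  obtain ⟨j, hj⟩ := exists_chart n f P
  rw [tangent_iff n f pX hf j P hj]
  refine le_sup_of_le_left ?_
  have hy : f.base P ∈ D k n j := (loc_w n f j).le hj
  have hycl : IsClosed ({f.base P} : Set (CohB1.ProjSpace n k)) := by
    have := f.isClosedEmbedding.isClosedMap _ hP
    rwa [Set.image_singleton] at this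
  obtain ⟨a, haj, ha⟩ := exists_coords n j (f.base P) hy hycl
  have hW : IsAffineOpen (loc (w n f j)) := by
    rw [loc_w]
    exact (isAffineOpen_D n j).preimage f
  have hφ : Function.Surjective (φ n f j) :=
    surjective_appLE_of_isClosedImmersion' f (D k n j) (isAffineOpen_D n j) _ (loc_w n f j)
  have hcomap : (hW.primeIdealOf ⟨P, hj⟩).asIdeal.comap (φ n f j) = my n j (f.base P) hy :=
    congrArg PrimeSpectrum.asIdeal
      (IsAffineOpen.comap_primeIdealOf_appLE (D k n j) (isAffineOpen_D n j) (loc (w n f j)) hW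
        (loc_w n f j).le hj)
  have hp : (hW.primeIdealOf ⟨P, hj⟩).asIdeal = Ideal.map (φ n f j) (my n j (f.base P) hy) := by
    rw [← hcomap, Ideal.map_comap_of_surjective _ hφ]
  let _ := X.presheaf.algebra_section_stalk ⟨P, hj⟩
  have hloc := hW.isLocalization_stalk ⟨P, hj⟩
  have hm : IsLocalRing.maximalIdeal (X.presheaf.stalk P) =
      Ideal.map (algebraMap Γ(X, loc (w n f j)) (X.presheaf.stalk P))
        (hW.primeIdealOf ⟨P, hj⟩).asIdeal :=
    (IsLocalization.AtPrime.map_eq_maximalIdeal (hW.primeIdealOf ⟨P, hj⟩).asIdeal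
      (X.presheaf.stalk P)).symm
  rw [hm, hp]
  have h1 := my_le_span n j (f.base P) hy a ha
  have h2 := Ideal.map_mono (f := φ n f j) h1
  have h3 := Ideal.map_mono (f := algebraMap Γ(X, loc (w n f j)) (X.presheaf.stalk P)) h2
  refine h3.trans ?_
  rw [Ideal.map_span, Ideal.map_span, Ideal.span_le]
  rintro _ ⟨_, ⟨_, ⟨i, rfl⟩, rfl⟩, rfl⟩
  exact Ideal.subset_span ⟨cvec n a j i, rfl, lin_cvec_mem n j (f.base P) hy a ha i⟩

end Groth.Agent.Lib.Helper17.SepFwd
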