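import Groth.Agent.Lib.Helper17.StalkBasis
import Groth.Agent.Lib.Helper17.VeryAmpleCrit
import Groth.Agent.Lib.Helper17.UPChart

/-!
# Separation of points and tangent vectors: translation to rings (helper17)

For `f : X ⟶ P^n_R` over `R`, `L = f^*O(1)`, `w i = f^* T_i` and `S c = Σ c_i w_i`, the stalk
conditions "the germ of `S c` at `P` lies in `m_P L_P`" are translated into statements about the
homogeneous prime ideal `f P`.
-/

set_option autoImplicit false
set_option linter.unusedSectionVars false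
universe u
open AlgebraicGeometry CategoryTheory Limits TopologicalSpace Opposite HomogeneousLocalization

namespace Groth.Agent.Lib.Helper17.SepTrans
open Groth.Agent.Lib.Helper11 Groth.Agent.Lib.Helper11.GenLocus Groth.Agent.Lib.Helper45
  Groth.Agent.Lib.Helper49 Groth.Agent.Lib.Helper17.OFrac Groth.Agent.Lib.Helper17.TwistGen
  Groth.Agent.Lib.Helper17.TwistAmple Groth.Agent.Lib.Helper17.UPPull
  Groth.Agent.Lib.Helper17.UPGen Groth.Agent.Lib.Helper17.UPProj
  Groth.Agent.Lib.Helper17.UPCoef Groth.Agent.Lib.Helper17.UPSecKernel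
  Groth.Agent.Lib.Helper17.PnSections Groth.Agent.Lib.Helper17.UPUniq
  Groth.Agent.Lib.Helper17.VeryAmpleCrit Groth.Agent.Lib.Helper17.StalkBasis
  Groth.Agent.Lib.Helper17.UPChart Groth.Agent.Lib.Helper17.ProjGlobal

variable {R : Type u} [CommRing R] (n : ℕ) {X : Scheme.{u}} (f : X ⟶ CohB1.ProjSpace n R)

/-- `f^* O(1)`. -/
noncomputable abbrev Lf : X.Modules :=
  (Scheme.Modules.pullback f).obj (Twist.twistProjSpace n R 1)

/-- `f^* T_i`. -/
noncomputable def w (i : Fin (n + 1)) : Γ(Lf n f, ⊤) :=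
  ProjUP.pullSec f (Twist.twistProjSpace n R 1) (ProjUP.coord n R i)

theorem hτ (i : Fin (n + 1)) : (Iso.refl (Lf n f)).hom.app ⊤
    (ProjUP.pullSec f (Twist.twistProjSpace n R 1) (ProjUP.coord n R i)) = w n f i := rfl

theorem loc_w (j : Fin (n + 1)) : loc (w n f j) = f ⁻¹ᵁ D R n j :=
  VeryAmpleCrit.loc_eq n f (Iso.refl _) (w n f) (hτ n f) j

/-- the linear form `Σ c_i T_i`. -/
noncomputable def lin (c : Fin (n + 1) → R) : MvPolynomial (Fin (n + 1)) R :=
  ∑ i, MvPolynomial.C (c i) * MvPolynomial.X i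

theorem lin_mem (c : Fin (n + 1) → R) : lin n c ∈ CohB1.polyGrading n R 1 := by
  unfold lin
  refine Submodule.sum_mem _ fun i _ => ?_
  exact MvPolynomial.isHomogeneous_C_mul_X (c i) i

/-- dehomogenisation on the chart `D₊(T_j)`. -/
noncomputable abbrev dh (j : Fin (n + 1)) :
    MvPolynomial (Fin (n + 1)) R →+* Γ(CohB1.ProjSpace n R, D R n j) :=
  dehom (CohB1.polyGrading n R) (T_mem n R j)

variable (pX : X ⟶ Spec (CommRingCat.of R)) (hf : f ≫ CohB1.ProjSpace.toSpec n R = pX)

/-- the section `Σ c_i f^*T_i`. -/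
noncomputable def S (c : Fin (n + 1) → R) : Γ(Lf n f, ⊤) :=
  ∑ i, ProjUP.toGlobal pX (c i) • w n f i

theorem coef_zero {L : X.Modules} (t : Γ(L, ⊤)) : coef t (0 : Γ(L, ⊤)) = 0 := by
  have := coef_add t 0 0
  rw [add_zero] at this
  exact (add_eq_left.mp this.symm)

theorem coef_sum {L : X.Modules} (t : Γ(L, ⊤)) {ι : Type*} (s : Finset ι) (g : ι → Γ(L, ⊤)) :
    coef t (∑ i ∈ s, g i) = ∑ i ∈ s, coef t (g i) := by
  classical
  induction s using Finset.induction_on with
  | empty => simp [coef_zero]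
  | insert a s ha ih => rw [Finset.sum_insert ha, Finset.sum_insert ha, coef_add, ih]

/-- the chart map `Γ(D₊(T_j)) → Γ(X, f⁻¹ D₊(T_j))`. -/
noncomputable def φ (j : Fin (n + 1)) :
    Γ(CohB1.ProjSpace n R, D R n j) →+* Γ(X, loc (w n f j)) :=
  (f.appLE (D R n j) (loc (w n f j)) (loc_w n f j).le).hom

include hf in
theorem φ_dh_C (j : Fin (n + 1)) (a : R) :
    φ n f j (dh n j (MvPolynomial.C a)) = fres le_top (ProjUP.toGlobal pX a) := by
  subst hf
  exact appLE_dehom_algebraMap (CohB1.polyGrading n R) (T_mem n R j) f (loc (w n f j))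
    (loc_w n f j).le a

theorem φ_dh_X (j i : Fin (n + 1)) :
    φ n f j (dh n j (MvPolynomial.X i)) = coef (w n f j) (w n f i) := by
  have h := appLE_oFrac n f (Iso.refl _) (w n f) (hτ n f) j i
  rw [← h]
  have h2 := dehom_of_mem (CohB1.polyGrading n R) (T_mem n R j) (T_mem n R i)
  rw [pow_one] at h2
  exact congrArg (φ n f j) h2

include hf in
theorem coef_S (j : Fin (n + 1)) (c : Fin (n + 1) → R) :
    coef (w n f j) (S n f pX c) = φ n f j (dh n j (lin n c)) := by
  unfold S lin
  rw [coef_sum, map_sum, map_sum]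
  refine Finset.sum_congr rfl fun i _ => ?_
  rw [coef_smul, map_mul, map_mul, φ_dh_C n f pX hf, φ_dh_X]

/-- the non-vanishing locus of a dehomogenised form. -/
theorem basicOpen_dh (j : Fin (n + 1)) {d : ℕ} {F : MvPolynomial (Fin (n + 1)) R}
    (hF : F ∈ CohB1.polyGrading n R d) :
    (CohB1.ProjSpace n R).basicOpen (dh n j F) =
      D R n j ⊓ Proj.basicOpen (CohB1.polyGrading n R) F := by
  have h := dehom_of_mem (CohB1.polyGrading n R) (T_mem n R j) hF
  have h2 := basicOpen_oFrac (CohB1.polyGrading n R)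
    (good_chart (CohB1.polyGrading n R) (T_mem n R j) hF)
  rw [← h] at h2
  exact h2

/-- the germ of `f^♯ (F / T_j^d)` at `P` is a non-unit iff `F` vanishes at `f P`. -/
theorem fgerm_φ_dh_mem (j : Fin (n + 1)) (P : X) (hP : P ∈ loc (w n f j)) {d : ℕ}
    {F : MvPolynomial (Fin (n + 1)) R} (hF : F ∈ CohB1.polyGrading n R d) :
    fgerm (loc (w n f j)) P hP (φ n f j (dh n j F)) ∈ IsLocalRing.maximalIdeal (X.presheaf.stalk P) ↔
      F ∈ ((f.base P : Proj (CohB1.polyGrading n R)) :
        ProjectiveSpectrum (CohB1.polyGrading n R)).asHomogeneousIdeal := by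
  rw [IsLocalRing.mem_maximalIdeal, mem_nonunits_iff]
  have h1 : IsUnit (fgerm (loc (w n f j)) P hP (φ n f j (dh n j F))) ↔
      P ∈ X.basicOpen (φ n f j (dh n j F)) := (X.mem_basicOpen _ P hP).symm
  rw [h1]
  have h2 : X.basicOpen (φ n f j (dh n j F)) =
      loc (w n f j) ⊓ f ⁻¹ᵁ ((CohB1.ProjSpace n R).basicOpen (dh n j F)) :=
    Scheme.basicOpen_appLE f (loc (w n f j)) (D R n j) (loc_w n f j).le (dh n j F)
  rw [h2, basicOpen_dh n j hF]
  have hPD : f.base P ∈ D R n j := (loc_w n f j).le hP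
  constructor
  · intro h
    by_contra hc
    exact h ⟨hP, hPD, (Proj.mem_basicOpen _ _ _).mpr hc⟩
  · rintro h ⟨-, -, h3⟩
    exact (Proj.mem_basicOpen _ _ _).mp h3 h

include hf in
theorem gen_S (j : Fin (n + 1)) (P : X) (hP : P ∈ loc (w n f j)) (c : Fin (n + 1) → R) :
    gen (Lf n f) (S n f pX c) P = stalkEquiv (w n f j) P hP
      (fgerm (loc (w n f j)) P hP (φ n f j (dh n j (lin n c)))) := by
  rw [stalkEquiv_apply, gen_eq_coef_smul (w n f j) P hP, coef_S n f pX hf]

theorem stalkEquiv_mem_smul_top {L : X.Modules} (t : Γ(L, ⊤)) (P : X) (hP : P ∈ loc t)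
    (I : Ideal (X.presheaf.stalk P)) (a : X.presheaf.stalk P) :
    stalkEquiv t P hP a ∈ I • (⊤ : Submodule (X.presheaf.stalk P) (L.presheaf.stalk P)) ↔ a ∈ I := by
  rw [smul_top_eq_map t P hP, Submodule.mem_map]
  constructor
  · rintro ⟨a', ha', h⟩
    have : a' = a := (stalkEquiv t P hP).injective h
    exact this ▸ ha'
  · intro h
    exact ⟨a, h, rfl⟩

include hf in
/-- **the germ of `Σ c_i f^*T_i` at `P` lies in `m_P L_P` iff the linear form vanishes at
`f P`.** -/
theorem gen_S_mem_iff (j : Fin (n + 1)) (P : X) (hP : P ∈ loc (w n f j)) (c : Fin (n + 1) → R) :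
    gen (Lf n f) (S n f pX c) P ∈ IsLocalRing.maximalIdeal (X.presheaf.stalk P) •
        (⊤ : Submodule (X.presheaf.stalk P) ((Lf n f).presheaf.stalk P)) ↔
      lin n c ∈ ((f.base P : Proj (CohB1.polyGrading n R)) :
        ProjectiveSpectrum (CohB1.polyGrading n R)).asHomogeneousIdeal := by
  rw [gen_S n f pX hf j P hP, stalkEquiv_mem_smul_top, fgerm_φ_dh_mem n f j P hP (lin_mem n c)]

include hf in
/-- **the tangent condition at `P` in terms of the local ring.** -/
theorem tangent_iff (j : Fin (n + 1)) (P : X) (hP : P ∈ loc (w n f j)) :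
    (IsLocalRing.maximalIdeal (X.presheaf.stalk P) •
        (⊤ : Submodule (X.presheaf.stalk P) ((Lf n f).presheaf.stalk P)) ≤
      Submodule.span (X.presheaf.stalk P)
        {v | ∃ c : Fin (n + 1) → R, v = gen (Lf n f) (S n f pX c) P ∧
          v ∈ IsLocalRing.maximalIdeal (X.presheaf.stalk P) •
            (⊤ : Submodule (X.presheaf.stalk P) ((Lf n f).presheaf.stalk P))} ⊔
        IsLocalRing.maximalIdeal (X.presheaf.stalk P) ^ 2 •
          (⊤ : Submodule (X.presheaf.stalk P) ((Lf n f).presheaf.stalk P))) ↔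
    IsLocalRing.maximalIdeal (X.presheaf.stalk P) ≤
      Ideal.span {a | ∃ c : Fin (n + 1) → R,
          a = fgerm (loc (w n f j)) P hP (φ n f j (dh n j (lin n c))) ∧
          lin n c ∈ ((f.base P : Proj (CohB1.polyGrading n R)) :
            ProjectiveSpectrum (CohB1.polyGrading n R)).asHomogeneousIdeal} ⊔
        IsLocalRing.maximalIdeal (X.presheaf.stalk P) ^ 2 := by
  set e := stalkEquiv (w n f j) P hP with he
  have hset : {v | ∃ c : Fin (n + 1) → R, v = gen (Lf n f) (S n f pX c) P ∧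
      v ∈ IsLocalRing.maximalIdeal (X.presheaf.stalk P) •
        (⊤ : Submodule (X.presheaf.stalk P) ((Lf n f).presheaf.stalk P))} =
      e.toLinearMap '' {a | ∃ c : Fin (n + 1) → R,
          a = fgerm (loc (w n f j)) P hP (φ n f j (dh n j (lin n c))) ∧
          lin n c ∈ ((f.base P : Proj (CohB1.polyGrading n R)) :
            ProjectiveSpectrum (CohB1.polyGrading n R)).asHomogeneousIdeal} := by
    ext v
    constructor
    · rintro ⟨c, rfl, hv⟩
      exact ⟨_, ⟨c, rfl, (gen_S_mem_iff n f pX hf j P hP c).mp hv⟩,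
        (gen_S n f pX hf j P hP c).symm⟩
    · rintro ⟨a, ⟨c, rfl, hc⟩, rfl⟩
      have h1 := (gen_S n f pX hf j P hP c).symm
      refine ⟨c, h1, ?_⟩
      have h2 := (gen_S_mem_iff n f pX hf j P hP c).mpr hc
      rw [gen_S n f pX hf j P hP c] at h2
      exact h2
  rw [hset, smul_top_eq_map (w n f j) P hP, smul_top_eq_map (w n f j) P hP, ← Submodule.map_span,
    ← Submodule.map_sup]
  exact Submodule.map_le_map_iff_of_injective e.injective _ _

end Groth.Agent.Lib.Helper17.SepTrans
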