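import Groth.Agent.Lib.Helper17.SerreGen

/-!
# Serre: `F(n)` is globally generated for `n ≫ 0` (helper17)
-/

set_option autoImplicit false
set_option linter.unusedSectionVars false
universe u
open CategoryTheory CategoryTheory.Limits AlgebraicGeometry TopologicalSpace Opposite
  HomogeneousLocalization DirectSum

namespace Groth.Agent.Lib.Helper17.SerreGen
open Groth.Agent.Lib.Helper17.OFrac Groth.Agent.Lib.Helper17.GrQCoh
  Groth.Agent.Lib.Helper17.GammaStar Groth.Agent.Lib.Helper17.TildeRecog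
  Groth.Agent.Lib.Helper17.HomogSub Groth.Agent.Lib.Helper17.TildeGen
  Groth.Agent.Lib.Helper17.EpiGen

variable {R A : Type u} [CommRing R] [CommRing A] [Algebra R A] (𝒜 : ℕ → Submodule R A)
  [GradedAlgebra 𝒜]
  (F : (Proj 𝒜).Modules) [F.IsQuasicoherent]
  [SheafOfModules.IsFiniteType (R := (Proj 𝒜).ringCatSheaf) F]
  {ι : Type u} [Finite ι] (f : ι → 𝒜 1)
  (hcov : ∀ y : Proj 𝒜, ∃ i, (f i : A) ∉ (y : ProjectiveSpectrum 𝒜).asHomogeneousIdeal)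

include hcov in
/-- **Serre**: `F(n)` is a quotient of a finite free module for `n ≫ 0`. -/
theorem exists_epi_free_twistBy :
    ∃ n₀ : ℕ, ∀ n : ℕ, n₀ ≤ n →
      ∃ (K : ℕ) (q : FlatMod.freeMod (Proj 𝒜) K ⟶ Twist.twistBy 𝒜 F (n : ℤ)), Epi q := by
  have hcov1 : (⨆ f : 𝒜 1, Proj.basicOpen 𝒜 (f : A)) = ⊤ := by
    rw [eq_top_iff]
    intro y _
    obtain ⟨i, hi⟩ := hcov y
    exact Opens.mem_iSup.mpr ⟨f i, (Proj.mem_basicOpen 𝒜 _ _).mpr hi⟩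
  obtain ⟨N, dN, r, g, p, hg, hspan, ⟨φ⟩⟩ := exists_iso_gens 𝒜 F f hcov
  refine ⟨Finset.univ.sup p, fun n hn => ?_⟩
  have hn' : ∀ a, p a ≤ n := fun a => (Finset.le_sup (f := p) (Finset.mem_univ a)).trans hn
  obtain ⟨K, q, hq⟩ := exists_epi_twist 𝒜 (subGrading (grading 𝒜 F f) N) 0 g p hg hspan f
    hcov n hn'
  obtain ⟨e0⟩ := TwistTensor.nonempty_twist_zero_iso 𝒜
  obtain ⟨e1⟩ := TildeTwist.nonempty_tensor_iso_tilde 𝒜 (subGrading (grading 𝒜 F f) N) 0 (n : ℤ)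
    hcov1
  let e2 : Twist.twistBy 𝒜 F (n : ℤ) ≅
      CohB1.tensorMod (GrTilde.tilde 𝒜 (subGrading (grading 𝒜 F f) N) 0) (Twist.twist 𝒜 (n : ℤ)) :=
    TwistTensor.tensorModCongr φ.symm (Iso.refl _)
  have h0 : (n : ℤ) + 0 = 0 + (n : ℤ) := by ring
  let α : FlatMod.freeMod (Proj 𝒜) K ≅ ∐ fun _ : Fin K => Twist.twist 𝒜 0 :=
    Sigma.mapIso (fun _ => e0.symm)
  exact ⟨K, α.hom ≫ q ≫ eqToHom (congrArg (GrTilde.tilde 𝒜 (subGrading (grading 𝒜 F f) N)) h0) ≫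
    e1.inv ≫ e2.inv, epi_comp _ _⟩

end Groth.Agent.Lib.Helper17.SerreGen
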