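import Groth.Agent.Lib.Helper17.OFrac
import Groth.Agent.Lib.Helper17.TwistGen

/-!
# Recognizing `M~` on `Proj` (helper17)
-/

set_option autoImplicit false
set_option linter.unusedSectionVars false
universe u
open CategoryTheory AlgebraicGeometry TopologicalSpace Opposite HomogeneousLocalization

namespace Groth.Agent.Lib.Helper17.TildeRecog
open Groth.Agent.Lib.Helper17.OFrac Groth.Agent.Lib.Helper17.GrQCoh Groth.Agent.Lib.Helper17.GrSect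

variable {R A : Type u} [CommRing R] [CommRing A] [Algebra R A] (𝒜 : ℕ → Submodule R A)
  [GradedAlgebra 𝒜]
  {M : Type u} [AddCommGroup M] [Module R M] [Module A M] [IsScalarTower R A M]
  (ℳ : ℕ → Submodule R M) [DirectSum.Decomposition ℳ] [SetLike.GradedSMul 𝒜 ℳ]
  (F : (Proj 𝒜).Modules) {ι : Type u} (f : ι → A)

/-- the chart `D₊(f i)`. -/
abbrev U (i : ι) : (Proj 𝒜).Opens := Proj.basicOpen 𝒜 (f i)

/-- Data identifying a graded module `M` with the "module of twisted global sections" of `F`. -/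
structure CompData where
  hf : ∀ i, f i ∈ 𝒜 1
  hcov : ∀ y : Proj 𝒜, ∃ i, f i ∉ (y : ProjectiveSpectrum 𝒜).asHomogeneousIdeal
  comp : ∀ i, M →+ Γ(F, U 𝒜 f i)
  comp_smul : ∀ (i : ι) (d : ℕ) (a : A) (m : M), a ∈ 𝒜 d →
    comp i (a • m) = oFrac 𝒜 (U 𝒜 f i) d a (f i ^ d) • comp i m
  compat : ∀ (i j : ι) (p : ℕ) (m : M), m ∈ ℳ p →
    rs F (U 𝒜 f i ⊓ U 𝒜 f j) (U 𝒜 f j) (comp j m) =
      oFrac 𝒜 (U 𝒜 f i ⊓ U 𝒜 f j) p (f i ^ p) (f j ^ p) •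
        rs F (U 𝒜 f i ⊓ U 𝒜 f j) (U 𝒜 f i) (comp i m)
  inj : ∀ (i : ι) (p : ℕ) (m : M), m ∈ ℳ p → comp i m = 0 → ∃ q : ℕ, f i ^ q • m = 0
  surj : ∀ (i : ι) (t : Γ(F, U 𝒜 f i)), ∃ (p : ℕ) (m : M), m ∈ ℳ p ∧ comp i m = t
  locInj : ∀ (i : ι) (t : Γ(F, U 𝒜 f i)) (g : A) (e : ℕ), g ∈ 𝒜 e →
    rs F (U 𝒜 f i ⊓ Proj.basicOpen 𝒜 g) (U 𝒜 f i) t = 0 →
      ∃ N : ℕ, oFrac 𝒜 (U 𝒜 f i) (N • e) (g ^ N) (f i ^ (N • e)) • t = 0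
  locSurj : ∀ (i : ι) (g : A) (e : ℕ), g ∈ 𝒜 e →
    ∀ τ : Γ(F, U 𝒜 f i ⊓ Proj.basicOpen 𝒜 g), ∃ (N : ℕ) (t : Γ(F, U 𝒜 f i)),
      rs F (U 𝒜 f i ⊓ Proj.basicOpen 𝒜 g) (U 𝒜 f i) t =
        oFrac 𝒜 (U 𝒜 f i ⊓ Proj.basicOpen 𝒜 g) (N • e) (g ^ N) (f i ^ (N • e)) • τ


/-- `σ` is given on `W ≤ V ⊓ U i` by the fraction `m / h`. -/
structure Rep {V : (Proj 𝒜).Opens} (σ : Γ(GrTilde.tilde 𝒜 ℳ 0, V)) (W : (Proj 𝒜).Opens) (i : ι)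
    (p : ℕ) (m : M) (h : A) : Prop where
  hWV : W ≤ V
  hWi : W ≤ U 𝒜 f i
  hm : m ∈ ℳ p
  hh : h ∈ 𝒜 p
  hW : NV 𝒜 W h
  eq : ∀ y : W, ((toSect 𝒜 ℳ 0 σ).1 ⟨y.1, hWV y.2⟩ : GrTilde.LocMod 𝒜 (M := M) y.1) =
    frac 𝒜 y.1 m h (hW y)

/-- index type of the local representations of a section. -/
structure RepIdx {V : (Proj 𝒜).Opens} (σ : Γ(GrTilde.tilde 𝒜 ℳ 0, V)) where
  W : (Proj 𝒜).Opens
  i : ι
  p : ℕ
  m : M
  h : A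
  rep : Rep 𝒜 ℳ f σ W i p m h

variable {𝒜 ℳ F f} (D : CompData 𝒜 ℳ F f)

namespace CompData

include D in
theorem fpow_mem (i : ι) (k : ℕ) : f i ^ k ∈ 𝒜 k := pow_mem_one (D.hf i) k

/-- "`m / h`" as a section of `F` over `W ≤ U i`. -/
noncomputable def locSec (i : ι) (W : (Proj 𝒜).Opens) (p : ℕ) (m : M) (h : A) : Γ(F, W) :=
  oFrac 𝒜 W p (f i ^ p) h • rs F W (U 𝒜 f i) (D.comp i m)

theorem rs_locSec {V W : (Proj 𝒜).Opens} (hVW : V ≤ W) {i : ι} (hWi : W ≤ U 𝒜 f i) {p : ℕ} (m : M)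
    {h : A} (hh : h ∈ 𝒜 p) (hW : NV 𝒜 W h) :
    rs F V W (D.locSec i W p m h) = D.locSec i V p m h := by
  unfold locSec
  rw [rs_oFrac_smul 𝒜 F hVW (good_of (D.fpow_mem i p) hh hW), rs_rs F hVW hWi]

/-- Consistency: two fractions agreeing pointwise on `W` define the same section of `F`. -/
theorem locSec_eq {W : (Proj 𝒜).Opens} {i i' : ι} (hWi : W ≤ U 𝒜 f i) (hWi' : W ≤ U 𝒜 f i')
    {p p' : ℕ} {m m' : M} {h h' : A} (hm : m ∈ ℳ p) (hm' : m' ∈ ℳ p') (hh : h ∈ 𝒜 p)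
    (hh' : h' ∈ 𝒜 p') (hW : NV 𝒜 W h) (hW' : NV 𝒜 W h')
    (heq : ∀ y : W, frac 𝒜 y.1 m h (hW y) = frac 𝒜 y.1 m' h' (hW' y)) :
    D.locSec i W p m h = D.locSec i' W p' m' h' := by
  apply rs_ext F
  intro y
  obtain ⟨g, e, he, hg, hgy, hgW⟩ := exists_basicOpen_le 𝒜 W y.1 y.2
  refine ⟨Proj.basicOpen 𝒜 g, hgW, (Proj.mem_basicOpen 𝒜 g y.1).mpr hgy, ?_⟩
  set V : (Proj 𝒜).Opens := Proj.basicOpen 𝒜 g with hV
  -- the difference is killed by a power of `g`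
  have hw : h' • m - h • m' ∈ ℳ (p' + p) :=
    sub_mem (SetLike.GradedSMul.smul_mem hh' hm)
      (by rw [add_comm]; exact SetLike.GradedSMul.smul_mem hh hm')
  obtain ⟨N, hN⟩ := Groth.Agent.S3587.result 𝒜 ℳ he hg 0 (p' + p) ⟨_, hw⟩ (by
    rintro ⟨z, hz⟩
    have hzW : z ∈ W := hgW ((Proj.mem_basicOpen 𝒜 g z).mpr
      ((ProjectiveSpectrum.mem_basicOpen 𝒜 g z).mp hz))
    have h1 := heq ⟨z, hzW⟩
    rw [frac, frac, LocalizedModule.mk_eq] at h1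
    obtain ⟨u, hu⟩ := h1
    rw [IsLocalizedModule.mk_eq_mk', IsLocalizedModule.mk'_eq_zero']
    refine ⟨u, ?_⟩
    simp only [Submonoid.smul_def] at hu
    change (u : A) • (h' • m - h • m') = 0
    rw [smul_sub, hu, sub_self])
  have hE : (g ^ N * h') • m = (g ^ N * h) • m' := by
    have : g ^ N • (h' • m - h • m') = 0 := hN
    rw [smul_sub, sub_eq_zero, ← mul_smul, ← mul_smul] at this
    exact this
  -- basic facts on `V`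
  have hVi : V ≤ U 𝒜 f i := hgW.trans hWi
  have hVi' : V ≤ U 𝒜 f i' := hgW.trans hWi'
  have nvf : NV 𝒜 V (f i) := nv_of_le_basicOpen hVi
  have nvf' : NV 𝒜 V (f i') := nv_of_le_basicOpen hVi'
  have nvg : NV 𝒜 V g := nv_basicOpen g
  have nvh : NV 𝒜 V h := hW.mono hgW
  have nvh' : NV 𝒜 V h' := hW'.mono hgW
  have hgN : g ^ N ∈ 𝒜 (N • e) := SetLike.pow_mem_graded N hg
  have ha1 : g ^ N * h' ∈ 𝒜 (N • e + p') := SetLike.mul_mem_graded hgN hh'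
  have ha2 : g ^ N * h ∈ 𝒜 (N • e + p) := SetLike.mul_mem_graded hgN hh
  -- apply `comp i` and restrict to `V`
  have hE1 := congrArg (D.comp i) hE
  rw [D.comp_smul i _ _ m ha1, D.comp_smul i _ _ m' ha2] at hE1
  have hE2 := congrArg (rs F V (U 𝒜 f i)) hE1
  rw [rs_oFrac_smul 𝒜 F hVi (good_of ha1 (D.fpow_mem i _) ((nv_basicOpen (f i)).pow _)),
    rs_oFrac_smul 𝒜 F hVi (good_of ha2 (D.fpow_mem i _) ((nv_basicOpen (f i)).pow _))] at hE2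
  -- compatibility of `m'` between the charts `i` and `i'`
  have hC := congrArg (rs F V (U 𝒜 f i ⊓ U 𝒜 f i')) (D.compat i i' p' m' hm')
  have hVii' : V ≤ U 𝒜 f i ⊓ U 𝒜 f i' := le_inf hVi hVi'
  rw [rs_rs F hVii' inf_le_right, rs_oFrac_smul 𝒜 F hVii'
    (good_of (D.fpow_mem i _) (D.fpow_mem i' _)
      ((nv_of_le_basicOpen (inf_le_right : U 𝒜 f i ⊓ U 𝒜 f i' ≤ U 𝒜 f i')).pow _)),
    rs_rs F hVii' inf_le_left] at hC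
  -- assemble
  rw [D.rs_locSec hgW hWi m hh hW, D.rs_locSec hgW hWi' m' hh' hW']
  unfold locSec
  set x := rs F V (U 𝒜 f i) (D.comp i m) with hx
  set x' := rs F V (U 𝒜 f i) (D.comp i m') with hx'
  rw [hC]
  -- isolate `x`
  have G1 : Good 𝒜 V (N • e + p') (g ^ N * h') (f i ^ (N • e + p')) :=
    good_of ha1 (D.fpow_mem i _) (nvf.pow _)
  have G1' : Good 𝒜 V (N • e + p') (f i ^ (N • e + p')) (g ^ N * h') :=
    good_of (D.fpow_mem i _) ha1 ((nvg.pow _).mul nvh')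
  have G2 : Good 𝒜 V (N • e + p) (g ^ N * h) (f i ^ (N • e + p)) :=
    good_of ha2 (D.fpow_mem i _) (nvf.pow _)
  have G3 : Good 𝒜 V p (f i ^ p) h := good_of (D.fpow_mem i _) hh nvh
  have G4 : Good 𝒜 V p' (f i' ^ p') h' := good_of (D.fpow_mem i' _) hh' nvh'
  have G5 : Good 𝒜 V p' (f i ^ p') (f i' ^ p') :=
    good_of (D.fpow_mem i _) (D.fpow_mem i' _) (nvf'.pow _)
  have hx1 : x = (oFrac 𝒜 V (N • e + p') (f i ^ (N • e + p')) (g ^ N * h') *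
      oFrac 𝒜 V (N • e + p) (g ^ N * h) (f i ^ (N • e + p))) • x' := by
    rw [mul_smul, ← hE2, ← mul_smul, oFrac_mul 𝒜 G1' G1,
      oFrac_eq 𝒜 (G1'.mul G1) (good_self (G1'.mul G1).hb (G1'.mul G1).hV) (by ring),
      oFrac_self 𝒜 (good_self (G1'.mul G1).hb (G1'.mul G1).hV), one_smul]
  rw [hx1, ← mul_smul, ← mul_smul]
  congr 1
  rw [oFrac_mul 𝒜 G1' G2, oFrac_mul 𝒜 G3 (G1'.mul G2), oFrac_mul 𝒜 G4 G5]
  exact oFrac_eq 𝒜 (G3.mul (G1'.mul G2)) (G4.mul G5) (by ring)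

theorem _root_.Groth.Agent.Lib.Helper17.TildeRecog.Rep.mono {V : (Proj 𝒜).Opens}
    {σ : Γ(GrTilde.tilde 𝒜 ℳ 0, V)} {W W' : (Proj 𝒜).Opens} {i : ι} {p : ℕ} {m : M} {h : A}
    (r : Rep 𝒜 ℳ f σ W i p m h) (hW' : W' ≤ W) : Rep 𝒜 ℳ f σ W' i p m h :=
  ⟨hW'.trans r.hWV, hW'.trans r.hWi, r.hm, r.hh, r.hW.mono hW', fun y => r.eq ⟨y.1, hW' y.2⟩⟩

theorem _root_.Groth.Agent.Lib.Helper17.TildeRecog.Rep.reindex {V : (Proj 𝒜).Opens}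
    {σ : Γ(GrTilde.tilde 𝒜 ℳ 0, V)} {W : (Proj 𝒜).Opens} {i i' : ι} {p : ℕ} {m : M} {h : A}
    (r : Rep 𝒜 ℳ f σ W i p m h) (hWi' : W ≤ U 𝒜 f i') : Rep 𝒜 ℳ f σ W i' p m h :=
  ⟨r.hWV, hWi', r.hm, r.hh, r.hW, r.eq⟩

include D in
/-- every section of `M~` has local representations. -/
theorem exists_rep {V : (Proj 𝒜).Opens} (σ : Γ(GrTilde.tilde 𝒜 ℳ 0, V)) (y : V) :
    ∃ k : RepIdx 𝒜 ℳ f σ, y.1 ∈ k.W := by
  obtain ⟨h, e, p, m, he, hh, hm, hp, hy, hrep⟩ := exists_local_rep 𝒜 ℳ 0 (toSect 𝒜 ℳ 0 σ) y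
  obtain ⟨i, hi⟩ := D.hcov y.1
  have hpe : p = e := by omega
  subst hpe
  have hle : Proj.basicOpen 𝒜 h ⊓ U 𝒜 f i ≤ V := by
    intro z hz
    obtain ⟨hzV, -⟩ := hrep z ((Proj.mem_basicOpen 𝒜 h z).mp hz.1)
    exact hzV
  refine ⟨⟨Proj.basicOpen 𝒜 h ⊓ U 𝒜 f i, i, p, m, h, ⟨hle, inf_le_right, hm, hh,
    nv_of_le_basicOpen inf_le_left, fun z => ?_⟩⟩,
    ⟨(Proj.mem_basicOpen 𝒜 h y.1).mpr hy, (Proj.mem_basicOpen 𝒜 (f i) y.1).mpr hi⟩⟩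
  obtain ⟨_, hz⟩ := hrep z.1 ((Proj.mem_basicOpen 𝒜 h z.1).mp z.2.1)
  exact hz

/-- the local sections of `F` attached to the representations of `σ` glue uniquely. -/
theorem exists_glue {V : (Proj 𝒜).Opens} (σ : Γ(GrTilde.tilde 𝒜 ℳ 0, V)) :
    ∃! τ : Γ(F, V), ∀ k : RepIdx 𝒜 ℳ f σ, rs F k.W V τ = D.locSec k.i k.W k.p k.m k.h := by
  refine rs_glue F (fun k : RepIdx 𝒜 ℳ f σ => k.W) (fun k => k.rep.hWV) ?_
    (fun k => D.locSec k.i k.W k.p k.m k.h) ?_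
  · intro z hz
    obtain ⟨k, hk⟩ := D.exists_rep σ ⟨z, hz⟩
    exact Opens.mem_iSup.mpr ⟨k, hk⟩
  · intro k k'
    rw [D.rs_locSec inf_le_left k.rep.hWi k.m k.rep.hh k.rep.hW,
      D.rs_locSec inf_le_right k'.rep.hWi k'.m k'.rep.hh k'.rep.hW]
    refine D.locSec_eq (inf_le_left.trans k.rep.hWi) (inf_le_right.trans k'.rep.hWi) k.rep.hm
      k'.rep.hm k.rep.hh k'.rep.hh (k.rep.hW.mono inf_le_left) (k'.rep.hW.mono inf_le_right) ?_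
    intro z
    exact (k.rep.eq ⟨z.1, z.2.1⟩).symm.trans (k'.rep.eq ⟨z.1, z.2.2⟩)

/-- the map `M~(V) → F(V)`. -/
noncomputable def beta {V : (Proj 𝒜).Opens} (σ : Γ(GrTilde.tilde 𝒜 ℳ 0, V)) : Γ(F, V) :=
  (D.exists_glue σ).exists.choose

theorem beta_spec {V : (Proj 𝒜).Opens} {σ : Γ(GrTilde.tilde 𝒜 ℳ 0, V)} {W : (Proj 𝒜).Opens}
    {i : ι} {p : ℕ} {m : M} {h : A} (r : Rep 𝒜 ℳ f σ W i p m h) :
    rs F W V (D.beta σ) = D.locSec i W p m h :=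
  (D.exists_glue σ).exists.choose_spec ⟨W, i, p, m, h, r⟩

/-- a section agreeing locally with the fractions representing `σ` is `β σ`. -/
theorem eq_beta_of_local {V : (Proj 𝒜).Opens} (σ : Γ(GrTilde.tilde 𝒜 ℳ 0, V)) (τ : Γ(F, V))
    (hτ : ∀ y : V, ∃ k : RepIdx 𝒜 ℳ f σ, y.1 ∈ k.W ∧
      rs F k.W V τ = D.locSec k.i k.W k.p k.m k.h) : τ = D.beta σ := by
  apply rs_ext F
  intro y
  obtain ⟨k, hyk, hk⟩ := hτ y
  exact ⟨k.W, k.rep.hWV, hyk, hk.trans (D.beta_spec k.rep).symm⟩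

/-- the sheaf `M~`. -/
local notation "T" => GrTilde.tilde 𝒜 ℳ 0

omit [IsScalarTower R A M] [DirectSum.Decomposition ℳ] in
theorem val_add {V : (Proj 𝒜).Opens} (σ σ' : Γ(GrTilde.tilde 𝒜 ℳ 0, V)) (y : V) :
    (((toSect 𝒜 ℳ 0 (σ + σ')).1 y : GrTilde.tildeAt 𝒜 ℳ 0 y.1) : GrTilde.LocMod 𝒜 (M := M) y.1) =
      ((toSect 𝒜 ℳ 0 σ).1 y : GrTilde.LocMod 𝒜 (M := M) y.1) + (toSect 𝒜 ℳ 0 σ').1 y := rfl

omit [IsScalarTower R A M] [DirectSum.Decomposition ℳ] in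
theorem val_rs {V V' : (Proj 𝒜).Opens} (hV : V' ≤ V) (σ : Γ(GrTilde.tilde 𝒜 ℳ 0, V)) (y : V') :
    (((toSect 𝒜 ℳ 0 (rs (GrTilde.tilde 𝒜 ℳ 0) V' V σ)).1 y : GrTilde.tildeAt 𝒜 ℳ 0 y.1) :
      GrTilde.LocMod 𝒜 (M := M) y.1) =
      ((toSect 𝒜 ℳ 0 σ).1 ⟨y.1, hV y.2⟩ : GrTilde.LocMod 𝒜 (M := M) y.1) := by
  have e : rs (GrTilde.tilde 𝒜 ℳ 0) V' V σ =
      (GrTilde.tilde 𝒜 ℳ 0).presheaf.map (homOfLE hV).op σ := rs_of_le _ hV σ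
  exact congrArg (fun s : Γ(GrTilde.tilde 𝒜 ℳ 0, V') =>
    (((toSect 𝒜 ℳ 0 s).1 y : GrTilde.tildeAt 𝒜 ℳ 0 y.1) : GrTilde.LocMod 𝒜 (M := M) y.1)) e

theorem _root_.Groth.Agent.Lib.Helper17.TildeRecog.Rep.of_res {V V' : (Proj 𝒜).Opens}
    (hV : V' ≤ V) {σ : Γ(GrTilde.tilde 𝒜 ℳ 0, V)} {W : (Proj 𝒜).Opens} {i : ι} {p : ℕ} {m : M}
    {h : A} (r : Rep 𝒜 ℳ f (rs (GrTilde.tilde 𝒜 ℳ 0) V' V σ) W i p m h) :
    Rep 𝒜 ℳ f σ W i p m h := by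
  refine ⟨r.hWV.trans hV, r.hWi, r.hm, r.hh, r.hW, fun y => ?_⟩
  refine Eq.trans ?_ (r.eq y)
  exact (val_rs hV σ ⟨y.1, r.hWV y.2⟩).symm

/-- `β` commutes with restriction. -/
theorem beta_res {V V' : (Proj 𝒜).Opens} (hV : V' ≤ V) (σ : Γ(GrTilde.tilde 𝒜 ℳ 0, V)) :
    rs F V' V (D.beta σ) = D.beta (rs (GrTilde.tilde 𝒜 ℳ 0) V' V σ) := by
  apply D.eq_beta_of_local
  intro y
  obtain ⟨k, hk⟩ := D.exists_rep (rs (GrTilde.tilde 𝒜 ℳ 0) V' V σ) y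
  refine ⟨k, hk, ?_⟩
  rw [rs_rs F k.rep.hWV hV]
  exact D.beta_spec (k.rep.of_res hV)

/-- `β` is additive. -/
theorem beta_add {V : (Proj 𝒜).Opens} (σ σ' : Γ(GrTilde.tilde 𝒜 ℳ 0, V)) :
    D.beta (σ + σ') = D.beta σ + D.beta σ' := by
  symm
  apply D.eq_beta_of_local
  intro y
  obtain ⟨k, hk⟩ := D.exists_rep σ y
  obtain ⟨k', hk'⟩ := D.exists_rep σ' y
  obtain ⟨W, i, p, m, h, r⟩ := k
  obtain ⟨W', i', p', m', h', r'⟩ := k'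
  have r1 : Rep 𝒜 ℳ f σ (W ⊓ W') i p m h := r.mono inf_le_left
  have r2 : Rep 𝒜 ℳ f σ' (W ⊓ W') i p' m' h' :=
    (r'.mono inf_le_right).reindex (inf_le_left.trans r.hWi)
  have hm1 : h' • m ∈ ℳ (p + p') := by
    rw [add_comm]; exact SetLike.GradedSMul.smul_mem r'.hh r.hm
  have hm2 : h • m' ∈ ℳ (p + p') := SetLike.GradedSMul.smul_mem r.hh r'.hm
  have r3 : Rep 𝒜 ℳ f (σ + σ') (W ⊓ W') i (p + p') (h' • m + h • m') (h * h') := by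
    refine ⟨r1.hWV, r1.hWi, add_mem hm1 hm2, SetLike.mul_mem_graded r.hh r'.hh,
      r1.hW.mul r2.hW, fun z => ?_⟩
    refine (val_add σ σ' ⟨z.1, r1.hWV z.2⟩).trans ?_
    refine (congrArg₂ (· + ·) (r1.eq z) (r2.eq z)).trans ?_
    exact LocalizedModule.mk_add_mk
  refine ⟨⟨W ⊓ W', i, p + p', h' • m + h • m', h * h', r3⟩, ⟨hk, hk'⟩, ?_⟩
  change rs F (W ⊓ W') V (D.beta σ + D.beta σ') = D.locSec i (W ⊓ W') (p + p') (h' • m + h • m') (h * h')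
  rw [rs_add, D.beta_spec r1, D.beta_spec r2]
  unfold locSec
  have hWi : W ⊓ W' ≤ U 𝒜 f i := r1.hWi
  have nvf : NV 𝒜 (W ⊓ W') (f i) := nv_of_le_basicOpen hWi
  rw [map_add, D.comp_smul i p' h' m r'.hh, D.comp_smul i p h m' r.hh, rs_add,
    rs_oFrac_smul 𝒜 F hWi (good_of r'.hh (D.fpow_mem i _) ((nv_basicOpen (f i)).pow _)),
    rs_oFrac_smul 𝒜 F hWi (good_of r.hh (D.fpow_mem i _) ((nv_basicOpen (f i)).pow _)),
    smul_add, ← mul_smul, ← mul_smul]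
  have G0 : Good 𝒜 (W ⊓ W') (p + p') (f i ^ (p + p')) (h * h') :=
    good_of (D.fpow_mem i _) (SetLike.mul_mem_graded r.hh r'.hh) (r1.hW.mul r2.hW)
  have G1 : Good 𝒜 (W ⊓ W') p' h' (f i ^ p') := good_of r'.hh (D.fpow_mem i _) (nvf.pow _)
  have G2 : Good 𝒜 (W ⊓ W') p h (f i ^ p) := good_of r.hh (D.fpow_mem i _) (nvf.pow _)
  have G3 : Good 𝒜 (W ⊓ W') p (f i ^ p) h := good_of (D.fpow_mem i _) r.hh r1.hW
  have G4 : Good 𝒜 (W ⊓ W') p' (f i ^ p') h' := good_of (D.fpow_mem i _) r'.hh r2.hW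
  rw [oFrac_mul 𝒜 G0 G1, oFrac_mul 𝒜 G0 G2, oFrac_eq 𝒜 (G0.mul G1) G3 (by ring),
    oFrac_eq 𝒜 (G0.mul G2) G4 (by ring)]

/-- `β` is linear over the structure sheaf. -/
theorem beta_smul {V : (Proj 𝒜).Opens} (r : Γ(Proj 𝒜, V)) (σ : Γ(GrTilde.tilde 𝒜 ℳ 0, V)) :
    D.beta (r • σ) = r • D.beta σ := by
  symm
  apply D.eq_beta_of_local
  intro y
  obtain ⟨⟨W, i, p, m, h, rp⟩, hk⟩ := D.exists_rep σ y
  obtain ⟨W₁, hW₁V, d, a, b, hyW₁, hg, hr⟩ := exists_good_rep 𝒜 r y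
  have r1 : Rep 𝒜 ℳ f σ (W ⊓ W₁) i p m h := rp.mono inf_le_left
  have hg' : Good 𝒜 (W ⊓ W₁) d a b := hg.mono inf_le_right
  have hr' : (Proj 𝒜).presheaf.map (homOfLE r1.hWV).op r = oFrac 𝒜 (W ⊓ W₁) d a b := by
    have h1 := congrArg ((Proj 𝒜).presheaf.map (homOfLE (inf_le_right : W ⊓ W₁ ≤ W₁)).op) hr
    rw [res_oFrac 𝒜 _ hg] at h1
    rw [← h1, ← ConcreteCategory.comp_apply, ← Functor.map_comp]
    rfl
  have r3 : Rep 𝒜 ℳ f (r • σ) (W ⊓ W₁) i (d + p) (a • m) (b * h) := by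
    refine ⟨r1.hWV, r1.hWi, SetLike.GradedSMul.smul_mem hg.ha rp.hm,
      SetLike.mul_mem_graded hg.hb rp.hh, NV.mul hg'.hV r1.hW, fun z => ?_⟩
    have hc : ((toO 𝒜 r).1 ⟨z.1, r1.hWV z.2⟩).val = Localization.mk a ⟨b, hg'.hV z⟩ := by
      have h2 := congrArg (fun s : Γ(Proj 𝒜, W ⊓ W₁) => ((toO 𝒜 s).1 z).val) hr'
      exact h2.trans (val_oFrac 𝒜 hg' z)
    exact smul_frac 𝒜 ℳ 0 z.1 ((toO 𝒜 r).1 ⟨z.1, r1.hWV z.2⟩) a b (hg'.hV z) hc m h (r1.hW z)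
      ((toSect 𝒜 ℳ 0 σ).1 ⟨z.1, r1.hWV z.2⟩) (r1.eq z)
  refine ⟨⟨W ⊓ W₁, i, d + p, a • m, b * h, r3⟩, ⟨hk, hyW₁⟩, ?_⟩
  change rs F (W ⊓ W₁) V (r • D.beta σ) = D.locSec i (W ⊓ W₁) (d + p) (a • m) (b * h)
  rw [rs_smul F r1.hWV, hr', D.beta_spec r1]
  unfold locSec
  have hWi : W ⊓ W₁ ≤ U 𝒜 f i := r1.hWi
  have nvf : NV 𝒜 (W ⊓ W₁) (f i) := nv_of_le_basicOpen hWi
  rw [D.comp_smul i d a m hg.ha,
    rs_oFrac_smul 𝒜 F hWi (good_of hg.ha (D.fpow_mem i _) ((nv_basicOpen (f i)).pow _)),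
    ← mul_smul, ← mul_smul]
  have G0 : Good 𝒜 (W ⊓ W₁) (d + p) (f i ^ (d + p)) (b * h) :=
    good_of (D.fpow_mem i _) (SetLike.mul_mem_graded hg.hb rp.hh) (NV.mul hg'.hV r1.hW)
  have G1 : Good 𝒜 (W ⊓ W₁) d a (f i ^ d) := good_of hg.ha (D.fpow_mem i _) (nvf.pow _)
  have G3 : Good 𝒜 (W ⊓ W₁) p (f i ^ p) h := good_of (D.fpow_mem i _) rp.hh r1.hW
  rw [oFrac_mul 𝒜 hg' G3, oFrac_mul 𝒜 G0 G1]
  congr 1
  exact oFrac_eq 𝒜 (hg'.mul G3) (G0.mul G1) (by ring)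

/-- `β` as an additive map. -/
noncomputable def betaHom (V : (Proj 𝒜).Opens) : Γ(GrTilde.tilde 𝒜 ℳ 0, V) →+ Γ(F, V) :=
  AddMonoidHom.mk' D.beta D.beta_add

theorem betaHom_apply {V : (Proj 𝒜).Opens} (σ : Γ(GrTilde.tilde 𝒜 ℳ 0, V)) :
    D.betaHom V σ = D.beta σ := rfl

/-- `β` is injective. -/
theorem beta_eq_zero {V : (Proj 𝒜).Opens} (σ : Γ(GrTilde.tilde 𝒜 ℳ 0, V)) (hσ : D.beta σ = 0) :
    σ = 0 := by
  apply sect_ext 𝒜 ℳ 0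
  intro y
  obtain ⟨⟨W, i, p, m, h, rp⟩, hk⟩ := D.exists_rep σ y
  have hyW : y.1 ∈ W := hk
  refine (rp.eq ⟨y.1, hyW⟩).trans ?_
  -- the local section vanishes
  have h0 : D.locSec i W p m h = 0 := by
    rw [← D.beta_spec rp, hσ, rs_zero]
  have nvf : NV 𝒜 W (f i) := nv_of_le_basicOpen rp.hWi
  have G3 : Good 𝒜 W p (f i ^ p) h := good_of (D.fpow_mem i _) rp.hh rp.hW
  have G3' : Good 𝒜 W p h (f i ^ p) := good_of rp.hh (D.fpow_mem i _) (nvf.pow _)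
  have hx : rs F W (U 𝒜 f i) (D.comp i m) = 0 := by
    have h1 := congrArg (oFrac 𝒜 W p h (f i ^ p) • ·) h0
    simp only [smul_zero] at h1
    unfold locSec at h1
    rw [← mul_smul, oFrac_mul 𝒜 G3' G3,
      oFrac_eq 𝒜 (G3'.mul G3) (good_self (G3'.mul G3).hb (G3'.mul G3).hV) (by ring),
      oFrac_self 𝒜 (good_self (G3'.mul G3).hb (G3'.mul G3).hV), one_smul] at h1
    exact h1
  obtain ⟨g, e, he, hg, hgy, hgW⟩ := exists_basicOpen_le 𝒜 W y.1 hyW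
  have hle : U 𝒜 f i ⊓ Proj.basicOpen 𝒜 g ≤ W := inf_le_right.trans hgW
  have hx' : rs F (U 𝒜 f i ⊓ Proj.basicOpen 𝒜 g) (U 𝒜 f i) (D.comp i m) = 0 := by
    rw [← rs_rs F hle rp.hWi, hx, rs_zero]
  obtain ⟨N, hN⟩ := D.locInj i (D.comp i m) g e hg hx'
  have hgN : g ^ N ∈ 𝒜 (N • e) := SetLike.pow_mem_graded N hg
  rw [← D.comp_smul i _ _ m hgN] at hN
  obtain ⟨q, hq⟩ := D.inj i (N • e + p) (g ^ N • m) (SetLike.GradedSMul.smul_mem hgN rp.hm) hN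
  have hfy : f i ∉ (y.1 : ProjectiveSpectrum 𝒜).asHomogeneousIdeal := nvf ⟨y.1, hyW⟩
  have hu : f i ^ q * g ^ N ∉ (y.1 : ProjectiveSpectrum 𝒜).asHomogeneousIdeal := fun hmem =>
    ((y.1 : ProjectiveSpectrum 𝒜).isPrime.mem_or_mem hmem).elim
      (fun h1 => hfy ((y.1 : ProjectiveSpectrum 𝒜).isPrime.mem_of_pow_mem q h1))
      (fun h1 => hgy ((y.1 : ProjectiveSpectrum 𝒜).isPrime.mem_of_pow_mem N h1))
  have hz : frac 𝒜 y.1 m h (rp.hW ⟨y.1, hyW⟩) = 0 := by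
    change LocalizedModule.mk m _ = 0
    rw [IsLocalizedModule.mk_eq_mk', IsLocalizedModule.mk'_eq_zero']
    refine ⟨⟨f i ^ q * g ^ N, hu⟩, ?_⟩
    change (f i ^ q * g ^ N) • m = 0
    rw [mul_smul, hq]
  exact hz

/-- local preimages under `β`. -/
theorem exists_local_preimage {V : (Proj 𝒜).Opens} (τ : Γ(F, V)) (y : V) :
    ∃ (W : (Proj 𝒜).Opens) (_ : W ≤ V) (σ : Γ(GrTilde.tilde 𝒜 ℳ 0, W)), y.1 ∈ W ∧
      D.beta σ = rs F W V τ := by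
  obtain ⟨i, hi⟩ := D.hcov y.1
  obtain ⟨g, e, he, hg, hgy, hgW⟩ := exists_basicOpen_le 𝒜 (V ⊓ U 𝒜 f i) y.1
    ⟨y.2, (Proj.mem_basicOpen 𝒜 (f i) y.1).mpr hi⟩
  set W : (Proj 𝒜).Opens := U 𝒜 f i ⊓ Proj.basicOpen 𝒜 g with hW
  have hWV : W ≤ V := inf_le_right.trans (hgW.trans inf_le_left)
  have hWi : W ≤ U 𝒜 f i := inf_le_left
  have hyW : y.1 ∈ W := ⟨(Proj.mem_basicOpen 𝒜 (f i) y.1).mpr hi, (Proj.mem_basicOpen 𝒜 g y.1).mpr hgy⟩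
  obtain ⟨N, t, ht⟩ : ∃ (N : ℕ) (t : Γ(F, U 𝒜 f i)), rs F W (U 𝒜 f i) t =
      oFrac 𝒜 W (N • e) (g ^ N) (f i ^ (N • e)) • rs F W V τ := D.locSurj i g e hg (rs F W V τ)
  obtain ⟨p, m, hm, rfl⟩ := D.surj i t
  have nvf : NV 𝒜 W (f i) := nv_of_le_basicOpen hWi
  have nvg : NV 𝒜 W g := nv_of_le_basicOpen inf_le_right
  have hgN : g ^ N ∈ 𝒜 (N • e) := SetLike.pow_mem_graded N hg
  have hm'' : f i ^ (N • e) • m ∈ ℳ (N • e + p) :=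
    SetLike.GradedSMul.smul_mem (D.fpow_mem i _) hm
  have hh'' : g ^ N * f i ^ p ∈ 𝒜 (N • e + p) := SetLike.mul_mem_graded hgN (D.fpow_mem i _)
  have nvh'' : NV 𝒜 W (g ^ N * f i ^ p) := (nvg.pow _).mul (nvf.pow _)
  let σ : Γ(GrTilde.tilde 𝒜 ℳ 0, W) := ofSect 𝒜 ℳ 0
    (fracSect 𝒜 ℳ 0 W hh'' hm'' (by simp) nvh'')
  have rp : Rep 𝒜 ℳ f σ W i (N • e + p) (f i ^ (N • e) • m) (g ^ N * f i ^ p) :=
    ⟨le_rfl, hWi, hm'', hh'', nvh'', fun z => rfl⟩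
  refine ⟨W, hWV, σ, hyW, ?_⟩
  have h1 := D.beta_spec rp
  rw [rs_self] at h1
  rw [h1]
  unfold locSec
  have G0 : Good 𝒜 W (N • e + p) (f i ^ (N • e + p)) (g ^ N * f i ^ p) :=
    good_of (D.fpow_mem i _) hh'' nvh''
  have G1 : Good 𝒜 W (N • e) (f i ^ (N • e)) (f i ^ (N • e)) :=
    good_of (D.fpow_mem i _) (D.fpow_mem i _) (nvf.pow _)
  have G2 : Good 𝒜 W (N • e) (g ^ N) (f i ^ (N • e)) :=
    good_of hgN (D.fpow_mem i _) (nvf.pow _)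
  rw [D.comp_smul i _ _ m (D.fpow_mem i (N • e)),
    rs_oFrac_smul 𝒜 F hWi (good_of (D.fpow_mem i _) (D.fpow_mem i _)
      ((nv_basicOpen (f i)).pow _)), ht, ← mul_smul, ← mul_smul, oFrac_mul 𝒜 G0 G1,
    oFrac_mul 𝒜 (G0.mul G1) G2,
    oFrac_eq 𝒜 ((G0.mul G1).mul G2) (good_self ((G0.mul G1).mul G2).hb ((G0.mul G1).mul G2).hV)
      (by ring),
    oFrac_self 𝒜 (good_self ((G0.mul G1).mul G2).hb ((G0.mul G1).mul G2).hV), one_smul]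

/-- `β` is surjective. -/
theorem beta_surjective {V : (Proj 𝒜).Opens} (τ : Γ(F, V)) :
    ∃ σ : Γ(GrTilde.tilde 𝒜 ℳ 0, V), D.beta σ = τ := by
  choose W hWV σ hyW hσ using D.exists_local_preimage τ
  obtain ⟨σ₀, hσ₀, -⟩ := rs_glue (GrTilde.tilde 𝒜 ℳ 0) W hWV
    (fun z hz => Opens.mem_iSup.mpr ⟨⟨z, hz⟩, hyW ⟨z, hz⟩⟩) σ (fun y y' => by
      have h1 : D.betaHom (W y ⊓ W y') (rs (GrTilde.tilde 𝒜 ℳ 0) (W y ⊓ W y') (W y) (σ y) -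
          rs (GrTilde.tilde 𝒜 ℳ 0) (W y ⊓ W y') (W y') (σ y')) = 0 := by
        rw [map_sub, betaHom_apply, betaHom_apply, ← D.beta_res inf_le_left,
          ← D.beta_res inf_le_right, hσ, hσ, rs_rs F inf_le_left (hWV y),
          rs_rs F inf_le_right (hWV y'), sub_self]
      exact sub_eq_zero.mp (D.beta_eq_zero _ h1))
  refine ⟨σ₀, ?_⟩
  apply rs_ext F
  intro y
  refine ⟨W y, hWV y, hyW y, ?_⟩
  rw [D.beta_res (hWV y), hσ₀ y, hσ y]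

/-- `β` as a morphism of presheaves of abelian groups. -/
noncomputable def betaNat : (GrTilde.tilde 𝒜 ℳ 0).val.presheaf ⟶ F.val.presheaf where
  app X := AddCommGrpCat.ofHom (D.betaHom X.unop)
  naturality X Y g := by
    ext σ
    have hle : Y.unop ≤ X.unop := g.unop.le
    let σ' : Γ(GrTilde.tilde 𝒜 ℳ 0, X.unop) := σ
    have h1 := D.beta_res hle σ'
    have e1 : rs F Y.unop X.unop (D.beta σ') = F.presheaf.map (homOfLE hle).op (D.beta σ') :=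
      rs_of_le F hle _
    have e2 : rs (GrTilde.tilde 𝒜 ℳ 0) Y.unop X.unop σ' =
        (GrTilde.tilde 𝒜 ℳ 0).presheaf.map (homOfLE hle).op σ' := rs_of_le _ hle _
    exact (congrArg D.beta e2).symm.trans (h1.symm.trans e1)

/-- `β` as a morphism of `O`-modules. -/
noncomputable def betaMod : GrTilde.tilde 𝒜 ℳ 0 ⟶ F :=
  ⟨PresheafOfModules.homMk D.betaNat (fun X r σ => D.beta_smul (V := X.unop) r σ)⟩

theorem betaMod_app {V : (Proj 𝒜).Opens} (σ : Γ(GrTilde.tilde 𝒜 ℳ 0, V)) :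
    D.betaMod.app V σ = D.beta σ := rfl

/-- **Recognition theorem**: `M~ ≅ F`. -/
theorem isIso_betaMod : IsIso D.betaMod := by
  rw [Scheme.Modules.Hom.isIso_iff_isIso_app]
  intro V
  refine (ConcreteCategory.isIso_iff_bijective _).mpr ⟨?_, ?_⟩
  · intro σ σ' h
    have h1 : D.betaHom V (σ - σ') = 0 := by
      rw [map_sub, sub_eq_zero]
      exact h
    exact sub_eq_zero.mp (D.beta_eq_zero _ h1)
  · intro τ
    obtain ⟨σ, hσ⟩ := D.beta_surjective τ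
    exact ⟨σ, hσ⟩

include D in
theorem nonempty_iso : Nonempty (GrTilde.tilde 𝒜 ℳ 0 ≅ F) :=
  ⟨@asIso _ _ _ _ (betaMod D) (isIso_betaMod D)⟩

end CompData

end Groth.Agent.Lib.Helper17.TildeRecog
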