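import Groth.Agent.Lib.Helper17.GammaStarQ
import Groth.Agent.Lib.Helper17.TildeRecog

/-!
# Serre's theorem: quasi-coherent sheaves on `Proj` are `M~` (helper17)
-/

set_option autoImplicit false
set_option linter.unusedSectionVars false
universe u
open CategoryTheory AlgebraicGeometry TopologicalSpace Opposite HomogeneousLocalization DirectSum

namespace Groth.Agent.Lib.Helper17.SerreTilde
open Groth.Agent.Lib.Helper17.OFrac Groth.Agent.Lib.Helper17.GrQCoh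
  Groth.Agent.Lib.Helper17.GammaStar Groth.Agent.Lib.Helper17.TildeRecog

variable {R A : Type u} [CommRing R] [CommRing A] [Algebra R A] (𝒜 : ℕ → Submodule R A)
  [GradedAlgebra 𝒜] (F : (Proj 𝒜).Modules) [F.IsQuasicoherent] {ι : Type u} (f : ι → 𝒜 1)

/-- local injectivity on a chart from quasi-coherence. -/
theorem locInj (i : ι) (t : Γ(F, Uf 𝒜 f i)) (g : A) (e : ℕ) (hg : g ∈ 𝒜 e)
    (ht : rs F (Uf 𝒜 f i ⊓ Proj.basicOpen 𝒜 g) (Uf 𝒜 f i) t = 0) :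
    ∃ N : ℕ, oFrac 𝒜 (Uf 𝒜 f i) (N • e) (g ^ N) ((f i : A) ^ (N • e)) • t = 0 := by
  have G : Good 𝒜 (Uf 𝒜 f i) e g ((f i : A) ^ e) :=
    good_of hg (fpow_mem 𝒜 f i e) ((nv_basicOpen _).pow _)
  obtain ⟨N, hN⟩ := QLoc.exists_pow_smul_eq_zero 𝒜 F (isAffineOpen_Uf 𝒜 f i) G t ht
  refine ⟨N, ?_⟩
  have e1 : oFrac 𝒜 (Uf 𝒜 f i) (N • e) (g ^ N) ((f i : A) ^ (N • e)) =
      oFrac 𝒜 (Uf 𝒜 f i) (N * e) (g ^ N) (((f i : A) ^ e) ^ N) := by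
    refine oFrac_eq 𝒜 ?_ (G.pow N) ?_
    · rw [smul_eq_mul]
      have := G.pow N
      rw [← pow_mul, mul_comm e N] at this
      exact this
    · rw [smul_eq_mul, ← pow_mul, mul_comm e N]
  rw [e1]
  exact hN

/-- local surjectivity on a chart from quasi-coherence. -/
theorem locSurj (i : ι) (g : A) (e : ℕ) (hg : g ∈ 𝒜 e)
    (τ : Γ(F, Uf 𝒜 f i ⊓ Proj.basicOpen 𝒜 g)) :
    ∃ (N : ℕ) (t : Γ(F, Uf 𝒜 f i)),
      rs F (Uf 𝒜 f i ⊓ Proj.basicOpen 𝒜 g) (Uf 𝒜 f i) t =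
        oFrac 𝒜 (Uf 𝒜 f i ⊓ Proj.basicOpen 𝒜 g) (N • e) (g ^ N) ((f i : A) ^ (N • e)) • τ := by
  have G : Good 𝒜 (Uf 𝒜 f i) e g ((f i : A) ^ e) :=
    good_of hg (fpow_mem 𝒜 f i e) ((nv_basicOpen _).pow _)
  obtain ⟨N, t, hN⟩ := QLoc.exists_rs_eq_pow_smul 𝒜 F (isAffineOpen_Uf 𝒜 f i) G τ
  refine ⟨N, t, ?_⟩
  have G' : Good 𝒜 (Uf 𝒜 f i ⊓ Proj.basicOpen 𝒜 g) e g ((f i : A) ^ e) := G.mono inf_le_left
  have e1 : oFrac 𝒜 (Uf 𝒜 f i ⊓ Proj.basicOpen 𝒜 g) (N • e) (g ^ N) ((f i : A) ^ (N • e)) =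
      oFrac 𝒜 (Uf 𝒜 f i ⊓ Proj.basicOpen 𝒜 g) (N * e) (g ^ N) (((f i : A) ^ e) ^ N) := by
    refine oFrac_eq 𝒜 ?_ (G'.pow N) ?_
    · rw [smul_eq_mul]
      have := G'.pow N
      rw [← pow_mul, mul_comm e N] at this
      exact this
    · rw [smul_eq_mul, ← pow_mul, mul_comm e N]
  rw [e1]
  exact hN

/-- the comparison data for `Γ_*(F)`. -/
noncomputable def compData [Finite ι]
    (hcov : ∀ y : Proj 𝒜, ∃ i, (f i : A) ∉ (y : ProjectiveSpectrum 𝒜).asHomogeneousIdeal) :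
    CompData 𝒜 (grading 𝒜 F f) F (fun i => (f i : A)) where
  hf := fun i => (f i).2
  hcov := hcov
  comp := fun i => compG 𝒜 F f i
  comp_smul := fun i d a m ha => compG_smul 𝒜 F f i ha m
  compat := by
    rintro i j p _ ⟨m, rfl⟩
    rw [compG_ofG, compG_ofG]
    exact (mem_Mfam 𝒜 F f).mp m.2 i j
  inj := by
    rintro i p _ ⟨m, rfl⟩ h0
    rw [compG_ofG] at h0
    exact exists_pow_smul_ofG_eq_zero 𝒜 F f i m h0
  surj := by
    intro i t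
    obtain ⟨p, m, hm⟩ := exists_family 𝒜 F f i t
    exact ⟨p, ofG 𝒜 F f p m, ⟨m, rfl⟩, by rw [compG_ofG]; exact hm⟩
  locInj := fun i t g e hg ht => locInj 𝒜 F f i t g e hg ht
  locSurj := fun i g e hg τ => locSurj 𝒜 F f i g e hg τ

/-- **Serre**: a quasi-coherent module on `Proj 𝒜` (covered by finitely many `D₊(f i)`, `f i` of
degree one) is `Γ_*(F)~`. -/
theorem nonempty_iso [Finite ι]
    (hcov : ∀ y : Proj 𝒜, ∃ i, (f i : A) ∉ (y : ProjectiveSpectrum 𝒜).asHomogeneousIdeal) :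
    Nonempty (GrTilde.tilde 𝒜 (grading 𝒜 F f) 0 ≅ F) :=
  (compData 𝒜 F f hcov).nonempty_iso

end Groth.Agent.Lib.Helper17.SerreTilde
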