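import Groth.Agent.Lib.Helper17.UPCoef

/-!
# The stalk of a module at a point where a global section is a basis (helper17)

For `t ∈ Γ(L, ⊤)` and `x ∈ loc t` (the open where `t` generates `L` freely), the stalk `L_x` is
free of rank one over `O_{X,x}` on the germ of `t`: `stalkEquiv t x hx : O_{X,x} ≃ₗ L_x`.
-/

set_option autoImplicit false
set_option linter.unusedSectionVars false
universe u
open AlgebraicGeometry CategoryTheory Limits TopologicalSpace Opposite

namespace Groth.Agent.Lib.Helper17.StalkBasis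
open Groth.Agent.Lib.Helper11 Groth.Agent.Lib.Helper11.GenLocus Groth.Agent.Lib.Helper45
  Groth.Agent.Lib.Helper49 Groth.Agent.Lib.Helper17.UPGen Groth.Agent.Lib.Helper17.UPCoef

variable {X : Scheme.{u}} {L : X.Modules}

/-- germ of a section of a module. -/
noncomputable def mgerm (L : X.Modules) (V : X.Opens) (x : X) (hx : x ∈ V) (s : Γ(L, V)) :
    L.presheaf.stalk x := (L.presheaf.germ V x hx).hom s

/-- germ of a function. -/
noncomputable def fgerm (V : X.Opens) (x : X) (hx : x ∈ V) : Γ(X, V) →+* X.presheaf.stalk x :=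
  (X.presheaf.germ V x hx).hom

theorem mgerm_smul (V : X.Opens) (x : X) (hx : x ∈ V) (a : Γ(X, V)) (s : Γ(L, V)) :
    mgerm L V x hx (a • s) = fgerm V x hx a • mgerm L V x hx s :=
  PresheafOfModules.germ_smul (R := X.presheaf)
    (show PresheafOfModules (X.presheaf ⋙ forget₂ CommRingCat RingCat) from L.val) x V hx a s

theorem mgerm_add (V : X.Opens) (x : X) (hx : x ∈ V) (s s' : Γ(L, V)) :
    mgerm L V x hx (s + s') = mgerm L V x hx s + mgerm L V x hx s' :=
  map_add _ _ _

theorem mgerm_zero (V : X.Opens) (x : X) (hx : x ∈ V) :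
    mgerm L V x hx 0 = 0 :=
  map_zero _

theorem mgerm_mres {V W : X.Opens} (h : W ≤ V) (x : X) (hx : x ∈ W) (s : Γ(L, V)) :
    mgerm L W x hx (mres L h s) = mgerm L V x (h hx) s :=
  TopCat.Presheaf.germ_res_apply L.presheaf (homOfLE h) x hx s

theorem fgerm_fres {V W : X.Opens} (h : W ≤ V) (x : X) (hx : x ∈ W) (a : Γ(X, V)) :
    fgerm W x hx (fres h a) = fgerm V x (h hx) a :=
  TopCat.Presheaf.germ_res_apply X.presheaf (homOfLE h) x hx a

theorem exists_mgerm_eq (x : X) (v : L.presheaf.stalk x) :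
    ∃ (V : X.Opens) (hx : x ∈ V) (s : Γ(L, V)), mgerm L V x hx s = v :=
  TopCat.Presheaf.exists_germ_eq L.presheaf v

theorem exists_fgerm_eq (x : X) (a : X.presheaf.stalk x) :
    ∃ (V : X.Opens) (hx : x ∈ V) (r : Γ(X, V)), fgerm V x hx r = a :=
  TopCat.Presheaf.exists_germ_eq X.presheaf a

theorem mgerm_eq_zero_iff (V : X.Opens) (x : X) (hx : x ∈ V) (s : Γ(L, V)) :
    mgerm L V x hx s = 0 ↔ ∃ (W : X.Opens) (h : W ≤ V), x ∈ W ∧ mres L h s = 0 := by
  constructor
  · intro h0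
    have h1 : (L.presheaf.germ V x hx).hom s = (L.presheaf.germ V x hx).hom 0 := by
      rw [map_zero]; exact h0
    obtain ⟨W, hxW, i₁, i₂, hW⟩ := TopCat.Presheaf.germ_eq L.presheaf x hx hx s 0 h1
    refine ⟨W, i₁.le, hxW, ?_⟩
    have : mres L i₁.le s = (L.presheaf.map i₁.op).hom s := rfl
    rw [this]
    exact hW.trans (map_zero _)
  · rintro ⟨W, h, hxW, h0⟩
    rw [← mgerm_mres h x hxW, h0, mgerm_zero]

variable (t : Γ(L, ⊤)) (x : X) (hx : x ∈ loc t)

/-- the germ of `t` at `x`. -/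
noncomputable def gen (L : X.Modules) (t : Γ(L, ⊤)) (x : X) : L.presheaf.stalk x :=
  mgerm L ⊤ x trivial t

include hx in
theorem exists_eq_smul_gen (v : L.presheaf.stalk x) :
    ∃ a : X.presheaf.stalk x, v = a • gen L t x := by
  obtain ⟨V, hxV, s, rfl⟩ := exists_mgerm_eq x v
  have hW : V ⊓ loc t ≤ loc t := inf_le_right
  have hb := isBasisOn_of_le_loc t hW
  obtain ⟨r, hr⟩ := hb.exists_eq_smul (mres L (inf_le_left : V ⊓ loc t ≤ V) s)
  refine ⟨fgerm (V ⊓ loc t) x ⟨hxV, hx⟩ r, ?_⟩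
  rw [← mgerm_mres (inf_le_left : V ⊓ loc t ≤ V) x ⟨hxV, hx⟩, ← hr, mgerm_smul]
  congr 1
  exact mgerm_mres (le_top : V ⊓ loc t ≤ ⊤) x ⟨hxV, hx⟩ t

include hx in
theorem eq_zero_of_smul_gen_eq_zero (a : X.presheaf.stalk x) (h : a • gen L t x = 0) : a = 0 := by
  obtain ⟨V, hxV, r, rfl⟩ := exists_fgerm_eq x a
  have h1 : mgerm L V x hxV (r • resT V t) = 0 := by
    rw [mgerm_smul, ← h]
    congr 1
    exact mgerm_mres (le_top : V ≤ ⊤) x hxV t
  obtain ⟨W, hWV, hxW, h0⟩ := (mgerm_eq_zero_iff V x hxV _).mp h1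
  have hW' : W ⊓ loc t ≤ loc t := inf_le_right
  have hb := isBasisOn_of_le_loc t hW'
  have h2 : fres ((inf_le_left : W ⊓ loc t ≤ W).trans hWV) r • resT (W ⊓ loc t) t =
      (0 : Γ(X, W ⊓ loc t)) • resT (W ⊓ loc t) t := by
    rw [zero_smul]
    have := congrArg (mres L (inf_le_left : W ⊓ loc t ≤ W)) h0
    rw [mres_smul, mres_smul, map_zero, fres_fres, mres_mres, mres_resT] at this
    exact this
  have h3 := hb.eq_of_smul_eq h2
  rw [← fgerm_fres ((inf_le_left : W ⊓ loc t ≤ W).trans hWV) x ⟨hxW, hx⟩, h3, map_zero]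

/-- `O_{X,x} ≃ L_x`, `a ↦ a • t_x`, for `x` in the locus where `t` is a basis. -/
noncomputable def stalkEquiv : X.presheaf.stalk x ≃ₗ[X.presheaf.stalk x] L.presheaf.stalk x :=
  LinearEquiv.ofBijective (LinearMap.toSpanSingleton (X.presheaf.stalk x) (L.presheaf.stalk x)
    (gen L t x))
    ⟨by
      rw [← LinearMap.ker_eq_bot, LinearMap.ker_eq_bot']
      intro a ha
      exact eq_zero_of_smul_gen_eq_zero t x hx a ha,
     by
      intro v
      obtain ⟨a, rfl⟩ := exists_eq_smul_gen t x hx v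
      exact ⟨a, rfl⟩⟩

theorem stalkEquiv_apply (a : X.presheaf.stalk x) : stalkEquiv t x hx a = a • gen L t x := rfl

/-- `I • L_x` is the image of `I` under the basis isomorphism. -/
theorem smul_top_eq_map (I : Ideal (X.presheaf.stalk x)) :
    I • (⊤ : Submodule (X.presheaf.stalk x) (L.presheaf.stalk x)) =
      Submodule.map (stalkEquiv t x hx).toLinearMap I := by
  have h1 : (⊤ : Submodule (X.presheaf.stalk x) (L.presheaf.stalk x)) =
      Submodule.map (stalkEquiv t x hx).toLinearMap ⊤ := by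
    rw [Submodule.map_top, LinearEquiv.range]
  rw [h1, ← Submodule.map_smul'', Ideal.smul_top_eq_map]
  congr 1
  simp

/-- the germ of a global section `t'` in terms of the basis. -/
theorem gen_eq_coef_smul (t' : Γ(L, ⊤)) :
    gen L t' x = fgerm (loc t) x hx (coef t t') • gen L t x := by
  unfold gen
  rw [← mgerm_mres (le_top : loc t ≤ ⊤) x hx t', ← mgerm_mres (le_top : loc t ≤ ⊤) x hx t,
    ← mgerm_smul]
  congr 1
  exact (coef_spec t t').symm

end Groth.Agent.Lib.Helper17.StalkBasis
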