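import Groth.Agent.Lib.Helper17.TildeTwist
import Groth.Agent.Lib.Helper17.TwistGen
import Groth.Agent.Lib.Helper17.GrSect
import Groth.Agent.Lib.Helper17.GrQCoh

/-!
# Multiplication by a homogeneous element `O(k) ⟶ M(d + k)~` and generation of `M(n)~` (helper17)
-/

set_option autoImplicit false
set_option linter.unusedSectionVars false
universe u
open CategoryTheory AlgebraicGeometry TopologicalSpace Opposite HomogeneousLocalization MonoidalCategory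

namespace Groth.Agent.Lib.Helper17.TildeGen
open Groth.Agent.Lib.Helper17.TwistTriv Groth.Agent.Lib.Helper17.TwistTensor
  Groth.Agent.Lib.Helper17.TildeTwist Groth.Agent.Lib.Helper17.TwistGen

variable {R A : Type u} [CommRing R] [CommRing A] [Algebra R A] (𝒜 : ℕ → Submodule R A)
  [GradedAlgebra 𝒜]
  {M : Type u} [AddCommGroup M] [Module R M] [Module A M] [IsScalarTower R A M]
  (ℳ : ℕ → Submodule R M) [DirectSum.Decomposition ℳ] [SetLike.GradedSMul 𝒜 ℳ] (k : ℤ)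

theorem mk_one_mem {d : ℕ} {x : M} (hx : x ∈ ℳ d) (y : ProjectiveSpectrum 𝒜) :
    (LocalizedModule.mk x ⟨1, one_not_mem 𝒜 y⟩ : GrTilde.LocMod 𝒜 (M := M) y) ∈
      GrTilde.tildeAt 𝒜 ℳ (d : ℤ) y :=
  Submodule.subset_span ⟨d, 0, ⟨x, hx⟩, ⟨1, SetLike.GradedOne.one_mem⟩, one_not_mem 𝒜 y,
    by simp, rfl⟩

/-- the section `x / 1` of `M(d)~` over any open. -/
def xSec {d : ℕ} {x : M} (hx : x ∈ ℳ d) (U : (Opens (ProjectiveSpectrum.top 𝒜))ᵒᵖ) :
    GrTilde.sect 𝒜 ℳ (d : ℤ) U :=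
  ⟨fun y => ⟨LocalizedModule.mk x ⟨1, one_not_mem 𝒜 y.1⟩, mk_one_mem 𝒜 ℳ hx y.1⟩,
    fun y => ⟨U.unop, y.2, 𝟙 _, d, 0, ⟨x, hx⟩, ⟨1, SetLike.GradedOne.one_mem⟩,
      fun z => one_not_mem 𝒜 z.1, Or.inl (by simp), fun _ => rfl⟩⟩

theorem val_xSec {d : ℕ} {x : M} (hx : x ∈ ℳ d) (U : (Opens (ProjectiveSpectrum.top 𝒜))ᵒᵖ)
    (y : U.unop) :
    (((xSec 𝒜 ℳ hx U).1 y : GrTilde.tildeAt 𝒜 ℳ (d : ℤ) y.1) : GrTilde.LocMod 𝒜 (M := M) y.1) =
      LocalizedModule.mk x ⟨1, one_not_mem 𝒜 y.1⟩ := rfl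

/-- multiplication by `x ∈ ℳ d`, sectionwise. -/
noncomputable def mulXLin {d : ℕ} {x : M} (hx : x ∈ ℳ d) (U : (Opens (Proj 𝒜))ᵒᵖ) :
    ↑((OP 𝒜 k).obj U) →ₗ[↑(((Proj 𝒜).sheaf.obj ⋙ forget₂ CommRingCat RingCat).obj U)]
      ↑((TP 𝒜 ℳ ((d : ℤ) + k)).obj U) :=
    { toFun := fun t => ofSectM 𝒜 ℳ (mulMS 𝒜 ℳ (d : ℤ) k U (xSec 𝒜 ℳ hx U) (asSect 𝒜 t))
      map_add' := fun t t' => by
        apply sect_extM
        intro y
        refine Eq.trans (val_mulMS 𝒜 ℳ (d : ℤ) k U _ _ y) ?_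
        refine Eq.trans ?_ (val_addM 𝒜 ℳ _ _ y).symm
        refine Eq.trans (congrArg (· • _) (TwistTensor.val_add 𝒜 t t' y)) ?_
        exact add_smul _ _ _
      map_smul' := fun a t => by
        apply sect_extM
        intro y
        refine Eq.trans (val_mulMS 𝒜 ℳ (d : ℤ) k U _ _ y) ?_
        refine Eq.trans ?_ (val_smulM 𝒜 ℳ a _ y).symm
        refine Eq.trans (congrArg (· • _) (TwistTensor.val_smul 𝒜 a t y)) ?_
        exact mul_smul _ _ _ }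

/-- multiplication by `x ∈ ℳ d`, sectionwise. -/
noncomputable def mulXApp {d : ℕ} {x : M} (hx : x ∈ ℳ d) (U : (Opens (Proj 𝒜))ᵒᵖ) :
    (OP 𝒜 k).obj U ⟶ (TP 𝒜 ℳ ((d : ℤ) + k)).obj U :=
  ConcreteCategory.ofHom (mulXLin 𝒜 ℳ k hx U)

/-- multiplication by `x ∈ ℳ d` as a morphism of presheaves of modules `O(k) ⟶ M(d + k)~`. -/
noncomputable def mulXP {d : ℕ} {x : M} (hx : x ∈ ℳ d) : OP 𝒜 k ⟶ TP 𝒜 ℳ ((d : ℤ) + k) where
  app U := mulXApp 𝒜 ℳ k hx U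
  naturality {U V} f := by
    ext t
    apply sect_extM
    intro y
    rfl

/-- multiplication by `x ∈ ℳ d` as a morphism `O(k) ⟶ M(d + k)~`. -/
noncomputable def mulX {d : ℕ} {x : M} (hx : x ∈ ℳ d) :
    Twist.twist 𝒜 k ⟶ GrTilde.tilde 𝒜 ℳ ((d : ℤ) + k) :=
  ⟨mulXP 𝒜 ℳ k hx⟩

open Groth.Agent.Lib.Helper17.GrQCoh Groth.Agent.Lib.Helper17.GrSect in
theorem val_mulX {d : ℕ} {x : M} (hx : x ∈ ℳ d) (W : (Proj 𝒜).Opens)
    (t : Γ(Twist.twist 𝒜 k, W)) (y : W) :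
    (((toSect 𝒜 ℳ ((d : ℤ) + k) ((mulX 𝒜 ℳ k hx).app W t)).1 y :
        GrTilde.tildeAt 𝒜 ℳ ((d : ℤ) + k) y.1) : GrTilde.LocMod 𝒜 (M := M) y.1) =
      (((toSectN' 𝒜 t).1 y : Twist.twistAt 𝒜 k y.1) : Twist.Loc 𝒜 y.1) •
        (LocalizedModule.mk x ⟨1, one_not_mem 𝒜 y.1⟩ : GrTilde.LocMod 𝒜 (M := M) y.1) := rfl

section algebra

theorem mk_sum {S : Submonoid A} {J : Type*} (T : Finset J) (m : J → M) (c : S) :
    (LocalizedModule.mk (∑ a ∈ T, m a) c : LocalizedModule S M) =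
      ∑ a ∈ T, LocalizedModule.mk (m a) c := by
  classical
  induction T using Finset.induction_on with
  | empty => simp
  | insert a T ha ih =>
    rw [Finset.sum_insert ha, Finset.sum_insert ha, ← ih, LocalizedModule.mk_add_mk, ← smul_add,
      LocalizedModule.mk_cancel_common_left]

include 𝒜 in
theorem decompose_smul_of_mem {p e : ℕ} {g : M} (hg : g ∈ ℳ p) (hpe : p ≤ e) (c : A) :
    ((DirectSum.decompose ℳ (c • g) e : ℳ e) : M) =
      ((DirectSum.decompose 𝒜 c (e - p) : 𝒜 (e - p)) : A) • g := by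
  induction c using DirectSum.Decomposition.inductionOn 𝒜 with
  | zero => simp
  | homogeneous c =>
    rename_i d
    have hcg : (c : A) • g ∈ ℳ (d + p) := SetLike.GradedSMul.smul_mem (A := 𝒜) c.2 hg
    by_cases h : d + p = e
    · have h' : d = e - p := by omega
      subst h'
      have h2 : e - p + p = e := h
      have hcg' : (c : A) • g ∈ ℳ e := (congrArg (fun j => (c : A) • g ∈ ℳ j) h2).mp hcg
      rw [DirectSum.decompose_of_mem_same 𝒜 c.2, DirectSum.decompose_of_mem_same ℳ hcg']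
    · have h' : d ≠ e - p := by omega
      rw [DirectSum.decompose_of_mem_ne ℳ hcg h, DirectSum.decompose_of_mem_ne 𝒜 c.2 h', zero_smul]
  | add c c' hc hc' =>
    rw [add_smul, DirectSum.decompose_add, DirectSum.decompose_add, DirectSum.add_apply,
      DirectSum.add_apply, Submodule.coe_add, Submodule.coe_add, hc, hc', add_smul]

end algebra

section algebra2

include 𝒜 in
/-- homogeneous coefficients for a homogeneous element of a module generated by homogeneous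
elements. -/
theorem exists_homog_coeffs {r : ℕ} (g : Fin r → M) (p : Fin r → ℕ) (hg : ∀ a, g a ∈ ℳ (p a))
    (hspan : Submodule.span A (Set.range g) = ⊤) {e : ℕ} {m : M} (hm : m ∈ ℳ e)
    (he : ∀ a, p a ≤ e) :
    ∃ b : Fin r → A, (∀ a, b a ∈ 𝒜 (e - p a)) ∧ m = ∑ a, b a • g a := by
  have hm' : m ∈ Submodule.span A (Set.range g) := by rw [hspan]; trivial
  obtain ⟨c, hc⟩ := (Submodule.mem_span_range_iff_exists_fun A).mp hm'
  refine ⟨fun a => ((DirectSum.decompose 𝒜 (c a) (e - p a) : 𝒜 (e - p a)) : A),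
    fun a => SetLike.coe_mem _, ?_⟩
  have h1 : ((DirectSum.decompose ℳ m e : ℳ e) : M) = m := DirectSum.decompose_of_mem_same ℳ hm
  rw [← h1, ← hc, DirectSum.decompose_sum, DFinsupp.finsetSum_apply,
    AddSubmonoidClass.coe_finsetSum]
  exact Finset.sum_congr rfl fun a _ => decompose_smul_of_mem 𝒜 ℳ (hg a) (he a) (c a)

end algebra2

section generation
open Groth.Agent.Lib.Helper17.GrQCoh Groth.Agent.Lib.Helper17.GrSect

def ofSectN' {n : ℤ} {V : (Proj 𝒜).Opens} (s : Twist.sectN (𝒜 := 𝒜) n (op V)) :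
    Γ(Twist.twist 𝒜 n, V) := s

/-- evaluation of a section of `M(n)~` at a point, additively. -/
def evalHom (n : ℤ) {W : (Proj 𝒜).Opens} (y : W) :
    Γ(GrTilde.tilde 𝒜 ℳ n, W) →+ GrTilde.LocMod 𝒜 (M := M) y.1 where
  toFun s := (((toSect 𝒜 ℳ n s).1 y : GrTilde.tildeAt 𝒜 ℳ n y.1) : GrTilde.LocMod 𝒜 (M := M) y.1)
  map_zero' := rfl
  map_add' _ _ := rfl

variable {r : ℕ} (g : Fin r → M) (p : Fin r → ℕ) (hg : ∀ a, g a ∈ ℳ (p a))
  (hspan : Submodule.span A (Set.range g) = ⊤)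
  {ι : Type u} [Fintype ι] (f : ι → 𝒜 1)
  (hcov : ∀ y : Proj 𝒜, ∃ i, (f i : A) ∉ (y : ProjectiveSpectrum 𝒜).asHomogeneousIdeal)
  (n : ℕ) (hn : ∀ a, p a ≤ n)

include hg hn in
/-- the generators `f i ^ (n - p a) • g a` of degree `n`. -/
theorem gen_mem (ia : ι × Fin r) : ((f ia.1 : A) ^ (n - p ia.2)) • g ia.2 ∈ ℳ n := by
  have h1 : (f ia.1 : A) ^ (n - p ia.2) ∈ 𝒜 (n - p ia.2) := pow_mem_of_mem_one 𝒜 (f ia.1).2 _
  have h2 := SetLike.GradedSMul.smul_mem (A := 𝒜) h1 (hg ia.2)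
  exact (congrArg (fun j => ((f ia.1 : A) ^ (n - p ia.2)) • g ia.2 ∈ ℳ j)
    (Nat.sub_add_cancel (hn ia.2))).mp h2

include hspan hcov in
/-- **local generation** of `M(n + k)~` by the images of `O(k)` under multiplication by the
degree-`n` generators. -/
theorem exists_local_sum (V : (Proj 𝒜).Opens) (s : Γ(GrTilde.tilde 𝒜 ℳ ((n : ℤ) + k), V))
    (x : Proj 𝒜) (hx : x ∈ V) :
    ∃ (W : (Proj 𝒜).Opens) (hWV : W ≤ V), x ∈ W ∧ ∃ t : ι × Fin r → Γ(Twist.twist 𝒜 k, W),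
      (GrTilde.tilde 𝒜 ℳ ((n : ℤ) + k)).presheaf.map (homOfLE hWV).op s =
        ∑ ia, ((mulX 𝒜 ℳ k (gen_mem 𝒜 ℳ g p hg f n hn ia)).app W).hom (t ia) := by
  classical
  obtain ⟨i, hi⟩ := hcov x
  obtain ⟨h, e, p', m, he, hh, hm, hp', hxh, hrep⟩ :=
    exists_local_rep 𝒜 ℳ ((n : ℤ) + k) (toSect 𝒜 ℳ _ s) ⟨x, hx⟩
  have hhn : h ^ n ∈ 𝒜 (n * e) := by simpa using SetLike.pow_mem_graded n hh
  have hm'mem : h ^ n • m ∈ ℳ (n * e + p') := SetLike.GradedSMul.smul_mem (A := 𝒜) hhn hm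
  have hh'mem : h ^ (n + 1) ∈ 𝒜 ((n + 1) * e) := by simpa using SetLike.pow_mem_graded (n + 1) hh
  have hle : ∀ a, p a ≤ n * e + p' := fun a =>
    (hn a).trans (le_trans (Nat.le_mul_of_pos_right n he) (Nat.le_add_right _ _))
  obtain ⟨b, hb, hsum⟩ := exists_homog_coeffs 𝒜 ℳ g p hg hspan hm'mem hle
  let W : (Proj 𝒜).Opens := V ⊓ (Proj.basicOpen 𝒜 h ⊓ Proj.basicOpen 𝒜 (f i : A))
  have hWh : ∀ y : W, h ∉ y.1.asHomogeneousIdeal := fun y =>
    (Proj.mem_basicOpen 𝒜 h y.1).mp y.2.2.1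
  have hWf : ∀ y : W, (f i : A) ∉ y.1.asHomogeneousIdeal := fun y =>
    (Proj.mem_basicOpen 𝒜 _ y.1).mp y.2.2.2
  have hden : ∀ (a : Fin r) (y : W), h ^ (n + 1) * (f i : A) ^ (n - p a) ∉
      y.1.asHomogeneousIdeal := fun a y hmem =>
    (y.1.isPrime.mem_or_mem hmem).elim
      (fun h1 => hWh y (y.1.isPrime.mem_of_pow_mem _ h1))
      (fun h1 => hWf y (y.1.isPrime.mem_of_pow_mem _ h1))
  have hdeg : ∀ a, (((n * e + p' - p a : ℕ)) : ℤ) =
      (((n + 1) * e + (n - p a) : ℕ) : ℤ) + k := by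
    intro a
    have h1 := hn a
    have h2 := hle a
    have h3 : (n + 1) * e = n * e + e := by ring
    rw [h3]
    generalize n * e = E at *
    omega
  let t : ι × Fin r → Γ(Twist.twist 𝒜 k, W) := fun ja =>
    if ja.1 = i then ofSectN' 𝒜 (fracN 𝒜 k (hb ja.2)
      (SetLike.mul_mem_graded hh'mem (pow_mem_of_mem_one 𝒜 (f i).2 (n - p ja.2)))
      (hdeg ja.2) W (hden ja.2)) else 0
  refine ⟨W, inf_le_left, ⟨hx, (Proj.mem_basicOpen 𝒜 h x).mpr hxh,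
    (Proj.mem_basicOpen 𝒜 _ x).mpr hi⟩, t, ?_⟩
  apply GrQCoh.sect_ext
  intro y
  -- the left hand side
  have hL : (((toSect 𝒜 ℳ ((n : ℤ) + k) ((GrTilde.tilde 𝒜 ℳ ((n : ℤ) + k)).presheaf.map
      (homOfLE (inf_le_left : W ≤ V)).op s)).1 y : GrTilde.tildeAt 𝒜 ℳ ((n : ℤ) + k) y.1) :
      GrTilde.LocMod 𝒜 (M := M) y.1) = frac 𝒜 y.1 m h (hWh y) := by
    obtain ⟨hyU, hy⟩ := hrep y.1 (hWh y)
    exact hy
  rw [hL]
  -- the right hand side
  have hR : ∀ ja : ι × Fin r, evalHom 𝒜 ℳ ((n : ℤ) + k) y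
      (((mulX 𝒜 ℳ k (gen_mem 𝒜 ℳ g p hg f n hn ja)).app W).hom (t ja)) =
      if ja.1 = i then frac 𝒜 y.1 (b ja.2 • g ja.2) (h ^ (n + 1))
        (fun h1 => hWh y (y.1.isPrime.mem_of_pow_mem _ h1)) else 0 := by
    rintro ⟨j, a⟩
    by_cases hj : j = i
    · subst hj
      have ht : t (j, a) = ofSectN' 𝒜 (fracN 𝒜 k (hb a)
          (SetLike.mul_mem_graded hh'mem (pow_mem_of_mem_one 𝒜 (f j).2 (n - p a)))
          (hdeg a) W (hden a)) := if_pos rfl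
      rw [if_pos rfl, ht]
      refine (val_mulX 𝒜 ℳ k _ W _ y).trans ?_
      change (Localization.mk (b a) ⟨h ^ (n + 1) * (f j : A) ^ (n - p a), hden a y⟩ :
        Twist.Loc 𝒜 y.1) • (LocalizedModule.mk ((f j : A) ^ (n - p a) • g a)
          ⟨1, one_not_mem 𝒜 y.1⟩ : GrTilde.LocMod 𝒜 (M := M) y.1) = _
      rw [LocalizedModule.mk_smul_mk]
      unfold frac
      rw [LocalizedModule.mk_eq]
      refine ⟨1, ?_⟩
      simp only [Submonoid.smul_def, Submonoid.coe_mul, one_smul, mul_one]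
      rw [smul_smul, smul_smul, smul_smul]
      congr 1
      ring
    · have ht : t (j, a) = 0 := if_neg hj
      rw [if_neg hj, ht, map_zero, map_zero]
  have hsumR : (((toSect 𝒜 ℳ ((n : ℤ) + k) (∑ ia, ((mulX 𝒜 ℳ k
      (gen_mem 𝒜 ℳ g p hg f n hn ia)).app W).hom (t ia))).1 y :
      GrTilde.tildeAt 𝒜 ℳ ((n : ℤ) + k) y.1) : GrTilde.LocMod 𝒜 (M := M) y.1) =
      ∑ ia : ι × Fin r, evalHom 𝒜 ℳ ((n : ℤ) + k) y
        (((mulX 𝒜 ℳ k (gen_mem 𝒜 ℳ g p hg f n hn ia)).app W).hom (t ia)) :=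
    map_sum (evalHom 𝒜 ℳ ((n : ℤ) + k) y) _ _
  rw [hsumR, Finset.sum_congr rfl (fun ja _ => hR ja), Fintype.sum_prod_type,
    Finset.sum_eq_single i (fun j _ hj => by simp [hj]) (fun hi' => absurd (Finset.mem_univ i) hi')]
  simp only [if_true]
  unfold frac
  rw [← mk_sum, ← hsum]
  exact frac_eq_of_smul_eq 𝒜 (hWh y) (fun h1 => hWh y (y.1.isPrime.mem_of_pow_mem _ h1))
    (by rw [smul_smul, pow_succ, mul_comm])

end generation

end Groth.Agent.Lib.Helper17.TildeGen
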