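import Groth.Agent.Lib.Helper17.TwistTensor
import Groth.Prelude.Def_GrMod2

/-!
# `M(k)~ ⊗ O(n) ≅ M(k + n)~` on `Proj` when the `D₊(f)`, `deg f = 1`, cover (helper17)
-/

set_option autoImplicit false
set_option linter.unusedSectionVars false
universe u
open CategoryTheory AlgebraicGeometry TopologicalSpace Opposite HomogeneousLocalization MonoidalCategory

namespace Groth.Agent.Lib.Helper17.TildeTwist
open Groth.Agent.Lib.Helper17.TwistTriv Groth.Agent.Lib.Helper17.TwistTensor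

variable {R A : Type u} [CommRing R] [CommRing A] [Algebra R A] (𝒜 : ℕ → Submodule R A)
  [GradedAlgebra 𝒜]
  {M : Type u} [AddCommGroup M] [Module R M] [Module A M] [IsScalarTower R A M]
  (ℳ : ℕ → Submodule R M) [DirectSum.Decomposition ℳ] [SetLike.GradedSMul 𝒜 ℳ] (k n : ℤ)

/-- A friendlier form of the local-fraction condition for `M(k)~`. -/
theorem exists_repM {U : (Opens (ProjectiveSpectrum.top 𝒜))ᵒᵖ} (s : GrTilde.sect 𝒜 ℳ k U)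
    (y : U.unop) :
    ∃ (V : Opens (ProjectiveSpectrum.top 𝒜)) (_ : y.1 ∈ V) (hVU : V ≤ U.unop) (i j : ℕ) (a : M)
      (c : A) (_ : a ∈ ℳ i) (_ : c ∈ 𝒜 j) (nin : ∀ x : V, c ∉ x.1.asHomogeneousIdeal),
      ((i : ℤ) = j + k ∨ a = 0) ∧
      ∀ x : V, ((s.1 ⟨x.1, hVU x.2⟩ : GrTilde.tildeAt 𝒜 ℳ k x.1) : GrTilde.LocMod 𝒜 (M := M) x.1) =
        LocalizedModule.mk a ⟨c, nin x⟩ := by
  obtain ⟨V, hyV, iV, i, j, a, c, nin, hdeg, w⟩ := s.2 y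
  exact ⟨V, hyV, leOfHom iV, i, j, a.1, c.1, a.2, c.2, nin, hdeg, fun x => w x⟩

/-- The product `t • s` of a fraction of `A` and a fraction of `M`, pointwise. -/
theorem smul_mem_tildeAt (x : ProjectiveSpectrum 𝒜) {i j i' j' : ℕ} {a : M} {c a' c' : A}
    (ha : a ∈ ℳ i) (hc : c ∈ 𝒜 j) (ha' : a' ∈ 𝒜 i') (hc' : c' ∈ 𝒜 j')
    (hcx : c ∉ x.asHomogeneousIdeal) (hcx' : c' ∉ x.asHomogeneousIdeal)
    (hdeg : (i : ℤ) = j + k ∨ a = 0) (hdeg' : (i' : ℤ) = j' + n ∨ a' = 0) :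
    (Localization.mk a' (⟨c', hcx'⟩ : x.asHomogeneousIdeal.toIdeal.primeCompl) : Twist.Loc 𝒜 x) •
      (LocalizedModule.mk a ⟨c, hcx⟩ : GrTilde.LocMod 𝒜 (M := M) x) ∈
        GrTilde.tildeAt 𝒜 ℳ (k + n) x := by
  rw [LocalizedModule.mk_smul_mk]
  rcases hdeg with hdeg | rfl
  · rcases hdeg' with hdeg' | rfl
    · refine Submodule.subset_span ⟨i' + i, j' + j, ⟨a' • a, SetLike.GradedSMul.smul_mem ha' ha⟩,
        ⟨c' * c, SetLike.mul_mem_graded hc' hc⟩,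
        fun hmem => (x.isPrime.mem_or_mem hmem).elim hcx' hcx,
        by push_cast; omega, rfl⟩
    · rw [zero_smul, LocalizedModule.zero_mk]; exact zero_mem _
  · rw [smul_zero, LocalizedModule.zero_mk]; exact zero_mem _

theorem smul_mem_tildeAt_sect {U : (Opens (ProjectiveSpectrum.top 𝒜))ᵒᵖ}
    (s : GrTilde.sect 𝒜 ℳ k U) (t : Twist.sectN (𝒜 := 𝒜) n U) (y : U.unop) :
    ((t.1 y : Twist.twistAt 𝒜 n y.1) : Twist.Loc 𝒜 y.1) •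
      ((s.1 y : GrTilde.tildeAt 𝒜 ℳ k y.1) : GrTilde.LocMod 𝒜 (M := M) y.1) ∈
        GrTilde.tildeAt 𝒜 ℳ (k + n) (y.1 : ProjectiveSpectrum 𝒜) := by
  obtain ⟨V, hyV, hVU, i, j, a, c, ha, hc, nin, hdeg, w⟩ := exists_repM 𝒜 ℳ k s y
  obtain ⟨V', hyV', hVU', i', j', a', c', ha', hc', nin', hdeg', w'⟩ := exists_rep 𝒜 n t y
  have e1' : ((s.1 y : GrTilde.tildeAt 𝒜 ℳ k y.1) : GrTilde.LocMod 𝒜 (M := M) y.1) =
      LocalizedModule.mk a ⟨c, nin ⟨y.1, hyV⟩⟩ := w ⟨y.1, hyV⟩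
  have e2' : ((t.1 y : Twist.twistAt 𝒜 n y.1) : Twist.Loc 𝒜 y.1) =
      Localization.mk a' ⟨c', nin' ⟨y.1, hyV'⟩⟩ := w' ⟨y.1, hyV'⟩
  have h := smul_mem_tildeAt 𝒜 ℳ k n (y.1 : ProjectiveSpectrum 𝒜) ha hc ha' hc'
    (nin ⟨y.1, hyV⟩) (nin' ⟨y.1, hyV'⟩) hdeg hdeg'
  have e : ((t.1 y : Twist.twistAt 𝒜 n y.1) : Twist.Loc 𝒜 y.1) •
      ((s.1 y : GrTilde.tildeAt 𝒜 ℳ k y.1) : GrTilde.LocMod 𝒜 (M := M) y.1) =
      (Localization.mk a' ⟨c', nin' ⟨y.1, hyV'⟩⟩ : Twist.Loc 𝒜 y.1) •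
        (LocalizedModule.mk a ⟨c, nin ⟨y.1, hyV⟩⟩ : GrTilde.LocMod 𝒜 (M := M) y.1) :=
    congrArg₂ (· • ·) e2' e1'
  exact e ▸ h

/-- The product of a section of `M(k)~` and a section of `O(n)`. -/
def mulMS (U : (Opens (ProjectiveSpectrum.top 𝒜))ᵒᵖ) (s : GrTilde.sect 𝒜 ℳ k U)
    (t : Twist.sectN (𝒜 := 𝒜) n U) : GrTilde.sect 𝒜 ℳ (k + n) U :=
  ⟨fun y => ⟨((t.1 y : Twist.twistAt 𝒜 n y.1) : Twist.Loc 𝒜 y.1) •
      ((s.1 y : GrTilde.tildeAt 𝒜 ℳ k y.1) : GrTilde.LocMod 𝒜 (M := M) y.1),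
      smul_mem_tildeAt_sect 𝒜 ℳ k n s t y⟩,
    fun y => by
      obtain ⟨V, hyV, hVU, i, j, a, c, ha, hc, nin, hdeg, w⟩ := exists_repM 𝒜 ℳ k s y
      obtain ⟨V', hyV', hVU', i', j', a', c', ha', hc', nin', hdeg', w'⟩ := exists_rep 𝒜 n t y
      refine ⟨V ⊓ V', ⟨hyV, hyV'⟩, homOfLE (inf_le_left.trans hVU), i' + i, j' + j,
        ⟨a' • a, SetLike.GradedSMul.smul_mem ha' ha⟩, ⟨c' * c, SetLike.mul_mem_graded hc' hc⟩,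
        fun x hmem => (x.1.isPrime.mem_or_mem hmem).elim (nin' ⟨x.1, x.2.2⟩) (nin ⟨x.1, x.2.1⟩),
        ?_, fun x => ?_⟩
      · rcases hdeg with hdeg | rfl
        · rcases hdeg' with hdeg' | rfl
          · left; push_cast; omega
          · right; exact zero_smul _ _
        · right; exact smul_zero _
      · have e1 := w ⟨x.1, x.2.1⟩
        have e2 := w' ⟨x.1, x.2.2⟩
        change ((t.1 ⟨x.1, _⟩ : Twist.twistAt 𝒜 n x.1) : Twist.Loc 𝒜 x.1) •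
          ((s.1 ⟨x.1, _⟩ : GrTilde.tildeAt 𝒜 ℳ k x.1) : GrTilde.LocMod 𝒜 (M := M) x.1) = _
        rw [e1, e2, LocalizedModule.mk_smul_mk]
        rfl⟩

/-- `M(k)~` as a presheaf of modules in the form used by the tensor product. -/
noncomputable abbrev TP (k : ℤ) : CohB1.PMod (Proj 𝒜) := CohB1.toPMod (GrTilde.tilde 𝒜 ℳ k)

def asSectM {k : ℤ} {U : (Opens (Proj 𝒜))ᵒᵖ} (s : ↑((TP 𝒜 ℳ k).obj U)) : GrTilde.sect 𝒜 ℳ k U := s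
def ofSectM {k : ℤ} {U : (Opens (Proj 𝒜))ᵒᵖ} (s : GrTilde.sect 𝒜 ℳ k U) : ↑((TP 𝒜 ℳ k).obj U) := s

theorem val_addM {k : ℤ} {U : (Opens (Proj 𝒜))ᵒᵖ} (s t : ↑((TP 𝒜 ℳ k).obj U)) (y : U.unop) :
    (((asSectM 𝒜 ℳ (s + t)).1 y : GrTilde.tildeAt 𝒜 ℳ k y.1) : GrTilde.LocMod 𝒜 (M := M) y.1) =
      ((asSectM 𝒜 ℳ s).1 y : GrTilde.LocMod 𝒜 (M := M) y.1) +
        ((asSectM 𝒜 ℳ t).1 y : GrTilde.LocMod 𝒜 (M := M) y.1) := rfl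

theorem val_smulM {k : ℤ} {U : (Opens (Proj 𝒜))ᵒᵖ}
    (a : ↑(((Proj 𝒜).sheaf.obj ⋙ forget₂ CommRingCat RingCat).obj U)) (s : ↑((TP 𝒜 ℳ k).obj U))
    (y : U.unop) :
    (((asSectM 𝒜 ℳ (a • s)).1 y : GrTilde.tildeAt 𝒜 ℳ k y.1) : GrTilde.LocMod 𝒜 (M := M) y.1) =
      ((asO 𝒜 a).1 y).val • ((asSectM 𝒜 ℳ s).1 y : GrTilde.LocMod 𝒜 (M := M) y.1) :=
  GrTilde.coe_smul_val k y.1 ((asO 𝒜 a).1 y) ((asSectM 𝒜 ℳ s).1 y)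

theorem val_mulMS (U : (Opens (Proj 𝒜))ᵒᵖ) (s : GrTilde.sect 𝒜 ℳ k U)
    (t : Twist.sectN (𝒜 := 𝒜) n U) (y : U.unop) :
    (((mulMS 𝒜 ℳ k n U s t).1 y : GrTilde.tildeAt 𝒜 ℳ (k + n) y.1) :
      GrTilde.LocMod 𝒜 (M := M) y.1) =
      ((t.1 y : Twist.twistAt 𝒜 n y.1) : Twist.Loc 𝒜 y.1) •
        ((s.1 y : GrTilde.tildeAt 𝒜 ℳ k y.1) : GrTilde.LocMod 𝒜 (M := M) y.1) := rfl

theorem sect_extM {k : ℤ} {U : (Opens (Proj 𝒜))ᵒᵖ} (s t : ↑((TP 𝒜 ℳ k).obj U))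
    (h : ∀ y : U.unop, (((asSectM 𝒜 ℳ s).1 y : GrTilde.tildeAt 𝒜 ℳ k y.1) :
      GrTilde.LocMod 𝒜 (M := M) y.1) = ((asSectM 𝒜 ℳ t).1 y : GrTilde.LocMod 𝒜 (M := M) y.1)) :
    s = t :=
  Subtype.ext (funext fun y => Subtype.ext (h y))

noncomputable def muMApp (U : (Opens (Proj 𝒜))ᵒᵖ) :
    (TP 𝒜 ℳ k).obj U ⊗ (OP 𝒜 n).obj U ⟶ (TP 𝒜 ℳ (k + n)).obj U :=
  ModuleCat.MonoidalCategory.tensorLift
    (fun s t => ofSectM 𝒜 ℳ (mulMS 𝒜 ℳ k n U (asSectM 𝒜 ℳ s) (asSect 𝒜 t)))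
    (fun s s' t => by
      apply sect_extM
      intro y
      refine Eq.trans (val_mulMS 𝒜 ℳ k n U _ _ y) ?_
      refine Eq.trans ?_ (val_addM 𝒜 ℳ _ _ y).symm
      refine Eq.trans (congrArg (_ • ·) (val_addM 𝒜 ℳ s s' y)) ?_
      exact smul_add _ _ _)
    (fun a s t => by
      apply sect_extM
      intro y
      refine Eq.trans (val_mulMS 𝒜 ℳ k n U _ _ y) ?_
      refine Eq.trans ?_ (val_smulM 𝒜 ℳ a _ y).symm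
      refine Eq.trans (congrArg (_ • ·) (val_smulM 𝒜 ℳ a s y)) ?_
      exact smul_comm _ _ _)
    (fun s t t' => by
      apply sect_extM
      intro y
      refine Eq.trans (val_mulMS 𝒜 ℳ k n U _ _ y) ?_
      refine Eq.trans ?_ (val_addM 𝒜 ℳ _ _ y).symm
      refine Eq.trans (congrArg (· • _) (TwistTensor.val_add 𝒜 t t' y)) ?_
      exact add_smul _ _ _)
    (fun a s t => by
      apply sect_extM
      intro y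
      refine Eq.trans (val_mulMS 𝒜 ℳ k n U _ _ y) ?_
      refine Eq.trans ?_ (val_smulM 𝒜 ℳ a _ y).symm
      refine Eq.trans (congrArg (· • _) (TwistTensor.val_smul 𝒜 a t y)) ?_
      exact mul_smul _ _ _)

/-- The multiplication map `M(k)~ ⊗ O(n) ⟶ M(k + n)~` of presheaves of modules. -/
noncomputable def muM : TP 𝒜 ℳ k ⊗ OP 𝒜 n ⟶ TP 𝒜 ℳ (k + n) where
  app U := muMApp 𝒜 ℳ k n U
  naturality {U V} f := by
    refine ModuleCat.MonoidalCategory.tensor_ext (fun s t => ?_)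
    rfl

theorem muM_app_tmul (U : (Opens (Proj 𝒜))ᵒᵖ) (s : ↑((TP 𝒜 ℳ k).obj U)) (t : ↑((OP 𝒜 n).obj U)) :
    ((muM 𝒜 ℳ k n).app U).hom (s ⊗ₜ t) =
      ofSectM 𝒜 ℳ (mulMS 𝒜 ℳ k n U (asSectM 𝒜 ℳ s) (asSect 𝒜 t)) := rfl

theorem val_cast {k₁ k₂ : ℤ} (h : k₁ = k₂) {U : (Opens (ProjectiveSpectrum.top 𝒜))ᵒᵖ}
    (s : GrTilde.sect 𝒜 ℳ k₁ U) (y : U.unop) :
    ((((h ▸ s : GrTilde.sect 𝒜 ℳ k₂ U)).1 y : GrTilde.tildeAt 𝒜 ℳ k₂ y.1) :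
      GrTilde.LocMod 𝒜 (M := M) y.1) =
      ((s.1 y : GrTilde.tildeAt 𝒜 ℳ k₁ y.1) : GrTilde.LocMod 𝒜 (M := M) y.1) := by
  subst h; rfl

section local_
variable {p q : ℕ} {u v : A} (hu : u ∈ 𝒜 p) (hv : v ∈ 𝒜 q) (hpq : (p : ℤ) = q + n)
  (U : (Opens (Proj 𝒜))ᵒᵖ)
  (hVv : ∀ y : U.unop, v ∉ y.1.asHomogeneousIdeal) (hVu : ∀ y : U.unop, u ∉ y.1.asHomogeneousIdeal)

open TensorProduct in
include hVu in
/-- every element of `M(k)~(U) ⊗ O(n)(U)` is `s ⊗ (u / v)`. -/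
theorem exists_eq_tmul_gen
    (z : TensorProduct ((Proj 𝒜).sheaf.obj.obj U) ((TP 𝒜 ℳ k).obj U) ((OP 𝒜 n).obj U)) :
    ∃ s : ↑((TP 𝒜 ℳ k).obj U),
      z = s ⊗ₜ[(Proj 𝒜).sheaf.obj.obj U] gen 𝒜 n hu hv hpq U hVv := by
  induction z using TensorProduct.induction_on with
  | zero => exact ⟨0, (TensorProduct.zero_tmul _ _).symm⟩
  | tmul s t =>
    obtain ⟨a, rfl⟩ := exists_eq_smul 𝒜 n hu hv hpq U hVv hVu t
    let a' : ↑((Proj 𝒜).sheaf.obj.obj U) := a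
    exact ⟨a' • s, (TensorProduct.smul_tmul a' s (gen 𝒜 n hu hv hpq U hVv)).symm⟩
  | add x y hx hy =>
    obtain ⟨s, rfl⟩ := hx
    obtain ⟨s', rfl⟩ := hy
    exact ⟨s + s', (TensorProduct.add_tmul _ _ _).symm⟩

theorem val_mulMS_gen (s : ↑((TP 𝒜 ℳ k).obj U)) (y : U.unop) :
    (((asSectM 𝒜 ℳ (ofSectM 𝒜 ℳ (mulMS 𝒜 ℳ k n U (asSectM 𝒜 ℳ s)
      (asSect 𝒜 (gen 𝒜 n hu hv hpq U hVv))))).1 y : GrTilde.tildeAt 𝒜 ℳ (k + n) y.1) :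
        GrTilde.LocMod 𝒜 (M := M) y.1) =
      (Localization.mk u ⟨v, hVv y⟩ : Twist.Loc 𝒜 y.1) •
        ((asSectM 𝒜 ℳ s).1 y : GrTilde.LocMod 𝒜 (M := M) y.1) := rfl

include hu hv hpq hVv hVu in
/-- The multiplication map is injective on sections over `U`. -/
theorem muM_app_eq_zero
    (z : TensorProduct ((Proj 𝒜).sheaf.obj.obj U) ((TP 𝒜 ℳ k).obj U) ((OP 𝒜 n).obj U))
    (hz : ((muM 𝒜 ℳ k n).app U).hom z = 0) : z = 0 := by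
  obtain ⟨s, rfl⟩ := exists_eq_tmul_gen 𝒜 ℳ k n hu hv hpq U hVv hVu z
  have hs : s = 0 := by
    apply sect_extM
    intro y
    have e3 := congrArg (fun s' : ↑((TP 𝒜 ℳ (k + n)).obj U) =>
      (((asSectM 𝒜 ℳ s').1 y : GrTilde.tildeAt 𝒜 ℳ (k + n) y.1) :
        GrTilde.LocMod 𝒜 (M := M) y.1)) hz
    have e4 : (Localization.mk u ⟨v, hVv y⟩ : Twist.Loc 𝒜 y.1) •
        ((asSectM 𝒜 ℳ s).1 y : GrTilde.LocMod 𝒜 (M := M) y.1) = 0 :=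
      (val_mulMS_gen 𝒜 ℳ k n hu hv hpq U hVv s y).symm.trans e3
    have e5 := congrArg ((Localization.mk v ⟨u, hVu y⟩ : Twist.Loc 𝒜 y.1) • ·) e4
    simp only [smul_zero, ← mul_smul] at e5
    rw [mul_comm, mk_mul_mk_eq_one 𝒜 y.1 (hVv y) (hVu y), one_smul] at e5
    exact e5
  rw [hs, TensorProduct.zero_tmul]

include hu hv hpq hVv hVu in
/-- The multiplication map is surjective on sections over `U`. -/
theorem exists_muM_app_eq (s' : ↑((TP 𝒜 ℳ (k + n)).obj U)) :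
    ∃ z : TensorProduct ((Proj 𝒜).sheaf.obj.obj U) ((TP 𝒜 ℳ k).obj U) ((OP 𝒜 n).obj U),
      ((muM 𝒜 ℳ k n).app U).hom z = s' := by
  have hqp : (q : ℤ) = p + -n := by omega
  let e' : Twist.sectN (𝒜 := 𝒜) (-n) U := fracN 𝒜 (-n) hv hu hqp U.unop hVu
  let s₀ : GrTilde.sect 𝒜 ℳ (k + n + -n) U := mulMS 𝒜 ℳ (k + n) (-n) U (asSectM 𝒜 ℳ s') e'
  let s : GrTilde.sect 𝒜 ℳ k U := (add_neg_cancel_right k n) ▸ s₀
  refine ⟨ofSectM 𝒜 ℳ s ⊗ₜ[(Proj 𝒜).sheaf.obj.obj U] gen 𝒜 n hu hv hpq U hVv, ?_⟩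
  apply sect_extM
  intro y
  refine Eq.trans (val_mulMS_gen 𝒜 ℳ k n hu hv hpq U hVv (ofSectM 𝒜 ℳ s) y) ?_
  have e1 : (((asSectM 𝒜 ℳ (ofSectM 𝒜 ℳ s)).1 y : GrTilde.tildeAt 𝒜 ℳ k y.1) :
      GrTilde.LocMod 𝒜 (M := M) y.1) =
      (Localization.mk v ⟨u, hVu y⟩ : Twist.Loc 𝒜 y.1) •
        ((asSectM 𝒜 ℳ s').1 y : GrTilde.LocMod 𝒜 (M := M) y.1) :=
    (val_cast 𝒜 ℳ (add_neg_cancel_right k n) s₀ y).trans rfl
  rw [e1, ← mul_smul, mk_mul_mk_eq_one 𝒜 y.1 (hVv y) (hVu y), one_smul]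

end local_

section cover
variable (hcov : (⨆ f : 𝒜 1, Proj.basicOpen 𝒜 (f : A)) = ⊤)

include hcov in
theorem isLocallySurjective_muM :
    PresheafOfModules.IsLocallySurjective (Opens.grothendieckTopology (Proj 𝒜)) (muM 𝒜 ℳ k n) := by
  refine ⟨fun {W} s => ?_⟩
  intro x hx
  have hx' : x ∈ (⨆ f : 𝒜 1, Proj.basicOpen 𝒜 (f : A)) := by rw [hcov]; trivial
  obtain ⟨f, hf⟩ := Opens.mem_iSup.mp hx'
  refine ⟨W ⊓ Proj.basicOpen 𝒜 (f : A), homOfLE inf_le_left, ?_, ⟨hx, hf⟩⟩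
  obtain ⟨z, hz⟩ := exists_muM_app_eq 𝒜 ℳ k n
    (SetLike.pow_mem_graded n.toNat f.2) (SetLike.pow_mem_graded (-n).toNat f.2) (toNat_cast n)
    (op (W ⊓ Proj.basicOpen 𝒜 (f : A)))
    (pow_not_mem_of_mem_inf 𝒜 W f _) (pow_not_mem_of_mem_inf 𝒜 W f _)
    ((TP 𝒜 ℳ (k + n)).map (homOfLE (inf_le_left : W ⊓ Proj.basicOpen 𝒜 (f : A) ≤ W)).op s)
  exact (Groth.Agent.Lib.Helper30.ModTensor.imageSieve_iff (muM 𝒜 ℳ k n) s _).mpr ⟨z, hz⟩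

include hcov in
theorem isLocallyInjective_muM :
    PresheafOfModules.IsLocallyInjective (Opens.grothendieckTopology (Proj 𝒜)) (muM 𝒜 ℳ k n) := by
  refine ⟨fun {X} a b hab => ?_⟩
  intro x hx
  have hx' : x ∈ (⨆ f : 𝒜 1, Proj.basicOpen 𝒜 (f : A)) := by rw [hcov]; trivial
  obtain ⟨f, hf⟩ := Opens.mem_iSup.mp hx'
  refine ⟨X.unop ⊓ Proj.basicOpen 𝒜 (f : A), homOfLE inf_le_left, ?_, ⟨hx, hf⟩⟩
  set g : X.unop ⊓ Proj.basicOpen 𝒜 (f : A) ⟶ X.unop := homOfLE inf_le_left with hg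
  refine (Groth.Agent.Lib.Helper30.ModTensor.equalizerSieve_iff (M₁ := TP 𝒜 ℳ k ⊗ OP 𝒜 n)
    a b g).mpr ?_
  have hab' : ((muM 𝒜 ℳ k n).app X).hom a = ((muM 𝒜 ℳ k n).app X).hom b := hab
  have h0 : ((muM 𝒜 ℳ k n).app (op (X.unop ⊓ Proj.basicOpen 𝒜 (f : A)))).hom
      ((TP 𝒜 ℳ k ⊗ OP 𝒜 n).map g.op a - (TP 𝒜 ℳ k ⊗ OP 𝒜 n).map g.op b) = 0 := by
    have e1 := PresheafOfModules.naturality_apply (muM 𝒜 ℳ k n) g.op a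
    have e2 := PresheafOfModules.naturality_apply (muM 𝒜 ℳ k n) g.op b
    refine (((muM 𝒜 ℳ k n).app (op (X.unop ⊓ Proj.basicOpen 𝒜 (f : A)))).hom.map_sub _ _).trans ?_
    exact sub_eq_zero.mpr (e1.trans ((congrArg _ hab').trans e2.symm))
  have h1 := muM_app_eq_zero 𝒜 ℳ k n
    (SetLike.pow_mem_graded n.toNat f.2) (SetLike.pow_mem_graded (-n).toNat f.2) (toNat_cast n)
    (op (X.unop ⊓ Proj.basicOpen 𝒜 (f : A)))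
    (pow_not_mem_of_mem_inf 𝒜 X.unop f _) (pow_not_mem_of_mem_inf 𝒜 X.unop f _) _ h0
  exact sub_eq_zero.mp h1

include hcov in
/-- **`M(k)~ ⊗ O(n) ≅ M(k + n)~`** when the `D₊(f)`, `f` of degree one, cover `Proj`. -/
theorem nonempty_tensor_iso_tilde :
    Nonempty (CohB1.tensorMod (GrTilde.tilde 𝒜 ℳ k) (Twist.twist 𝒜 n) ≅
      GrTilde.tilde 𝒜 ℳ (k + n)) := by
  have h1 := isLocallyInjective_muM 𝒜 ℳ k n hcov
  have h2 := isLocallySurjective_muM 𝒜 ℳ k n hcov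
  have hiso : IsIso ((Groth.Agent.Lib.Helper30.ModTensor.shf (Proj 𝒜).sheaf).map
      (muM 𝒜 ℳ k n)) :=
    (Groth.Agent.Lib.Helper30.ModTensor.isIso_shf_map_iff _).mpr ⟨h1, h2⟩
  exact ⟨@asIso _ _ _ _ _ hiso ≪≫ shfValIso (GrTilde.tilde 𝒜 ℳ (k + n))⟩

end cover

end Groth.Agent.Lib.Helper17.TildeTwist
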