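import Groth.Agent.Lib.Helper17.UPGen

/-!
# Coefficients of global sections with respect to a generating section (helper17)
-/

set_option autoImplicit false
set_option linter.unusedSectionVars false
universe u
open AlgebraicGeometry CategoryTheory Limits TopologicalSpace Opposite

namespace Groth.Agent.Lib.Helper17.UPCoef
open Groth.Agent.Lib.Helper11 Groth.Agent.Lib.Helper11.GenLocus Groth.Agent.Lib.Helper45
  Groth.Agent.Lib.Helper49 Groth.Agent.Lib.Helper17.UPGen

variable {X : Scheme.{u}} {L : X.Modules}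

/-- restriction of a global section to `V`. -/
noncomputable def resT (V : X.Opens) (t : Γ(L, ⊤)) : Γ(L, V) := mres L (le_top : V ≤ ⊤) t

theorem mres_resT {V W : X.Opens} (h : W ≤ V) (t : Γ(L, ⊤)) : mres L h (resT V t) = resT W t :=
  mres_mres L h le_top t

theorem resT_add (V : X.Opens) (a b : Γ(L, ⊤)) : resT V (a + b) = resT V a + resT V b :=
  map_add _ _ _

theorem resT_smul (V : X.Opens) (c : Γ(X, ⊤)) (a : Γ(L, ⊤)) :
    resT V (c • a) = fres (le_top : V ≤ ⊤) c • resT V a :=
  mres_smul L le_top c a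

/-- the open locus where the global section `t` generates `L`. -/
noncomputable def loc (t : Γ(L, ⊤)) : X.Opens := CohB1.genLocus L (homOfSection L t)

theorem isBasisOn_loc (t : Γ(L, ⊤)) : IsBasisOn L (loc t) (resT (loc t) t) := by
  have := (le_genLocus_iff_isBasisOn (homOfSection L t) (loc t)).mp le_rfl
  rwa [sec_homOfSection] at this

theorem isBasisOn_of_le_loc (t : Γ(L, ⊤)) {W : X.Opens} (hW : W ≤ loc t) :
    IsBasisOn L W (resT W t) := by
  have := (isBasisOn_loc t).mono hW
  rwa [mres_resT] at this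

/-- the coefficient of `t'` with respect to the basis `t` on `loc t`. -/
noncomputable def coef (t t' : Γ(L, ⊤)) : Γ(X, loc t) :=
  ((isBasisOn_loc t).exists_eq_smul (resT (loc t) t')).choose

theorem coef_spec (t t' : Γ(L, ⊤)) : coef t t' • resT (loc t) t = resT (loc t) t' :=
  ((isBasisOn_loc t).exists_eq_smul (resT (loc t) t')).choose_spec

theorem coef_unique {t t' : Γ(L, ⊤)} {c : Γ(X, loc t)}
    (h : c • resT (loc t) t = resT (loc t) t') : c = coef t t' :=
  (isBasisOn_loc t).eq_of_smul_eq (h.trans (coef_spec t t').symm)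

theorem coef_add (t a b : Γ(L, ⊤)) : coef t (a + b) = coef t a + coef t b := by
  symm
  apply coef_unique
  rw [add_smul, coef_spec, coef_spec, resT_add]

theorem coef_smul (t : Γ(L, ⊤)) (c : Γ(X, ⊤)) (a : Γ(L, ⊤)) :
    coef t (c • a) = fres le_top c * coef t a := by
  symm
  apply coef_unique
  rw [mul_smul, coef_spec, resT_smul]

theorem coef_self (t : Γ(L, ⊤)) : coef t t = 1 := by
  symm
  apply coef_unique
  rw [one_smul]

theorem coef_res (t t' : Γ(L, ⊤)) {W : X.Opens} (hW : W ≤ loc t) :
    fres hW (coef t t') • resT W t = resT W t' := by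
  have h := congrArg (mres L hW) (coef_spec t t')
  rw [mres_smul, mres_resT, mres_resT] at h
  exact h

theorem coef_mul (t t' t'' : Γ(L, ⊤)) {W : X.Opens} (hW : W ≤ loc t) (hW' : W ≤ loc t') :
    fres hW' (coef t' t'') = fres hW (coef t t'') * fres hW' (coef t' t) := by
  apply (isBasisOn_of_le_loc t' hW').eq_of_smul_eq
  rw [coef_res t' t'' hW', mul_smul, coef_res t' t hW', coef_res t t'' hW]

theorem coef_inv (t t' : Γ(L, ⊤)) {W : X.Opens} (hW : W ≤ loc t) (hW' : W ≤ loc t') :
    fres hW (coef t t') * fres hW' (coef t' t) = 1 := by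
  rw [← coef_mul t t' t' hW hW', coef_self, map_one]

end Groth.Agent.Lib.Helper17.UPCoef
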