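import Groth.Agent.Lib.Helper17.UPChart

/-!
# Morphisms to `Proj` from ring maps inverting a homogeneous element (helper17)

`awayLift ρ f : A_(f) →+* B` for `ρ : A →+* B` with `ρ f` a unit, and `fromRing W ρ hf hd hu :
W ⟶ Proj 𝒜` for an open `W` of a scheme and `ρ : A →+* Γ(X, W)`; independence of `f`, invariance
under twisting `ρ` by `c ^ degree`, restriction to smaller opens, and the ring map on the chart.
-/

set_option autoImplicit false
set_option linter.unusedSectionVars false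
universe u v w
open AlgebraicGeometry CategoryTheory Limits TopologicalSpace Opposite HomogeneousLocalization

namespace Groth.Agent.Lib.Helper17.UPFromRing
open Groth.Agent.Lib.Helper17.OFrac Groth.Agent.Lib.Helper17.UPSym
  Groth.Agent.Lib.Helper17.ProjGlobal Groth.Agent.Lib.Helper17.UPProj
  Groth.Agent.Lib.Helper17.UPChart

variable {R A : Type u} [CommRing R] [CommRing A] [Algebra R A] (𝒜 : ℕ → Submodule R A)
  [GradedAlgebra 𝒜]

section awayLift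
variable {B : Type v} [CommRing B] (ρ : A →+* B) (f : A) (hu : IsUnit (ρ f))

/-- the ring map `A_(f) →+* B` induced by `ρ : A →+* B` inverting `f`. -/
noncomputable def awayLift : Away 𝒜 f →+* B :=
  (IsLocalization.Away.lift (S := Localization.Away f) f hu).comp
    (algebraMap (Away 𝒜 f) (Localization.Away f))

theorem awayLift_mk {d : ℕ} (hf : f ∈ 𝒜 d) (n : ℕ) (a : A) (ha : a ∈ 𝒜 (n • d)) :
    awayLift 𝒜 ρ f hu (Away.mk 𝒜 hf n a ha) * ρ f ^ n = ρ a := by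
  have h1 : (Away.mk 𝒜 hf n a ha).val * algebraMap A (Localization.Away f) (f ^ n) =
      algebraMap A (Localization.Away f) a := by
    rw [Away.val_mk, Localization.mk_eq_mk']
    exact IsLocalization.mk'_spec _ a (⟨f ^ n, n, rfl⟩ : Submonoid.powers f)
  have h2 := congrArg (IsLocalization.Away.lift (S := Localization.Away f) f hu) h1
  rw [map_mul, IsLocalization.Away.lift_eq, IsLocalization.Away.lift_eq, map_pow] at h2
  exact h2

/-- an element of `A_(f)` is determined by the relations `z * f^n = a`. -/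
theorem awayLift_ext {d : ℕ} (hf : f ∈ 𝒜 d) (ψ : Away 𝒜 f →+* B)
    (h : ∀ (n : ℕ) (a : A) (ha : a ∈ 𝒜 (n • d)), ψ (Away.mk 𝒜 hf n a ha) * ρ f ^ n = ρ a) :
    ψ = awayLift 𝒜 ρ f hu := by
  apply RingHom.ext
  intro z
  obtain ⟨n, a, ha, rfl⟩ := Away.mk_surjective 𝒜 hf z
  have h1 := h n a ha
  have h2 := awayLift_mk 𝒜 ρ f hu hf n a ha
  exact (hu.pow n).mul_left_injective (h1.trans h2.symm)

theorem awayLift_comp {C : Type w} [CommRing C] (φ : B →+* C) {d : ℕ} (hf : f ∈ 𝒜 d) :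
    φ.comp (awayLift 𝒜 ρ f hu) = awayLift 𝒜 (φ.comp ρ) f (hu.map φ) := by
  apply awayLift_ext 𝒜 (φ.comp ρ) f (hu.map φ) hf
  intro n a ha
  have h2 := congrArg φ (awayLift_mk 𝒜 ρ f hu hf n a ha)
  rw [map_mul, map_pow] at h2
  exact h2

theorem awayLift_awayMap {d e : ℕ} (hf : f ∈ 𝒜 d) {g : A} (hg : g ∈ 𝒜 e) {x : A} (hx : x = f * g)
    (hux : IsUnit (ρ x)) :
    (awayLift 𝒜 ρ x hux).comp (awayMap 𝒜 hg hx) = awayLift 𝒜 ρ f hu := by
  apply awayLift_ext 𝒜 ρ f hu hf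
  intro n a ha
  have hug : IsUnit (ρ g) := by
    rw [hx, map_mul] at hux
    exact isUnit_of_mul_isUnit_right hux
  rw [RingHom.comp_apply, awayMap_mk]
  have h2 := awayLift_mk 𝒜 ρ x hux (hx ▸ SetLike.mul_mem_graded hf hg) n (a * g ^ n)
    (by rw [smul_add]; exact SetLike.mul_mem_graded ha (SetLike.pow_mem_graded n hg))
  apply (hug.pow n).mul_left_injective
  change _ * ρ f ^ n * ρ g ^ n = ρ a * ρ g ^ n
  have h3 : ρ f ^ n * ρ g ^ n = ρ x ^ n := by rw [hx, map_mul, mul_pow]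
  rw [mul_assoc, h3, h2, map_mul, map_pow]

/-- twisting `ρ` by `c ^ degree` does not change the induced map on degree-zero fractions. -/
theorem awayLift_twist (ρ' : A →+* B) (c : B) (hc : IsUnit c)
    (h : ∀ (k : ℕ) (s : A), s ∈ 𝒜 k → ρ' s = c ^ k * ρ s) {d : ℕ} (hf : f ∈ 𝒜 d)
    (hu' : IsUnit (ρ' f)) :
    awayLift 𝒜 ρ' f hu' = awayLift 𝒜 ρ f hu := by
  apply awayLift_ext 𝒜 ρ f hu hf
  intro n a ha
  have h2 := awayLift_mk 𝒜 ρ' f hu' hf n a ha
  rw [h _ _ ha, h _ _ hf] at h2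
  apply (hc.pow (n • d)).mul_left_injective
  change _ * ρ f ^ n * c ^ (n • d) = ρ a * c ^ (n • d)
  rw [mul_comm (ρ a), ← h2, mul_pow, smul_eq_mul, mul_comm n d, pow_mul]
  ring

end awayLift

section fromRing
variable {X : Scheme.{u}} (W : X.Opens) (ρ : A →+* Γ(X, W)) {f : A} {d : ℕ} (hf : f ∈ 𝒜 d)
  (hd : 0 < d) (hu : IsUnit (ρ f))

/-- the morphism `W ⟶ Proj 𝒜` attached to a ring map `ρ : A →+* Γ(X, W)` inverting a homogeneous
element `f` of positive degree. -/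
noncomputable def fromRing : W.toScheme ⟶ Proj 𝒜 :=
  ofAway 𝒜 hf hd (W.topIso.inv.hom.comp (awayLift 𝒜 ρ f hu))

theorem fromRing_congr {f' : A} {d' : ℕ} (hff : f = f') (hdd : d = d') (hf' : f' ∈ 𝒜 d')
    (hd' : 0 < d') (hu' : IsUnit (ρ f')) :
    fromRing 𝒜 W ρ hf hd hu = fromRing 𝒜 W ρ hf' hd' hu' := by
  subst hff hdd
  rfl

theorem fromRing_mul {e : ℕ} {g : A} (hg : g ∈ 𝒜 e) {x : A} (hx : x = f * g)
    (hux : IsUnit (ρ x)) :
    fromRing 𝒜 W ρ (hx ▸ SetLike.mul_mem_graded hf hg : x ∈ 𝒜 (d + e))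
      (hd.trans_le (Nat.le_add_right d e)) hux = fromRing 𝒜 W ρ hf hd hu := by
  unfold fromRing ofAway
  rw [← Proj.SpecMap_awayMap_awayι 𝒜 hf hd hg hx, ← Spec.map_comp_assoc, ← CommRingCat.ofHom_comp,
    RingHom.comp_assoc, awayLift_awayMap 𝒜 ρ f hu hf hg hx hux]

theorem fromRing_indep {e : ℕ} {g : A} (hg : g ∈ 𝒜 e) (he : 0 < e) (hug : IsUnit (ρ g)) :
    fromRing 𝒜 W ρ hf hd hu = fromRing 𝒜 W ρ hg he hug := by
  have hux : IsUnit (ρ (f * g)) := by rw [map_mul]; exact hu.mul hug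
  rw [← fromRing_mul 𝒜 W ρ hf hd hu hg rfl hux,
    ← fromRing_mul 𝒜 W ρ hg he hug hf (mul_comm f g) hux]
  exact fromRing_congr 𝒜 W ρ _ _ _ rfl (Nat.add_comm d e) _ _ _

theorem fromRing_twist (ρ' : A →+* Γ(X, W)) (c : Γ(X, W)) (hc : IsUnit c)
    (h : ∀ (k : ℕ) (s : A), s ∈ 𝒜 k → ρ' s = c ^ k * ρ s) (hu' : IsUnit (ρ' f)) :
    fromRing 𝒜 W ρ' hf hd hu' = fromRing 𝒜 W ρ hf hd hu := by
  unfold fromRing
  rw [awayLift_twist 𝒜 ρ f hu ρ' c hc h hf hu']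

theorem topIso_inv_homOfLE {W' : X.Opens} (h : W' ≤ W) :
    W.topIso.inv ≫ (X.homOfLE h).appTop = X.presheaf.map (homOfLE h).op ≫ W'.topIso.inv := by
  rw [Scheme.homOfLE_appTop, Scheme.Opens.topIso_inv, Scheme.Opens.topIso_inv]
  erw [← Functor.map_comp, ← Functor.map_comp]
  rfl

theorem fromRing_restrict {W' : X.Opens} (h : W' ≤ W) :
    X.homOfLE h ≫ fromRing 𝒜 W ρ hf hd hu =
      fromRing 𝒜 W' ((X.presheaf.map (homOfLE h).op).hom.comp ρ) hf hd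
        (hu.map (X.presheaf.map (homOfLE h).op).hom) := by
  unfold fromRing ofAway
  rw [Scheme.toSpecΓ_naturality_assoc, ← Spec.map_comp_assoc]
  congr 3
  rw [← awayLift_comp 𝒜 ρ f hu _ hf, ← RingHom.comp_assoc]
  have h1 := topIso_inv_homOfLE W h
  apply CommRingCat.hom_ext
  rw [CommRingCat.hom_comp, CommRingCat.hom_ofHom, CommRingCat.hom_ofHom, ← RingHom.comp_assoc]
  congr 1
  exact congrArg CommRingCat.Hom.hom h1

theorem fromRing_preimage :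
    fromRing 𝒜 W ρ hf hd hu ⁻¹ᵁ Proj.basicOpen 𝒜 f = ⊤ :=
  ofAway_preimage 𝒜 hf hd _

theorem fromRing_appLE {f : A} (hf : f ∈ 𝒜 1) (hu : IsUnit (ρ f)) {k : ℕ} {s : A} (hs : s ∈ 𝒜 k) :
    W.topIso.hom.hom (((fromRing 𝒜 W ρ hf one_pos hu).appLE (Proj.basicOpen 𝒜 f) ⊤
      (fromRing_preimage 𝒜 W ρ hf one_pos hu).ge).hom (dehom 𝒜 hf s)) * ρ f ^ k = ρ s := by
  have hs' : s ∈ 𝒜 (k • 1) := by simpa using hs
  rw [dehom_of_mem 𝒜 hf hs]
  have h1 := ofAway_appLE_oFrac 𝒜 hf (W.topIso.inv.hom.comp (awayLift 𝒜 ρ f hu)) k s hs'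
  have h2 : W.topIso.hom.hom (((fromRing 𝒜 W ρ hf one_pos hu).appLE (Proj.basicOpen 𝒜 f) ⊤
      (fromRing_preimage 𝒜 W ρ hf one_pos hu).ge).hom
      (oFrac 𝒜 (Proj.basicOpen 𝒜 f) k s (f ^ k))) = awayLift 𝒜 ρ f hu (Away.mk 𝒜 hf k s hs') := by
    refine (congrArg W.topIso.hom.hom h1).trans ?_
    rw [RingHom.comp_apply]
    exact congrArg (fun φ => (CommRingCat.Hom.hom φ) (awayLift 𝒜 ρ f hu (Away.mk 𝒜 hf k s hs')))
      W.topIso.inv_hom_id
  rw [h2]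
  exact awayLift_mk 𝒜 ρ f hu hf k s hs'

end fromRing

end Groth.Agent.Lib.Helper17.UPFromRing
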