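import Mathlib

/-!
# Gluing morphisms of schemes along an open cover by opens (helper17)
-/

set_option autoImplicit false
universe u
open AlgebraicGeometry CategoryTheory Limits TopologicalSpace Opposite

namespace Groth.Agent.Lib.Helper17.UPGlueHom

/-- gluing morphisms defined on the members of an open cover. -/
theorem exists_glue {X Y : Scheme.{u}} {κ : Type*} (U : κ → X.Opens) (hU : ∀ x : X, ∃ i, x ∈ U i)
    (g : ∀ i, (U i).toScheme ⟶ Y)
    (hg : ∀ i j, X.homOfLE (inf_le_left : U i ⊓ U j ≤ U i) ≫ g i =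
      X.homOfLE (inf_le_right : U i ⊓ U j ≤ U j) ≫ g j) :
    ∃ r : X ⟶ Y, ∀ i, (U i).ι ≫ r = g i := by
  have hV0 : IsOpenCover U := by
    rw [IsOpenCover]
    apply top_unique
    intro x _
    obtain ⟨i, hi⟩ := hU x
    exact Opens.mem_iSup.mpr ⟨i, hi⟩
  let 𝒰 := X.openCoverOfIsOpenCover U hV0
  refine ⟨𝒰.glueMorphisms g ?_, fun i => 𝒰.ι_glueMorphisms g _ i⟩
  intro (i : κ) (j : κ)
  change pullback.fst (U i).ι (U j).ι ≫ g i = pullback.snd (U i).ι (U j).ι ≫ g j
  let e := (isPullback_opens_inf (U i) (U j)).isoPullback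
  rw [← cancel_epi e.hom]
  have h1 : e.hom ≫ pullback.fst (U i).ι (U j).ι = X.homOfLE inf_le_left :=
    (isPullback_opens_inf (U i) (U j)).isoPullback_hom_fst
  have h2 : e.hom ≫ pullback.snd (U i).ι (U j).ι = X.homOfLE inf_le_right :=
    (isPullback_opens_inf (U i) (U j)).isoPullback_hom_snd
  rw [← Category.assoc, ← Category.assoc, h1, h2]
  exact hg i j

end Groth.Agent.Lib.Helper17.UPGlueHom
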