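import Groth.Agent.Lib.Helper17.UPSym

/-!
# Twisting ring maps out of a symmetric algebra (helper17)
-/

set_option autoImplicit false
universe u v
open DirectSum

namespace Groth.Agent.Lib.Helper17.UPSym

variable {A S : Type u} [CommRing A] [CommRing S] [Algebra A S] (𝒮 : ℕ → Submodule A S)
  [GradedAlgebra 𝒮]
variable {M : Type u} [AddCommGroup M] [Module A M] {ι : M →ₗ[A] S} (hι : ∀ m : M, ι m ∈ 𝒮 1)
  (hsym : IsSymmetricAlgebra ι)

include hι hsym in
/-- two ring maps out of a symmetric algebra agreeing on constants and differing by the factor `c`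
on `ι M` differ by `c ^ k` in degree `k`. -/
theorem ringHom_twist {B : Type v} [CommRing B] (ρ ρ' : S →+* B) (c : B)
    (halg : ∀ a : A, ρ (algebraMap A S a) = ρ' (algebraMap A S a))
    (h : ∀ m, ρ (ι m) = c * ρ' (ι m)) {k : ℕ} {s : S} (hs : s ∈ 𝒮 k) : ρ s = c ^ k * ρ' s := by
  let _ : Algebra A B := (ρ'.comp (algebraMap A S)).toAlgebra
  let F : S →ₐ[A] B := { ρ with commutes' := fun a => halg a }
  let F' : S →ₐ[A] B := { ρ' with commutes' := fun a => rfl }
  have hF : F = hsym.lift (F.toLinearMap ∘ₗ ι) := hsym.lift_unique rfl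
  have hF' : F' = hsym.lift (F'.toLinearMap ∘ₗ ι) := hsym.lift_unique rfl
  have key := lift_smul_of_mem 𝒮 hι hsym (F.toLinearMap ∘ₗ ι) (F'.toLinearMap ∘ₗ ι) c
    (fun m => h m) hs
  rw [← hF, ← hF'] at key
  exact key

end Groth.Agent.Lib.Helper17.UPSym
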