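import Groth.Agent.Lib.Helper17.UPCoef
import Groth.Agent.Lib.Helper17.UPFromRing
import Groth.Agent.Lib.Helper17.UPGlue
import Groth.Agent.Lib.Helper17.UPGlueHom
import Groth.Agent.Lib.Helper17.UPSymCover
import Groth.Agent.Lib.Helper17.UPSymTwist

/-!
# Existence in the universal property of `Proj (Sym M)` (helper17)

Given an invertible module `L` on `X ⟶ Spec A` and an `A`-linear map `v : M → Γ(X, L)` whose image
generates `L`, we construct `r : X ⟶ Proj 𝒮` over `Spec A` (`𝒮` a graded symmetric algebra of `M`)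
and `τ : r^* O(1) ≅ L` carrying `r^*(ι m)` to `v m`.
-/

set_option autoImplicit false
set_option linter.unusedSectionVars false
universe u
open AlgebraicGeometry CategoryTheory Limits TopologicalSpace Opposite HomogeneousLocalization

namespace Groth.Agent.Lib.Helper17.UPExist
open Groth.Agent.Lib.Helper11 Groth.Agent.Lib.Helper11.GenLocus Groth.Agent.Lib.Helper45
  Groth.Agent.Lib.Helper49 Groth.Agent.Lib.Helper17.OFrac Groth.Agent.Lib.Helper17.TwistGen
  Groth.Agent.Lib.Helper17.TwistAmple Groth.Agent.Lib.Helper17.UPPull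
  Groth.Agent.Lib.Helper17.UPSym Groth.Agent.Lib.Helper17.UPGen
  Groth.Agent.Lib.Helper17.ProjGlobal Groth.Agent.Lib.Helper17.UPProj
  Groth.Agent.Lib.Helper17.UPChart Groth.Agent.Lib.Helper17.UPCoef
  Groth.Agent.Lib.Helper17.UPFromRing

variable {A : Type u} [CommRing A] {S : Type u} [CommRing S] [Algebra A S]
  (𝒮 : ℕ → Submodule A S) [GradedAlgebra 𝒮]
  {M : Type u} [AddCommGroup M] [Module A M] (ι : M →ₗ[A] S) (hι : ∀ m : M, ι m ∈ 𝒮 1)
  (hsym : IsSymmetricAlgebra ι)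
  {X : Scheme.{u}} (q : X ⟶ Spec (CommRingCat.of A)) (L : X.Modules)
  (v : M →+ ProjUP.Γm L) (hv : ∀ (a : A) (m : M), v (a • m) = ProjUP.toGlobal q a • v m)

/-- the structure ring map `A →+* Γ(X, W)`. -/
noncomputable def algW (W : X.Opens) : A →+* Γ(X, W) :=
  (fres (le_top : W ≤ ⊤)).comp (ProjUP.toGlobal q)

theorem fres_algW {W W' : X.Opens} (h : W' ≤ W) (a : A) : fres h (algW q W a) = algW q W' a :=
  fres_fres h le_top _

/-- the locus where `v m` generates. -/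
noncomputable abbrev Xm (m : M) : X.Opens := loc (v m)

/-- the coefficient map with respect to `v m`, as a linear map. -/
noncomputable def ell (m : M) :
    letI : Algebra A Γ(X, Xm L v m) := (algW q (Xm L v m)).toAlgebra
    M →ₗ[A] Γ(X, Xm L v m) :=
  letI : Algebra A Γ(X, Xm L v m) := (algW q (Xm L v m)).toAlgebra
  { toFun := fun m'' => coef (v m) (v m'')
    map_add' := fun a b => by rw [map_add, coef_add]
    map_smul' := fun a b => by
      rw [hv, coef_smul]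
      rfl }

/-- the ring map `S →+* Γ(X, X_m)` induced by the coefficients. -/
noncomputable def rho (m : M) : S →+* Γ(X, Xm L v m) :=
  letI : Algebra A Γ(X, Xm L v m) := (algW q (Xm L v m)).toAlgebra
  (hsym.lift (ell q L v hv m) : S →+* Γ(X, Xm L v m))

theorem rho_ι (m m'' : M) : rho ι hsym q L v hv m (ι m'') = coef (v m) (v m'') := by
  let _ : Algebra A Γ(X, Xm L v m) := (algW q (Xm L v m)).toAlgebra
  exact hsym.lift_eq (ell q L v hv m) m''

theorem rho_algebraMap (m : M) (a : A) :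
    rho ι hsym q L v hv m (algebraMap A S a) = algW q (Xm L v m) a := by
  let _ : Algebra A Γ(X, Xm L v m) := (algW q (Xm L v m)).toAlgebra
  exact (hsym.lift (ell q L v hv m)).commutes a

theorem rho_ι_self (m : M) : rho ι hsym q L v hv m (ι m) = 1 := by
  exact (rho_ι ι hsym q L v hv m m).trans (coef_self _)

theorem isUnit_rho (m : M) : IsUnit (rho ι hsym q L v hv m (ι m)) := by
  rw [rho_ι_self]; exact isUnit_one

/-- the local morphism `X_m ⟶ Proj 𝒮`. -/
noncomputable def rm (m : M) : (Xm L v m).toScheme ⟶ Proj 𝒮 :=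
  fromRing 𝒮 (Xm L v m) (rho ι hsym q L v hv m) (hι m) one_pos (isUnit_rho ι hsym q L v hv m)

theorem rm_compat (m m' : M) :
    X.homOfLE (inf_le_left : Xm L v m ⊓ Xm L v m' ≤ Xm L v m) ≫ rm 𝒮 ι hι hsym q L v hv m =
      X.homOfLE (inf_le_right : Xm L v m ⊓ Xm L v m' ≤ Xm L v m') ≫
        rm 𝒮 ι hι hsym q L v hv m' := by
  unfold rm
  rw [fromRing_restrict, fromRing_restrict]
  set W := Xm L v m ⊓ Xm L v m' with hW
  have hWm : W ≤ Xm L v m := inf_le_left
  have hWm' : W ≤ Xm L v m' := inf_le_right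
  set c : Γ(X, W) := fres hWm' (coef (v m') (v m)) with hc
  have hcu : IsUnit c := IsUnit.of_mul_eq_one _ (coef_inv (v m') (v m) hWm' hWm)
  set ρ : S →+* Γ(X, W) := (X.presheaf.map (homOfLE hWm).op).hom.comp (rho ι hsym q L v hv m)
    with hρ
  set ρ' : S →+* Γ(X, W) := (X.presheaf.map (homOfLE hWm').op).hom.comp (rho ι hsym q L v hv m')
    with hρ'
  have hu : IsUnit (ρ (ι m)) :=
    (isUnit_rho ι hsym q L v hv m).map (X.presheaf.map (homOfLE hWm).op).hom
  have hu' : IsUnit (ρ' (ι m')) :=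
    (isUnit_rho ι hsym q L v hv m').map (X.presheaf.map (homOfLE hWm').op).hom
  have hρ'm : ρ' (ι m) = c := by
    change fres hWm' (rho ι hsym q L v hv m' (ι m)) = c
    rw [rho_ι]
  have hu'm : IsUnit (ρ' (ι m)) := by rw [hρ'm]; exact hcu
  have htw : ∀ (k : ℕ) (s : S), s ∈ 𝒮 k → ρ' s = c ^ k * ρ s := by
    intro k s hs
    refine ringHom_twist 𝒮 hι hsym ρ' ρ c ?_ ?_ hs
    · intro a
      change fres hWm' (rho ι hsym q L v hv m' (algebraMap A S a)) =
        fres hWm (rho ι hsym q L v hv m (algebraMap A S a))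
      rw [rho_algebraMap, rho_algebraMap, fres_algW, fres_algW]
    · intro m''
      change fres hWm' (rho ι hsym q L v hv m' (ι m'')) =
        c * fres hWm (rho ι hsym q L v hv m (ι m''))
      rw [rho_ι, rho_ι, coef_mul (v m) (v m') (v m'') hWm hWm', mul_comm]
  calc fromRing 𝒮 W ρ (hι m) one_pos hu
      = fromRing 𝒮 W ρ' (hι m) one_pos hu'm :=
        (fromRing_twist 𝒮 W ρ (hι m) one_pos hu ρ' c hcu htw hu'm).symm
    _ = fromRing 𝒮 W ρ' (hι m') one_pos hu' :=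
        fromRing_indep 𝒮 W ρ' (hι m) one_pos hu'm (hι m') one_pos hu'

/-- functions agreeing on an open cover are equal. -/
theorem fres_ext {V : X.Opens} {κ : Type*} (W : κ → X.Opens) (hW : ∀ k, W k ≤ V)
    (hcov : V ≤ ⨆ k, W k) (x x' : Γ(X, V)) (h : ∀ k, fres (hW k) x = fres (hW k) x') :
    x = x' :=
  TopCat.Sheaf.eq_of_locally_eq' X.sheaf W V (fun k => homOfLE (hW k)) hcov x x' h

/-- ring maps of a morphism restricted to an open subscheme. -/
theorem appLE_of_ι_comp {Y : Scheme.{u}} (r : X ⟶ Y) (U : X.Opens) (g : U.toScheme ⟶ Y)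
    (hg : U.ι ≫ r = g) (V : Y.Opens) (hU : U ≤ r ⁻¹ᵁ V) (hg' : ⊤ ≤ g ⁻¹ᵁ V) :
    g.appLE V ⊤ hg' ≫ U.topIso.hom = r.appLE V U hU := by
  subst hg
  have e₀ : (⊤ : U.toScheme.Opens) ≤ U.ι ⁻¹ᵁ U := by rw [Scheme.Opens.ι_preimage_self]
  have h3 : U.ι.appLE U ⊤ e₀ = U.topIso.inv := by
    rw [Scheme.Opens.ι_appLE, Scheme.Opens.topIso_inv]
    rfl
  have h1 : r.appLE V U hU ≫ U.ι.appLE U ⊤ e₀ = (U.ι ≫ r).appLE V ⊤ hg' :=
    Scheme.Hom.appLE_comp_appLE _ _ _ _ _ _ _
  rw [← h1, h3, Category.assoc, Iso.inv_hom_id, Category.comp_id]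

section glued
variable (r : X ⟶ Proj 𝒮) (hr : ∀ m, (Xm L v m).ι ≫ r = rm 𝒮 ι hι hsym q L v hv m)

include hr in
theorem Xm_le_preimage (m : M) : Xm L v m ≤ r ⁻¹ᵁ Proj.basicOpen 𝒮 (ι m) := by
  intro x hx
  have h1 : (⟨x, hx⟩ : (Xm L v m).toScheme) ∈
      rm 𝒮 ι hι hsym q L v hv m ⁻¹ᵁ Proj.basicOpen 𝒮 (ι m) := by
    unfold rm
    rw [fromRing_preimage]
    trivial
  rw [← hr m] at h1
  exact h1

include hr in
/-- the ring map of `r` on the chart `D₊(ι m)`. -/
theorem r_appLE (m : M) {k : ℕ} {s : S} (hs : s ∈ 𝒮 k) :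
    (r.appLE (Proj.basicOpen 𝒮 (ι m)) (Xm L v m) (Xm_le_preimage 𝒮 ι hι hsym q L v hv r hr m)).hom
      (dehom 𝒮 (hι m) s) = rho ι hsym q L v hv m s := by
  have h1 := fromRing_appLE 𝒮 (Xm L v m) (rho ι hsym q L v hv m) (hι m)
    (isUnit_rho ι hsym q L v hv m) hs
  rw [rho_ι_self, one_pow, mul_one] at h1
  rw [← h1]
  have h2 := appLE_of_ι_comp r (Xm L v m) _ (hr m) (Proj.basicOpen 𝒮 (ι m))
    (Xm_le_preimage 𝒮 ι hι hsym q L v hv r hr m)
    (fromRing_preimage 𝒮 (Xm L v m) (rho ι hsym q L v hv m) (hι m) one_pos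
      (isUnit_rho ι hsym q L v hv m)).ge
  exact (congrArg (fun φ => (CommRingCat.Hom.hom φ) (dehom 𝒮 (hι m) s)) h2).symm

include hr in
/-- `r` is a morphism over `Spec A`. -/
theorem r_comp_strMap (hcov : ∀ x : X, ∃ m, x ∈ Xm L v m) : r ≫ strMap 𝒮 = q := by
  apply ext_of_isAffine
  have key : gHom (r ≫ strMap 𝒮) = gHom q := by
    apply CommRingCat.hom_ext
    apply RingHom.ext
    intro a
    refine fres_ext (fun m => Xm L v m) (fun m => le_top) ?_ _ _ ?_
    · intro x _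
      obtain ⟨m, hm⟩ := hcov x
      exact Opens.mem_iSup.mpr ⟨m, hm⟩
    · intro m
      have h1 := appLE_dehom_algebraMap 𝒮 (hι m) r (Xm L v m)
        (Xm_le_preimage 𝒮 ι hι hsym q L v hv r hr m) a
      rw [r_appLE 𝒮 ι hι hsym q L v hv r hr m (SetLike.algebraMap_mem_graded 𝒮 a),
        rho_algebraMap] at h1
      exact h1.symm
  unfold gHom at key
  exact (cancel_epi (Scheme.ΓSpecIso (CommRingCat.of A)).inv).mp key

/-- the section `ι m / 1` of `O(1)`. -/
noncomputable abbrev sig (m : M) : Coh.structureModule (Proj 𝒮) ⟶ Twist.twist 𝒮 ((1 : ℕ) : ℤ) :=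
  secHom 𝒮 (hι m)

include hr in
/-- the pulled-back sections in terms of the basis `r^*(ι m)` on `X_m`. -/
theorem sec_pullHom_Xm (m m'' : M) :
    sec (pullHom r (sig 𝒮 ι hι m'')) (Xm L v m) =
      coef (v m) (v m'') • sec (pullHom r (sig 𝒮 ι hι m)) (Xm L v m) := by
  have h1 := sec_secHom_eq_smul 𝒮 (hι m'') (hι m) (Proj.basicOpen 𝒮 (ι m)) (nv_basicOpen (ι m))
  have h2 := sec_pullHom_of_eq_smul r _ _ _ _ h1 (Xm L v m)
    (Xm_le_preimage 𝒮 ι hι hsym q L v hv r hr m)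
  have h3 := r_appLE 𝒮 ι hι hsym q L v hv r hr m (hι m'')
  rw [dehom_of_mem 𝒮 (hι m) (hι m''), pow_one, rho_ι] at h3
  rw [h3] at h2
  exact h2

include hr hsym in
theorem isBasisOn_pull (m : M) :
    IsBasisOn ((Scheme.Modules.pullback r).obj (Twist.twist 𝒮 ((1 : ℕ) : ℤ))) (Xm L v m)
      (sec (pullHom r (sig 𝒮 ι hι m)) (Xm L v m)) := by
  rw [← le_genLocus_iff_isBasisOn,
    genLocus_pullHom_secHom 𝒮 (iSup_basicOpen_deg_one 𝒮 hι hsym) r (hι m)]
  exact Xm_le_preimage 𝒮 ι hι hsym q L v hv r hr m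

/-- the gluing data for `r^* O(1) ≅ L`. -/
noncomputable def glueData (hcov : ∀ x : X, ∃ m, x ∈ Xm L v m) :
    UPGlue.GlueData ((Scheme.Modules.pullback r).obj (Twist.twist 𝒮 ((1 : ℕ) : ℤ))) L where
  I := M
  U := fun m => Xm L v m
  hcov := hcov
  e' := fun m => sec (pullHom r (sig 𝒮 ι hι m)) (Xm L v m)
  e := fun m => resT (Xm L v m) (v m)
  he' := fun m => isBasisOn_pull 𝒮 ι hι hsym q L v hv r hr m
  he := fun m => isBasisOn_loc (v m)
  c := fun m m' => fres inf_le_left (coef (v m) (v m'))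
  hc' := fun m m' => by
    have h1 := congrArg (mres _ (inf_le_left : Xm L v m ⊓ Xm L v m' ≤ Xm L v m))
      (sec_pullHom_Xm 𝒮 ι hι hsym q L v hv r hr m m')
    rw [mres_smul, sec_mres, sec_mres] at h1
    rw [sec_mres, sec_mres]
    exact h1
  hc := fun m m' => by
    rw [mres_resT, mres_resT]
    exact (coef_res (v m) (v m') inf_le_left).symm

include hr in
theorem glue_spec (hcov : ∀ x : X, ∃ m, x ∈ Xm L v m) (m : M) :
    (glueData 𝒮 ι hι hsym q L v hv r hr hcov).iso.hom.app ⊤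
      (ProjUP.pullSec r (Twist.twist 𝒮 1) (Twist.globalOf 𝒮 ⟨ι m, hι m⟩)) = v m := by
  set D := glueData 𝒮 ι hι hsym q L v hv r hr hcov with hD
  rw [← sec_secHom_top 𝒮 (hι m), pullSec_sec]
  refine UPGlue.mres_ext L (fun m'' => Xm L v m'') (fun _ => le_top) ?_ _ _ ?_
  · intro x _
    obtain ⟨m'', hm⟩ := hcov x
    exact Opens.mem_iSup.mpr ⟨m'', hm⟩
  · intro m''
    change mres L le_top (sec (pullHom r (sig 𝒮 ι hι m) ≫ D.iso.hom) ⊤) = resT (Xm L v m'') (v m)
    rw [sec_mres]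
    change (D.iso.hom.app (Xm L v m'')).hom (sec (pullHom r (sig 𝒮 ι hι m)) (Xm L v m'')) = _
    rw [sec_pullHom_Xm 𝒮 ι hι hsym q L v hv r hr m'' m]
    refine (Scheme.Modules.Hom.app_smul D.iso.hom _ _).trans ?_
    have h1 : (D.iso.hom.app (Xm L v m'')).hom (sec (pullHom r (sig 𝒮 ι hι m'')) (Xm L v m'')) =
        resT (Xm L v m'') (v m'') := D.iso_hom_app_e m''
    rw [h1]
    exact coef_spec (v m'') (v m)

end glued

include hsym hv in
/-- **Existence in the universal property of `Proj (Sym M)`.** -/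
theorem exist (hL : PicF.IsInvertible L) (hgen : ProjUP.GeneratedBy L v) :
    ∃ (r : X ⟶ Proj 𝒮) (_ : r ≫ strMap 𝒮 = q)
      (τ : (Scheme.Modules.pullback r).obj (Twist.twist 𝒮 1) ≅ L),
      ∀ m : M, τ.hom.app ⊤ (ProjUP.pullSec r (Twist.twist 𝒮 1)
        (Twist.globalOf 𝒮 ⟨ι m, hι m⟩)) = v m := by
  have hcov : ∀ x : X, ∃ m, x ∈ Xm L v m := exists_mem_genLocus_of_generatedBy hL v hgen
  obtain ⟨r, hr⟩ := UPGlueHom.exists_glue (fun m => Xm L v m) hcov
    (fun m => rm 𝒮 ι hι hsym q L v hv m) (rm_compat 𝒮 ι hι hsym q L v hv)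
  exact ⟨r, r_comp_strMap 𝒮 ι hι hsym q L v hv r hr hcov,
    (glueData 𝒮 ι hι hsym q L v hv r hr hcov).iso,
    glue_spec 𝒮 ι hι hsym q L v hv r hr hcov⟩

end Groth.Agent.Lib.Helper17.UPExist
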