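import Groth.Agent.Lib.Helper17.UPExist

/-!
# Existence of morphisms to projective space from sections whose loci cover (helper17)

Variants of `UPExist.exist` taking the covering by the loci `X_{s_i}` as hypothesis.
-/

set_option autoImplicit false
set_option linter.unusedSectionVars false
universe u
open AlgebraicGeometry CategoryTheory Limits TopologicalSpace Opposite HomogeneousLocalization

namespace Groth.Agent.Lib.Helper17.UPExist
open Groth.Agent.Lib.Helper11 Groth.Agent.Lib.Helper11.GenLocus Groth.Agent.Lib.Helper45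
  Groth.Agent.Lib.Helper49 Groth.Agent.Lib.Helper17.OFrac Groth.Agent.Lib.Helper17.TwistGen
  Groth.Agent.Lib.Helper17.TwistAmple Groth.Agent.Lib.Helper17.UPPull
  Groth.Agent.Lib.Helper17.UPSym Groth.Agent.Lib.Helper17.UPGen
  Groth.Agent.Lib.Helper17.ProjGlobal Groth.Agent.Lib.Helper17.UPProj
  Groth.Agent.Lib.Helper17.UPChart Groth.Agent.Lib.Helper17.UPCoef
  Groth.Agent.Lib.Helper17.UPFromRing

section
variable {A : Type u} [CommRing A] {S : Type u} [CommRing S] [Algebra A S]
  (𝒮 : ℕ → Submodule A S) [GradedAlgebra 𝒮]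
  {M : Type u} [AddCommGroup M] [Module A M] (ι : M →ₗ[A] S) (hι : ∀ m : M, ι m ∈ 𝒮 1)
  (hsym : IsSymmetricAlgebra ι)
  {X : Scheme.{u}} (q : X ⟶ Spec (CommRingCat.of A)) (L : X.Modules)
  (v : M →+ ProjUP.Γm L) (hv : ∀ (a : A) (m : M), v (a • m) = ProjUP.toGlobal q a • v m)

include hsym hv in
/-- existence in the universal property of `Proj (Sym M)`, from a covering by the loci `X_{v m}`. -/
theorem exist_of_cover (hcov : ∀ x : X, ∃ m, x ∈ Xm L v m) :
    ∃ (r : X ⟶ Proj 𝒮) (_ : r ≫ strMap 𝒮 = q)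
      (τ : (Scheme.Modules.pullback r).obj (Twist.twist 𝒮 1) ≅ L),
      ∀ m : M, τ.hom.app ⊤ (ProjUP.pullSec r (Twist.twist 𝒮 1)
        (Twist.globalOf 𝒮 ⟨ι m, hι m⟩)) = v m := by
  obtain ⟨r, hr⟩ := UPGlueHom.exists_glue (fun m => Xm L v m) hcov
    (fun m => rm 𝒮 ι hι hsym q L v hv m) (rm_compat 𝒮 ι hι hsym q L v hv)
  exact ⟨r, r_comp_strMap 𝒮 ι hι hsym q L v hv r hr hcov,
    (glueData 𝒮 ι hι hsym q L v hv r hr hcov).iso,
    glue_spec 𝒮 ι hι hsym q L v hv r hr hcov⟩
end

/-- existence of a morphism to projective space from sections whose loci cover `X`. -/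
theorem exists_to_projSpace_of_cover {R : Type u} [CommRing R] (n : ℕ) {X : Scheme.{u}}
    (q : X ⟶ Spec (CommRingCat.of R)) (L : X.Modules)
    (s : Fin (n + 1) → ProjUP.Γm L) (hs : ∀ x : X, ∃ i, x ∈ loc (s i)) :
    ∃ (r : X ⟶ CohB1.ProjSpace n R) (_ : r ≫ CohB1.ProjSpace.toSpec n R = q)
      (τ : (Scheme.Modules.pullback r).obj (Twist.twistProjSpace n R 1) ≅ L),
      ∀ i, τ.hom.app ⊤ (ProjUP.pullSec r (Twist.twistProjSpace n R 1) (ProjUP.coord n R i)) = s i := by
  classical
  have hsym : IsSymmetricAlgebra (Module.Basis.constr (Pi.basisFun R (Fin (n + 1))) R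
      (MvPolynomial.X : Fin (n + 1) → MvPolynomial (Fin (n + 1)) R)) :=
    SymmetricAlgebra.IsSymmetricAlgebra.mvPolynomial (Fin (n + 1)) (Pi.basisFun R (Fin (n + 1)))
  have hX : ∀ i, (Module.Basis.constr (Pi.basisFun R (Fin (n + 1))) R
      (MvPolynomial.X : Fin (n + 1) → MvPolynomial (Fin (n + 1)) R))
      ((Pi.basisFun R (Fin (n + 1))) i) = MvPolynomial.X i := fun i =>
    Module.Basis.constr_basis _ _ _ i
  have hι : ∀ m, (Module.Basis.constr (Pi.basisFun R (Fin (n + 1))) R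
      (MvPolynomial.X : Fin (n + 1) → MvPolynomial (Fin (n + 1)) R)) m ∈
      CohB1.polyGrading n R 1 := by
    intro m
    rw [Module.Basis.constr_apply_fintype]
    refine Submodule.sum_mem _ fun i _ => Submodule.smul_mem _ _ ?_
    exact MvPolynomial.isHomogeneous_X R i
  -- the linear map `v`
  let v : (Fin (n + 1) → R) →+ ProjUP.Γm L :=
    AddMonoidHom.mk' (fun c => ∑ i, ProjUP.toGlobal q (c i) • s i) (by
      intro a b
      simp only [Pi.add_apply, map_add, add_smul, Finset.sum_add_distrib])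
  have hvdef : ∀ c, v c = ∑ i, ProjUP.toGlobal q (c i) • s i := fun _ => rfl
  have hv : ∀ (a : R) (c : Fin (n + 1) → R), v (a • c) = ProjUP.toGlobal q a • v c := by
    intro a c
    rw [hvdef, hvdef, Finset.smul_sum]
    refine Finset.sum_congr rfl fun i _ => ?_
    rw [Pi.smul_apply, smul_eq_mul, map_mul, mul_smul]
  have hvb : ∀ i, v ((Pi.basisFun R (Fin (n + 1))) i) = s i := by
    intro i
    rw [hvdef, Finset.sum_eq_single i]
    · rw [Pi.basisFun_apply, Pi.single_eq_same, map_one, one_smul]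
    · intro j _ hji
      rw [Pi.basisFun_apply, Pi.single_eq_of_ne hji, map_zero, zero_smul]
    · intro h
      exact absurd (Finset.mem_univ i) h
  have hcov : ∀ x : X, ∃ m, x ∈ Xm L v m := by
    intro x
    obtain ⟨i, hi⟩ := hs x
    refine ⟨(Pi.basisFun R (Fin (n + 1))) i, ?_⟩
    change x ∈ loc (v ((Pi.basisFun R (Fin (n + 1))) i))
    rw [hvb i]
    exact hi
  obtain ⟨r, hr, τ, hτ⟩ := exist_of_cover (CohB1.polyGrading n R) _ hι hsym q L v hv hcov
  refine ⟨r, hr, τ, fun i => ?_⟩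
  have key : (Twist.globalOf (CohB1.polyGrading n R)
      ⟨(Module.Basis.constr (Pi.basisFun R (Fin (n + 1))) R
        (MvPolynomial.X : Fin (n + 1) → MvPolynomial (Fin (n + 1)) R))
        ((Pi.basisFun R (Fin (n + 1))) i), hι _⟩ : ProjUP.Γm (Twist.twist (CohB1.polyGrading n R) 1)) =
      ProjUP.coord n R i := by
    unfold ProjUP.coord
    congr 1
    exact Subtype.ext (hX i)
  have h1 := hτ ((Pi.basisFun R (Fin (n + 1))) i)
  rw [key, hvb i] at h1
  exact h1

end Groth.Agent.Lib.Helper17.UPExist
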