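import Groth.Agent.Lib.Helper17.UPSpec
import Mathlib.RingTheory.LocalProperties.FinitePresentation
import Mathlib.RingTheory.Flat.Localization
import Mathlib.RingTheory.Flat.EquationalCriterion
import Mathlib.RingTheory.Spectrum.Prime.FreeLocus

/-!
# Invertible modules on `Spec R`: global sections are projective of rank one (helper17)
-/

set_option autoImplicit false
set_option linter.unusedSectionVars false
set_option linter.style.haveILetI false
universe u
open AlgebraicGeometry CategoryTheory Limits TopologicalSpace Opposite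

namespace Groth.Agent.Lib.Helper17.UPInvSpec
open Groth.Agent.Lib.Helper11 Groth.Agent.Lib.Helper11.GenLocus Groth.Agent.Lib.Helper45
  Groth.Agent.Lib.Helper49 Groth.Agent.Lib.Helper17.UPGen Groth.Agent.Lib.Helper17.UPCoef
  Groth.Agent.Lib.Helper17.UPSpec

variable {R : CommRingCat.{u}} (L : (Spec R).Modules)

/-- an invertible module has bases on basic opens around every point. -/
theorem exists_basicOpen_isBasisOn (hL : PicF.IsInvertible L) (x : Spec R) :
    ∃ g : R, x ∈ PrimeSpectrum.basicOpen g ∧
      ∃ e : Γ(L, PrimeSpectrum.basicOpen g), IsBasisOn L (PrimeSpectrum.basicOpen g) e := by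
  obtain ⟨V, hxV, e, he⟩ := exists_isBasisOn_of_isInvertible hL x
  obtain ⟨_, ⟨g, rfl⟩, hxg, hgle⟩ :=
    (Opens.isBasis_iff_nbhd.mp PrimeSpectrum.isBasis_basic_opens) hxV
  exact ⟨g, hxg, mres L hgle e, he.mono hgle⟩

/-- the elements `g` such that `L` has a basis on `D(g)`. -/
def good : Set R :=
  {g | ∃ e : Γ(L, PrimeSpectrum.basicOpen g), IsBasisOn L (PrimeSpectrum.basicOpen g) e}

theorem span_good (hL : PicF.IsInvertible L) : Ideal.span (good L) = ⊤ := by
  by_contra h
  obtain ⟨𝔪, hmax, hle⟩ := Ideal.exists_le_maximal _ h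
  obtain ⟨g, hxg, e, he⟩ :=
    exists_basicOpen_isBasisOn L hL (⟨𝔪, hmax.isPrime⟩ : PrimeSpectrum R)
  exact hxg (hle (Ideal.subset_span ⟨e, he⟩))

/-- the linear equivalence `O(U) ≃ L(U)` given by a basis. -/
noncomputable def equivOfBasis {U : (Spec R).Opens} {e : Γ(L, U)} (he : IsBasisOn L U e) :
    Γ(Spec R, U) ≃ₗ[Γ(Spec R, U)] Γ(L, U) :=
  LinearEquiv.ofBijective (LinearMap.toSpanSingleton Γ(Spec R, U) Γ(L, U) e) (by
    have h := he U le_rfl
    simp only [mres_self] at h
    exact h)

variable [L.IsQuasicoherent]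

/-- restriction to a basic open, as an `R`-linear map. -/
noncomputable def resLin (g : R) :
    Γ(L, (⊤ : (Spec R).Opens)) →ₗ[R] Γ(L, PrimeSpectrum.basicOpen g) where
  toFun := mres L (le_top : PrimeSpectrum.basicOpen g ≤ ⊤)
  map_add' := map_add _
  map_smul' := fun r m => mres_smul_R L le_top r m

instance (g : R) : IsLocalizedModule (.powers g) (resLin L g) := by
  have h := isLocalizedModule_res L g
  exact h

theorem flat_top (hL : PicF.IsInvertible L) : Module.Flat R Γ(L, (⊤ : (Spec R).Opens)) := by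
  refine Module.flat_of_isLocalized_span (R := R) R Γ(L, (⊤ : (Spec R).Opens)) (good L)
    (span_good L hL) (fun g => Γ(L, PrimeSpectrum.basicOpen g.1)) (fun g => resLin L g.1) ?_
  rintro ⟨g, e, he⟩
  haveI : Module.Flat R Γ(Spec R, PrimeSpectrum.basicOpen g) :=
    IsLocalization.flat _ (Submonoid.powers g)
  exact Module.Flat.of_linearEquiv ((equivOfBasis L he).restrictScalars R).symm

theorem finitePresentation_top (hL : PicF.IsInvertible L) :
    Module.FinitePresentation R Γ(L, (⊤ : (Spec R).Opens)) := by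
  refine Module.FinitePresentation.of_localizationSpan' (good L) (span_good L hL)
    (Mₚ := fun g => Γ(L, PrimeSpectrum.basicOpen g.1))
    (Rₚ := fun g => Γ(Spec R, PrimeSpectrum.basicOpen g.1)) (fun g => resLin L g.1) ?_
  rintro ⟨g, e, he⟩
  exact Module.FinitePresentation.of_equiv (equivOfBasis L he)

theorem projective_top (hL : PicF.IsInvertible L) :
    Module.Projective R Γ(L, (⊤ : (Spec R).Opens)) := by
  haveI := flat_top L hL
  haveI := finitePresentation_top L hL
  exact Module.Flat.projective_of_finitePresentation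

theorem rankAtStalk_top (hL : PicF.IsInvertible L) (p : PrimeSpectrum R) :
    Module.rankAtStalk (R := R) Γ(L, (⊤ : (Spec R).Opens)) p = 1 := by
  haveI := flat_top L hL
  haveI := finitePresentation_top L hL
  obtain ⟨g, hpg, e, he⟩ := exists_basicOpen_isBasisOn L hL p
  have hbc : IsBaseChange Γ(Spec R, PrimeSpectrum.basicOpen g) (resLin L g) :=
    IsLocalizedModule.isBaseChange (.powers g) Γ(Spec R, PrimeSpectrum.basicOpen g) (resLin L g)
  have hr : p ∈ Set.range (PrimeSpectrum.comap
      (algebraMap R Γ(Spec R, PrimeSpectrum.basicOpen g))) := by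
    rw [PrimeSpectrum.localization_away_comap_range Γ(Spec R, PrimeSpectrum.basicOpen g) g]
    exact hpg
  obtain ⟨p', rfl⟩ := hr
  rw [← Module.rankAtStalk_isBaseChange hbc p']
  haveI : Module.Free Γ(Spec R, PrimeSpectrum.basicOpen g) Γ(L, PrimeSpectrum.basicOpen g) :=
    Module.Free.of_equiv (equivOfBasis L he)
  haveI : Nontrivial Γ(Spec R, PrimeSpectrum.basicOpen g) := p'.nontrivial
  have h1 := congrFun (Module.rankAtStalk_eq_finrank_of_free
    (R := Γ(Spec R, PrimeSpectrum.basicOpen g)) (M := Γ(L, PrimeSpectrum.basicOpen g))) p'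
  rw [h1]
  have h2 : Module.finrank Γ(Spec R, PrimeSpectrum.basicOpen g) Γ(L, PrimeSpectrum.basicOpen g) =
      Module.finrank Γ(Spec R, PrimeSpectrum.basicOpen g) Γ(Spec R, PrimeSpectrum.basicOpen g) :=
    (equivOfBasis L he).finrank_eq.symm
  simp only [Pi.natCast_apply, h2, Module.finrank_self, Nat.cast_one]

/-- **Global sections spanning `Γ(L, ⊤)` have generating loci covering `Spec R`**
(for an invertible module `L`). -/
theorem cover_of_span (hL : PicF.IsInvertible L) {ι : Type*} [Fintype ι]
    (t : ι → Γ(L, (⊤ : (Spec R).Opens)))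
    (hspan : Submodule.span R (Set.range t) = ⊤) (x : Spec R) : ∃ i, x ∈ loc (t i) := by
  by_contra hne
  simp only [not_exists] at hne
  obtain ⟨g, hxg, e, he⟩ := exists_basicOpen_isBasisOn L hL x
  obtain ⟨⟨q, ⟨_, N, rfl⟩⟩, hq⟩ := IsLocalizedModule.surj (.powers g) (resLin L g) e
  have hq' : q ∈ Submodule.span R (Set.range t) := by rw [hspan]; trivial
  obtain ⟨c, hc⟩ := (Submodule.mem_span_range_iff_exists_fun R).mp hq'
  choose a ha using fun i => he.exists_eq_smul (resT (PrimeSpectrum.basicOpen g) (t i))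
  have hq2 : algebraMap R Γ(Spec R, PrimeSpectrum.basicOpen g) (g ^ N) • e = resLin L g q := hq
  have hkey : algebraMap R Γ(Spec R, PrimeSpectrum.basicOpen g) (g ^ N) =
      ∑ i, algebraMap R Γ(Spec R, PrimeSpectrum.basicOpen g) (c i) * a i := by
    apply he.eq_of_smul_eq
    rw [Finset.sum_smul, hq2, ← hc, map_sum]
    refine Finset.sum_congr rfl fun i _ => ?_
    rw [map_smul, mul_smul, ha i, ← smul_eq_algebraMap_smul]
    rfl
  have hunit : IsUnit (algebraMap R Γ(Spec R, PrimeSpectrum.basicOpen g) (g ^ N)) := by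
    rw [map_pow]
    exact (IsLocalization.Away.algebraMap_isUnit g).pow N
  rw [hkey] at hunit
  have hgerm := hunit.map ((Spec R).presheaf.germ (PrimeSpectrum.basicOpen g) x hxg).hom
  rw [map_sum] at hgerm
  have hmem : (∑ i, ((Spec R).presheaf.germ (PrimeSpectrum.basicOpen g) x hxg).hom
      (algebraMap R Γ(Spec R, PrimeSpectrum.basicOpen g) (c i) * a i)) ∈
      IsLocalRing.maximalIdeal ((Spec R).presheaf.stalk x) := by
    refine Ideal.sum_mem _ fun i _ => ?_
    rw [map_mul]
    refine Ideal.mul_mem_left _ _ ?_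
    rw [IsLocalRing.mem_maximalIdeal]
    intro hu
    apply hne i
    have hx : x ∈ (Spec R).basicOpen (a i) := ((Spec R).mem_basicOpen (a i) x hxg).mpr hu
    exact basicOpen_le_genLocus (homOfSection L (t i)) e he (a i)
      ((sec_homOfSection L (t i) _).trans (ha i).symm) hx
  exact (IsLocalRing.mem_maximalIdeal _).mp hmem hgerm

end Groth.Agent.Lib.Helper17.UPInvSpec
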