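import Groth.Agent.Lib.Helper11.CounitEpi
import Groth.Agent.Lib.Helper11.AmpleFinite
import Groth.Prelude.Def_ProjUP

/-!
# Pulling back sections of modules along a morphism of schemes (helper17)

For `r : X ⟶ Y`, `N : Y.Modules` and `σ : O_Y ⟶ N` (a global section of `N`):
* `pullHom r σ : O_X ⟶ r^* N`, the pulled-back section;
* `sec_pullHom`: over `r⁻¹ V` it is the adjunction unit applied to `σ|_V`;
* `pullSec_sec`: the frozen `ProjUP.pullSec` of the section `σ` is the section `pullHom r σ`;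
* `sec_pullHom_of_eq_smul`: if `σ₁ = z • σ₂` on `V` then `r^*σ₁ = r^♯(z) • r^*σ₂` on `W ≤ r⁻¹ V`;
* `preimage_genLocus_le`: `r⁻¹ (Y_σ) ≤ X_{r^*σ}`.
-/

set_option autoImplicit false
universe u
open AlgebraicGeometry CategoryTheory Limits TopologicalSpace Opposite

namespace Groth.Agent.Lib.Helper17.UPPull
open Groth.Agent.Lib.Helper11.CounitEpi Groth.Agent.Lib.Helper11.GenLocus
  Groth.Agent.Lib.Helper49

variable {X Y : Scheme.{u}} (r : X ⟶ Y) {N : Y.Modules}

/-- `O_X ⟶ r^* N` attached to `σ : O_Y ⟶ N`. -/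
noncomputable def pullHom (σ : Coh.structureModule Y ⟶ N) :
    Coh.structureModule X ⟶ (Scheme.Modules.pullback r).obj N :=
  (pullbackUnitIso r).inv ≫ (Scheme.Modules.pullback r).map σ

/-- the adjunction unit on sections over `V`. -/
noncomputable def unitApp (N : Y.Modules) (V : Y.Opens) :
    Γ(N, V) →+ Γ((Scheme.Modules.pullback r).obj N, r ⁻¹ᵁ V) :=
  (((Scheme.Modules.pullbackPushforwardAdjunction r).unit.app N).app V).hom

theorem unitApp_smul (V : Y.Opens) (a : Γ(Y, V)) (t : Γ(N, V)) :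
    unitApp r N V (a • t) = (r.app V).hom a • unitApp r N V t :=
  Scheme.Modules.Hom.app_smul ((Scheme.Modules.pullbackPushforwardAdjunction r).unit.app N) a t

theorem key (σ : Coh.structureModule Y ⟶ N) :
    SheafOfModules.unitToPushforwardObjUnit r.toRingCatSheafHom ≫
      (Scheme.Modules.pushforward r).map (pullHom r σ) =
    σ ≫ (Scheme.Modules.pullbackPushforwardAdjunction r).unit.app N := by
  have h1 : (pullbackUnitIso r).hom ≫ pullHom r σ = (Scheme.Modules.pullback r).map σ := by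
    simp [pullHom]
  have h2 := congrArg ((Scheme.Modules.pullbackPushforwardAdjunction r).homEquiv _ _) h1
  rw [Adjunction.homEquiv_naturality_right] at h2
  rw [Adjunction.homEquiv_unit (f := (Scheme.Modules.pullback r).map σ)] at h2
  erw [← (Scheme.Modules.pullbackPushforwardAdjunction r).unit.naturality σ] at h2
  refine Eq.trans ?_ h2
  congr 1
  exact (SheafOfModules.pullbackPushforwardAdjunction_homEquiv_pullbackObjUnitToUnit
    r.toRingCatSheafHom).symm

/-- over `r⁻¹ V` the pulled-back section is the unit applied to the section. -/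
theorem sec_pullHom (σ : Coh.structureModule Y ⟶ N) (V : Y.Opens) :
    sec (pullHom r σ) (r ⁻¹ᵁ V) = unitApp r N V (sec σ V) := by
  have h := congrArg (fun φ => ((Scheme.Modules.Hom.app φ V).hom (1 : Γ(Y, V)))) (key r σ)
  refine Eq.trans ?_ h
  change _ = ((pullHom r σ).app (r ⁻¹ᵁ V)).hom
    ((SheafOfModules.unitToPushforwardObjUnit r.toRingCatSheafHom).val.app (op V) (1 : Γ(Y, V)))
  rw [SheafOfModules.unitToPushforwardObjUnit_val_app_apply]
  unfold sec
  congr 1
  exact (map_one (ConcreteCategory.hom ((Scheme.Hom.toRingCatSheafHom r).hom.app (op V)))).symm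

/-- the frozen `pullSec` of a section is the section of the pulled-back map. -/
theorem pullSec_sec (σ : Coh.structureModule Y ⟶ N) :
    ProjUP.pullSec r N (sec σ ⊤) = sec (pullHom r σ) ⊤ :=
  (sec_pullHom r σ ⊤).symm

/-- if `σ₁ = z • σ₂` over `V`, then `r^* σ₁ = r^♯ z • r^* σ₂` over any `W ≤ r⁻¹ V`. -/
theorem sec_pullHom_of_eq_smul (σ₁ σ₂ : Coh.structureModule Y ⟶ N) (V : Y.Opens) (z : Γ(Y, V))
    (h : sec σ₁ V = z • sec σ₂ V) (W : X.Opens) (hW : W ≤ r ⁻¹ᵁ V) :
    sec (pullHom r σ₁) W = (r.appLE V W hW).hom z • sec (pullHom r σ₂) W := by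
  have h1 : sec (pullHom r σ₁) (r ⁻¹ᵁ V) = (r.app V).hom z • sec (pullHom r σ₂) (r ⁻¹ᵁ V) := by
    rw [sec_pullHom, sec_pullHom, h, unitApp_smul]
  have h2 := congrArg (mres _ hW) h1
  rw [mres_smul] at h2
  have e1 : ∀ σ : Coh.structureModule Y ⟶ N,
      mres _ hW (sec (pullHom r σ) (r ⁻¹ᵁ V)) = sec (pullHom r σ) W := fun σ => sec_res _ hW
  rw [e1, e1] at h2
  exact h2

/-- `(r^* -)|_{r⁻¹ V} ≅ (r|_V)^* (-|_V)` as a natural isomorphism. -/
noncomputable def pullbackRestrictNatIso (V : Y.Opens) :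
    Scheme.Modules.pullback r ⋙ Scheme.Modules.restrictFunctor (r ⁻¹ᵁ V).ι ≅
      Scheme.Modules.restrictFunctor V.ι ⋙ Scheme.Modules.pullback (r ∣_ V) :=
  Functor.isoWhiskerLeft (Scheme.Modules.pullback r)
      (Scheme.Modules.restrictFunctorIsoPullback (r ⁻¹ᵁ V).ι) ≪≫
    Scheme.Modules.pullbackComp (r ⁻¹ᵁ V).ι r ≪≫
    Scheme.Modules.pullbackCongr (morphismRestrict_ι r V).symm ≪≫
    (Scheme.Modules.pullbackComp (r ∣_ V) V.ι).symm ≪≫
    Functor.isoWhiskerRight (Scheme.Modules.restrictFunctorIsoPullback V.ι).symm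
      (Scheme.Modules.pullback (r ∣_ V))

theorem isIso_restrict_pullback_map (V : Y.Opens) {G G' : Y.Modules} (φ : G ⟶ G')
    (h : IsIso ((Scheme.Modules.restrictFunctor V.ι).map φ)) :
    IsIso ((Scheme.Modules.restrictFunctor (r ⁻¹ᵁ V).ι).map
      ((Scheme.Modules.pullback r).map φ)) := by
  have hn := (pullbackRestrictNatIso r V).hom.naturality φ
  have h2 : IsIso ((Scheme.Modules.restrictFunctor V.ι ⋙
      Scheme.Modules.pullback (r ∣_ V)).map φ) := by
    change IsIso ((Scheme.Modules.pullback (r ∣_ V)).map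
      ((Scheme.Modules.restrictFunctor V.ι).map φ))
    infer_instance
  have h3 : (Scheme.Modules.pullback r ⋙ Scheme.Modules.restrictFunctor (r ⁻¹ᵁ V).ι).map φ =
      (pullbackRestrictNatIso r V).hom.app G ≫
        (Scheme.Modules.restrictFunctor V.ι ⋙ Scheme.Modules.pullback (r ∣_ V)).map φ ≫
          (pullbackRestrictNatIso r V).inv.app G' := by
    rw [← Category.assoc, ← hn, Category.assoc, Iso.hom_inv_id_app, Category.comp_id]
  change IsIso ((Scheme.Modules.pullback r ⋙ Scheme.Modules.restrictFunctor (r ⁻¹ᵁ V).ι).map φ)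
  rw [h3]
  infer_instance

theorem isIso_restrict_pullHom (V : Y.Opens) (σ : Coh.structureModule Y ⟶ N)
    (h : IsIso ((Scheme.Modules.restrictFunctor V.ι).map σ)) :
    IsIso ((Scheme.Modules.restrictFunctor (r ⁻¹ᵁ V).ι).map (pullHom r σ)) := by
  have := isIso_restrict_pullback_map r V σ h
  unfold pullHom
  rw [Functor.map_comp]
  infer_instance

/-- `r⁻¹ (Y_σ) ≤ X_{r^* σ}`. -/
theorem preimage_genLocus_le (σ : Coh.structureModule Y ⟶ N) :
    r ⁻¹ᵁ (CohB1.genLocus N σ) ≤ CohB1.genLocus _ (pullHom r σ) := by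
  rw [le_genLocus_iff]
  exact isIso_restrict_pullHom r _ σ ((le_genLocus_iff N σ _).mp le_rfl)

end Groth.Agent.Lib.Helper17.UPPull
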