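import Groth.Agent.Lib.Helper17.UPCoef
import Groth.Agent.Lib.Helper49.AffineHom

/-!
# Quasi-coherent modules on `Spec R`: spanning global sections and isomorphisms (helper17)
-/

set_option autoImplicit false
set_option linter.unusedSectionVars false
universe u
open AlgebraicGeometry CategoryTheory Limits TopologicalSpace Opposite

namespace Groth.Agent.Lib.Helper17.UPSpec
open Groth.Agent.Lib.Helper11 Groth.Agent.Lib.Helper11.GenLocus Groth.Agent.Lib.Helper45
  Groth.Agent.Lib.Helper49 Groth.Agent.Lib.Helper17.UPGen Groth.Agent.Lib.Helper17.UPCoef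

variable {R : CommRingCat.{u}} (L : (Spec R).Modules)

theorem smul_eq_algebraMap_smul (U : (Spec R).Opens) (r : R) (m : Γ(L, U)) :
    r • m = algebraMap R Γ(Spec R, U) r • m := rfl

theorem mres_smul_R {U V : (Spec R).Opens} (h : V ≤ U) (r : R) (m : Γ(L, U)) :
    mres L h (r • m) = r • mres L h m :=
  Scheme.Modules.map_smul_Spec (M := L) (homOfLE h).op r m

variable [L.IsQuasicoherent]

theorem isLocalizedModule_res (g : R) :
    IsLocalizedModule (.powers g)
      ((modulesSpecToSheaf.obj L).obj.map (PrimeSpectrum.basicOpen g).leTop.op).hom :=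
  (isIso_fromTildeΓ_iff_isLocalizing L).mp inferInstance g

theorem exists_pow_smul_eq_zero (g : R) (m : Γ(L, ⊤))
    (h : mres L (le_top : PrimeSpectrum.basicOpen g ≤ ⊤) m = 0) : ∃ N : ℕ, g ^ N • m = 0 := by
  have hloc := isLocalizedModule_res L g
  have h1 : ((modulesSpecToSheaf.obj L).obj.map (PrimeSpectrum.basicOpen g).leTop.op).hom m =
      ((modulesSpecToSheaf.obj L).obj.map (PrimeSpectrum.basicOpen g).leTop.op).hom 0 := by
    rw [map_zero]
    exact h
  obtain ⟨⟨_, N, rfl⟩, hc⟩ := IsLocalizedModule.exists_of_eq (S := .powers g) h1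
  refine ⟨N, ?_⟩
  rw [smul_zero] at hc
  exact hc

theorem exists_pow_mul_eq_algebraMap (g : R) (a : Γ(Spec R, PrimeSpectrum.basicOpen g)) :
    ∃ (N : ℕ) (b : R), algebraMap R Γ(Spec R, PrimeSpectrum.basicOpen g) g ^ N * a =
      algebraMap R Γ(Spec R, PrimeSpectrum.basicOpen g) b := by
  obtain ⟨⟨b, ⟨_, N, rfl⟩⟩, h⟩ := IsLocalization.surj (Submonoid.powers g) a
  refine ⟨N, b, ?_⟩
  rw [mul_comm, ← map_pow]
  exact h

/-- **Global sections whose generating loci cover `Spec R` span the module of global sections**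
(for a quasi-coherent module). -/
theorem mem_span_of_cover {ι : Type*} (t : ι → Γ(L, ⊤))
    (hcov : ∀ x : Spec R, ∃ i, x ∈ loc (t i)) (y : Γ(L, ⊤)) :
    y ∈ Submodule.span R (Set.range t) := by
  set P' := Submodule.span R (Set.range t) with hP'
  let I : Ideal R :=
    { carrier := {a | a • y ∈ P'}
      add_mem' := fun {a b} ha hb => by
        change (a + b) • y ∈ P'
        rw [add_smul]
        exact P'.add_mem ha hb
      zero_mem' := by
        change (0 : R) • y ∈ P'
        rw [zero_smul]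
        exact P'.zero_mem
      smul_mem' := fun c a ha => by
        change (c • a) • y ∈ P'
        rw [smul_eq_mul, mul_smul]
        exact P'.smul_mem c ha }
  by_contra hy
  have hI : I ≠ ⊤ := by
    intro h
    apply hy
    have h1 : (1 : R) ∈ I := by rw [h]; trivial
    have h2 : (1 : R) • y ∈ P' := h1
    rwa [one_smul] at h2
  obtain ⟨𝔪, hmax, hle⟩ := Ideal.exists_le_maximal I hI
  let x : PrimeSpectrum R := ⟨𝔪, hmax.isPrime⟩
  obtain ⟨i, hi⟩ := hcov x
  obtain ⟨_, ⟨g, rfl⟩, hxg, hgle'⟩ :=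
    (Opens.isBasis_iff_nbhd.mp PrimeSpectrum.isBasis_basic_opens) hi
  let V : (Spec R).Opens := PrimeSpectrum.basicOpen g
  have hVle : V ≤ loc (t i) := hgle'
  have hb := isBasisOn_of_le_loc (t i) hVle
  obtain ⟨a, ha⟩ := hb.exists_eq_smul (resT V y)
  obtain ⟨N, b, hNb⟩ := exists_pow_mul_eq_algebraMap g a
  have h0 : mres L (le_top : V ≤ ⊤) (g ^ N • y - b • t i) = 0 := by
    have e1 : mres L (le_top : V ≤ ⊤) (g ^ N • y - b • t i) =
        g ^ N • resT V y - b • resT V (t i) := by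
      refine (map_sub (mres L (le_top : V ≤ ⊤)) _ _).trans ?_
      exact congrArg₂ (· - ·) (mres_smul_R L le_top _ y) (mres_smul_R L le_top _ (t i))
    rw [e1, ← ha, smul_eq_algebraMap_smul, smul_eq_algebraMap_smul, ← mul_smul, map_pow]
    have e2 : (algebraMap R Γ(Spec R, V)) g ^ N * a = (algebraMap R Γ(Spec R, V)) b := hNb
    rw [e2, sub_self]
  obtain ⟨N', hN'⟩ := exists_pow_smul_eq_zero L g _ h0
  have hmem : g ^ (N' + N) ∈ I := by
    change g ^ (N' + N) • y ∈ P'
    have h1 : g ^ (N' + N) • y = (g ^ N' * b) • t i := by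
      rw [smul_sub, sub_eq_zero] at hN'
      rw [pow_add, mul_smul, hN', mul_smul]
    rw [h1]
    exact Submodule.smul_mem _ _ (Submodule.subset_span ⟨i, rfl⟩)
  have hg : g ∈ 𝔪 := hmax.isPrime.mem_of_pow_mem _ (hle hmem)
  exact hxg hg

/-- the `R`-action on global sections is the action through `R ≅ Γ(Spec R, ⊤)`. -/
theorem smul_top_eq (M : (Spec R).Modules) (r : R) (m : Γ(M, ⊤)) :
    r • m = (Scheme.ΓSpecIso R).inv.hom r • m := by
  rw [Scheme.Modules.smul_Spec_def]
  congr 1

/-- an `R`-linear isomorphism of global sections of quasi-coherent modules on `Spec R` comes from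
an isomorphism of modules. -/
theorem exists_iso_of_linearEquiv (M N : (Spec R).Modules) [M.IsQuasicoherent] [N.IsQuasicoherent]
    (h : Γ(M, (⊤ : (Spec R).Opens)) ≃ₗ[R] Γ(N, (⊤ : (Spec R).Opens))) :
    ∃ τ : M ≅ N, ∀ m : Γ(M, (⊤ : (Spec R).Opens)), τ.hom.app ⊤ m = h m := by
  obtain ⟨φ, hφ⟩ := exists_hom_of_linearMap_Spec M N h.toLinearMap
  obtain ⟨ψ, hψ⟩ := exists_hom_of_linearMap_Spec N M h.symm.toLinearMap
  have h1 : φ ≫ ψ = 𝟙 _ := by
    apply hom_ext_Spec M M
    intro m
    change ψ.app ⊤ (φ.app ⊤ m) = m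
    rw [hφ, hψ]
    exact h.symm_apply_apply m
  have h2 : ψ ≫ φ = 𝟙 _ := by
    apply hom_ext_Spec N N
    intro m
    change φ.app ⊤ (ψ.app ⊤ m) = m
    rw [hψ, hφ]
    exact h.apply_symm_apply m
  exact ⟨⟨φ, ψ, h1, h2⟩, hφ⟩

end Groth.Agent.Lib.Helper17.UPSpec
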