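import Groth.Agent.Lib.Helper17.UPInvSpec

set_option autoImplicit false
set_option linter.style.haveILetI false
universe u
open AlgebraicGeometry CategoryTheory Limits TopologicalSpace Opposite

/-!
# `tilde Q` is invertible for `Q` finite projective of rank one (helper17)
-/

namespace Groth.Agent.Lib.Helper17.UPTildeInv
open Groth.Agent.Lib.Helper11 Groth.Agent.Lib.Helper11.GenLocus Groth.Agent.Lib.Helper45
  Groth.Agent.Lib.Helper49 Groth.Agent.Lib.Helper17.UPGen Groth.Agent.Lib.Helper17.UPCoef
  Groth.Agent.Lib.Helper17.UPSpec

/-- Transfer of a one-element basis of `LocalizedModule.Away r N` to any other model of the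
localization away from `r` (copy of helper45's `Rank1Invertible` lemma, to keep imports light). -/
theorem nonempty_linearEquiv_self_of_basis_unit {A : Type*} [CommRing A] (r : A)
    {N : Type*} [AddCommGroup N] [Module A N]
    (Ar : Type*) [CommRing Ar] [Algebra A Ar] [IsLocalization.Away r Ar]
    {Nr : Type*} [AddCommGroup Nr] [Module A Nr] [Module Ar Nr] [IsScalarTower A Ar Nr]
    (ρ : N →ₗ[A] Nr) [IsLocalizedModule.Away r ρ]
    (b : Module.Basis Unit (Localization.Away r) (LocalizedModule.Away r N)) :
    Nonempty (Nr ≃ₗ[Ar] Ar) := by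
  let σ : Localization.Away r ≃ₐ[A] Ar := IsLocalization.algEquiv (Submonoid.powers r) _ _
  let _ : Module (Localization.Away r) Nr := Module.compHom Nr (σ : Localization.Away r →+* Ar)
  have : IsScalarTower A (Localization.Away r) Nr := by
    constructor
    intro a c x
    change σ (a • c) • x = a • (σ c • x)
    rw [map_smul, smul_assoc]
  let τ : LocalizedModule.Away r N ≃ₗ[A] Nr := IsLocalizedModule.iso (Submonoid.powers r) ρ
  let τ' : LocalizedModule.Away r N ≃ₗ[Localization.Away r] Nr :=
    τ.extendScalarsOfIsLocalization (Submonoid.powers r) (Localization.Away r)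
  let B' := b.map τ'
  let B'' : Module.Basis Unit Ar Nr := B'.mapCoeffs σ.toRingEquiv (fun c x => rfl)
  exact ⟨B''.equivFun.trans (LinearEquiv.funUnique Unit Ar Ar)⟩

variable {R : CommRingCat.{u}} (Q : ModuleCat.{u} R)

/-- `tilde.toOpen` as a linear map into `Γ(tilde Q, U)`. -/
noncomputable def toOpenLin (U : (Spec R).Opens) : Q →ₗ[R] Γ(tilde Q, U) where
  toFun := (tilde.toOpen Q U).hom
  map_add' := map_add _
  map_smul' := (tilde.toOpen Q U).hom.map_smul

instance (r : R) : IsLocalizedModule.Away r (toOpenLin Q (PrimeSpectrum.basicOpen r)) := by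
  have h : IsLocalizedModule.Away r (tilde.toOpen Q (PrimeSpectrum.basicOpen r)).hom :=
    inferInstance
  exact h

theorem isInvertible_tilde [Module.Projective R Q] [Module.Finite R Q]
    (hrk : ∀ p : PrimeSpectrum R, Module.rankAtStalk (R := R) Q p = 1) :
    PicF.IsInvertible (tilde Q) := by
  intro x
  let p : PrimeSpectrum R := x
  haveI : Module.FinitePresentation R Q := Module.finitePresentation_of_projective R Q
  haveI : Module.Free (Localization.AtPrime p.asIdeal) (LocalizedModule p.asIdeal.primeCompl Q) :=
    Module.free_of_flat_of_isLocalRing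
  obtain ⟨r, hr, hfree, hfr⟩ := Module.FinitePresentation.exists_free_localizedModule_powers
    p.asIdeal.primeCompl (LocalizedModule.mkLinearMap p.asIdeal.primeCompl Q)
    (Localization.AtPrime p.asIdeal)
  have h1 : Module.finrank (Localization (.powers r)) (LocalizedModule.Away r Q) = 1 :=
    hfr.trans (hrk p)
  haveI : Nontrivial (Localization (.powers r)) :=
    (show Localization (.powers r) →+* Localization.AtPrime p.asIdeal from
      IsLocalization.map (M := .powers r) (T := p.asIdeal.primeCompl) _
        (RingHom.id _) (Submonoid.powers_le.mpr hr)).domain_nontrivial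
  let b : Module.Basis Unit (Localization.Away r) (LocalizedModule.Away r Q) :=
    Module.basisUnique Unit h1
  obtain ⟨e'⟩ := nonempty_linearEquiv_self_of_basis_unit r Γ(Spec R, PrimeSpectrum.basicOpen r)
    (toOpenLin Q (PrimeSpectrum.basicOpen r)) b
  refine ⟨PrimeSpectrum.basicOpen r, hr, ?_⟩
  exact nonempty_restrict_iso_structureModule (IsAffineOpen.Spec_basicOpen r) (tilde Q) e'

theorem toOpenLin_top_bijective : Function.Bijective (toOpenLin Q ⊤) := by
  have h : IsIso (tilde.toOpen Q ⊤) := inferInstance
  exact (ConcreteCategory.isIso_iff_bijective _).mp h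

end Groth.Agent.Lib.Helper17.UPTildeInv
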