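import Groth.Agent.Lib.Helper17.AmpleVeryAmple
import Groth.Agent.Lib.Helper17.TwistAmple2
import Groth.Agent.Lib.Helper11.PullbackAmple2

/-!
# Very ample implies ample over an affine base (helper17)

`isAmple_O1`: `O(1)` on `P^n_R` is ample; `isAmple_twistOver`: `O(1)` on `P^n_Y`, `Y` affine, is
ample; `isAmple_of_isRelVeryAmplePn`: a module very ample relative to a quasi-compact morphism to an
affine scheme is ample.
-/

set_option autoImplicit false
set_option linter.unusedSectionVars false
set_option linter.style.haveILetI false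
universe u
open AlgebraicGeometry CategoryTheory Limits TopologicalSpace Opposite

namespace Groth.Agent.Lib.Helper17.VeryAmpleAmple
open Groth.Agent.Lib.Helper11 Groth.Agent.Lib.Helper11.GenLocus Groth.Agent.Lib.Helper45
  Groth.Agent.Lib.Helper49 Groth.Agent.Lib.Helper17.UPSecKernel Groth.Agent.Lib.Helper17.PnSections
  Groth.Agent.Lib.Helper17.VeryAmpleCrit Groth.Agent.Lib.Helper11.PullbackAmple
  Groth.Agent.Lib.Helper11.PullbackAmple2

instance compactSpace_projSpace (n : ℕ) (R : Type u) [CommRing R] :
    CompactSpace (CohB1.ProjSpace n R) := by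
  rw [← isCompact_univ_iff]
  have h1 : (Set.univ : Set (CohB1.ProjSpace n R)) =
      ⋃ i : Fin (n + 1), ((D R n i : (CohB1.ProjSpace n R).Opens) : Set (CohB1.ProjSpace n R)) := by
    apply Set.eq_of_subset_of_subset
    · intro y _
      obtain ⟨i, hi⟩ := exists_T_not_mem n R y
      exact Set.mem_iUnion.mpr ⟨i, hi⟩
    · exact Set.subset_univ _
  rw [h1]
  exact isCompact_iUnion fun i =>
    (Proj.isAffineOpen_basicOpen (CohB1.polyGrading n R) _ (T_mem n R i) one_pos).isCompact

/-- `O(1)` on `P^n_R` is ample. -/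
theorem isAmple_O1 (n : ℕ) (R : Type u) [CommRing R] :
    CohB1.IsAmple (Twist.twistProjSpace n R 1) := by
  haveI : CompactSpace (Proj (CohB1.polyGrading n R)) := compactSpace_projSpace n R
  exact Groth.Agent.Lib.Helper17.TwistAmple.isAmple_twist_of_cover (CohB1.polyGrading n R)
    (iSup_basicOpen_deg_one n) 1 one_pos

/-- `O(1)` on `P^n_Y` is ample for affine `Y`. -/
theorem isAmple_twistOver (n : ℕ) (Y : Scheme.{u}) [IsAffine Y] :
    CohB1.IsAmple (Twist.twistOver n Y 1) := by
  unfold Twist.twistOver
  haveI : IsAffineHom (specULiftZIsTerminal.from Y) := isAffineHom_of_isAffine _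
  haveI : IsAffineHom (pullback.fst (CohB1.ProjSpace.toSpec n (ULift.{u} ℤ))
      (specULiftZIsTerminal.from Y)) := MorphismProperty.pullback_fst _ _ ‹_›
  exact isAmple_pullback_of_isQuasiAffine _ (@isQuasiAffine_of_isAffineHom _ _ _ this)
    (isAmple_O1 n _)

/-- a module very ample relative to a quasi-compact morphism to an affine scheme is ample. -/
theorem isAmple_of_isRelVeryAmplePn {X Y : Scheme.{u}} [IsAffine Y] (q : X ⟶ Y) [QuasiCompact q]
    (L : X.Modules) (h : RelAmple.IsRelVeryAmplePn q L) : CohB1.IsAmple L := by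
  obtain ⟨m, i, hi, hcomp, ⟨φ⟩⟩ := h
  haveI : CompactSpace X := QuasiCompact.compactSpace_of_compactSpace q
  have := isAmple_pullback_of_isEmbedding' i i.isEmbedding (isAmple_twistOver m Y)
  exact isAmple_of_iso φ.symm this

end Groth.Agent.Lib.Helper17.VeryAmpleAmple
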