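import Groth.Agent.Lib.Helper17.VeryAmpleTensor

/-!
# The criterion for relative very ampleness over an arbitrary base (helper17)

`exists_immersion_of_sections`: sections `w_0, …, w_n` of `L` on `X` (over `f : X ⟶ S`), and charts
`X_{w_c} ∩ f⁻¹ V` (`V` affine open in `S`) which are affine, cover `X` and have coordinate rings
generated over `Γ(V)` by the ratios `w_{c'} / w_c`, give an immersion `X ⟶ P^n_S` over `S` (with
the same `n`) with `L ≅ i^* O(1)`.
-/

set_option autoImplicit false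
set_option linter.unusedSectionVars false
set_option linter.style.haveILetI false
universe u
open AlgebraicGeometry CategoryTheory Limits TopologicalSpace Opposite HomogeneousLocalization

namespace Groth.Agent.Lib.Helper17.VeryAmpleCritGen
open Groth.Agent.Lib.Helper11 Groth.Agent.Lib.Helper11.GenLocus Groth.Agent.Lib.Helper45
  Groth.Agent.Lib.Helper49 Groth.Agent.Lib.Helper17.OFrac Groth.Agent.Lib.Helper17.TwistGen
  Groth.Agent.Lib.Helper17.TwistAmple Groth.Agent.Lib.Helper17.UPPull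
  Groth.Agent.Lib.Helper17.UPGen Groth.Agent.Lib.Helper17.UPProj
  Groth.Agent.Lib.Helper17.UPCoef Groth.Agent.Lib.Helper17.UPSecKernel
  Groth.Agent.Lib.Helper17.PnSections Groth.Agent.Lib.Helper17.UPUniq
  Groth.Agent.Lib.Helper17.VeryAmpleCrit Groth.Agent.Lib.Helper17.VeryAmpleTensor

/-- a morphism into a fibre product over an affine base which, on a cover by affine charts which
are preimages of products of affine opens, is surjective on coordinate rings, is an immersion. -/
theorem isImmersion_of_charts' {X P S B : Scheme.{u}} [IsAffine B] (a : P ⟶ B) (b : S ⟶ B)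
    (i : X ⟶ pullback a b) {κ : Type*} (D : κ → P.Opens) (V : κ → S.Opens)
    (hD : ∀ k, IsAffineOpen (D k)) (hV : ∀ k, IsAffineOpen (V k))
    (U : κ → X.Opens) (hU : ∀ k, IsAffineOpen (U k)) (hcov : ∀ x : X, ∃ k, x ∈ U k)
    (hUD : ∀ k, U k = (i ≫ pullback.fst a b) ⁻¹ᵁ D k ⊓ (i ≫ pullback.snd a b) ⁻¹ᵁ V k)
    (hgen : ∀ k, Subring.closure
      (Set.range ((i ≫ pullback.snd a b).appLE (V k) (U k)
          ((hUD k).le.trans inf_le_right)).hom ∪
        Set.range ((i ≫ pullback.fst a b).appLE (D k) (U k)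
          ((hUD k).le.trans inf_le_left)).hom) = ⊤) :
    IsImmersion i := by
  let W : κ → (pullback a b).Opens := fun k =>
    pullback.fst a b ⁻¹ᵁ D k ⊓ pullback.snd a b ⁻¹ᵁ V k
  have hpre : ∀ k, U k = i ⁻¹ᵁ W k := by
    intro k
    change _ = i ⁻¹ᵁ (pullback.fst a b ⁻¹ᵁ D k) ⊓ i ⁻¹ᵁ (pullback.snd a b ⁻¹ᵁ V k)
    rw [← Scheme.Hom.comp_preimage, ← Scheme.Hom.comp_preimage]
    exact hUD k
  apply IsZariskiLocalAtTarget.of_range_subset_iSup (P := @IsImmersion) W
  · rintro _ ⟨x, rfl⟩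
    obtain ⟨k, hk⟩ := hcov x
    rw [hpre k] at hk
    exact Opens.mem_iSup.mpr ⟨k, hk⟩
  · intro k
    have hWaff : IsAffineOpen (W k) := isAffineOpen_inf_preimage a b _ _ (hD k) (hV k)
    have hsurj : Function.Surjective (i.appLE (W k) (U k) (hpre k).le).hom := by
      have hsub : Subring.closure
          (Set.range ((i ≫ pullback.snd a b).appLE (V k) (U k)
              ((hUD k).le.trans inf_le_right)).hom ∪
            Set.range ((i ≫ pullback.fst a b).appLE (D k) (U k)
              ((hUD k).le.trans inf_le_left)).hom) ≤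
          (i.appLE (W k) (U k) (hpre k).le).hom.range := by
        rw [Subring.closure_le]
        rintro _ (⟨z, rfl⟩ | ⟨z, rfl⟩)
        · refine ⟨((pullback.snd a b).appLE (V k) (W k) inf_le_right).hom z, ?_⟩
          have h1 := Scheme.Hom.appLE_comp_appLE i (pullback.snd a b) (V k) (W k)
            (U k) inf_le_right (hpre k).le
          rw [← h1]
          rfl
        · refine ⟨((pullback.fst a b).appLE (D k) (W k) inf_le_left).hom z, ?_⟩
          have h1 := Scheme.Hom.appLE_comp_appLE i (pullback.fst a b) (D k)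
            (W k) (U k) inf_le_left (hpre k).le
          rw [← h1]
          rfl
      intro y
      have hy : y ∈ (⊤ : Subring _) := trivial
      rw [← hgen k] at hy
      exact hsub hy
    have : IsClosedImmersion (i ∣_ W k) :=
      isClosedImmersion_morphismRestrict i (W k) hWaff (U k) (hU k) (hpre k) hsurj
    infer_instance

/-- **Criterion for relative very ampleness over an arbitrary base**, keeping track of the
dimension of the projective space. -/
theorem exists_immersion_of_sections {X S : Scheme.{u}} (f : X ⟶ S) (L : X.Modules) (n : ℕ)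
    (w : Fin (n + 1) → Γ(L, ⊤)) {κ : Type*} (j : κ → Fin (n + 1)) (V : κ → S.Opens)
    (hV : ∀ k, IsAffineOpen (V k))
    (hcov : ∀ x : X, ∃ k, x ∈ loc (w (j k)) ⊓ f ⁻¹ᵁ V k)
    (hU : ∀ k, IsAffineOpen (loc (w (j k)) ⊓ f ⁻¹ᵁ V k))
    (hgen : ∀ k, Subring.closure
      (Set.range (f.appLE (V k) (loc (w (j k)) ⊓ f ⁻¹ᵁ V k) inf_le_right).hom ∪
      Set.range (fun c' => fres (inf_le_left : loc (w (j k)) ⊓ f ⁻¹ᵁ V k ≤ loc (w (j k)))
        (coef (w (j k)) (w c')))) = ⊤) :
    ∃ i : X ⟶ CohB1.ProjSpaceOver n S, IsImmersion i ∧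
      i ≫ pullback.snd (CohB1.ProjSpace.toSpec n (ULift.{u} ℤ)) (specULiftZIsTerminal.from S) = f ∧
      Nonempty (L ≅ (Scheme.Modules.pullback i).obj (Twist.twistOver n S 1)) := by
  classical
  obtain ⟨r, -, τ, hτ⟩ := UPExist.exists_to_projSpace_of_cover (R := ULift.{u} ℤ) n
    (specULiftZIsTerminal.from X) L w (fun x => let ⟨k, hk⟩ := hcov x; ⟨j k, hk.1⟩)
  obtain ⟨i, hi1, hi2⟩ : ∃ i : X ⟶ pullback (CohB1.ProjSpace.toSpec n (ULift.{u} ℤ))
        (specULiftZIsTerminal.from S),
      i ≫ pullback.fst (CohB1.ProjSpace.toSpec n (ULift.{u} ℤ)) (specULiftZIsTerminal.from S) = r ∧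
      i ≫ pullback.snd (CohB1.ProjSpace.toSpec n (ULift.{u} ℤ)) (specULiftZIsTerminal.from S) = f :=
    ⟨pullback.lift r f (specULiftZIsTerminal.hom_ext _ _), pullback.lift_fst _ _ _,
      pullback.lift_snd _ _ _⟩
  have hiso : Nonempty (L ≅ (Scheme.Modules.pullback i).obj (Twist.twistOver n S 1)) :=
    ⟨τ.symm ≪≫ (Scheme.Modules.pullbackCongr hi1.symm).app _ ≪≫
      ((Scheme.Modules.pullbackComp i _).app _).symm⟩
  refine ⟨i, ?_, hi2, hiso⟩
  subst hi1 hi2
  refine isImmersion_of_charts' _ _ i (fun k => D (ULift.{u} ℤ) n (j k)) V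
    (fun k => Proj.isAffineOpen_basicOpen (CohB1.polyGrading n (ULift.{u} ℤ)) _
      (T_mem n (ULift.{u} ℤ) (j k)) one_pos) hV
    (fun k => loc (w (j k)) ⊓ (i ≫ pullback.snd _ _) ⁻¹ᵁ V k) hU hcov
    (fun k => by rw [loc_eq n _ τ w hτ (j k)]) (fun k => ?_)
  apply top_unique
  rw [← hgen k]
  apply Subring.closure_mono
  apply Set.union_subset_union_right
  rintro _ ⟨c', rfl⟩
  refine ⟨oFrac (CohB1.polyGrading n (ULift.{u} ℤ)) (D (ULift.{u} ℤ) n (j k)) 1
    (T n (ULift.{u} ℤ) c') (T n (ULift.{u} ℤ) (j k)), ?_⟩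
  change _ = fres (inf_le_left : loc (w (j k)) ⊓ (i ≫ pullback.snd _ _) ⁻¹ᵁ V k ≤ loc (w (j k)))
    (coef (w (j k)) (w c'))
  rw [← appLE_oFrac n _ τ w hτ (j k) c', fres_appLE]

end Groth.Agent.Lib.Helper17.VeryAmpleCritGen
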