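import Groth.Agent.Lib.Helper17.VeryAmpleAmple
import Groth.Agent.S2332
import Groth.Agent.S2359
import Groth.Agent.S4381

/-!
# Very ample implies relatively ample (helper17)
-/

set_option autoImplicit false
set_option linter.unusedSectionVars false
set_option linter.style.haveILetI false
universe u
open AlgebraicGeometry CategoryTheory Limits TopologicalSpace Opposite

namespace Groth.Agent.Lib.Helper17.VeryAmpleRel
open Groth.Agent.Lib.Helper11 Groth.Agent.Lib.Helper11.GenLocus Groth.Agent.Lib.Helper45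
  Groth.Agent.Lib.Helper49 Groth.Agent.Lib.Helper17.VeryAmpleAmple

theorem isRelAmple_of_iso {X S : Scheme.{u}} (f : X ⟶ S) {L L' : X.Modules} (e : L ≅ L')
    (h : RelAmple.IsRelAmple f L) : RelAmple.IsRelAmple f L' :=
  ⟨h.1, fun V => isAmple_of_iso ((Scheme.Modules.restrictFunctor _).mapIso e) (h.2 V)⟩

instance isSeparated_toSpec (m : ℕ) (R : Type u) [CommRing R] :
    IsSeparated (CohB1.ProjSpace.toSpec m R) := by
  unfold CohB1.ProjSpace.toSpec
  have h1 : IsSeparated (Proj.toSpecZero (CohB1.polyGrading m R)) := Proj.isSeparated _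
  have h2 : IsSeparated (Spec.map (CommRingCat.ofHom
      (algebraMap R ↥(CohB1.polyGrading m R 0)))) := inferInstance
  exact MorphismProperty.comp_mem _ _ _ h1 h2

/-- `O(1)` on `P^m_S` is ample relative to `P^m_S ⟶ S`. -/
theorem isRelAmple_twistOver (m : ℕ) (S : Scheme.{u}) :
    RelAmple.IsRelAmple (pullback.snd (CohB1.ProjSpace.toSpec m (ULift.{u} ℤ))
      (specULiftZIsTerminal.from S)) (Twist.twistOver m S 1) := by
  have h0 : RelAmple.IsRelAmple (CohB1.ProjSpace.toSpec m (ULift.{u} ℤ))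
      (Twist.twistProjSpace m (ULift.{u} ℤ) 1) :=
    (Groth.Agent.S4381.result _ _).mpr (isAmple_O1 m _)
  exact Groth.Agent.S2332.result (CohB1.ProjSpace.toSpec m (ULift.{u} ℤ))
    (specULiftZIsTerminal.from S) _ h0

theorem isRelAmple_aux {X S : Scheme.{u}} (m : ℕ)
    (i : X ⟶ pullback (CohB1.ProjSpace.toSpec m (ULift.{u} ℤ)) (specULiftZIsTerminal.from S))
    (hi : IsImmersion i)
    [hg : QuasiCompact (i ≫ pullback.snd (CohB1.ProjSpace.toSpec m (ULift.{u} ℤ))
      (specULiftZIsTerminal.from S))] :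
    RelAmple.IsRelAmple (i ≫ pullback.snd (CohB1.ProjSpace.toSpec m (ULift.{u} ℤ))
      (specULiftZIsTerminal.from S)) ((Scheme.Modules.pullback i).obj (Twist.twistOver m S 1)) := by
  haveI hqa : QuasiCompact (CohB1.ProjSpace.toSpec m (ULift.{u} ℤ)) := inferInstance
  haveI hqc : QuasiCompact (pullback.snd (CohB1.ProjSpace.toSpec m (ULift.{u} ℤ))
      (specULiftZIsTerminal.from S)) := MorphismProperty.pullback_snd _ _ hqa
  haveI : QuasiCompact i := QuasiCompact.of_comp i
    (pullback.snd (CohB1.ProjSpace.toSpec m (ULift.{u} ℤ)) (specULiftZIsTerminal.from S))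
  exact Groth.Agent.S2359.result _ i i.isEmbedding _ (isRelAmple_twistOver m S)

/-- a module very ample relative to a quasi-compact morphism is relatively ample. -/
theorem isRelAmple_of_isRelVeryAmplePn {X S : Scheme.{u}} (g : X ⟶ S) [hg : QuasiCompact g]
    (M : X.Modules) (h : RelAmple.IsRelVeryAmplePn g M) : RelAmple.IsRelAmple g M := by
  obtain ⟨m, i, hi, hcomp, ⟨φ⟩⟩ := h
  subst hcomp
  exact isRelAmple_of_iso _ φ.symm (@isRelAmple_aux _ _ m i hi hg)

end Groth.Agent.Lib.Helper17.VeryAmpleRel
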